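import Cfsg.Agent.Helper17.HeTC.Lemmas

set_option autoImplicit false
set_option linter.all false

noncomputable section

namespace Cfsg.Agent.Helper17.HeTC

theorem F1 : act 0 n0 = n0 := d25_0 B0 
theorem F2 : act 2 n0 = n0 := d26_0 B1 
theorem F3 : act 3 n0 = n0 := d27_0 B2 
theorem F4 : act 4 n0 = n0 := d28_0 B3 
theorem F5 : act 5 n0 = n0 := d29_0 B4 
def n1 : Q := act 1 n0
theorem D1 : act 1 n0 = n1 := rfl
theorem F6 : act 0 n1 = n1 := d30_1 B5 D1 (iv D1) F1
theorem F7 : act 3 n1 = n1 := d7_2 F3 D1 (iv D1)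
theorem F8 : act 4 n1 = n1 := d8_2 F4 D1 (iv D1)
theorem F9 : act 5 n1 = n1 := d9_2 F5 D1 (iv D1)
def n2 : Q := act 2 n1
theorem D2 : act 2 n1 = n2 := rfl
def n3 : Q := act 1 n2
theorem D3 : act 1 n2 = n3 := rfl
def n4 : Q := act 4 n3
theorem D4 : act 4 n3 = n4 := rfl
def n5 : Q := act 3 n4
theorem D5 : act 3 n4 = n5 := rfl
def n6 : Q := act 2 n5
theorem D6 : act 2 n5 = n6 := rfl
def n7 : Q := act 1 n6
theorem D7 : act 1 n6 = n7 := rfl
def n8 : Q := act 4 n7
theorem D8 : act 4 n7 = n8 := rfl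
def n9 : Q := act 3 n8
theorem D9 : act 3 n8 = n9 := rfl
def n10 : Q := act 2 n9
theorem D10 : act 2 n9 = n10 := rfl
def n11 : Q := act 1 n10
theorem D11 : act 1 n10 = n11 := rfl
def n12 : Q := act 4 n11
theorem D12 : act 4 n11 = n12 := rfl
def n13 : Q := act 3 n12
theorem D13 : act 3 n12 = n13 := rfl
def n14 : Q := act 2 n13
theorem D14 : act 2 n13 = n14 := rfl
def n15 : Q := act 1 n14
theorem D15 : act 1 n14 = n15 := rfl
def n16 : Q := act 4 n15
theorem D16 : act 4 n15 = n16 := rfl
def n17 : Q := act 3 n16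
theorem D17 : act 3 n16 = n17 := rfl
def n18 : Q := act 2 n17
theorem D18 : act 2 n17 = n18 := rfl
def n19 : Q := act 1 n18
theorem D19 : act 1 n18 = n19 := rfl
def n20 : Q := act 4 n19
theorem D20 : act 4 n19 = n20 := rfl
theorem F10 : act 3 n20 = n2 := d31_25 B6 F4 F3 F2 D1 F8 F7 D2 D3 D4 D5 D6 D7 D8 D9 D10 D11 D12 D13 D14 D15 D16 D17 D18 D19 D20 (iv D2) (iv D1)
theorem E1 : n3 = n2 := (c6_2 D2 D3 (iv D2) (iv D1) F2 D1)
theorem F11 : act 1 n2 = n2 := (sb E1 (iv D3))
theorem F12 : act 4 n2 = n4 := (sb E1 D4)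
theorem F13 : act 1 n20 = n20 := d7_3 F10 F11 (iv F10)
theorem F15 : act 0 n4 = n2 := d22_0 F11 (iv D2) F6 (iv D1) F2 F1 D1 D2 F12
theorem E2 : n4 = n2 := (c22_4 F1 D1 D2 (iv F15) F11 (iv D2) F6 (iv D1) F2 F4)
theorem F16 : act 0 n2 = n2 := (sb E2 F15)
theorem E3 : n20 = n5 := (((iv F10)).symm.trans (sb E2 D5))
theorem F17 : act 4 n2 = n2 := (sb E2 (iv F12))
theorem F18 : act 1 n5 = n5 := (sb E3 (tr F13 E3))
theorem F19 : act 3 n5 = n2 := (sb E3 F10)
theorem F20 : act 4 n5 = n19 := (sb E3 (iv D20))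
theorem E4 : n19 = n18 := ((c8_2 F20 (iv D19) (iv F20) F18)).symm
theorem F21 : act 1 n18 = n18 := (sb E4 (iv D19))
theorem F22 : act 4 n18 = n5 := (sb E4 (iv F20))
theorem F23 : act 4 n17 = n6 := d12_2 (iv F22) (iv D18) (iv D6)
theorem F24 : act 3 n18 = n18 := d15_1 (iv F22) F22 F19 F17 (iv F19)
theorem F25 : act 1 n8 = n17 := d8_3 F23 D7 D8
theorem F26 : act 2 n8 = n8 := d6_0 F25 D18 F21 (iv D18) (iv F25)
theorem F27 : act 1 n16 = n9 := d7_3 (iv D9) F25 (iv D17)
theorem F28 : act 4 n9 = n14 := d8_2 D16 F27 D15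
theorem F29 : act 4 n13 = n10 := d12_2 F28 (iv D14) (iv D10)
theorem F30 : act 1 n12 = n13 := d8_3 F29 D11 D12
theorem F31 : act 2 n7 = n7 := d12_3 D8 F26 (iv D8)
theorem F32 : act 0 n5 = n5 := d2_3 F19 F16 (iv F19)
theorem F33 : act 0 n6 = n6 := d1_3 (iv D6) F32 D6
theorem F34 : act 0 n18 = n18 := d3_3 F22 F32 (iv F22)
theorem F35 : act 0 n7 = n8 := d22_6 F32 F18 D6 F33 D7 F31 F25 D18 F22
theorem F36 : act 0 n17 = n17 := d22_0 (iv F25) F26 (iv F35) (iv D7) (iv D6) F32 F18 D6 (iv F23)
theorem F37 : act 0 n16 = n16 := d2_3 D17 F36 (iv D17)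
theorem F38 : act 0 n15 = n15 := d3_3 D16 F37 (iv D16)
theorem F39 : act 5 n2 = n2 := d13_2 F9 D2 (iv D2)
def n21 : Q := act 6 n0
theorem D21 : act 6 n0 = n21 := rfl
theorem F40 : act 0 n21 = n21 := d5_1 D21 (iv D21) F1
theorem F41 : act 2 n21 = n21 := d14_1 D21 (iv D21) F2
theorem F42 : act 4 n21 = n21 := d19_1 D21 (iv D21) F4
theorem F43 : act 5 n21 = n21 := d21_2 F5 D21 (iv D21) F4
def n22 : Q := act 6 n1
theorem D22 : act 6 n1 = n22 := rfl
theorem F44 : act 0 n22 = n22 := d5_1 D22 (iv D22) F6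
theorem F45 : act 1 n22 = n21 := d10_1 D22 (iv D21) D1
theorem F46 : act 4 n22 = n22 := d19_1 D22 (iv D22) F8
theorem F47 : act 5 n22 = n22 := d21_2 F9 D22 (iv D22) F8
def n23 : Q := act 6 n2
theorem D23 : act 6 n2 = n23 := rfl
theorem F48 : act 0 n23 = n23 := d5_1 D23 (iv D23) F16
theorem F49 : act 1 n23 = n23 := d10_1 D23 (iv D23) F11
theorem F50 : act 2 n23 = n22 := d14_1 D23 (iv D22) D2
theorem F51 : act 4 n23 = n23 := d19_1 D23 (iv D23) F17
theorem F52 : act 5 n23 = n23 := d21_2 F39 D23 (iv D23) F17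
def n24 : Q := act 5 n5
theorem D24 : act 5 n5 = n24 := rfl
theorem F53 : act 0 n24 = n24 := d4_1 D24 (iv D24) F32
theorem F54 : act 1 n24 = n24 := d9_1 D24 (iv D24) F18
theorem F55 : act 3 n24 = n24 := d16_1 D24 (iv D24) F19 F39 (iv F19)
def n25 : Q := act 6 n5
theorem D25 : act 6 n5 = n25 := rfl
theorem F56 : act 0 n25 = n25 := d5_1 D25 (iv D25) F32
theorem F57 : act 1 n25 = n25 := d10_1 D25 (iv D25) F18
def n26 : Q := act 3 n6
theorem D26 : act 3 n6 = n26 := rfl
theorem F58 : act 0 n26 = n26 := d2_1 D26 (iv D26) F33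
theorem F59 : act 2 n26 = n26 := d23_2 D6 D26 (iv D26) (iv D6) F19 (iv D2) F7 D2 (iv F19) F32
def n27 : Q := act 5 n6
theorem D27 : act 5 n6 = n27 := rfl
theorem F60 : act 0 n27 = n27 := d4_1 D27 (iv D27) F33
theorem F61 : act 2 n27 = n24 := d13_1 D27 (iv D24) D6
def n28 : Q := act 6 n6
theorem D28 : act 6 n6 = n28 := rfl
theorem F62 : act 0 n28 = n28 := d5_1 D28 (iv D28) F33
theorem F63 : act 2 n28 = n25 := d14_1 D28 (iv D25) D6
def n29 : Q := act 3 n7
theorem D29 : act 3 n7 = n29 := rfl
theorem F64 : act 0 n29 = n9 := d2_1 D29 (iv D9) (iv F35)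
theorem F65 : act 1 n29 = n26 := d7_1 D29 (iv D26) D7
def n30 : Q := act 5 n7
theorem D30 : act 5 n7 = n30 := rfl
theorem F66 : act 1 n30 = n27 := d9_1 D30 (iv D27) D7
theorem F67 : act 2 n30 = n30 := d13_1 D30 (iv D30) F31
def n31 : Q := act 6 n7
theorem D31 : act 6 n7 = n31 := rfl
theorem F68 : act 1 n31 = n28 := d10_1 D31 (iv D28) D7
theorem F69 : act 2 n31 = n31 := d14_1 D31 (iv D31) F31
def n32 : Q := act 5 n8
theorem D32 : act 5 n8 = n32 := rfl
theorem F70 : act 0 n32 = n30 := d4_1 D32 (iv D30) F35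
theorem F71 : act 2 n32 = n32 := d13_1 D32 (iv D32) F26
theorem F72 : act 4 n32 = n30 := d18_1 D32 (iv D30) D8
def n33 : Q := act 6 n8
theorem D33 : act 6 n8 = n33 := rfl
theorem F73 : act 0 n33 = n31 := d5_1 D33 (iv D31) F35
theorem F74 : act 2 n33 = n33 := d14_1 D33 (iv D33) F26
theorem F75 : act 4 n33 = n31 := d19_1 D33 (iv D31) D8
def n34 : Q := act 5 n9
theorem D34 : act 5 n9 = n34 := rfl
def n35 : Q := act 6 n9
theorem D35 : act 6 n9 = n35 := rfl
def n36 : Q := act 0 n10
theorem D36 : act 0 n10 = n36 := rfl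
theorem F76 : act 2 n36 = n29 := d1_2 D10 D36 F64
theorem E5 : n13 = n11 := ((c22_8 (iv F64) F65 F59 F58 (iv F65) (iv F76) (iv D36) D11 D14 (iv F28))).symm
theorem E6 : n12 = n10 := ((((iv D11)).symm.trans (sb E5 (iv F30)))).symm
theorem F77 : act 2 n11 = n14 := (sb E5 D14)
theorem F78 : act 3 n11 = n10 := (sb E5 (tr (iv D13) E6))
theorem F79 : act 4 n10 = n11 := (sb E6 (iv D12))
theorem F80 : act 2 n15 = n16 := d6_2 F77 D15 F27 D10 D11
theorem F81 : act 1 n36 = n36 := d22_1 D36 F76 F64 (iv F27) (iv F80) F38 (iv D15) (iv F77) (iv F79)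
def n37 : Q := act 5 n10
theorem D37 : act 5 n10 = n37 := rfl
theorem F82 : act 2 n37 = n34 := d13_1 D37 (iv D34) D10
def n38 : Q := act 6 n10
theorem D38 : act 6 n10 = n38 := rfl
theorem F83 : act 2 n38 = n35 := d14_1 D38 (iv D35) D10
def n39 : Q := act 0 n11
theorem D39 : act 0 n11 = n39 := rfl
theorem F84 : act 1 n39 = n39 := d0_2 D11 D39 (iv D39) (iv D11) D36 F81 (iv D36)
theorem F85 : act 3 n39 = n36 := d2_2 (iv F78) D39 (iv D36)
theorem F86 : act 4 n39 = n36 := d3_2 F79 D39 (iv D36)
def n40 : Q := act 5 n11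
theorem D40 : act 5 n11 = n40 := rfl
theorem F87 : act 1 n40 = n37 := d9_1 D40 (iv D37) D11
theorem F88 : act 4 n40 = n37 := d18_1 D40 (iv D37) F79
def n41 : Q := act 6 n11
theorem D41 : act 6 n11 = n41 := rfl
theorem F89 : act 1 n41 = n38 := d10_1 D41 (iv D38) D11
theorem F90 : act 4 n41 = n38 := d19_1 D41 (iv D38) F79
def n42 : Q := act 0 n14
theorem D42 : act 0 n14 = n42 := rfl
theorem F91 : act 2 n42 = n39 := d1_2 F77 D42 (iv D39)
theorem F92 : act 4 n42 = n29 := d3_2 F28 D42 F64
theorem F93 : act 3 n42 = n14 := d23_9 F91 F85 F76 (iv D29) F31 D29 (iv F76) (iv F85) (iv F91) D42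
def n43 : Q := act 5 n14
theorem D43 : act 5 n14 = n43 := rfl
theorem F94 : act 2 n43 = n40 := d13_1 D43 (iv D40) F77
theorem F95 : act 4 n43 = n34 := d18_1 D43 (iv D34) F28
def n44 : Q := act 6 n14
theorem D44 : act 6 n14 = n44 := rfl
theorem F96 : act 2 n44 = n41 := d14_1 D44 (iv D41) F77
theorem F97 : act 4 n44 = n35 := d19_1 D44 (iv D35) F28
def n45 : Q := act 3 n15
theorem D45 : act 3 n15 = n45 := rfl
theorem F98 : act 0 n45 = n45 := d2_1 D45 (iv D45) F38
theorem F99 : act 1 n45 = n42 := d7_1 D45 F93 D15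
theorem F100 : act 4 n45 = n26 := d15_2 (iv D16) D45 (iv D26) (iv F23) (iv D17)
theorem F101 : act 2 n45 = n45 := d23_2 (iv F80) D45 (iv D45) F80 D17 D18 F24 (iv D18) (iv D17) F37
def n46 : Q := act 5 n15
theorem D46 : act 5 n15 = n46 := rfl
theorem F102 : act 0 n46 = n46 := d4_1 D46 (iv D46) F38
theorem F103 : act 1 n46 = n43 := d9_1 D46 (iv D43) D15
def n47 : Q := act 6 n15
theorem D47 : act 6 n15 = n47 := rfl
theorem F104 : act 0 n47 = n47 := d5_1 D47 (iv D47) F38
theorem F105 : act 1 n47 = n44 := d10_1 D47 (iv D44) D15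
def n48 : Q := act 5 n16
theorem D48 : act 5 n16 = n48 := rfl
theorem F106 : act 0 n48 = n48 := d4_1 D48 (iv D48) F37
theorem F107 : act 1 n48 = n34 := d9_1 D48 (iv D34) (iv F27)
theorem F108 : act 2 n48 = n46 := d13_1 D48 (iv D46) F80
theorem F109 : act 4 n48 = n46 := d18_1 D48 (iv D46) D16
def n49 : Q := act 6 n16
theorem D49 : act 6 n16 = n49 := rfl
theorem F110 : act 0 n49 = n49 := d5_1 D49 (iv D49) F37
theorem F111 : act 1 n49 = n35 := d10_1 D49 (iv D35) (iv F27)
theorem F112 : act 2 n49 = n47 := d14_1 D49 (iv D47) F80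
theorem F113 : act 4 n49 = n47 := d19_1 D49 (iv D47) D16
def n50 : Q := act 5 n17
theorem D50 : act 5 n17 = n50 := rfl
theorem F114 : act 0 n50 = n50 := d4_1 D50 (iv D50) F36
theorem F115 : act 1 n50 = n32 := d9_1 D50 (iv D32) F25
theorem F116 : act 4 n50 = n27 := d18_1 D50 (iv D27) (iv F23)
def n51 : Q := act 6 n17
theorem D51 : act 6 n17 = n51 := rfl
theorem F117 : act 0 n51 = n51 := d5_1 D51 (iv D51) F36
theorem F118 : act 1 n51 = n33 := d10_1 D51 (iv D33) F25
theorem F119 : act 4 n51 = n28 := d19_1 D51 (iv D28) (iv F23)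
def n52 : Q := act 5 n18
theorem D52 : act 5 n18 = n52 := rfl
theorem F120 : act 0 n52 = n52 := d4_1 D52 (iv D52) F34
theorem F121 : act 1 n52 = n52 := d9_1 D52 (iv D52) F21
theorem F122 : act 2 n52 = n50 := d13_1 D52 (iv D50) D18
theorem F123 : act 4 n52 = n24 := d18_1 D52 (iv D24) (iv F22)
def n53 : Q := act 6 n18
theorem D53 : act 6 n18 = n53 := rfl
theorem F124 : act 0 n53 = n53 := d5_1 D53 (iv D53) F34
theorem F125 : act 1 n53 = n53 := d10_1 D53 (iv D53) F21
theorem F126 : act 2 n53 = n51 := d14_1 D53 (iv D51) D18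
theorem F127 : act 4 n53 = n25 := d19_1 D53 (iv D25) (iv F22)
def n54 : Q := act 3 n21
theorem D54 : act 3 n21 = n54 := rfl
theorem F128 : act 0 n54 = n54 := d2_1 D54 (iv D54) F40
theorem F129 : act 6 n54 = n54 := d17_2 D21 D54 (iv D54) (iv D21) F3
def n55 : Q := act 3 n22
theorem D55 : act 3 n22 = n55 := rfl
theorem F130 : act 0 n55 = n55 := d2_1 D55 (iv D55) F44
theorem F131 : act 1 n55 = n54 := d7_1 D55 (iv D54) (iv F45)
theorem F132 : act 6 n55 = n55 := d17_2 D22 D55 (iv D55) (iv D22) F7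
def n56 : Q := act 3 n23
theorem D56 : act 3 n23 = n56 := rfl
theorem F133 : act 0 n56 = n56 := d2_1 D56 (iv D56) F48
theorem F134 : act 1 n56 = n56 := d7_1 D56 (iv D56) F49
def n57 : Q := act 6 n24
theorem D57 : act 6 n24 = n57 := rfl
theorem F135 : act 0 n57 = n57 := d5_1 D57 (iv D57) F53
theorem F136 : act 1 n57 = n57 := d10_1 D57 (iv D57) F54
theorem F137 : act 5 n57 = n53 := d21_2 D24 D57 (iv D53) F22
def n58 : Q := act 3 n25
theorem D58 : act 3 n25 = n58 := rfl
theorem F138 : act 0 n58 = n58 := d2_1 D58 (iv D58) F56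
theorem F139 : act 1 n58 = n58 := d7_1 D58 (iv D58) F57
theorem F140 : act 6 n58 = n56 := d17_2 D25 D58 (iv D56) (iv D23) (iv F19)
def n59 : Q := act 5 n25
theorem D59 : act 5 n25 = n59 := rfl
theorem F141 : act 0 n59 = n59 := d4_1 D59 (iv D59) F56
theorem F142 : act 1 n59 = n59 := d9_1 D59 (iv D59) F57
theorem F143 : act 4 n59 = n57 := d18_1 D59 F137 F127
theorem F144 : act 6 n59 = n52 := d20_2 D25 D59 (iv D52) D53 (iv F137) (iv D57) (iv D24)
def n60 : Q := act 5 n26
theorem D60 : act 5 n26 = n60 := rfl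
theorem F145 : act 0 n60 = n60 := d4_1 D60 (iv D60) F58
theorem F146 : act 2 n60 = n60 := d13_1 D60 (iv D60) F59
def n61 : Q := act 6 n26
theorem D61 : act 6 n26 = n61 := rfl
theorem F147 : act 0 n61 = n61 := d5_1 D61 (iv D61) F58
theorem F148 : act 2 n61 = n61 := d14_1 D61 (iv D61) F59
def n62 : Q := act 3 n27
theorem D62 : act 3 n27 = n62 := rfl
theorem F149 : act 0 n62 = n62 := d2_1 D62 (iv D62) F60
def n63 : Q := act 6 n27
theorem D63 : act 6 n27 = n63 := rfl
theorem F150 : act 0 n63 = n63 := d5_1 D63 (iv D63) F60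
theorem F151 : act 2 n63 = n57 := d14_1 D63 (iv D57) (iv F61)
theorem F152 : act 5 n63 = n51 := d21_2 D27 D63 (iv D51) F23
def n64 : Q := act 3 n28
theorem D64 : act 3 n28 = n64 := rfl
theorem F153 : act 0 n64 = n64 := d2_1 D64 (iv D64) F62
def n65 : Q := act 5 n28
theorem D65 : act 5 n28 = n65 := rfl
theorem F154 : act 0 n65 = n65 := d4_1 D65 (iv D65) F62
theorem F155 : act 2 n65 = n59 := d13_1 D65 (iv D59) (iv F63)
theorem F156 : act 4 n65 = n63 := d18_1 D65 F152 F119
theorem F157 : act 6 n65 = n50 := d20_2 D28 D65 (iv D50) D51 (iv F152) (iv D63) (iv D27)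
def n66 : Q := act 5 n29
theorem D66 : act 5 n29 = n66 := rfl
theorem F158 : act 0 n66 = n34 := d4_1 D66 (iv D34) (iv F64)
theorem F159 : act 1 n66 = n60 := d9_1 D66 (iv D60) (iv F65)
def n67 : Q := act 6 n29
theorem D67 : act 6 n29 = n67 := rfl
theorem F160 : act 0 n67 = n35 := d5_1 D67 (iv D35) (iv F64)
theorem F161 : act 1 n67 = n61 := d10_1 D67 (iv D61) (iv F65)
def n68 : Q := act 3 n30
theorem D68 : act 3 n30 = n68 := rfl
theorem F162 : act 1 n68 = n62 := d7_1 D68 (iv D62) (iv F66)
def n69 : Q := act 6 n30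
theorem D69 : act 6 n30 = n69 := rfl
theorem F163 : act 1 n69 = n63 := d10_1 D69 (iv D63) (iv F66)
theorem F164 : act 2 n69 = n69 := d14_1 D69 (iv D69) F67
theorem F165 : act 5 n69 = n33 := d21_2 D30 D69 (iv D33) (iv D8)
def n70 : Q := act 3 n31
theorem D70 : act 3 n31 = n70 := rfl
theorem F166 : act 1 n70 = n64 := d7_1 D70 (iv D64) (iv F68)
def n71 : Q := act 5 n31
theorem D71 : act 5 n31 = n71 := rfl
theorem F167 : act 0 n71 = n69 := d4_1 D71 F165 F73
theorem F168 : act 1 n71 = n65 := d9_1 D71 (iv D65) (iv F68)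
theorem F169 : act 2 n71 = n71 := d13_1 D71 (iv D71) F69
theorem F170 : act 4 n71 = n69 := d18_1 D71 F165 F75
theorem F171 : act 6 n71 = n32 := d20_2 D31 D71 (iv D32) D33 (iv F165) (iv D69) (iv D30)
def n72 : Q := act 3 n32
theorem D72 : act 3 n32 = n72 := rfl
theorem F172 : act 0 n72 = n68 := d2_1 D72 (iv D68) (iv F70)
def n73 : Q := act 3 n33
theorem D73 : act 3 n33 = n73 := rfl
theorem F173 : act 0 n73 = n70 := d2_1 D73 (iv D70) (iv F73)
def n74 : Q := act 3 n34
theorem D74 : act 3 n34 = n74 := rfl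
theorem F174 : act 5 n74 = n72 := d16_2 D34 D74 (iv D72) (iv D32) D9
def n75 : Q := act 6 n34
theorem D75 : act 6 n34 = n75 := rfl
theorem F175 : act 5 n75 = n44 := d21_2 D34 D75 (iv D44) (iv F28)
def n76 : Q := act 3 n35
theorem D76 : act 3 n35 = n76 := rfl
theorem F176 : act 6 n76 = n73 := d17_2 D35 D76 (iv D73) (iv D33) D9
def n77 : Q := act 5 n35
theorem D77 : act 5 n35 = n77 := rfl
theorem F177 : act 4 n77 = n75 := d18_1 D77 F175 F97
theorem F178 : act 6 n77 = n43 := d20_2 D35 D77 (iv D43) D44 (iv F175) (iv D75) (iv D34)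
def n78 : Q := act 5 n36
theorem D78 : act 5 n36 = n78 := rfl
theorem F179 : act 0 n78 = n37 := d4_1 D78 (iv D37) D36
theorem F180 : act 1 n78 = n78 := d9_1 D78 (iv D78) F81
theorem F181 : act 2 n78 = n66 := d13_1 D78 (iv D66) (iv F76)
def n79 : Q := act 6 n36
theorem D79 : act 6 n36 = n79 := rfl
theorem F182 : act 0 n79 = n38 := d5_1 D79 (iv D38) D36
theorem F183 : act 1 n79 = n79 := d10_1 D79 (iv D79) F81
theorem F184 : act 2 n79 = n67 := d14_1 D79 (iv D67) (iv F76)
def n80 : Q := act 3 n37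
theorem D80 : act 3 n37 = n80 := rfl
def n81 : Q := act 6 n37
theorem D81 : act 6 n37 = n81 := rfl
theorem F185 : act 2 n81 = n75 := d14_1 D81 (iv D75) (iv F82)
theorem F186 : act 5 n81 = n41 := d21_2 D37 D81 (iv D41) (iv F79)
def n82 : Q := act 3 n38
theorem D82 : act 3 n38 = n82 := rfl
def n83 : Q := act 5 n38
theorem D83 : act 5 n38 = n83 := rfl
theorem F187 : act 1 n83 = n81 := d9_1 D83 F186 F89
theorem F188 : act 2 n83 = n77 := d13_1 D83 (iv D77) (iv F83)
theorem F189 : act 4 n83 = n81 := d18_1 D83 F186 F90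
theorem F190 : act 6 n83 = n40 := d20_2 D38 D83 (iv D40) D41 (iv F186) (iv D81) (iv D37)
def n84 : Q := act 5 n39
theorem D84 : act 5 n39 = n84 := rfl
theorem F191 : act 0 n84 = n40 := d4_1 D84 (iv D40) D39
theorem F192 : act 1 n84 = n84 := d9_1 D84 (iv D84) F84
theorem F193 : act 4 n84 = n78 := d18_1 D84 (iv D78) (iv F86)
def n85 : Q := act 6 n39
theorem D85 : act 6 n39 = n85 := rfl
theorem F194 : act 0 n85 = n41 := d5_1 D85 (iv D41) D39
theorem F195 : act 1 n85 = n85 := d10_1 D85 (iv D85) F84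
theorem F196 : act 4 n85 = n79 := d19_1 D85 (iv D79) (iv F86)
def n86 : Q := act 3 n40
theorem D86 : act 3 n40 = n86 := rfl
theorem F197 : act 1 n86 = n80 := d7_1 D86 (iv D80) (iv F87)
theorem F198 : act 5 n86 = n80 := d16_2 D40 D86 (iv D80) (iv D37) (iv F78)
def n87 : Q := act 3 n41
theorem D87 : act 3 n41 = n87 := rfl
theorem F199 : act 1 n87 = n82 := d7_1 D87 (iv D82) (iv F89)
theorem F200 : act 6 n87 = n82 := d17_2 D41 D87 (iv D82) (iv D38) (iv F78)
def n88 : Q := act 5 n42
theorem D88 : act 5 n42 = n88 := rfl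
theorem F201 : act 0 n88 = n43 := d4_1 D88 (iv D43) D42
theorem F202 : act 2 n88 = n84 := d13_1 D88 (iv D84) (iv F91)
theorem F203 : act 4 n88 = n66 := d18_1 D88 (iv D66) (iv F92)
def n89 : Q := act 6 n42
theorem D89 : act 6 n42 = n89 := rfl
theorem F204 : act 0 n89 = n44 := d5_1 D89 (iv D44) D42
theorem F205 : act 2 n89 = n85 := d14_1 D89 (iv D85) (iv F91)
theorem F206 : act 4 n89 = n67 := d19_1 D89 (iv D67) (iv F92)
def n90 : Q := act 3 n43
theorem D90 : act 3 n43 = n90 := rfl
def n91 : Q := act 3 n44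
theorem D91 : act 3 n44 = n91 := rfl
def n92 : Q := act 5 n45
theorem D92 : act 5 n45 = n92 := rfl
theorem F207 : act 0 n92 = n92 := d4_1 D92 (iv D92) F98
theorem F208 : act 1 n92 = n88 := d9_1 D92 (iv D88) (iv F99)
theorem F209 : act 2 n92 = n92 := d13_1 D92 (iv D92) F101
theorem F210 : act 4 n92 = n60 := d18_1 D92 (iv D60) (iv F100)
def n93 : Q := act 6 n45
theorem D93 : act 6 n45 = n93 := rfl
theorem F211 : act 0 n93 = n93 := d5_1 D93 (iv D93) F98
theorem F212 : act 1 n93 = n89 := d10_1 D93 (iv D89) (iv F99)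
theorem F213 : act 2 n93 = n93 := d14_1 D93 (iv D93) F101
theorem F214 : act 4 n93 = n61 := d19_1 D93 (iv D61) (iv F100)
def n94 : Q := act 3 n46
theorem D94 : act 3 n46 = n94 := rfl
theorem F215 : act 0 n94 = n94 := d2_1 D94 (iv D94) F102
theorem F216 : act 1 n94 = n90 := d7_1 D94 (iv D90) (iv F103)
def n95 : Q := act 6 n46
theorem D95 : act 6 n46 = n95 := rfl
theorem F217 : act 0 n95 = n95 := d5_1 D95 (iv D95) F102
theorem F218 : act 1 n95 = n77 := d10_1 D95 F178 (iv F103)
theorem F219 : act 5 n95 = n49 := d21_2 D46 D95 (iv D49) (iv D16)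
def n96 : Q := act 3 n47
theorem D96 : act 3 n47 = n96 := rfl
theorem F220 : act 0 n96 = n96 := d2_1 D96 (iv D96) F104
theorem F221 : act 1 n96 = n91 := d7_1 D96 (iv D91) (iv F105)
def n97 : Q := act 5 n47
theorem D97 : act 5 n47 = n97 := rfl
theorem F222 : act 0 n97 = n97 := d4_1 D97 (iv D97) F104
theorem F223 : act 1 n97 = n75 := d9_1 D97 F175 (iv F105)
theorem F224 : act 2 n97 = n95 := d13_1 D97 F219 F112
theorem F225 : act 4 n97 = n95 := d18_1 D97 F219 F113
theorem F226 : act 6 n97 = n48 := d20_2 D47 D97 (iv D48) D49 (iv F219) (iv D95) (iv D46)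
def n98 : Q := act 3 n48
theorem D98 : act 3 n48 = n98 := rfl
theorem F227 : act 0 n98 = n98 := d2_1 D98 (iv D98) F106
theorem F228 : act 1 n98 = n74 := d7_1 D98 (iv D74) (iv F107)
def n99 : Q := act 3 n49
theorem D99 : act 3 n49 = n99 := rfl
theorem F229 : act 0 n99 = n99 := d2_1 D99 (iv D99) F110
theorem F230 : act 1 n99 = n76 := d7_1 D99 (iv D76) (iv F111)
def n100 : Q := act 3 n50
theorem D100 : act 3 n50 = n100 := rfl
theorem F231 : act 0 n100 = n100 := d2_1 D100 (iv D100) F114
theorem F232 : act 1 n100 = n72 := d7_1 D100 (iv D72) (iv F115)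
theorem F233 : act 5 n100 = n98 := d16_2 D50 D100 (iv D98) (iv D48) D17
def n101 : Q := act 3 n51
theorem D101 : act 3 n51 = n101 := rfl
theorem F234 : act 0 n101 = n101 := d2_1 D101 (iv D101) F117
theorem F235 : act 1 n101 = n73 := d7_1 D101 (iv D73) (iv F118)
theorem F236 : act 6 n101 = n99 := d17_2 D51 D101 (iv D99) (iv D49) D17
def n102 : Q := act 3 n52
theorem D102 : act 3 n52 = n102 := rfl
theorem F237 : act 0 n102 = n102 := d2_1 D102 (iv D102) F120
theorem F238 : act 1 n102 = n102 := d7_1 D102 (iv D102) F121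
theorem F239 : act 4 n102 = n102 := d15_2 (iv F123) D102 (iv D102) F123 F55
theorem F240 : act 5 n102 = n102 := d16_2 D52 D102 (iv D102) (iv D52) F24
def n103 : Q := act 3 n53
theorem D103 : act 3 n53 = n103 := rfl
theorem F241 : act 0 n103 = n103 := d2_1 D103 (iv D103) F124
theorem F242 : act 1 n103 = n103 := d7_1 D103 (iv D103) F125
theorem F243 : act 6 n103 = n103 := d17_2 D53 D103 (iv D103) (iv D53) F24
def n104 : Q := act 2 n54
theorem D104 : act 2 n54 = n104 := rfl
theorem F244 : act 0 n104 = n104 := d1_1 D104 (iv D104) F128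
theorem F245 : act 6 n104 = n104 := d14_2 F129 D104 (iv D104)
def n105 : Q := act 4 n54
theorem D105 : act 4 n54 = n105 := rfl
theorem F246 : act 0 n105 = n105 := d3_1 D105 (iv D105) F128
theorem F247 : act 3 n105 = n105 := d15_1 D105 (iv D105) (iv D54) F42 D54
theorem F248 : act 6 n105 = n105 := d19_2 F129 D105 (iv D105)
def n106 : Q := act 5 n54
theorem D106 : act 5 n54 = n106 := rfl
theorem F249 : act 0 n106 = n106 := d4_1 D106 (iv D106) F128
theorem F250 : act 3 n106 = n106 := d16_1 D106 (iv D106) (iv D54) F43 D54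
def n107 : Q := act 2 n55
theorem D107 : act 2 n55 = n107 := rfl
theorem F251 : act 0 n107 = n107 := d1_1 D107 (iv D107) F130
theorem F252 : act 6 n107 = n107 := d14_2 F132 D107 (iv D107)
def n108 : Q := act 4 n55
theorem D108 : act 4 n55 = n108 := rfl
theorem F253 : act 0 n108 = n108 := d3_1 D108 (iv D108) F130
theorem F254 : act 1 n108 = n105 := d8_1 D108 (iv D105) (iv F131)
theorem F255 : act 3 n108 = n108 := d15_1 D108 (iv D108) (iv D55) F46 D55
theorem F256 : act 6 n108 = n108 := d19_2 F132 D108 (iv D108)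
def n109 : Q := act 5 n55
theorem D109 : act 5 n55 = n109 := rfl
theorem F257 : act 0 n109 = n109 := d4_1 D109 (iv D109) F130
theorem F258 : act 1 n109 = n106 := d9_1 D109 (iv D106) (iv F131)
theorem F259 : act 3 n109 = n109 := d16_1 D109 (iv D109) (iv D55) F47 D55
def n110 : Q := act 2 n56
theorem D110 : act 2 n56 = n110 := rfl
theorem F260 : act 0 n110 = n110 := d1_1 D110 (iv D110) F133
def n111 : Q := act 4 n56
theorem D111 : act 4 n56 = n111 := rfl
theorem F261 : act 0 n111 = n111 := d3_1 D111 (iv D111) F133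
theorem F262 : act 1 n111 = n111 := d8_1 D111 (iv D111) F134
theorem F263 : act 3 n111 = n111 := d15_1 D111 (iv D111) (iv D56) F51 D56
def n112 : Q := act 5 n56
theorem D112 : act 5 n56 = n112 := rfl
theorem F264 : act 0 n112 = n112 := d4_1 D112 (iv D112) F133
theorem F266 : act 3 n112 = n112 := d16_1 D112 (iv D112) (iv D56) F52 D56
def n113 : Q := act 3 n57
theorem D113 : act 3 n57 = n113 := rfl
theorem F267 : act 0 n113 = n113 := d2_1 D113 (iv D113) F135
theorem F268 : act 1 n113 = n113 := d7_1 D113 (iv D113) F136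
theorem F269 : act 6 n113 = n113 := d17_2 D57 D113 (iv D113) (iv D57) F55
def n114 : Q := act 2 n58
theorem D114 : act 2 n58 = n114 := rfl
theorem F270 : act 0 n114 = n114 := d1_1 D114 (iv D114) F138
theorem F271 : act 6 n114 = n110 := d14_2 (iv F140) D114 (iv D110)
def n115 : Q := act 4 n58
theorem D115 : act 4 n58 = n115 := rfl
theorem F272 : act 0 n115 = n115 := d3_1 D115 (iv D115) F138
theorem F273 : act 1 n115 = n115 := d8_1 D115 (iv D115) F139
def n116 : Q := act 5 n58
theorem D116 : act 5 n58 = n116 := rfl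
theorem F275 : act 0 n116 = n116 := d4_1 D116 (iv D116) F138
theorem F276 : act 1 n116 = n116 := d9_1 D116 (iv D116) F139
def n117 : Q := act 3 n59
theorem D117 : act 3 n59 = n117 := rfl
theorem F277 : act 0 n117 = n117 := d2_1 D117 (iv D117) F141
theorem F278 : act 1 n117 = n117 := d7_1 D117 (iv D117) F142
def n118 : Q := act 3 n60
theorem D118 : act 3 n60 = n118 := rfl
theorem F279 : act 0 n118 = n118 := d2_1 D118 (iv D118) F145
theorem F280 : act 5 n118 = n62 := d16_2 D60 D118 (iv D62) (iv D27) D26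
def n119 : Q := act 6 n60
theorem D119 : act 6 n60 = n119 := rfl
theorem F281 : act 0 n119 = n119 := d5_1 D119 (iv D119) F145
theorem F282 : act 2 n119 = n119 := d14_1 D119 (iv D119) F146
theorem F283 : act 5 n119 = n93 := d21_2 D60 D119 (iv D93) F100
def n120 : Q := act 3 n61
theorem D120 : act 3 n61 = n120 := rfl
theorem F284 : act 0 n120 = n120 := d2_1 D120 (iv D120) F147
theorem F285 : act 6 n120 = n64 := d17_2 D61 D120 (iv D64) (iv D28) D26
def n121 : Q := act 5 n61
theorem D121 : act 5 n61 = n121 := rfl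
theorem F286 : act 0 n121 = n121 := d4_1 D121 (iv D121) F147
theorem F287 : act 2 n121 = n121 := d13_1 D121 (iv D121) F148
theorem F288 : act 4 n121 = n119 := d18_1 D121 F283 F214
theorem F289 : act 6 n121 = n92 := d20_2 D61 D121 (iv D92) D93 (iv F283) (iv D119) (iv D60)
def n122 : Q := act 2 n62
theorem D122 : act 2 n62 = n122 := rfl
theorem F290 : act 0 n122 = n122 := d1_1 D122 (iv D122) F149
def n123 : Q := act 4 n62
theorem D123 : act 4 n62 = n123 := rfl
theorem F291 : act 0 n123 = n123 := d3_1 D123 (iv D123) F149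
def n124 : Q := act 6 n62
theorem D124 : act 6 n62 = n124 := rfl
theorem F292 : act 0 n124 = n124 := d5_1 D124 (iv D124) F149
def n125 : Q := act 3 n63
theorem D125 : act 3 n63 = n125 := rfl
theorem F293 : act 0 n125 = n125 := d2_1 D125 (iv D125) F150
def n126 : Q := act 2 n64
theorem D126 : act 2 n64 = n126 := rfl
theorem F294 : act 0 n126 = n126 := d1_1 D126 (iv D126) F153
def n127 : Q := act 4 n64
theorem D127 : act 4 n64 = n127 := rfl
theorem F295 : act 0 n127 = n127 := d3_1 D127 (iv D127) F153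
def n128 : Q := act 5 n64
theorem D128 : act 5 n64 = n128 := rfl
theorem F296 : act 0 n128 = n128 := d4_1 D128 (iv D128) F153
def n129 : Q := act 3 n65
theorem D129 : act 3 n65 = n129 := rfl
theorem F297 : act 0 n129 = n129 := d2_1 D129 (iv D129) F154
def n130 : Q := act 3 n66
theorem D130 : act 3 n66 = n130 := rfl
theorem F298 : act 0 n130 = n74 := d2_1 D130 (iv D74) (iv F158)
theorem F299 : act 1 n130 = n118 := d7_1 D130 (iv D118) (iv F159)
theorem F300 : act 5 n130 = n68 := d16_2 D66 D130 (iv D68) (iv D30) D29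
def n131 : Q := act 6 n66
theorem D131 : act 6 n66 = n131 := rfl
theorem F301 : act 0 n131 = n75 := d5_1 D131 (iv D75) (iv F158)
theorem F302 : act 1 n131 = n119 := d10_1 D131 (iv D119) (iv F159)
theorem F303 : act 5 n131 = n89 := d21_2 D66 D131 (iv D89) F92
def n132 : Q := act 3 n67
theorem D132 : act 3 n67 = n132 := rfl
theorem F304 : act 0 n132 = n76 := d2_1 D132 (iv D76) (iv F160)
theorem F305 : act 1 n132 = n120 := d7_1 D132 (iv D120) (iv F161)
theorem F306 : act 6 n132 = n70 := d17_2 D67 D132 (iv D70) (iv D31) D29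
def n133 : Q := act 5 n67
theorem D133 : act 5 n67 = n133 := rfl
theorem F307 : act 0 n133 = n77 := d4_1 D133 (iv D77) (iv F160)
theorem F308 : act 1 n133 = n121 := d9_1 D133 (iv D121) (iv F161)
theorem F309 : act 4 n133 = n131 := d18_1 D133 F303 F206
theorem F310 : act 6 n133 = n88 := d20_2 D67 D133 (iv D88) D89 (iv F303) (iv D131) (iv D66)
def n134 : Q := act 2 n68
theorem D134 : act 2 n68 = n134 := rfl
def n135 : Q := act 4 n68
theorem D135 : act 4 n68 = n135 := rfl
theorem F311 : act 1 n135 = n123 := d8_1 D135 (iv D123) (iv F162)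
def n136 : Q := act 6 n68
theorem D136 : act 6 n68 = n136 := rfl
theorem F312 : act 1 n136 = n124 := d10_1 D136 (iv D124) (iv F162)
def n137 : Q := act 3 n69
theorem D137 : act 3 n69 = n137 := rfl
theorem F313 : act 1 n137 = n125 := d7_1 D137 (iv D125) (iv F163)
def n138 : Q := act 2 n70
theorem D138 : act 2 n70 = n138 := rfl
def n139 : Q := act 4 n70
theorem D139 : act 4 n70 = n139 := rfl
theorem F314 : act 1 n139 = n127 := d8_1 D139 (iv D127) (iv F166)
def n140 : Q := act 5 n70
theorem D140 : act 5 n70 = n140 := rfl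
theorem F315 : act 1 n140 = n128 := d9_1 D140 (iv D128) (iv F166)
def n141 : Q := act 3 n71
theorem D141 : act 3 n71 = n141 := rfl
theorem F316 : act 0 n141 = n137 := d2_1 D141 (iv D137) (iv F167)
theorem F317 : act 1 n141 = n129 := d7_1 D141 (iv D129) (iv F168)
def n142 : Q := act 2 n72
theorem D142 : act 2 n72 = n142 := rfl
theorem F318 : act 0 n142 = n134 := d1_1 D142 (iv D134) (iv F172)
def n143 : Q := act 4 n72
theorem D143 : act 4 n72 = n143 := rfl
theorem F319 : act 0 n143 = n135 := d3_1 D143 (iv D135) (iv F172)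
theorem F320 : act 3 n143 = n135 := d15_1 D143 (iv D135) (iv D68) (iv F72) D72
def n144 : Q := act 6 n72
theorem D144 : act 6 n72 = n144 := rfl
def n145 : Q := act 2 n73
theorem D145 : act 2 n73 = n145 := rfl
theorem F322 : act 0 n145 = n138 := d1_1 D145 (iv D138) (iv F173)
def n146 : Q := act 4 n73
theorem D146 : act 4 n73 = n146 := rfl
theorem F323 : act 0 n146 = n139 := d3_1 D146 (iv D139) (iv F173)
theorem F324 : act 3 n146 = n139 := d15_1 D146 (iv D139) (iv D70) (iv F75) D73
def n147 : Q := act 5 n73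
theorem D147 : act 5 n73 = n147 := rfl
theorem F325 : act 0 n147 = n140 := d4_1 D147 (iv D140) (iv F173)
def n148 : Q := act 2 n74
theorem D148 : act 2 n74 = n148 := rfl
theorem F326 : act 5 n148 = n142 := d13_2 (iv F174) D148 (iv D142)
def n149 : Q := act 4 n74
theorem D149 : act 4 n74 = n149 := rfl
theorem F327 : act 5 n149 = n143 := d18_2 (iv F174) D149 (iv D143)
def n150 : Q := act 6 n74
theorem D150 : act 6 n74 = n150 := rfl
def n151 : Q := act 3 n75
theorem D151 : act 3 n75 = n151 := rfl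
def n152 : Q := act 2 n76
theorem D152 : act 2 n76 = n152 := rfl
theorem F328 : act 6 n152 = n145 := d14_2 (iv F176) D152 (iv D145)
def n153 : Q := act 4 n76
theorem D153 : act 4 n76 = n153 := rfl
theorem F329 : act 6 n153 = n146 := d19_2 (iv F176) D153 (iv D146)
def n154 : Q := act 5 n76
theorem D154 : act 5 n76 = n154 := rfl
def n155 : Q := act 3 n77
theorem D155 : act 3 n77 = n155 := rfl
def n156 : Q := act 3 n78
theorem D156 : act 3 n78 = n156 := rfl
theorem F330 : act 0 n156 = n80 := d2_1 D156 (iv D80) (iv F179)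
theorem F331 : act 1 n156 = n156 := d7_1 D156 (iv D156) F180
def n157 : Q := act 6 n78
theorem D157 : act 6 n78 = n157 := rfl
theorem F332 : act 0 n157 = n81 := d5_1 D157 (iv D81) (iv F179)
theorem F333 : act 1 n157 = n157 := d10_1 D157 (iv D157) F180
theorem F334 : act 2 n157 = n131 := d14_1 D157 (iv D131) (iv F181)
theorem F335 : act 5 n157 = n85 := d21_2 D78 D157 (iv D85) F86
def n158 : Q := act 3 n79
theorem D158 : act 3 n79 = n158 := rfl
theorem F336 : act 0 n158 = n82 := d2_1 D158 (iv D82) (iv F182)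
theorem F337 : act 1 n158 = n158 := d7_1 D158 (iv D158) F183
def n159 : Q := act 5 n79
theorem D159 : act 5 n79 = n159 := rfl
theorem F338 : act 0 n159 = n83 := d4_1 D159 (iv D83) (iv F182)
theorem F339 : act 1 n159 = n159 := d9_1 D159 (iv D159) F183
theorem F340 : act 2 n159 = n133 := d13_1 D159 (iv D133) (iv F184)
theorem F341 : act 4 n159 = n157 := d18_1 D159 F335 F196
theorem F342 : act 6 n159 = n84 := d20_2 D79 D159 (iv D84) D85 (iv F335) (iv D157) (iv D78)
def n160 : Q := act 2 n80
theorem D160 : act 2 n80 = n160 := rfl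
def n161 : Q := act 4 n80
theorem D161 : act 4 n80 = n161 := rfl
def n162 : Q := act 6 n80
theorem D162 : act 6 n80 = n162 := rfl
def n163 : Q := act 3 n81
theorem D163 : act 3 n81 = n163 := rfl
def n164 : Q := act 2 n82
theorem D164 : act 2 n82 = n164 := rfl
def n165 : Q := act 4 n82
theorem D165 : act 4 n82 = n165 := rfl
def n166 : Q := act 5 n82
theorem D166 : act 5 n82 = n166 := rfl
def n167 : Q := act 3 n83
theorem D167 : act 3 n83 = n167 := rfl
theorem F343 : act 1 n167 = n163 := d7_1 D167 (iv D163) (iv F187)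
def n168 : Q := act 3 n84
theorem D168 : act 3 n84 = n168 := rfl
theorem F344 : act 0 n168 = n86 := d2_1 D168 (iv D86) (iv F191)
theorem F345 : act 1 n168 = n168 := d7_1 D168 (iv D168) F192
theorem F346 : act 5 n168 = n156 := d16_2 D84 D168 (iv D156) (iv D78) (iv F85)
def n169 : Q := act 3 n85
theorem D169 : act 3 n85 = n169 := rfl
theorem F347 : act 0 n169 = n87 := d2_1 D169 (iv D87) (iv F194)
theorem F348 : act 1 n169 = n169 := d7_1 D169 (iv D169) F195
theorem F349 : act 6 n169 = n158 := d17_2 D85 D169 (iv D158) (iv D79) (iv F85)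
def n170 : Q := act 2 n86
theorem D170 : act 2 n86 = n170 := rfl
theorem F350 : act 5 n170 = n160 := d13_2 (iv F198) D170 (iv D160)
def n171 : Q := act 4 n86
theorem D171 : act 4 n86 = n171 := rfl
theorem F351 : act 1 n171 = n161 := d8_1 D171 (iv D161) (iv F197)
theorem F352 : act 3 n171 = n161 := d15_1 D171 (iv D161) (iv D80) (iv F88) D86
theorem F353 : act 5 n171 = n161 := d18_2 (iv F198) D171 (iv D161)
def n172 : Q := act 6 n86
theorem D172 : act 6 n86 = n172 := rfl
theorem F354 : act 1 n172 = n162 := d10_1 D172 (iv D162) (iv F197)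
def n173 : Q := act 2 n87
theorem D173 : act 2 n87 = n173 := rfl
theorem F355 : act 6 n173 = n164 := d14_2 (iv F200) D173 (iv D164)
def n174 : Q := act 4 n87
theorem D174 : act 4 n87 = n174 := rfl
theorem F356 : act 1 n174 = n165 := d8_1 D174 (iv D165) (iv F199)
theorem F357 : act 3 n174 = n165 := d15_1 D174 (iv D165) (iv D82) (iv F90) D87
theorem F358 : act 6 n174 = n165 := d19_2 (iv F200) D174 (iv D165)
def n175 : Q := act 5 n87
theorem D175 : act 5 n87 = n175 := rfl
theorem F359 : act 1 n175 = n166 := d9_1 D175 (iv D166) (iv F199)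
def n176 : Q := act 3 n88
theorem D176 : act 3 n88 = n176 := rfl
theorem F360 : act 0 n176 = n90 := d2_1 D176 (iv D90) (iv F201)
theorem F361 : act 5 n176 = n90 := d16_2 D88 D176 (iv D90) (iv D43) (iv F93)
def n177 : Q := act 3 n89
theorem D177 : act 3 n89 = n177 := rfl
theorem F362 : act 0 n177 = n91 := d2_1 D177 (iv D91) (iv F204)
theorem F363 : act 6 n177 = n91 := d17_2 D89 D177 (iv D91) (iv D44) (iv F93)
def n178 : Q := act 2 n90
theorem D178 : act 2 n90 = n178 := rfl
def n179 : Q := act 4 n90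
theorem D179 : act 4 n90 = n179 := rfl
theorem F364 : act 3 n179 = n149 := d15_1 D179 (iv D149) (iv D74) (iv F95) D90
def n180 : Q := act 6 n90
theorem D180 : act 6 n90 = n180 := rfl
def n181 : Q := act 2 n91
theorem D181 : act 2 n91 = n181 := rfl
def n182 : Q := act 4 n91
theorem D182 : act 4 n91 = n182 := rfl
theorem F365 : act 3 n182 = n153 := d15_1 D182 (iv D153) (iv D76) (iv F97) D91
def n183 : Q := act 5 n91
theorem D183 : act 5 n91 = n183 := rfl
def n184 : Q := act 3 n92
theorem D184 : act 3 n92 = n184 := rfl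
theorem F366 : act 0 n184 = n184 := d2_1 D184 (iv D184) F207
theorem F367 : act 1 n184 = n176 := d7_1 D184 (iv D176) (iv F208)
theorem F368 : act 5 n184 = n94 := d16_2 D92 D184 (iv D94) (iv D46) D45
def n185 : Q := act 3 n93
theorem D185 : act 3 n93 = n185 := rfl
theorem F369 : act 0 n185 = n185 := d2_1 D185 (iv D185) F211
theorem F370 : act 1 n185 = n177 := d7_1 D185 (iv D177) (iv F212)
theorem F371 : act 6 n185 = n96 := d17_2 D93 D185 (iv D96) (iv D47) D45
def n186 : Q := act 2 n94
theorem D186 : act 2 n94 = n186 := rfl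
theorem F372 : act 0 n186 = n186 := d1_1 D186 (iv D186) F215
def n187 : Q := act 4 n94
theorem D187 : act 4 n94 = n187 := rfl
theorem F373 : act 0 n187 = n187 := d3_1 D187 (iv D187) F215
theorem F374 : act 1 n187 = n179 := d8_1 D187 (iv D179) (iv F216)
def n188 : Q := act 6 n94
theorem D188 : act 6 n94 = n188 := rfl
theorem F375 : act 0 n188 = n188 := d5_1 D188 (iv D188) F215
theorem F376 : act 1 n188 = n180 := d10_1 D188 (iv D180) (iv F216)
def n189 : Q := act 3 n95
theorem D189 : act 3 n95 = n189 := rfl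
theorem F377 : act 0 n189 = n189 := d2_1 D189 (iv D189) F217
theorem F378 : act 1 n189 = n155 := d7_1 D189 (iv D155) (iv F218)
def n190 : Q := act 2 n96
theorem D190 : act 2 n96 = n190 := rfl
theorem F379 : act 0 n190 = n190 := d1_1 D190 (iv D190) F220
def n191 : Q := act 4 n96
theorem D191 : act 4 n96 = n191 := rfl
theorem F381 : act 1 n191 = n182 := d8_1 D191 (iv D182) (iv F221)
def n192 : Q := act 5 n96
theorem D192 : act 5 n96 = n192 := rfl
theorem F382 : act 0 n192 = n192 := d4_1 D192 (iv D192) F220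
theorem F383 : act 1 n192 = n183 := d9_1 D192 (iv D183) (iv F221)
def n193 : Q := act 3 n97
theorem D193 : act 3 n97 = n193 := rfl
theorem F384 : act 0 n193 = n193 := d2_1 D193 (iv D193) F222
theorem F385 : act 1 n193 = n151 := d7_1 D193 (iv D151) (iv F223)
def n194 : Q := act 2 n98
theorem D194 : act 2 n98 = n194 := rfl
theorem F386 : act 0 n194 = n194 := d1_1 D194 (iv D194) F227
def n195 : Q := act 4 n98
theorem D195 : act 4 n98 = n195 := rfl
theorem F387 : act 0 n195 = n195 := d3_1 D195 (iv D195) F227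
theorem F388 : act 1 n195 = n149 := d8_1 D195 (iv D149) (iv F228)
theorem F389 : act 3 n195 = n187 := d15_1 D195 (iv D187) (iv D94) (iv F109) D98
def n196 : Q := act 6 n98
theorem D196 : act 6 n98 = n196 := rfl
theorem F390 : act 0 n196 = n196 := d5_1 D196 (iv D196) F227
theorem F391 : act 1 n196 = n150 := d10_1 D196 (iv D150) (iv F228)
def n197 : Q := act 2 n99
theorem D197 : act 2 n99 = n197 := rfl
theorem F392 : act 0 n197 = n197 := d1_1 D197 (iv D197) F229
def n198 : Q := act 4 n99
theorem D198 : act 4 n99 = n198 := rfl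
theorem F394 : act 1 n198 = n153 := d8_1 D198 (iv D153) (iv F230)
theorem F395 : act 3 n198 = n191 := d15_1 D198 (iv D191) (iv D96) (iv F113) D99
def n199 : Q := act 5 n99
theorem D199 : act 5 n99 = n199 := rfl
theorem F396 : act 0 n199 = n199 := d4_1 D199 (iv D199) F229
theorem F397 : act 1 n199 = n154 := d9_1 D199 (iv D154) (iv F230)
def n200 : Q := act 2 n100
theorem D200 : act 2 n100 = n200 := rfl
theorem F398 : act 0 n200 = n200 := d1_1 D200 (iv D200) F231
theorem F399 : act 5 n200 = n194 := d13_2 (iv F233) D200 (iv D194)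
def n201 : Q := act 4 n100
theorem D201 : act 4 n100 = n201 := rfl
theorem F400 : act 0 n201 = n201 := d3_1 D201 (iv D201) F231
theorem F401 : act 1 n201 = n143 := d8_1 D201 (iv D143) (iv F232)
theorem F402 : act 3 n201 = n123 := d15_1 D201 (iv D123) (iv D62) (iv F116) D100
theorem F403 : act 5 n201 = n195 := d18_2 (iv F233) D201 (iv D195)
def n202 : Q := act 6 n100
theorem D202 : act 6 n100 = n202 := rfl
def n203 : Q := act 2 n101
theorem D203 : act 2 n101 = n203 := rfl
theorem F406 : act 0 n203 = n203 := d1_1 D203 (iv D203) F234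
theorem F407 : act 6 n203 = n197 := d14_2 (iv F236) D203 (iv D197)
def n204 : Q := act 4 n101
theorem D204 : act 4 n101 = n204 := rfl
theorem F408 : act 0 n204 = n204 := d3_1 D204 (iv D204) F234
theorem F409 : act 1 n204 = n146 := d8_1 D204 (iv D146) (iv F235)
theorem F410 : act 3 n204 = n127 := d15_1 D204 (iv D127) (iv D64) (iv F119) D101
theorem F411 : act 6 n204 = n198 := d19_2 (iv F236) D204 (iv D198)
def n205 : Q := act 5 n101
theorem D205 : act 5 n101 = n205 := rfl
def n206 : Q := act 2 n102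
theorem D206 : act 2 n102 = n206 := rfl
theorem F414 : act 0 n206 = n206 := d1_1 D206 (iv D206) F237
theorem F415 : act 4 n206 = n206 := d12_2 F239 D206 (iv D206)
theorem F416 : act 5 n206 = n206 := d13_2 F240 D206 (iv D206)
def n207 : Q := act 6 n102
theorem D207 : act 6 n102 = n207 := rfl
def n208 : Q := act 2 n103
theorem D208 : act 2 n103 = n208 := rfl
theorem F421 : act 0 n208 = n208 := d1_1 D208 (iv D208) F241
theorem F422 : act 6 n208 = n208 := d14_2 F243 D208 (iv D208)
def n209 : Q := act 4 n103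
theorem D209 : act 4 n103 = n209 := rfl
theorem F423 : act 0 n209 = n209 := d3_1 D209 (iv D209) F241
theorem F424 : act 1 n209 = n209 := d8_1 D209 (iv D209) F242
theorem F425 : act 3 n209 = n115 := d15_1 D209 (iv D115) (iv D58) (iv F127) D103
def n210 : Q := act 5 n103
theorem D210 : act 5 n103 = n210 := rfl
def n211 : Q := act 1 n104
theorem D211 : act 1 n104 = n211 := rfl
theorem F429 : act 6 n211 = n211 := d10_2 F245 D211 (iv D211)
def n212 : Q := act 3 n104
theorem D212 : act 3 n104 = n212 := rfl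
theorem F430 : act 0 n212 = n212 := d2_1 D212 (iv D212) F244
def n213 : Q := act 4 n104
theorem D213 : act 4 n104 = n213 := rfl
theorem F431 : act 0 n213 = n213 := d3_1 D213 (iv D213) F244
theorem F432 : act 2 n213 = n105 := d12_1 D213 (iv D105) D104
theorem F433 : act 6 n213 = n213 := d19_2 F245 D213 (iv D213)
def n214 : Q := act 5 n104
theorem D214 : act 5 n104 = n214 := rfl
theorem F434 : act 0 n214 = n214 := d4_1 D214 (iv D214) F244
theorem F435 : act 2 n214 = n106 := d13_1 D214 (iv D106) D104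
def n215 : Q := act 5 n105
theorem D215 : act 5 n105 = n215 := rfl
theorem F436 : act 0 n215 = n215 := d4_1 D215 (iv D215) F246
theorem F437 : act 4 n215 = n106 := d18_1 D215 (iv D106) D105
theorem F438 : act 6 n215 = n106 := d21_1 D215 (iv D106) F129 D105
def n216 : Q := act 1 n107
theorem D216 : act 1 n107 = n216 := rfl
theorem F439 : act 2 n216 = n211 := d6_2 D107 D216 (iv D211) (iv D104) (iv F131)
theorem F440 : act 6 n216 = n216 := d10_2 F252 D216 (iv D216)
def n217 : Q := act 3 n107
theorem D217 : act 3 n107 = n217 := rfl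
theorem F441 : act 0 n217 = n217 := d2_1 D217 (iv D217) F251
def n218 : Q := act 4 n107
theorem D218 : act 4 n107 = n218 := rfl
theorem F442 : act 0 n218 = n218 := d3_1 D218 (iv D218) F251
theorem F443 : act 2 n218 = n108 := d12_1 D218 (iv D108) D107
theorem F444 : act 6 n218 = n218 := d19_2 F252 D218 (iv D218)
def n219 : Q := act 5 n107
theorem D219 : act 5 n107 = n219 := rfl
theorem F445 : act 0 n219 = n219 := d4_1 D219 (iv D219) F251
theorem F446 : act 2 n219 = n109 := d13_1 D219 (iv D109) D107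
def n220 : Q := act 5 n108
theorem D220 : act 5 n108 = n220 := rfl
theorem F447 : act 0 n220 = n220 := d4_1 D220 (iv D220) F253
theorem F448 : act 1 n220 = n215 := d9_1 D220 (iv D215) (iv F254)
theorem F449 : act 4 n220 = n109 := d18_1 D220 (iv D109) D108
theorem F450 : act 6 n220 = n109 := d21_1 D220 (iv D109) F132 D108
def n221 : Q := act 1 n110
theorem D221 : act 1 n110 = n221 := rfl
theorem F451 : act 2 n221 = n221 := d6_2 D110 D221 (iv D221) (iv D110) F134
def n222 : Q := act 3 n110
theorem D222 : act 3 n110 = n222 := rfl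
theorem F452 : act 0 n222 = n222 := d2_1 D222 (iv D222) F260
def n223 : Q := act 4 n110
theorem D223 : act 4 n110 = n223 := rfl
theorem F453 : act 0 n223 = n223 := d3_1 D223 (iv D223) F260
theorem F454 : act 2 n223 = n111 := d12_1 D223 (iv D111) D110
def n224 : Q := act 5 n110
theorem D224 : act 5 n110 = n224 := rfl
theorem F456 : act 2 n224 = n112 := d13_1 D224 (iv D112) D110
def n226 : Q := act 6 n112
theorem D226 : act 6 n112 = n226 := rfl
theorem F461 : act 0 n226 = n226 := d5_1 D226 (iv D226) F264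
def n227 : Q := act 2 n113
theorem D227 : act 2 n113 = n227 := rfl
theorem F465 : act 0 n227 = n227 := d1_1 D227 (iv D227) F267
theorem F466 : act 6 n227 = n227 := d14_2 F269 D227 (iv D227)
def n228 : Q := act 4 n113
theorem D228 : act 4 n113 = n228 := rfl
theorem F467 : act 0 n228 = n228 := d3_1 D228 (iv D228) F267
theorem F468 : act 1 n228 = n228 := d8_1 D228 (iv D228) F268
def n229 : Q := act 5 n113
theorem D229 : act 5 n113 = n229 := rfl
theorem F472 : act 3 n229 = n210 := d16_1 D229 (iv D210) (iv D103) (iv F137) D113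
def n230 : Q := act 1 n114
theorem D230 : act 1 n114 = n230 := rfl
theorem F473 : act 2 n230 = n230 := d6_2 D114 D230 (iv D230) (iv D114) F139
def n231 : Q := act 3 n114
theorem D231 : act 3 n114 = n231 := rfl
theorem F475 : act 0 n231 = n231 := d2_1 D231 (iv D231) F270
def n232 : Q := act 4 n114
theorem D232 : act 4 n114 = n232 := rfl
theorem F477 : act 2 n232 = n115 := d12_1 D232 (iv D115) D114
theorem F478 : act 6 n232 = n223 := d19_2 (iv F271) D232 (iv D223)
def n233 : Q := act 5 n114
theorem D233 : act 5 n114 = n233 := rfl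
theorem F480 : act 2 n233 = n116 := d13_1 D233 (iv D116) D114
def n234 : Q := act 3 n116
theorem D234 : act 3 n116 = n234 := rfl
theorem F481 : act 0 n234 = n234 := d2_1 D234 (iv D234) F275
theorem F482 : act 1 n234 = n234 := d7_1 D234 (iv D234) F276
theorem F483 : act 5 n234 = n117 := d16_2 D116 D234 (iv D117) (iv D59) D58
def n235 : Q := act 2 n117
theorem D235 : act 2 n117 = n235 := rfl
theorem F484 : act 0 n235 = n235 := d1_1 D235 (iv D235) F277
def n236 : Q := act 4 n117
theorem D236 : act 4 n117 = n236 := rfl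
theorem F485 : act 0 n236 = n236 := d3_1 D236 (iv D236) F277
theorem F486 : act 1 n236 = n236 := d8_1 D236 (iv D236) F278
theorem F487 : act 3 n236 = n228 := d15_1 D236 (iv D228) (iv D113) (iv F143) D117
def n238 : Q := act 2 n118
theorem D238 : act 2 n118 = n238 := rfl
theorem F491 : act 0 n238 = n238 := d1_1 D238 (iv D238) F279
theorem F492 : act 5 n238 = n122 := d13_2 (iv F280) D238 (iv D122)
def n239 : Q := act 4 n118
theorem D239 : act 4 n118 = n239 := rfl
theorem F493 : act 0 n239 = n239 := d3_1 D239 (iv D239) F279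
theorem F494 : act 5 n239 = n123 := d18_2 (iv F280) D239 (iv D123)
def n240 : Q := act 6 n118
theorem D240 : act 6 n118 = n240 := rfl
def n241 : Q := act 3 n119
theorem D241 : act 3 n119 = n241 := rfl
theorem F496 : act 0 n241 = n241 := d2_1 D241 (iv D241) F281
def n242 : Q := act 2 n120
theorem D242 : act 2 n120 = n242 := rfl
theorem F497 : act 0 n242 = n242 := d1_1 D242 (iv D242) F284
theorem F498 : act 6 n242 = n126 := d14_2 (iv F285) D242 (iv D126)
def n243 : Q := act 4 n120
theorem D243 : act 4 n120 = n243 := rfl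
theorem F499 : act 0 n243 = n243 := d3_1 D243 (iv D243) F284
theorem F500 : act 6 n243 = n127 := d19_2 (iv F285) D243 (iv D127)
def n244 : Q := act 5 n120
theorem D244 : act 5 n120 = n244 := rfl
theorem F501 : act 0 n244 = n244 := d4_1 D244 (iv D244) F284
def n245 : Q := act 3 n121
theorem D245 : act 3 n121 = n245 := rfl
theorem F502 : act 0 n245 = n245 := d2_1 D245 (iv D245) F286
def n246 : Q := act 1 n122
theorem D246 : act 1 n122 = n246 := rfl
def n247 : Q := act 3 n122
theorem D247 : act 3 n122 = n247 := rfl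
theorem F503 : act 0 n247 = n247 := d2_1 D247 (iv D247) F290
theorem F504 : act 2 n247 = n247 := d23_2 D122 D247 (iv D247) (iv D122) (iv D62) F61 F55 (iv F61) D62 F149
def n248 : Q := act 4 n122
theorem D248 : act 4 n122 = n248 := rfl
theorem F505 : act 0 n248 = n248 := d3_1 D248 (iv D248) F290
theorem F506 : act 2 n248 = n123 := d12_1 D248 (iv D123) D122
def n249 : Q := act 6 n122
theorem D249 : act 6 n122 = n249 := rfl
theorem F507 : act 0 n249 = n249 := d5_1 D249 (iv D249) F290
theorem F508 : act 2 n249 = n124 := d14_1 D249 (iv D124) D122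
def n250 : Q := act 6 n123
theorem D250 : act 6 n123 = n250 := rfl
theorem F509 : act 0 n250 = n250 := d5_1 D250 (iv D250) F291
theorem F510 : act 4 n250 = n124 := d19_1 D250 (iv D124) D123
theorem F511 : act 5 n250 = n240 := d21_2 F494 D250 (iv D240) D239
def n251 : Q := act 3 n124
theorem D251 : act 3 n124 = n251 := rfl
theorem F512 : act 0 n251 = n251 := d2_1 D251 (iv D251) F292
theorem F513 : act 6 n251 = n125 := d17_2 D124 D251 (iv D125) (iv D63) D62
def n252 : Q := act 5 n124
theorem D252 : act 5 n124 = n252 := rfl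
theorem F516 : act 6 n252 = n239 := d20_2 D124 D252 F494 D250 F511 (iv D240) F280
def n253 : Q := act 2 n125
theorem D253 : act 2 n125 = n253 := rfl
theorem F517 : act 0 n253 = n253 := d1_1 D253 (iv D253) F293
def n254 : Q := act 4 n125
theorem D254 : act 4 n125 = n254 := rfl
def n255 : Q := act 5 n125
theorem D255 : act 5 n125 = n255 := rfl
theorem F519 : act 0 n255 = n255 := d4_1 D255 (iv D255) F293
theorem F520 : act 3 n255 = n205 := d16_1 D255 (iv D205) (iv D101) (iv F152) D125
def n256 : Q := act 1 n126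
theorem D256 : act 1 n126 = n256 := rfl
def n257 : Q := act 3 n126
theorem D257 : act 3 n126 = n257 := rfl
theorem F521 : act 0 n257 = n257 := d2_1 D257 (iv D257) F294
def n258 : Q := act 4 n126
theorem D258 : act 4 n126 = n258 := rfl
theorem F522 : act 0 n258 = n258 := d3_1 D258 (iv D258) F294
theorem F523 : act 2 n258 = n127 := d12_1 D258 (iv D127) D126
def n259 : Q := act 5 n126
theorem D259 : act 5 n126 = n259 := rfl
theorem F524 : act 0 n259 = n259 := d4_1 D259 (iv D259) F294
theorem F525 : act 2 n259 = n128 := d13_1 D259 (iv D128) D126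
def n260 : Q := act 5 n127
theorem D260 : act 5 n127 = n260 := rfl
theorem F526 : act 0 n260 = n260 := d4_1 D260 (iv D260) F295
theorem F527 : act 4 n260 = n128 := d18_1 D260 (iv D128) D127
theorem F528 : act 6 n260 = n244 := d21_1 D260 (iv D244) F285 D127
def n261 : Q := act 3 n128
theorem D261 : act 3 n128 = n261 := rfl
theorem F530 : act 5 n261 = n129 := d16_2 D128 D261 (iv D129) (iv D65) D64
def n262 : Q := act 6 n128
theorem D262 : act 6 n128 = n262 := rfl
theorem F531 : act 0 n262 = n262 := d5_1 D262 (iv D262) F296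
theorem F532 : act 4 n262 = n244 := d19_1 D262 (iv F528) F527
theorem F533 : act 5 n262 = n243 := d20_1 D262 F500 D260 F528 (iv D244) F285 D128
def n263 : Q := act 2 n129
theorem D263 : act 2 n129 = n263 := rfl
theorem F534 : act 0 n263 = n263 := d1_1 D263 (iv D263) F297
def n264 : Q := act 4 n129
theorem D264 : act 4 n129 = n264 := rfl
theorem F535 : act 0 n264 = n264 := d3_1 D264 (iv D264) F297
theorem F536 : act 3 n264 = n254 := d15_1 D264 (iv D254) (iv D125) (iv F156) D129
def n265 : Q := act 6 n129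
theorem D265 : act 6 n129 = n265 := rfl
theorem F538 : act 3 n265 = n202 := d17_1 D265 (iv D202) (iv D100) (iv F157) D129
def n266 : Q := act 2 n130
theorem D266 : act 2 n130 = n266 := rfl
theorem F539 : act 0 n266 = n148 := d1_1 D266 (iv D148) (iv F298)
theorem F540 : act 5 n266 = n134 := d13_2 (iv F300) D266 (iv D134)
def n267 : Q := act 4 n130
theorem D267 : act 4 n130 = n267 := rfl
theorem F541 : act 0 n267 = n149 := d3_1 D267 (iv D149) (iv F298)
theorem F542 : act 1 n267 = n239 := d8_1 D267 (iv D239) (iv F299)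
theorem F543 : act 5 n267 = n135 := d18_2 (iv F300) D267 (iv D135)
def n268 : Q := act 6 n130
theorem D268 : act 6 n130 = n268 := rfl
theorem F544 : act 0 n268 = n150 := d5_1 D268 (iv D150) (iv F298)
def n269 : Q := act 3 n131
theorem D269 : act 3 n131 = n269 := rfl
theorem F546 : act 0 n269 = n151 := d2_1 D269 (iv D151) (iv F301)
theorem F547 : act 1 n269 = n241 := d7_1 D269 (iv D241) (iv F302)
def n270 : Q := act 2 n132
theorem D270 : act 2 n132 = n270 := rfl
theorem F548 : act 0 n270 = n152 := d1_1 D270 (iv D152) (iv F304)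
theorem F549 : act 6 n270 = n138 := d14_2 (iv F306) D270 (iv D138)
def n271 : Q := act 4 n132
theorem D271 : act 4 n132 = n271 := rfl
theorem F550 : act 0 n271 = n153 := d3_1 D271 (iv D153) (iv F304)
theorem F551 : act 1 n271 = n243 := d8_1 D271 (iv D243) (iv F305)
theorem F552 : act 6 n271 = n139 := d19_2 (iv F306) D271 (iv D139)
def n272 : Q := act 5 n132
theorem D272 : act 5 n132 = n272 := rfl
theorem F553 : act 0 n272 = n154 := d4_1 D272 (iv D154) (iv F304)
theorem F554 : act 1 n272 = n244 := d9_1 D272 (iv D244) (iv F305)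
def n273 : Q := act 3 n133
theorem D273 : act 3 n133 = n273 := rfl
theorem F555 : act 0 n273 = n155 := d2_1 D273 (iv D155) (iv F307)
theorem F556 : act 1 n273 = n245 := d7_1 D273 (iv D245) (iv F308)
def n274 : Q := act 1 n134
theorem D274 : act 1 n134 = n274 := rfl
theorem F557 : act 2 n274 = n246 := d6_2 D134 D274 (iv D246) (iv D122) (iv F162)
def n275 : Q := act 3 n134
theorem D275 : act 3 n134 = n275 := rfl
def n276 : Q := act 4 n134
theorem D276 : act 4 n134 = n276 := rfl
theorem F558 : act 2 n276 = n135 := d12_1 D276 (iv D135) D134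
def n277 : Q := act 6 n134
theorem D277 : act 6 n134 = n277 := rfl
theorem F559 : act 2 n277 = n136 := d14_1 D277 (iv D136) D134
def n278 : Q := act 6 n135
theorem D278 : act 6 n135 = n278 := rfl
theorem F560 : act 1 n278 = n250 := d10_1 D278 (iv D250) (iv F311)
theorem F561 : act 4 n278 = n136 := d19_1 D278 (iv D136) D135
def n279 : Q := act 3 n136
theorem D279 : act 3 n136 = n279 := rfl
theorem F563 : act 1 n279 = n251 := d7_1 D279 (iv D251) (iv F312)
theorem F564 : act 6 n279 = n137 := d17_2 D136 D279 (iv D137) (iv D69) D68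
def n280 : Q := act 5 n136
theorem D280 : act 5 n136 = n280 := rfl
def n281 : Q := act 2 n137
theorem D281 : act 2 n137 = n281 := rfl
def n282 : Q := act 4 n137
theorem D282 : act 4 n137 = n282 := rfl
theorem F568 : act 1 n282 = n254 := d8_1 D282 (iv D254) (iv F313)
def n283 : Q := act 5 n137
theorem D283 : act 5 n137 = n283 := rfl
theorem F569 : act 1 n283 = n255 := d9_1 D283 (iv D255) (iv F313)
theorem F570 : act 3 n283 = n147 := d16_1 D283 (iv D147) (iv D73) (iv F165) D137
def n284 : Q := act 1 n138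
theorem D284 : act 1 n138 = n284 := rfl
theorem F571 : act 2 n284 = n256 := d6_2 D138 D284 (iv D256) (iv D126) (iv F166)
def n285 : Q := act 3 n138
theorem D285 : act 3 n138 = n285 := rfl
def n286 : Q := act 4 n138
theorem D286 : act 4 n138 = n286 := rfl
theorem F572 : act 2 n286 = n139 := d12_1 D286 (iv D139) D138
def n287 : Q := act 5 n138
theorem D287 : act 5 n138 = n287 := rfl
theorem F573 : act 2 n287 = n140 := d13_1 D287 (iv D140) D138
def n288 : Q := act 5 n139
theorem D288 : act 5 n139 = n288 := rfl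
theorem F576 : act 6 n288 = n272 := d21_1 D288 (iv D272) F306 D139
def n289 : Q := act 3 n140
theorem D289 : act 3 n140 = n289 := rfl
theorem F577 : act 0 n289 = n283 := d2_1 D289 F570 F325
theorem F578 : act 1 n289 = n261 := d7_1 D289 (iv D261) (iv F315)
theorem F579 : act 5 n289 = n141 := d16_2 D140 D289 (iv D141) (iv D71) D70
def n290 : Q := act 6 n140
theorem D290 : act 6 n140 = n290 := rfl
theorem F580 : act 1 n290 = n262 := d10_1 D290 (iv D262) (iv F315)
theorem F582 : act 5 n290 = n271 := d20_1 D290 F552 D288 F576 (iv D272) F306 D140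
def n291 : Q := act 2 n141
theorem D291 : act 2 n141 = n291 := rfl
theorem F583 : act 0 n291 = n281 := d1_1 D291 (iv D281) (iv F316)
def n292 : Q := act 4 n141
theorem D292 : act 4 n141 = n292 := rfl
theorem F584 : act 0 n292 = n282 := d3_1 D292 (iv D282) (iv F316)
theorem F585 : act 1 n292 = n264 := d8_1 D292 (iv D264) (iv F317)
theorem F586 : act 3 n292 = n282 := d15_1 D292 (iv D282) (iv D137) (iv F170) D141
def n293 : Q := act 6 n141
theorem D293 : act 6 n141 = n293 := rfl
theorem F587 : act 0 n293 = n279 := d5_1 D293 F564 (iv F316)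
theorem F588 : act 1 n293 = n265 := d10_1 D293 (iv D265) (iv F317)
theorem F589 : act 3 n293 = n144 := d17_1 D293 (iv D144) (iv D72) (iv F171) D141
def n294 : Q := act 1 n142
theorem D294 : act 1 n142 = n294 := rfl
def n295 : Q := act 3 n142
theorem D295 : act 3 n142 = n295 := rfl
theorem F590 : act 0 n295 = n275 := d2_1 D295 (iv D275) (iv F318)
def n296 : Q := act 4 n142
theorem D296 : act 4 n142 = n296 := rfl
theorem F591 : act 0 n296 = n276 := d3_1 D296 (iv D276) (iv F318)
theorem F592 : act 2 n296 = n143 := d12_1 D296 (iv D143) D142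
def n297 : Q := act 6 n142
theorem D297 : act 6 n142 = n297 := rfl
theorem F593 : act 0 n297 = n277 := d5_1 D297 (iv D277) (iv F318)
theorem F594 : act 2 n297 = n144 := d14_1 D297 (iv D144) D142
def n298 : Q := act 6 n143
theorem D298 : act 6 n143 = n298 := rfl
theorem F595 : act 0 n298 = n278 := d5_1 D298 (iv D278) (iv F319)
theorem F596 : act 4 n298 = n144 := d19_1 D298 (iv D144) D143
theorem F597 : act 5 n298 = n150 := d21_2 F327 D298 (iv D150) D149
def n299 : Q := act 5 n144
theorem D299 : act 5 n144 = n299 := rfl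
theorem F600 : act 6 n299 = n149 := d20_2 D144 D299 F327 D298 F597 (iv D150) F174
def n300 : Q := act 1 n145
theorem D300 : act 1 n145 = n300 := rfl
def n301 : Q := act 3 n145
theorem D301 : act 3 n145 = n301 := rfl
theorem F601 : act 0 n301 = n285 := d2_1 D301 (iv D285) (iv F322)
def n302 : Q := act 4 n145
theorem D302 : act 4 n145 = n302 := rfl
theorem F602 : act 0 n302 = n286 := d3_1 D302 (iv D286) (iv F322)
theorem F603 : act 2 n302 = n146 := d12_1 D302 (iv D146) D145
def n303 : Q := act 5 n145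
theorem D303 : act 5 n145 = n303 := rfl
theorem F604 : act 0 n303 = n287 := d4_1 D303 (iv D287) (iv F322)
theorem F605 : act 2 n303 = n147 := d13_1 D303 (iv D147) D145
def n304 : Q := act 5 n146
theorem D304 : act 5 n146 = n304 := rfl
theorem F608 : act 6 n304 = n154 := d21_1 D304 (iv D154) F176 D146
def n305 : Q := act 6 n147
theorem D305 : act 6 n147 = n305 := rfl
theorem F609 : act 0 n305 = n290 := d5_1 D305 (iv D290) (iv F325)
theorem F611 : act 5 n305 = n153 := d20_1 D305 F329 D304 F608 (iv D154) F176 D147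
def n306 : Q := act 1 n148
theorem D306 : act 1 n148 = n306 := rfl
theorem F612 : act 5 n306 = n294 := d9_2 (iv F326) D306 (iv D294)
def n307 : Q := act 3 n148
theorem D307 : act 3 n148 = n307 := rfl
def n308 : Q := act 4 n148
theorem D308 : act 4 n148 = n308 := rfl
theorem F613 : act 2 n308 = n149 := d12_1 D308 (iv D149) D148
theorem F614 : act 5 n308 = n296 := d18_2 (iv F326) D308 (iv D296)
def n309 : Q := act 6 n148
theorem D309 : act 6 n148 = n309 := rfl
theorem F615 : act 2 n309 = n150 := d14_1 D309 (iv D150) D148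
def n310 : Q := act 3 n150
theorem D310 : act 3 n150 = n310 := rfl
theorem F616 : act 6 n310 = n151 := d17_2 D150 D310 (iv D151) (iv D75) D74
def n311 : Q := act 2 n151
theorem D311 : act 2 n151 = n311 := rfl
def n312 : Q := act 4 n151
theorem D312 : act 4 n151 = n312 := rfl
def n313 : Q := act 5 n151
theorem D313 : act 5 n151 = n313 := rfl
theorem F617 : act 3 n313 = n183 := d16_1 D313 (iv D183) (iv D91) (iv F175) D151
def n314 : Q := act 1 n152
theorem D314 : act 1 n152 = n314 := rfl
theorem F618 : act 6 n314 = n300 := d10_2 (iv F328) D314 (iv D300)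
def n315 : Q := act 3 n152
theorem D315 : act 3 n152 = n315 := rfl
def n316 : Q := act 4 n152
theorem D316 : act 4 n152 = n316 := rfl
theorem F619 : act 2 n316 = n153 := d12_1 D316 (iv D153) D152
theorem F620 : act 6 n316 = n302 := d19_2 (iv F328) D316 (iv D302)
def n317 : Q := act 5 n152
theorem D317 : act 5 n152 = n317 := rfl
theorem F621 : act 2 n317 = n154 := d13_1 D317 (iv D154) D152
def n318 : Q := act 3 n154
theorem D318 : act 3 n154 = n318 := rfl
theorem F622 : act 5 n318 = n155 := d16_2 D154 D318 (iv D155) (iv D77) D76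
def n319 : Q := act 2 n155
theorem D319 : act 2 n155 = n319 := rfl
def n320 : Q := act 4 n155
theorem D320 : act 4 n155 = n320 := rfl
def n321 : Q := act 6 n155
theorem D321 : act 6 n155 = n321 := rfl
theorem F624 : act 3 n321 = n180 := d17_1 D321 (iv D180) (iv D90) (iv F178) D155
def n322 : Q := act 2 n156
theorem D322 : act 2 n156 = n322 := rfl
theorem F625 : act 0 n322 = n160 := d1_1 D322 (iv D160) (iv F330)
def n323 : Q := act 4 n156
theorem D323 : act 4 n156 = n323 := rfl
theorem F626 : act 0 n323 = n161 := d3_1 D323 (iv D161) (iv F330)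
theorem F627 : act 1 n323 = n323 := d8_1 D323 (iv D323) F331
def n324 : Q := act 6 n156
theorem D324 : act 6 n156 = n324 := rfl
theorem F628 : act 0 n324 = n162 := d5_1 D324 (iv D162) (iv F330)
theorem F629 : act 1 n324 = n324 := d10_1 D324 (iv D324) F331
def n325 : Q := act 3 n157
theorem D325 : act 3 n157 = n325 := rfl
theorem F630 : act 0 n325 = n163 := d2_1 D325 (iv D163) (iv F332)
theorem F631 : act 1 n325 = n325 := d7_1 D325 (iv D325) F333
def n326 : Q := act 2 n158
theorem D326 : act 2 n158 = n326 := rfl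
theorem F632 : act 0 n326 = n164 := d1_1 D326 (iv D164) (iv F336)
def n327 : Q := act 4 n158
theorem D327 : act 4 n158 = n327 := rfl
theorem F633 : act 0 n327 = n165 := d3_1 D327 (iv D165) (iv F336)
theorem F634 : act 1 n327 = n327 := d8_1 D327 (iv D327) F337
def n328 : Q := act 5 n158
theorem D328 : act 5 n158 = n328 := rfl
theorem F635 : act 0 n328 = n166 := d4_1 D328 (iv D166) (iv F336)
theorem F636 : act 1 n328 = n328 := d9_1 D328 (iv D328) F337
def n329 : Q := act 3 n159
theorem D329 : act 3 n159 = n329 := rfl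
theorem F637 : act 0 n329 = n167 := d2_1 D329 (iv D167) (iv F338)
theorem F638 : act 1 n329 = n329 := d7_1 D329 (iv D329) F339
def n330 : Q := act 1 n160
theorem D330 : act 1 n160 = n330 := rfl
def n331 : Q := act 3 n160
theorem D331 : act 3 n160 = n331 := rfl
def n332 : Q := act 4 n160
theorem D332 : act 4 n160 = n332 := rfl
theorem F639 : act 2 n332 = n161 := d12_1 D332 (iv D161) D160
def n333 : Q := act 6 n160
theorem D333 : act 6 n160 = n333 := rfl
theorem F640 : act 2 n333 = n162 := d14_1 D333 (iv D162) D160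
def n334 : Q := act 6 n161
theorem D334 : act 6 n161 = n334 := rfl
theorem F641 : act 4 n334 = n162 := d19_1 D334 (iv D162) D161
theorem F642 : act 5 n334 = n172 := d21_2 F353 D334 (iv D172) D171
def n335 : Q := act 3 n162
theorem D335 : act 3 n162 = n335 := rfl
theorem F643 : act 6 n335 = n163 := d17_2 D162 D335 (iv D163) (iv D81) D80
def n336 : Q := act 5 n162
theorem D336 : act 5 n162 = n336 := rfl
theorem F644 : act 1 n336 = n334 := d9_1 D336 F642 F354
theorem F645 : act 4 n336 = n172 := d18_1 D336 (iv F642) F641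
theorem F646 : act 6 n336 = n171 := d20_2 D162 D336 F353 D334 F642 (iv D172) F198
def n337 : Q := act 2 n163
theorem D337 : act 2 n163 = n337 := rfl
def n338 : Q := act 4 n163
theorem D338 : act 4 n163 = n338 := rfl
def n339 : Q := act 5 n163
theorem D339 : act 5 n163 = n339 := rfl
theorem F647 : act 3 n339 = n175 := d16_1 D339 (iv D175) (iv D87) (iv F186) D163
def n340 : Q := act 1 n164
theorem D340 : act 1 n164 = n340 := rfl
def n341 : Q := act 3 n164
theorem D341 : act 3 n164 = n341 := rfl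
def n342 : Q := act 4 n164
theorem D342 : act 4 n164 = n342 := rfl
theorem F648 : act 2 n342 = n165 := d12_1 D342 (iv D165) D164
def n343 : Q := act 5 n164
theorem D343 : act 5 n164 = n343 := rfl
theorem F649 : act 2 n343 = n166 := d13_1 D343 (iv D166) D164
def n344 : Q := act 5 n165
theorem D344 : act 5 n165 = n344 := rfl
theorem F650 : act 4 n344 = n166 := d18_1 D344 (iv D166) D165
theorem F651 : act 6 n344 = n175 := d21_1 D344 (iv D175) F200 D165
def n345 : Q := act 3 n166
theorem D345 : act 3 n166 = n345 := rfl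
theorem F652 : act 1 n345 = n339 := d7_1 D345 F647 F359
theorem F653 : act 5 n345 = n167 := d16_2 D166 D345 (iv D167) (iv D83) D82
def n346 : Q := act 6 n166
theorem D346 : act 6 n166 = n346 := rfl
theorem F654 : act 1 n346 = n344 := d10_1 D346 F651 F359
theorem F655 : act 4 n346 = n175 := d19_1 D346 (iv F651) F650
theorem F656 : act 5 n346 = n174 := d20_1 D346 F358 D344 F651 (iv D175) F200 D166
def n347 : Q := act 2 n167
theorem D347 : act 2 n167 = n347 := rfl
def n348 : Q := act 4 n167
theorem D348 : act 4 n167 = n348 := rfl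
theorem F657 : act 1 n348 = n338 := d8_1 D348 (iv D338) (iv F343)
theorem F658 : act 3 n348 = n338 := d15_1 D348 (iv D338) (iv D163) (iv F189) D167
def n349 : Q := act 6 n167
theorem D349 : act 6 n167 = n349 := rfl
theorem F659 : act 1 n349 = n335 := d10_1 D349 F643 (iv F343)
theorem F660 : act 3 n349 = n172 := d17_1 D349 (iv D172) (iv D86) (iv F190) D167
def n350 : Q := act 2 n168
theorem D350 : act 2 n168 = n350 := rfl
theorem F661 : act 0 n350 = n170 := d1_1 D350 (iv D170) (iv F344)
theorem F662 : act 5 n350 = n322 := d13_2 (iv F346) D350 (iv D322)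
def n351 : Q := act 4 n168
theorem D351 : act 4 n168 = n351 := rfl
theorem F663 : act 0 n351 = n171 := d3_1 D351 (iv D171) (iv F344)
theorem F664 : act 1 n351 = n351 := d8_1 D351 (iv D351) F345
theorem F665 : act 3 n351 = n323 := d15_1 D351 (iv D323) (iv D156) (iv F193) D168
theorem F666 : act 5 n351 = n323 := d18_2 (iv F346) D351 (iv D323)
def n352 : Q := act 6 n168
theorem D352 : act 6 n168 = n352 := rfl
theorem F667 : act 0 n352 = n172 := d5_1 D352 (iv D172) (iv F344)
theorem F668 : act 1 n352 = n352 := d10_1 D352 (iv D352) F345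
def n353 : Q := act 2 n169
theorem D353 : act 2 n169 = n353 := rfl
theorem F669 : act 0 n353 = n173 := d1_1 D353 (iv D173) (iv F347)
theorem F670 : act 6 n353 = n326 := d14_2 (iv F349) D353 (iv D326)
def n354 : Q := act 4 n169
theorem D354 : act 4 n169 = n354 := rfl
theorem F671 : act 0 n354 = n174 := d3_1 D354 (iv D174) (iv F347)
theorem F672 : act 1 n354 = n354 := d8_1 D354 (iv D354) F348
theorem F673 : act 3 n354 = n327 := d15_1 D354 (iv D327) (iv D158) (iv F196) D169
theorem F674 : act 6 n354 = n327 := d19_2 (iv F349) D354 (iv D327)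
def n355 : Q := act 5 n169
theorem D355 : act 5 n169 = n355 := rfl
theorem F675 : act 0 n355 = n175 := d4_1 D355 (iv D175) (iv F347)
theorem F676 : act 1 n355 = n355 := d9_1 D355 (iv D355) F348
def n356 : Q := act 1 n170
theorem D356 : act 1 n170 = n356 := rfl
theorem F677 : act 2 n356 = n330 := d6_2 D170 D356 (iv D330) (iv D160) (iv F197)
theorem F678 : act 5 n356 = n330 := d9_2 (iv F350) D356 (iv D330)
def n357 : Q := act 3 n170
theorem D357 : act 3 n170 = n357 := rfl
def n358 : Q := act 4 n170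
theorem D358 : act 4 n170 = n358 := rfl
theorem F679 : act 2 n358 = n171 := d12_1 D358 (iv D171) D170
theorem F680 : act 5 n358 = n332 := d18_2 (iv F350) D358 (iv D332)
def n359 : Q := act 6 n170
theorem D359 : act 6 n170 = n359 := rfl
theorem F681 : act 2 n359 = n172 := d14_1 D359 (iv D172) D170
def n360 : Q := act 1 n173
theorem D360 : act 1 n173 = n360 := rfl
theorem F682 : act 2 n360 = n340 := d6_2 D173 D360 (iv D340) (iv D164) (iv F199)
theorem F683 : act 6 n360 = n340 := d10_2 (iv F355) D360 (iv D340)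
def n361 : Q := act 3 n173
theorem D361 : act 3 n173 = n361 := rfl
def n362 : Q := act 4 n173
theorem D362 : act 4 n173 = n362 := rfl
theorem F684 : act 2 n362 = n174 := d12_1 D362 (iv D174) D173
theorem F685 : act 6 n362 = n342 := d19_2 (iv F355) D362 (iv D342)
def n363 : Q := act 5 n173
theorem D363 : act 5 n173 = n363 := rfl
theorem F686 : act 2 n363 = n175 := d13_1 D363 (iv D175) D173
def n364 : Q := act 2 n176
theorem D364 : act 2 n176 = n364 := rfl
theorem F687 : act 0 n364 = n178 := d1_1 D364 (iv D178) (iv F360)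
theorem F688 : act 5 n364 = n178 := d13_2 (iv F361) D364 (iv D178)
def n365 : Q := act 4 n176
theorem D365 : act 4 n176 = n365 := rfl
theorem F689 : act 0 n365 = n179 := d3_1 D365 (iv D179) (iv F360)
theorem F690 : act 3 n365 = n267 := d15_1 D365 (iv D267) (iv D130) (iv F203) D176
theorem F691 : act 5 n365 = n179 := d18_2 (iv F361) D365 (iv D179)
def n366 : Q := act 6 n176
theorem D366 : act 6 n176 = n366 := rfl
theorem F692 : act 0 n366 = n180 := d5_1 D366 (iv D180) (iv F360)
def n367 : Q := act 2 n177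
theorem D367 : act 2 n177 = n367 := rfl
theorem F693 : act 0 n367 = n181 := d1_1 D367 (iv D181) (iv F362)
theorem F694 : act 6 n367 = n181 := d14_2 (iv F363) D367 (iv D181)
def n368 : Q := act 4 n177
theorem D368 : act 4 n177 = n368 := rfl
theorem F695 : act 0 n368 = n182 := d3_1 D368 (iv D182) (iv F362)
theorem F696 : act 3 n368 = n271 := d15_1 D368 (iv D271) (iv D132) (iv F206) D177
theorem F697 : act 6 n368 = n182 := d19_2 (iv F363) D368 (iv D182)
def n369 : Q := act 5 n177
theorem D369 : act 5 n177 = n369 := rfl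
theorem F698 : act 0 n369 = n183 := d4_1 D369 (iv D183) (iv F362)
def n370 : Q := act 1 n178
theorem D370 : act 1 n178 = n370 := rfl
def n371 : Q := act 3 n178
theorem D371 : act 3 n178 = n371 := rfl
def n372 : Q := act 4 n178
theorem D372 : act 4 n178 = n372 := rfl
theorem F699 : act 2 n372 = n179 := d12_1 D372 (iv D179) D178
def n373 : Q := act 6 n178
theorem D373 : act 6 n178 = n373 := rfl
theorem F700 : act 2 n373 = n180 := d14_1 D373 (iv D180) D178
def n374 : Q := act 6 n179
theorem D374 : act 6 n179 = n374 := rfl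
theorem F701 : act 4 n374 = n180 := d19_1 D374 (iv D180) D179
theorem F702 : act 5 n374 = n366 := d21_2 F691 D374 (iv D366) D365
def n375 : Q := act 5 n180
theorem D375 : act 5 n180 = n375 := rfl
theorem F703 : act 0 n375 = n374 := d4_1 D375 F702 F692
theorem F704 : act 4 n375 = n366 := d18_1 D375 (iv F702) F701
theorem F705 : act 6 n375 = n365 := d20_2 D180 D375 F691 D374 F702 (iv D366) F361
def n376 : Q := act 1 n181
theorem D376 : act 1 n181 = n376 := rfl
def n377 : Q := act 3 n181
theorem D377 : act 3 n181 = n377 := rfl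
def n378 : Q := act 4 n181
theorem D378 : act 4 n181 = n378 := rfl
theorem F706 : act 2 n378 = n182 := d12_1 D378 (iv D182) D181
def n379 : Q := act 5 n181
theorem D379 : act 5 n181 = n379 := rfl
theorem F707 : act 2 n379 = n183 := d13_1 D379 (iv D183) D181
def n380 : Q := act 5 n182
theorem D380 : act 5 n182 = n380 := rfl
theorem F708 : act 4 n380 = n183 := d18_1 D380 (iv D183) D182
theorem F709 : act 6 n380 = n369 := d21_1 D380 (iv D369) F363 D182
def n381 : Q := act 6 n183
theorem D381 : act 6 n183 = n381 := rfl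
theorem F710 : act 0 n381 = n380 := d5_1 D381 F709 F698
theorem F711 : act 4 n381 = n369 := d19_1 D381 (iv F709) F708
theorem F712 : act 5 n381 = n368 := d20_1 D381 F697 D380 F709 (iv D369) F363 D183
def n382 : Q := act 2 n184
theorem D382 : act 2 n184 = n382 := rfl
theorem F713 : act 0 n382 = n382 := d1_1 D382 (iv D382) F366
theorem F714 : act 5 n382 = n186 := d13_2 (iv F368) D382 (iv D186)
def n383 : Q := act 4 n184
theorem D383 : act 4 n184 = n383 := rfl
theorem F715 : act 0 n383 = n383 := d3_1 D383 (iv D383) F366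
theorem F716 : act 1 n383 = n365 := d8_1 D383 (iv D365) (iv F367)
theorem F717 : act 3 n383 = n239 := d15_1 D383 (iv D239) (iv D118) (iv F210) D184
theorem F718 : act 5 n383 = n187 := d18_2 (iv F368) D383 (iv D187)
def n384 : Q := act 6 n184
theorem D384 : act 6 n184 = n384 := rfl
theorem F719 : act 0 n384 = n384 := d5_1 D384 (iv D384) F366
theorem F720 : act 1 n384 = n366 := d10_1 D384 (iv D366) (iv F367)
def n385 : Q := act 2 n185
theorem D385 : act 2 n185 = n385 := rfl
theorem F721 : act 0 n385 = n385 := d1_1 D385 (iv D385) F369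
theorem F722 : act 6 n385 = n190 := d14_2 (iv F371) D385 (iv D190)
def n386 : Q := act 4 n185
theorem D386 : act 4 n185 = n386 := rfl
theorem F723 : act 0 n386 = n386 := d3_1 D386 (iv D386) F369
theorem F724 : act 1 n386 = n368 := d8_1 D386 (iv D368) (iv F370)
theorem F725 : act 3 n386 = n243 := d15_1 D386 (iv D243) (iv D120) (iv F214) D185
theorem F726 : act 6 n386 = n191 := d19_2 (iv F371) D386 (iv D191)
def n387 : Q := act 5 n185
theorem D387 : act 5 n185 = n387 := rfl
def n388 : Q := act 1 n186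
theorem D388 : act 1 n186 = n388 := rfl
theorem F729 : act 2 n388 = n370 := d6_2 D186 D388 (iv D370) (iv D178) (iv F216)
def n389 : Q := act 3 n186
theorem D389 : act 3 n186 = n389 := rfl
theorem F730 : act 0 n389 = n389 := d2_1 D389 (iv D389) F372
def n390 : Q := act 4 n186
theorem D390 : act 4 n186 = n390 := rfl
theorem F731 : act 0 n390 = n390 := d3_1 D390 (iv D390) F372
theorem F732 : act 2 n390 = n187 := d12_1 D390 (iv D187) D186
def n391 : Q := act 6 n186
theorem D391 : act 6 n186 = n391 := rfl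
theorem F733 : act 0 n391 = n391 := d5_1 D391 (iv D391) F372
theorem F734 : act 2 n391 = n188 := d14_1 D391 (iv D188) D186
def n392 : Q := act 6 n187
theorem D392 : act 6 n187 = n392 := rfl
theorem F735 : act 0 n392 = n392 := d5_1 D392 (iv D392) F373
theorem F736 : act 1 n392 = n374 := d10_1 D392 (iv D374) (iv F374)
theorem F737 : act 4 n392 = n188 := d19_1 D392 (iv D188) D187
theorem F738 : act 5 n392 = n384 := d21_2 F718 D392 (iv D384) D383
def n393 : Q := act 3 n188
theorem D393 : act 3 n188 = n393 := rfl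
theorem F739 : act 0 n393 = n393 := d2_1 D393 (iv D393) F375
theorem F740 : act 1 n393 = n321 := d7_1 D393 F624 (iv F376)
theorem F741 : act 6 n393 = n189 := d17_2 D188 D393 (iv D189) (iv D95) D94
def n394 : Q := act 5 n188
theorem D394 : act 5 n188 = n394 := rfl
theorem F742 : act 0 n394 = n394 := d4_1 D394 (iv D394) F375
theorem F743 : act 1 n394 = n375 := d9_1 D394 (iv D375) (iv F376)
theorem F744 : act 4 n394 = n384 := d18_1 D394 (iv F738) F737
theorem F745 : act 6 n394 = n383 := d20_2 D188 D394 F718 D392 F738 (iv D384) F368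
def n395 : Q := act 2 n189
theorem D395 : act 2 n189 = n395 := rfl
theorem F746 : act 0 n395 = n395 := d1_1 D395 (iv D395) F377
def n396 : Q := act 4 n189
theorem D396 : act 4 n189 = n396 := rfl
theorem F748 : act 1 n396 = n320 := d8_1 D396 (iv D320) (iv F378)
def n397 : Q := act 5 n189
theorem D397 : act 5 n189 = n397 := rfl
theorem F749 : act 0 n397 = n397 := d4_1 D397 (iv D397) F377
theorem F750 : act 1 n397 = n318 := d9_1 D397 F622 (iv F378)
theorem F751 : act 3 n397 = n199 := d16_1 D397 (iv D199) (iv D99) (iv F219) D189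
def n398 : Q := act 1 n190
theorem D398 : act 1 n190 = n398 := rfl
theorem F752 : act 2 n398 = n376 := d6_2 D190 D398 (iv D376) (iv D181) (iv F221)
def n399 : Q := act 3 n190
theorem D399 : act 3 n190 = n399 := rfl
theorem F753 : act 0 n399 = n399 := d2_1 D399 (iv D399) F379
def n400 : Q := act 4 n190
theorem D400 : act 4 n190 = n400 := rfl
theorem F755 : act 2 n400 = n191 := d12_1 D400 (iv D191) D190
def n401 : Q := act 5 n190
theorem D401 : act 5 n190 = n401 := rfl
theorem F756 : act 0 n401 = n401 := d4_1 D401 (iv D401) F379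
theorem F757 : act 2 n401 = n192 := d13_1 D401 (iv D192) D190
def n402 : Q := act 5 n191
theorem D402 : act 5 n191 = n402 := rfl
theorem F759 : act 1 n402 = n380 := d9_1 D402 (iv D380) (iv F381)
theorem F760 : act 4 n402 = n192 := d18_1 D402 (iv D192) D191
theorem F761 : act 6 n402 = n387 := d21_1 D402 (iv D387) F371 D191
def n403 : Q := act 3 n192
theorem D403 : act 3 n192 = n403 := rfl
theorem F762 : act 0 n403 = n403 := d2_1 D403 (iv D403) F382
theorem F763 : act 1 n403 = n313 := d7_1 D403 F617 (iv F383)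
theorem F764 : act 5 n403 = n193 := d16_2 D192 D403 (iv D193) (iv D97) D96
def n404 : Q := act 6 n192
theorem D404 : act 6 n192 = n404 := rfl
theorem F765 : act 0 n404 = n404 := d5_1 D404 (iv D404) F382
theorem F766 : act 1 n404 = n381 := d10_1 D404 (iv D381) (iv F383)
theorem F767 : act 4 n404 = n387 := d19_1 D404 (iv F761) F760
theorem F768 : act 5 n404 = n386 := d20_1 D404 F726 D402 F761 (iv D387) F371 D192
def n405 : Q := act 2 n193
theorem D405 : act 2 n193 = n405 := rfl
theorem F769 : act 0 n405 = n405 := d1_1 D405 (iv D405) F384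
def n406 : Q := act 4 n193
theorem D406 : act 4 n193 = n406 := rfl
theorem F771 : act 1 n406 = n312 := d8_1 D406 (iv D312) (iv F385)
theorem F772 : act 3 n406 = n396 := d15_1 D406 (iv D396) (iv D189) (iv F225) D193
def n407 : Q := act 6 n193
theorem D407 : act 6 n193 = n407 := rfl
theorem F775 : act 3 n407 = n196 := d17_1 D407 (iv D196) (iv D98) (iv F226) D193
def n408 : Q := act 1 n194
theorem D408 : act 1 n194 = n408 := rfl
theorem F776 : act 2 n408 = n306 := d6_2 D194 D408 (iv D306) (iv D148) (iv F228)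
def n409 : Q := act 3 n194
theorem D409 : act 3 n194 = n409 := rfl
theorem F777 : act 0 n409 = n409 := d2_1 D409 (iv D409) F386
def n410 : Q := act 4 n194
theorem D410 : act 4 n194 = n410 := rfl
theorem F778 : act 0 n410 = n410 := d3_1 D410 (iv D410) F386
theorem F779 : act 2 n410 = n195 := d12_1 D410 (iv D195) D194
def n411 : Q := act 6 n194
theorem D411 : act 6 n194 = n411 := rfl
theorem F781 : act 2 n411 = n196 := d14_1 D411 (iv D196) D194
def n412 : Q := act 6 n195
theorem D412 : act 6 n195 = n412 := rfl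
theorem F784 : act 4 n412 = n196 := d19_1 D412 (iv D196) D195
theorem F785 : act 5 n412 = n202 := d21_2 F403 D412 (iv D202) D201
def n413 : Q := act 5 n196
theorem D413 : act 5 n196 = n413 := rfl
theorem F786 : act 0 n413 = n413 := d4_1 D413 (iv D413) F390
theorem F787 : act 1 n413 = n298 := d9_1 D413 F597 (iv F391)
theorem F788 : act 4 n413 = n202 := d18_1 D413 (iv F785) F784
theorem F789 : act 6 n413 = n201 := d20_2 D196 D413 F403 D412 F785 (iv D202) F233
def n414 : Q := act 1 n197
theorem D414 : act 1 n197 = n414 := rfl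
theorem F790 : act 2 n414 = n314 := d6_2 D197 D414 (iv D314) (iv D152) (iv F230)
def n415 : Q := act 3 n197
theorem D415 : act 3 n197 = n415 := rfl
theorem F791 : act 0 n415 = n415 := d2_1 D415 (iv D415) F392
def n416 : Q := act 4 n197
theorem D416 : act 4 n197 = n416 := rfl
theorem F792 : act 0 n416 = n416 := d3_1 D416 (iv D416) F392
theorem F793 : act 2 n416 = n198 := d12_1 D416 (iv D198) D197
def n417 : Q := act 5 n197
theorem D417 : act 5 n197 = n417 := rfl
theorem F795 : act 2 n417 = n199 := d13_1 D417 (iv D199) D197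
def n418 : Q := act 5 n198
theorem D418 : act 5 n198 = n418 := rfl
theorem F797 : act 1 n418 = n305 := d9_1 D418 F611 (iv F394)
theorem F798 : act 4 n418 = n199 := d18_1 D418 (iv D199) D198
theorem F799 : act 6 n418 = n205 := d21_1 D418 (iv D205) F236 D198
def n419 : Q := act 6 n199
theorem D419 : act 6 n199 = n419 := rfl
theorem F800 : act 0 n419 = n419 := d5_1 D419 (iv D419) F396
theorem F802 : act 4 n419 = n205 := d19_1 D419 (iv F799) F798
theorem F803 : act 5 n419 = n204 := d20_1 D419 F411 D418 F799 (iv D205) F236 D199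
def n420 : Q := act 1 n200
theorem D420 : act 1 n200 = n420 := rfl
theorem F804 : act 2 n420 = n294 := d6_2 D200 D420 (iv D294) (iv D142) (iv F232)
theorem F805 : act 5 n420 = n408 := d9_2 (iv F399) D420 (iv D408)
def n421 : Q := act 3 n200
theorem D421 : act 3 n200 = n421 := rfl
theorem F806 : act 0 n421 = n421 := d2_1 D421 (iv D421) F398
def n422 : Q := act 4 n200
theorem D422 : act 4 n200 = n422 := rfl
theorem F807 : act 0 n422 = n422 := d3_1 D422 (iv D422) F398
theorem F808 : act 2 n422 = n201 := d12_1 D422 (iv D201) D200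
theorem F809 : act 5 n422 = n410 := d18_2 (iv F399) D422 (iv D410)
def n423 : Q := act 6 n200
theorem D423 : act 6 n200 = n423 := rfl
theorem F811 : act 2 n423 = n202 := d14_1 D423 (iv D202) D200
def n424 : Q := act 1 n203
theorem D424 : act 1 n203 = n424 := rfl
theorem F812 : act 2 n424 = n300 := d6_2 D203 D424 (iv D300) (iv D145) (iv F235)
theorem F813 : act 6 n424 = n414 := d10_2 (iv F407) D424 (iv D414)
def n425 : Q := act 3 n203
theorem D425 : act 3 n203 = n425 := rfl
theorem F814 : act 0 n425 = n425 := d2_1 D425 (iv D425) F406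
def n426 : Q := act 4 n203
theorem D426 : act 4 n203 = n426 := rfl
theorem F815 : act 0 n426 = n426 := d3_1 D426 (iv D426) F406
theorem F816 : act 2 n426 = n204 := d12_1 D426 (iv D204) D203
theorem F817 : act 6 n426 = n416 := d19_2 (iv F407) D426 (iv D416)
def n427 : Q := act 5 n203
theorem D427 : act 5 n203 = n427 := rfl
theorem F819 : act 2 n427 = n205 := d13_1 D427 (iv D205) D203
def n428 : Q := act 1 n206
theorem D428 : act 1 n206 = n428 := rfl
theorem F820 : act 2 n428 = n428 := d6_2 D206 D428 (iv D428) (iv D206) F238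
theorem F821 : act 4 n428 = n428 := d8_2 F415 D428 (iv D428)
theorem F822 : act 5 n428 = n428 := d9_2 F416 D428 (iv D428)
theorem F823 : act 0 n428 = n428 := d22_3 F414 D428 F820 (iv D428) (iv D206) F237 F238 D206 F415
def n429 : Q := act 3 n206
theorem D429 : act 3 n206 = n429 := rfl
theorem F824 : act 0 n429 = n429 := d2_1 D429 (iv D429) F414
def n430 : Q := act 6 n206
theorem D430 : act 6 n206 = n430 := rfl
theorem F826 : act 2 n430 = n207 := d14_1 D430 (iv D207) D206
theorem F828 : act 5 n430 = n430 := d21_2 F416 D430 (iv D430) F415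
def n431 : Q := act 1 n208
theorem D431 : act 1 n208 = n431 := rfl
theorem F829 : act 2 n431 = n431 := d6_2 D208 D431 (iv D431) (iv D208) F242
theorem F830 : act 6 n431 = n431 := d10_2 F422 D431 (iv D431)
def n432 : Q := act 3 n208
theorem D432 : act 3 n208 = n432 := rfl
theorem F831 : act 0 n432 = n432 := d2_1 D432 (iv D432) F421
def n433 : Q := act 4 n208
theorem D433 : act 4 n208 = n433 := rfl
theorem F832 : act 0 n433 = n433 := d3_1 D433 (iv D433) F421
theorem F833 : act 2 n433 = n209 := d12_1 D433 (iv D209) D208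
theorem F834 : act 6 n433 = n433 := d19_2 F422 D433 (iv D433)
def n434 : Q := act 5 n208
theorem D434 : act 5 n208 = n434 := rfl
theorem F836 : act 2 n434 = n210 := d13_1 D434 (iv D210) D208
def n435 : Q := act 5 n209
theorem D435 : act 5 n209 = n435 := rfl
theorem F840 : act 6 n435 = n210 := d21_1 D435 (iv D210) F243 D209
def n436 : Q := act 0 n211
theorem D436 : act 0 n211 = n436 := rfl
theorem F841 : act 6 n436 = n436 := d5_2 F429 D436 (iv D436)
theorem F842 : act 1 n436 = n213 := d22_4 F251 D216 F439 D436 F432 F246 (iv F254) (iv F443) (iv D218)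
theorem F843 : act 4 n211 = n436 := d22_9 (iv D436) (iv D211) (iv D104) F128 (iv F131) D107 F251 D216 F439
def n437 : Q := act 3 n211
theorem D437 : act 3 n211 = n437 := rfl
theorem F844 : act 1 n437 = n212 := d7_1 D437 (iv D212) D211
def n438 : Q := act 5 n211
theorem D438 : act 5 n211 = n438 := rfl
theorem F845 : act 1 n438 = n214 := d9_1 D438 (iv D214) D211
def n439 : Q := act 2 n212
theorem D439 : act 2 n212 = n439 := rfl
theorem F846 : act 0 n439 = n439 := d1_1 D439 (iv D439) F430
theorem F847 : act 3 n439 = n439 := d23_1 D439 (iv D439) (iv D212) (iv D104) (iv D54) F41 D54 D104 D212 F430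
def n440 : Q := act 4 n212
theorem D440 : act 4 n212 = n440 := rfl
theorem F848 : act 0 n440 = n440 := d3_1 D440 (iv D440) F430
def n441 : Q := act 5 n212
theorem D441 : act 5 n212 = n441 := rfl
theorem F849 : act 0 n441 = n441 := d4_1 D441 (iv D441) F430
def n442 : Q := act 6 n212
theorem D442 : act 6 n212 = n442 := rfl
def n443 : Q := act 3 n213
theorem D443 : act 3 n213 = n443 := rfl
def n444 : Q := act 5 n213
theorem D444 : act 5 n213 = n444 := rfl
theorem F853 : act 0 n444 = n444 := d4_1 D444 (iv D444) F431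
theorem F854 : act 2 n444 = n215 := d13_1 D444 (iv D215) (iv F432)
theorem F855 : act 4 n444 = n214 := d18_1 D444 (iv D214) D213
theorem F856 : act 6 n444 = n214 := d21_1 D444 (iv D214) F245 D213
theorem F857 : act 3 n214 = n444 := d24_2 F245 D214 F854 F438 (iv D106) (iv D54) F41 (iv D21) F5 F3 F2 D21 F43 D54 D104
theorem E7 : n443 = n441 := (c16_4 D214 F857 (iv D444) D443 (iv D441) (iv D212))
theorem F858 : act 3 n441 = n213 := (sb E7 (iv D443))
def n445 : Q := act 3 n215
theorem D445 : act 3 n215 = n445 := rfl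
theorem F859 : act 0 n445 = n445 := d2_1 D445 (iv D445) F436
theorem F860 : act 4 n445 = n445 := d15_2 (iv F437) D445 (iv D445) F437 F250
theorem F861 : act 5 n445 = n445 := d16_2 D215 D445 (iv D445) (iv D215) F247
theorem F862 : act 6 n445 = n445 := d17_2 (iv F438) D445 (iv D445) F438 F250
theorem F863 : act 2 n445 = n445 := d23_2 F854 D445 (iv D445) (iv F854) (iv F857) F435 F250 (iv F435) F857 F853
theorem E8 : n442 = n439 := ((c24_12 F248 D215 D445 F863 F862 F861 (iv D445) (iv F854) F856 (iv D214) D212 D439 (iv D442) D441 F858 F432)).symm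
theorem F864 : act 6 n439 = n212 := (sb E8 (iv D442))
def n446 : Q := act 0 n216
theorem D446 : act 0 n216 = n446 := rfl
theorem F865 : act 2 n446 = n436 := d1_2 (iv F439) D446 (iv D436)
theorem F866 : act 6 n446 = n446 := d5_2 F440 D446 (iv D446)
theorem F867 : act 1 n446 = n218 := d22_4 F244 D211 (iv F439) D446 F443 F253 F254 (iv F432) (iv D213)
theorem F868 : act 4 n216 = n446 := d22_9 (iv D446) (iv D216) (iv D107) F130 F131 D104 F244 D211 (iv F439)
def n447 : Q := act 3 n216
theorem D447 : act 3 n216 = n447 := rfl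
theorem F869 : act 1 n447 = n217 := d7_1 D447 (iv D217) D216
def n448 : Q := act 5 n216
theorem D448 : act 5 n216 = n448 := rfl
theorem F870 : act 1 n448 = n219 := d9_1 D448 (iv D219) D216
theorem F871 : act 2 n448 = n438 := d13_1 D448 (iv D438) (iv F439)
def n449 : Q := act 2 n217
theorem D449 : act 2 n217 = n449 := rfl
def n450 : Q := act 4 n217
theorem D450 : act 4 n217 = n450 := rfl
theorem F873 : act 0 n450 = n450 := d3_1 D450 (iv D450) F441
def n451 : Q := act 5 n217
theorem D451 : act 5 n217 = n451 := rfl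
def n452 : Q := act 6 n217
theorem D452 : act 6 n217 = n452 := rfl
theorem F875 : act 0 n452 = n452 := d5_1 D452 (iv D452) F441
theorem F876 : act 3 n452 = n452 := d17_1 D452 (iv D452) (iv D217) F252 D217
def n453 : Q := act 3 n218
theorem D453 : act 3 n218 = n453 := rfl
theorem F877 : act 0 n453 = n453 := d2_1 D453 (iv D453) F442
def n454 : Q := act 5 n218
theorem D454 : act 5 n218 = n454 := rfl
theorem F878 : act 0 n454 = n454 := d4_1 D454 (iv D454) F442
theorem F879 : act 2 n454 = n220 := d13_1 D454 (iv D220) (iv F443)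
theorem F880 : act 4 n454 = n219 := d18_1 D454 (iv D219) D218
theorem F881 : act 6 n454 = n219 := d21_1 D454 (iv D219) F252 D218
def n455 : Q := act 3 n219
theorem D455 : act 3 n219 = n455 := rfl
theorem F882 : act 0 n455 = n455 := d2_1 D455 (iv D455) F445
def n456 : Q := act 3 n220
theorem D456 : act 3 n220 = n456 := rfl
theorem F883 : act 0 n456 = n456 := d2_1 D456 (iv D456) F447
theorem F884 : act 1 n456 = n445 := d7_1 D456 (iv D445) (iv F448)
theorem F885 : act 4 n456 = n456 := d15_2 (iv F449) D456 (iv D456) F449 F259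
theorem F886 : act 5 n456 = n456 := d16_2 D220 D456 (iv D456) (iv D220) F255
theorem F887 : act 6 n456 = n456 := d17_2 (iv F450) D456 (iv D456) F450 F259
def n457 : Q := act 0 n221
theorem D457 : act 0 n221 = n457 := rfl
theorem F889 : act 1 n457 = n223 := d22_4 F260 D221 F451 D457 F454 F261 F262 (iv F454) (iv D223)
def n458 : Q := act 3 n221
theorem D458 : act 3 n221 = n458 := rfl
theorem F891 : act 1 n458 = n222 := d7_1 D458 (iv D222) D221
def n460 : Q := act 2 n222
theorem D460 : act 2 n222 = n460 := rfl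
theorem F894 : act 0 n460 = n460 := d1_1 D460 (iv D460) F452
theorem F895 : act 3 n460 = n449 := d23_1 D460 (iv D449) (iv D217) (iv D107) (iv D55) (iv F50) D56 D110 D222 F452
def n461 : Q := act 4 n222
theorem D461 : act 4 n222 = n461 := rfl
theorem F896 : act 0 n461 = n461 := d3_1 D461 (iv D461) F452
def n462 : Q := act 5 n222
theorem D462 : act 5 n222 = n462 := rfl
def n463 : Q := act 6 n222
theorem D463 : act 6 n222 = n463 := rfl
def n464 : Q := act 3 n223
theorem D464 : act 3 n223 = n464 := rfl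
theorem F899 : act 0 n464 = n464 := d2_1 D464 (iv D464) F453
def n465 : Q := act 5 n223
theorem D465 : act 5 n223 = n465 := rfl
theorem F903 : act 6 n465 = n233 := d21_1 D465 (iv D233) F271 D223
def n466 : Q := act 3 n224
theorem D466 : act 3 n224 = n466 := rfl
def n467 : Q := act 6 n224
theorem D467 : act 6 n224 = n467 := rfl
theorem F906 : act 2 n467 = n226 := d14_1 D467 (iv D226) (iv F456)
theorem F908 : act 5 n467 = n232 := d20_1 D467 F478 D465 F903 (iv D233) F271 D224
theorem F909 : act 3 n233 = n467 := d24_2 (iv F271) D233 F906 (iv D226) (iv D112) (iv D56) F50 (iv D22) F9 F7 D2 D23 F52 D56 D110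
def n469 : Q := act 3 n226
theorem D469 : act 3 n226 = n469 := rfl
theorem F914 : act 0 n469 = n469 := d2_1 D469 (iv D469) F461
def n470 : Q := act 1 n227
theorem D470 : act 1 n227 = n470 := rfl
theorem F917 : act 2 n470 = n470 := d6_2 D227 D470 (iv D470) (iv D227) F268
theorem F918 : act 6 n470 = n470 := d10_2 F466 D470 (iv D470)
def n471 : Q := act 3 n227
theorem D471 : act 3 n227 = n471 := rfl
def n472 : Q := act 4 n227
theorem D472 : act 4 n227 = n472 := rfl
theorem F920 : act 0 n472 = n472 := d3_1 D472 (iv D472) F465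
theorem F921 : act 2 n472 = n228 := d12_1 D472 (iv D228) D227
theorem F922 : act 6 n472 = n472 := d19_2 F466 D472 (iv D472)
def n473 : Q := act 5 n227
theorem D473 : act 5 n227 = n473 := rfl
theorem F924 : act 2 n473 = n229 := d13_1 D473 (iv D229) D227
def n474 : Q := act 5 n228
theorem D474 : act 5 n228 = n474 := rfl
theorem F927 : act 4 n474 = n229 := d18_1 D474 (iv D229) D228
theorem F928 : act 6 n474 = n229 := d21_1 D474 (iv D229) F269 D228
def n475 : Q := act 0 n230
theorem D475 : act 0 n230 = n475 := rfl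
theorem F931 : act 1 n475 = n232 := d22_4 F270 D230 F473 D475 F477 F272 F273 (iv F477) (iv D232)
def n476 : Q := act 3 n230
theorem D476 : act 3 n230 = n476 := rfl
theorem F933 : act 1 n476 = n231 := d7_1 D476 (iv D231) D230
def n478 : Q := act 2 n231
theorem D478 : act 2 n231 = n478 := rfl
theorem F936 : act 0 n478 = n478 := d1_1 D478 (iv D478) F475
def n479 : Q := act 4 n231
theorem D479 : act 4 n231 = n479 := rfl
def n480 : Q := act 5 n231
theorem D480 : act 5 n231 = n480 := rfl
theorem F938 : act 0 n480 = n480 := d4_1 D480 (iv D480) F475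
theorem F939 : act 3 n480 = n232 := d16_1 D480 (iv F908) (iv F909) (iv D233) D231
def n481 : Q := act 6 n231
theorem D481 : act 6 n231 = n481 := rfl
theorem F941 : act 3 n481 = n463 := d17_1 D481 (iv D463) (iv D222) (iv F271) D231
def n482 : Q := act 2 n234
theorem D482 : act 2 n234 = n482 := rfl
theorem F942 : act 0 n482 = n482 := d1_1 D482 (iv D482) F481
theorem F943 : act 5 n482 = n235 := d13_2 (iv F483) D482 (iv D235)
def n484 : Q := act 6 n234
theorem D484 : act 6 n234 = n484 := rfl
def n485 : Q := act 1 n235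
theorem D485 : act 1 n235 = n485 := rfl
theorem F949 : act 2 n485 = n485 := d6_2 D235 D485 (iv D485) (iv D235) F278
def n486 : Q := act 3 n235
theorem D486 : act 3 n235 = n486 := rfl
theorem F950 : act 0 n486 = n486 := d2_1 D486 (iv D486) F484
def n487 : Q := act 4 n235
theorem D487 : act 4 n235 = n487 := rfl
theorem F951 : act 0 n487 = n487 := d3_1 D487 (iv D487) F484
theorem F952 : act 2 n487 = n236 := d12_1 D487 (iv D236) D235
def n488 : Q := act 6 n235
theorem D488 : act 6 n235 = n488 := rfl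
def n491 : Q := act 1 n238
theorem D491 : act 1 n238 = n491 := rfl
theorem F965 : act 5 n491 = n246 := d9_2 (iv F492) D491 (iv D246)
def n492 : Q := act 3 n238
theorem D492 : act 3 n238 = n492 := rfl
theorem F966 : act 0 n492 = n492 := d2_1 D492 (iv D492) F491
def n493 : Q := act 4 n238
theorem D493 : act 4 n238 = n493 := rfl
theorem F968 : act 2 n493 = n239 := d12_1 D493 (iv D239) D238
theorem F969 : act 5 n493 = n248 := d18_2 (iv F492) D493 (iv D248)
def n494 : Q := act 6 n238
theorem D494 : act 6 n238 = n494 := rfl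
theorem F971 : act 2 n494 = n240 := d14_1 D494 (iv D240) D238
def n495 : Q := act 3 n240
theorem D495 : act 3 n240 = n495 := rfl
theorem F973 : act 6 n495 = n241 := d17_2 D240 D495 (iv D241) (iv D119) D118
def n496 : Q := act 2 n241
theorem D496 : act 2 n241 = n496 := rfl
theorem F974 : act 0 n496 = n496 := d1_1 D496 (iv D496) F496
def n497 : Q := act 4 n241
theorem D497 : act 4 n241 = n497 := rfl
theorem F975 : act 0 n497 = n497 := d3_1 D497 (iv D497) F496
def n498 : Q := act 5 n241
theorem D498 : act 5 n241 = n498 := rfl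
theorem F977 : act 3 n498 = n387 := d16_1 D498 (iv D387) (iv D185) (iv F283) D241
def n499 : Q := act 1 n242
theorem D499 : act 1 n242 = n499 := rfl
theorem F978 : act 6 n499 = n256 := d10_2 (iv F498) D499 (iv D256)
def n500 : Q := act 3 n242
theorem D500 : act 3 n242 = n500 := rfl
theorem F979 : act 0 n500 = n500 := d2_1 D500 (iv D500) F497
def n501 : Q := act 4 n242
theorem D501 : act 4 n242 = n501 := rfl
theorem F981 : act 2 n501 = n243 := d12_1 D501 (iv D243) D242
theorem F982 : act 6 n501 = n258 := d19_2 (iv F498) D501 (iv D258)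
def n502 : Q := act 5 n242
theorem D502 : act 5 n242 = n502 := rfl
theorem F984 : act 2 n502 = n244 := d13_1 D502 (iv D244) D242
def n503 : Q := act 3 n244
theorem D503 : act 3 n244 = n503 := rfl
theorem F985 : act 0 n503 = n503 := d2_1 D503 (iv D503) F501
theorem F986 : act 5 n503 = n245 := d16_2 D244 D503 (iv D245) (iv D121) D120
def n504 : Q := act 2 n245
theorem D504 : act 2 n245 = n504 := rfl
theorem F987 : act 0 n504 = n504 := d1_1 D504 (iv D504) F502
def n505 : Q := act 4 n245
theorem D505 : act 4 n245 = n505 := rfl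
theorem F988 : act 0 n505 = n505 := d3_1 D505 (iv D505) F502
theorem F989 : act 3 n505 = n497 := d15_1 D505 (iv D497) (iv D241) (iv F288) D245
def n506 : Q := act 6 n245
theorem D506 : act 6 n245 = n506 := rfl
theorem F990 : act 0 n506 = n506 := d5_1 D506 (iv D506) F502
theorem F991 : act 3 n506 = n384 := d17_1 D506 (iv D384) (iv D184) (iv F289) D245
def n507 : Q := act 0 n246
theorem D507 : act 0 n246 = n507 := rfl
theorem F992 : act 1 n507 = n422 := d22_4 F318 D274 F557 D507 F808 F400 F401 (iv F592) (iv D296)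
theorem F993 : act 4 n420 = n507 := d22_9 (iv D507) (iv D246) (iv D122) F149 (iv F162) D134 (iv F318) D294 (iv F804)
def n508 : Q := act 3 n246
theorem D508 : act 3 n246 = n508 := rfl
theorem F994 : act 1 n508 = n247 := d7_1 D508 (iv D247) D246
def n509 : Q := act 4 n246
theorem D509 : act 4 n246 = n509 := rfl
theorem F995 : act 0 n509 = n420 := d3_1 D509 F993 (iv D507)
theorem F996 : act 1 n509 = n248 := d8_1 D509 (iv D248) D246
def n510 : Q := act 6 n246
theorem D510 : act 6 n246 = n510 := rfl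
theorem F997 : act 1 n510 = n249 := d10_1 D510 (iv D249) D246
def n511 : Q := act 4 n247
theorem D511 : act 4 n247 = n511 := rfl
theorem F998 : act 0 n511 = n511 := d3_1 D511 (iv D511) F503
theorem F999 : act 2 n511 = n511 := d12_1 D511 (iv D511) F504
def n512 : Q := act 5 n247
theorem D512 : act 5 n247 = n512 := rfl
theorem F1001 : act 2 n512 = n512 := d13_1 D512 (iv D512) F504
def n513 : Q := act 6 n247
theorem D513 : act 6 n247 = n513 := rfl
theorem F1002 : act 0 n513 = n513 := d5_1 D513 (iv D513) F503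
theorem F1003 : act 2 n513 = n513 := d14_1 D513 (iv D513) F504
def n514 : Q := act 3 n248
theorem D514 : act 3 n248 = n514 := rfl
theorem F1004 : act 0 n514 = n514 := d2_1 D514 (iv D514) F505
def n515 : Q := act 6 n248
theorem D515 : act 6 n248 = n515 := rfl
theorem F1006 : act 2 n515 = n250 := d14_1 D515 (iv D250) (iv F506)
theorem F1008 : act 5 n515 = n494 := d21_2 F969 D515 (iv D494) D493
def n516 : Q := act 3 n249
theorem D516 : act 3 n249 = n516 := rfl
theorem F1009 : act 0 n516 = n516 := d2_1 D516 (iv D516) F507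
def n517 : Q := act 5 n249
theorem D517 : act 5 n249 = n517 := rfl
theorem F1013 : act 6 n517 = n493 := d20_2 D249 D517 F969 D515 F1008 (iv D494) F492
def n518 : Q := act 3 n250
theorem D518 : act 3 n250 = n518 := rfl
theorem F1014 : act 0 n518 = n518 := d2_1 D518 (iv D518) F509
def n519 : Q := act 2 n251
theorem D519 : act 2 n251 = n519 := rfl
theorem F1015 : act 0 n519 = n519 := d1_1 D519 (iv D519) F512
theorem F1016 : act 6 n519 = n253 := d14_2 (iv F513) D519 (iv D253)
def n520 : Q := act 4 n251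
theorem D520 : act 4 n251 = n520 := rfl
theorem F1018 : act 6 n520 = n254 := d19_2 (iv F513) D520 (iv D254)
def n521 : Q := act 5 n251
theorem D521 : act 5 n251 = n521 := rfl
def n522 : Q := act 3 n252
theorem D522 : act 3 n252 = n522 := rfl
def n523 : Q := act 1 n253
theorem D523 : act 1 n253 = n523 := rfl
def n524 : Q := act 3 n253
theorem D524 : act 3 n253 = n524 := rfl
theorem F1021 : act 0 n524 = n524 := d2_1 D524 (iv D524) F517
def n525 : Q := act 4 n253
theorem D525 : act 4 n253 = n525 := rfl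
theorem F1022 : act 0 n525 = n525 := d3_1 D525 (iv D525) F517
theorem F1023 : act 2 n525 = n254 := d12_1 D525 (iv D254) D253
def n526 : Q := act 5 n253
theorem D526 : act 5 n253 = n526 := rfl
theorem F1025 : act 2 n526 = n255 := d13_1 D526 (iv D255) D253
def n527 : Q := act 5 n254
theorem D527 : act 5 n254 = n527 := rfl
theorem F1027 : act 4 n527 = n255 := d18_1 D527 (iv D255) D254
theorem F1028 : act 6 n527 = n521 := d21_1 D527 (iv D521) F513 D254
def n528 : Q := act 6 n255
theorem D528 : act 6 n255 = n528 := rfl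
theorem F1029 : act 0 n528 = n528 := d5_1 D528 (iv D528) F519
theorem F1030 : act 4 n528 = n521 := d19_1 D528 (iv F1028) F1027
theorem F1031 : act 5 n528 = n520 := d20_1 D528 F1018 D527 F1028 (iv D521) F513 D255
theorem F1032 : act 2 n455 = n528 := d24_15 (iv D528) (iv D255) (iv D125) F151 (iv D57) (iv D24) F19 (iv D2) D22 F47 D55 D107 F252 D219 D455
theorem F1033 : act 6 n526 = n455 := d14_0 F1032 (iv D528) (iv F1025)
def n529 : Q := act 0 n256
theorem D529 : act 0 n256 = n529 := rfl
theorem F1034 : act 1 n529 = n426 := d22_4 F322 D284 F571 D529 F816 F408 F409 (iv F603) (iv D302)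
theorem F1035 : act 4 n424 = n529 := d22_9 (iv D529) (iv D256) (iv D126) F153 (iv F166) D138 (iv F322) D300 (iv F812)
def n530 : Q := act 3 n256
theorem D530 : act 3 n256 = n530 := rfl
theorem F1036 : act 1 n530 = n257 := d7_1 D530 (iv D257) D256
def n531 : Q := act 4 n256
theorem D531 : act 4 n256 = n531 := rfl
theorem F1037 : act 0 n531 = n424 := d3_1 D531 F1035 (iv D529)
theorem F1038 : act 1 n531 = n258 := d8_1 D531 (iv D258) D256
def n532 : Q := act 5 n256
theorem D532 : act 5 n256 = n532 := rfl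
theorem F1039 : act 1 n532 = n259 := d9_1 D532 (iv D259) D256
def n533 : Q := act 2 n257
theorem D533 : act 2 n257 = n533 := rfl
theorem F1040 : act 0 n533 = n533 := d1_1 D533 (iv D533) F521
theorem F1041 : act 3 n533 = n478 := d23_1 D533 (iv D478) (iv D231) (iv D114) (iv D58) (iv F63) D64 D126 D257 F521
def n534 : Q := act 4 n257
theorem D534 : act 4 n257 = n534 := rfl
def n535 : Q := act 5 n257
theorem D535 : act 5 n257 = n535 := rfl
def n536 : Q := act 6 n257
theorem D536 : act 6 n257 = n536 := rfl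
theorem F1044 : act 0 n536 = n536 := d5_1 D536 (iv D536) F521
def n537 : Q := act 3 n258
theorem D537 : act 3 n258 = n537 := rfl
theorem F1045 : act 0 n537 = n537 := d2_1 D537 (iv D537) F522
def n538 : Q := act 5 n258
theorem D538 : act 5 n258 = n538 := rfl
theorem F1047 : act 2 n538 = n260 := d13_1 D538 (iv D260) (iv F523)
theorem F1048 : act 4 n538 = n259 := d18_1 D538 (iv D259) D258
theorem F1049 : act 6 n538 = n502 := d21_1 D538 (iv D502) F498 D258
def n539 : Q := act 3 n259
theorem D539 : act 3 n259 = n539 := rfl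
theorem F1050 : act 0 n539 = n539 := d2_1 D539 (iv D539) F524
def n540 : Q := act 6 n259
theorem D540 : act 6 n259 = n540 := rfl
theorem F1052 : act 2 n540 = n262 := d14_1 D540 (iv D262) (iv F525)
theorem F1053 : act 4 n540 = n502 := d19_1 D540 (iv F1049) F1048
theorem F1054 : act 5 n540 = n501 := d20_1 D540 F982 D538 F1049 (iv D502) F498 D259
theorem F1055 : act 3 n417 = n540 := d24_2 F407 D417 F1052 (iv D262) (iv D128) (iv D64) F63 (iv D25) D24 F55 (iv F61) D63 F152 D101 D203
def n541 : Q := act 3 n260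
theorem D541 : act 3 n260 = n541 := rfl
theorem F1056 : act 0 n541 = n541 := d2_1 D541 (iv D541) F526
def n542 : Q := act 2 n261
theorem D542 : act 2 n261 = n542 := rfl
theorem F1058 : act 5 n542 = n263 := d13_2 (iv F530) D542 (iv D263)
def n543 : Q := act 4 n261
theorem D543 : act 4 n261 = n543 := rfl
theorem F1060 : act 5 n543 = n264 := d18_2 (iv F530) D543 (iv D264)
def n544 : Q := act 6 n261
theorem D544 : act 6 n261 = n544 := rfl
def n545 : Q := act 3 n262
theorem D545 : act 3 n262 = n545 := rfl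
theorem F1062 : act 0 n545 = n545 := d2_1 D545 (iv D545) F531
def n546 : Q := act 1 n263
theorem D546 : act 1 n263 = n546 := rfl
def n547 : Q := act 3 n263
theorem D547 : act 3 n263 = n547 := rfl
theorem F1063 : act 0 n547 = n547 := d2_1 D547 (iv D547) F534
def n548 : Q := act 4 n263
theorem D548 : act 4 n263 = n548 := rfl
theorem F1065 : act 2 n548 = n264 := d12_1 D548 (iv D264) D263
def n549 : Q := act 6 n263
theorem D549 : act 6 n263 = n549 := rfl
theorem F1066 : act 0 n549 = n549 := d5_1 D549 (iv D549) F534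
theorem F1067 : act 2 n549 = n265 := d14_1 D549 (iv D265) D263
def n550 : Q := act 6 n264
theorem D550 : act 6 n264 = n550 := rfl
theorem F1068 : act 0 n550 = n550 := d5_1 D550 (iv D550) F535
theorem F1069 : act 4 n550 = n265 := d19_1 D550 (iv D265) D264
theorem F1070 : act 5 n550 = n544 := d21_2 F1060 D550 (iv D544) D543
def n551 : Q := act 5 n265
theorem D551 : act 5 n265 = n551 := rfl
theorem F1072 : act 4 n551 = n544 := d18_1 D551 (iv F1070) F1069
theorem F1073 : act 6 n551 = n543 := d20_2 D265 D551 F1060 D550 F1070 (iv D544) F530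
def n552 : Q := act 1 n266
theorem D552 : act 1 n266 = n552 := rfl
theorem F1074 : act 2 n552 = n491 := d6_2 D266 D552 (iv D491) (iv D238) (iv F299)
theorem F1075 : act 5 n552 = n274 := d9_2 (iv F540) D552 (iv D274)
def n553 : Q := act 3 n266
theorem D553 : act 3 n266 = n553 := rfl
theorem F1076 : act 0 n553 = n307 := d2_1 D553 (iv D307) (iv F539)
def n554 : Q := act 4 n266
theorem D554 : act 4 n266 = n554 := rfl
theorem F1077 : act 0 n554 = n308 := d3_1 D554 (iv D308) (iv F539)
theorem F1078 : act 2 n554 = n267 := d12_1 D554 (iv D267) D266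
theorem F1079 : act 5 n554 = n276 := d18_2 (iv F540) D554 (iv D276)
def n555 : Q := act 6 n266
theorem D555 : act 6 n266 = n555 := rfl
theorem F1080 : act 0 n555 = n309 := d5_1 D555 (iv D309) (iv F539)
theorem F1081 : act 2 n555 = n268 := d14_1 D555 (iv D268) D266
def n556 : Q := act 3 n268
theorem D556 : act 3 n268 = n556 := rfl
theorem F1082 : act 0 n556 = n310 := d2_1 D556 (iv D310) (iv F544)
theorem F1084 : act 6 n556 = n269 := d17_2 D268 D556 (iv D269) (iv D131) D130
def n557 : Q := act 2 n269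
theorem D557 : act 2 n269 = n557 := rfl
theorem F1085 : act 0 n557 = n311 := d1_1 D557 (iv D311) (iv F546)
def n558 : Q := act 4 n269
theorem D558 : act 4 n269 = n558 := rfl
theorem F1086 : act 0 n558 = n312 := d3_1 D558 (iv D312) (iv F546)
theorem F1087 : act 1 n558 = n497 := d8_1 D558 (iv D497) (iv F547)
def n559 : Q := act 5 n269
theorem D559 : act 5 n269 = n559 := rfl
theorem F1090 : act 3 n559 = n369 := d16_1 D559 (iv D369) (iv D177) (iv F303) D269
def n561 : Q := act 3 n270
theorem D561 : act 3 n270 = n561 := rfl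
theorem F1093 : act 0 n561 = n315 := d2_1 D561 (iv D315) (iv F548)
def n562 : Q := act 4 n270
theorem D562 : act 4 n270 = n562 := rfl
theorem F1094 : act 0 n562 = n316 := d3_1 D562 (iv D316) (iv F548)
theorem F1095 : act 2 n562 = n271 := d12_1 D562 (iv D271) D270
theorem F1096 : act 6 n562 = n286 := d19_2 (iv F549) D562 (iv D286)
def n563 : Q := act 5 n270
theorem D563 : act 5 n270 = n563 := rfl
def n564 : Q := act 3 n272
theorem D564 : act 3 n272 = n564 := rfl
theorem F1099 : act 0 n564 = n318 := d2_1 D564 (iv D318) (iv F553)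
theorem F1100 : act 1 n564 = n503 := d7_1 D564 (iv D503) (iv F554)
theorem F1101 : act 5 n564 = n273 := d16_2 D272 D564 (iv D273) (iv D133) D132
def n565 : Q := act 2 n273
theorem D565 : act 2 n273 = n565 := rfl
theorem F1102 : act 0 n565 = n319 := d1_1 D565 (iv D319) (iv F555)
def n566 : Q := act 4 n273
theorem D566 : act 4 n273 = n566 := rfl
theorem F1103 : act 0 n566 = n320 := d3_1 D566 (iv D320) (iv F555)
theorem F1104 : act 1 n566 = n505 := d8_1 D566 (iv D505) (iv F556)
def n567 : Q := act 6 n273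
theorem D567 : act 6 n273 = n567 := rfl
theorem F1106 : act 0 n567 = n321 := d5_1 D567 (iv D321) (iv F555)
theorem F1107 : act 1 n567 = n506 := d10_1 D567 (iv D506) (iv F556)
theorem F1108 : act 3 n567 = n366 := d17_1 D567 (iv D366) (iv D176) (iv F310) D273
def n568 : Q := act 0 n274
theorem D568 : act 0 n274 = n568 := rfl
theorem F1109 : act 2 n568 = n507 := d1_2 (iv F557) D568 (iv D507)
theorem F1110 : act 1 n568 = n296 := d22_4 F290 D246 (iv F557) D568 F592 F319 F311 (iv F506) (iv D248)
theorem F1111 : act 4 n294 = n568 := d22_9 (iv D568) (iv D274) (iv D134) (iv F172) (iv F232) D200 F398 D420 F804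
def n569 : Q := act 3 n274
theorem D569 : act 3 n274 = n569 := rfl
theorem F1112 : act 1 n569 = n275 := d7_1 D569 (iv D275) D274
def n570 : Q := act 4 n274
theorem D570 : act 4 n274 = n570 := rfl
theorem F1113 : act 0 n570 = n294 := d3_1 D570 F1111 (iv D568)
theorem F1114 : act 1 n570 = n276 := d8_1 D570 (iv D276) D274
theorem F1115 : act 2 n570 = n509 := d12_1 D570 (iv D509) (iv F557)
def n571 : Q := act 6 n274
theorem D571 : act 6 n274 = n571 := rfl
theorem F1116 : act 1 n571 = n277 := d10_1 D571 (iv D277) D274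
theorem F1117 : act 2 n571 = n510 := d14_1 D571 (iv D510) (iv F557)
def n572 : Q := act 2 n275
theorem D572 : act 2 n275 = n572 := rfl
def n573 : Q := act 4 n275
theorem D573 : act 4 n275 = n573 := rfl
def n574 : Q := act 5 n275
theorem D574 : act 5 n275 = n574 := rfl
def n575 : Q := act 6 n275
theorem D575 : act 6 n275 = n575 := rfl
def n576 : Q := act 3 n276
theorem D576 : act 3 n276 = n576 := rfl
def n577 : Q := act 6 n276
theorem D577 : act 6 n276 = n577 := rfl
theorem F1118 : act 2 n577 = n278 := d14_1 D577 (iv D278) (iv F558)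
theorem F1120 : act 5 n577 = n555 := d21_2 F1079 D577 (iv D555) D554
def n578 : Q := act 3 n277
theorem D578 : act 3 n277 = n578 := rfl
def n579 : Q := act 5 n277
theorem D579 : act 5 n277 = n579 := rfl
def n580 : Q := act 3 n278
theorem D580 : act 3 n278 = n580 := rfl
theorem F1124 : act 1 n580 = n518 := d7_1 D580 (iv D518) (iv F560)
def n581 : Q := act 2 n279
theorem D581 : act 2 n279 = n581 := rfl
theorem F1125 : act 6 n581 = n281 := d14_2 (iv F564) D581 (iv D281)
def n582 : Q := act 4 n279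
theorem D582 : act 4 n279 = n582 := rfl
theorem F1126 : act 1 n582 = n520 := d8_1 D582 (iv D520) (iv F563)
theorem F1127 : act 6 n582 = n282 := d19_2 (iv F564) D582 (iv D282)
def n583 : Q := act 5 n279
theorem D583 : act 5 n279 = n583 := rfl
def n585 : Q := act 1 n281
theorem D585 : act 1 n281 = n585 := rfl
theorem F1130 : act 2 n585 = n523 := d6_2 D281 D585 (iv D523) (iv D253) (iv F313)
def n586 : Q := act 3 n281
theorem D586 : act 3 n281 = n586 := rfl
def n587 : Q := act 4 n281
theorem D587 : act 4 n281 = n587 := rfl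
theorem F1131 : act 2 n587 = n282 := d12_1 D587 (iv D282) D281
def n588 : Q := act 5 n281
theorem D588 : act 5 n281 = n588 := rfl
theorem F1132 : act 2 n588 = n283 := d13_1 D588 (iv D283) D281
def n589 : Q := act 5 n282
theorem D589 : act 5 n282 = n589 := rfl
theorem F1133 : act 1 n589 = n527 := d9_1 D589 (iv D527) (iv F568)
theorem F1134 : act 4 n589 = n283 := d18_1 D589 (iv D283) D282
theorem F1135 : act 6 n589 = n583 := d21_1 D589 (iv D583) F564 D282
def n590 : Q := act 6 n283
theorem D590 : act 6 n283 = n590 := rfl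
theorem F1136 : act 1 n590 = n528 := d10_1 D590 (iv D528) (iv F569)
theorem F1137 : act 4 n590 = n583 := d19_1 D590 (iv F1135) F1134
def n591 : Q := act 0 n284
theorem D591 : act 0 n284 = n591 := rfl
theorem F1140 : act 1 n591 = n302 := d22_4 F294 D256 (iv F571) D591 F603 F323 F314 (iv F523) (iv D258)
theorem F1141 : act 4 n300 = n591 := d22_9 (iv D591) (iv D284) (iv D138) (iv F173) (iv F235) D203 F406 D424 F812
def n592 : Q := act 3 n284
theorem D592 : act 3 n284 = n592 := rfl
theorem F1142 : act 1 n592 = n285 := d7_1 D592 (iv D285) D284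
def n593 : Q := act 4 n284
theorem D593 : act 4 n284 = n593 := rfl
theorem F1143 : act 0 n593 = n300 := d3_1 D593 F1141 (iv D591)
theorem F1144 : act 1 n593 = n286 := d8_1 D593 (iv D286) D284
theorem F1145 : act 2 n593 = n531 := d12_1 D593 (iv D531) (iv F571)
def n594 : Q := act 5 n284
theorem D594 : act 5 n284 = n594 := rfl
theorem F1146 : act 1 n594 = n287 := d9_1 D594 (iv D287) D284
def n595 : Q := act 2 n285
theorem D595 : act 2 n285 = n595 := rfl
def n596 : Q := act 4 n285
theorem D596 : act 4 n285 = n596 := rfl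
def n597 : Q := act 5 n285
theorem D597 : act 5 n285 = n597 := rfl
def n598 : Q := act 6 n285
theorem D598 : act 6 n285 = n598 := rfl
def n599 : Q := act 3 n286
theorem D599 : act 3 n286 = n599 := rfl
def n600 : Q := act 5 n286
theorem D600 : act 5 n286 = n600 := rfl
theorem F1148 : act 2 n600 = n288 := d13_1 D600 (iv D288) (iv F572)
theorem F1149 : act 4 n600 = n287 := d18_1 D600 (iv D287) D286
def n601 : Q := act 3 n287
theorem D601 : act 3 n287 = n601 := rfl
def n602 : Q := act 6 n287
theorem D602 : act 6 n287 = n602 := rfl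
theorem F1151 : act 2 n602 = n290 := d14_1 D602 (iv D290) (iv F573)
def n603 : Q := act 3 n288
theorem D603 : act 3 n288 = n603 := rfl
def n604 : Q := act 2 n289
theorem D604 : act 2 n289 = n604 := rfl
theorem F1156 : act 5 n604 = n291 := d13_2 (iv F579) D604 (iv D291)
def n605 : Q := act 4 n289
theorem D605 : act 4 n289 = n605 := rfl
theorem F1159 : act 5 n605 = n292 := d18_2 (iv F579) D605 (iv D292)
def n606 : Q := act 6 n289
theorem D606 : act 6 n289 = n606 := rfl
theorem F1160 : act 0 n606 = n590 := d5_1 D606 (iv D590) (iv F577)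
def n607 : Q := act 3 n290
theorem D607 : act 3 n290 = n607 := rfl
theorem F1162 : act 1 n607 = n545 := d7_1 D607 (iv D545) (iv F580)
def n608 : Q := act 1 n291
theorem D608 : act 1 n291 = n608 := rfl
theorem F1163 : act 2 n608 = n546 := d6_2 D291 D608 (iv D546) (iv D263) (iv F317)
def n609 : Q := act 3 n291
theorem D609 : act 3 n291 = n609 := rfl
theorem F1164 : act 0 n609 = n586 := d2_1 D609 (iv D586) (iv F583)
def n610 : Q := act 4 n291
theorem D610 : act 4 n291 = n610 := rfl
theorem F1165 : act 0 n610 = n587 := d3_1 D610 (iv D587) (iv F583)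
theorem F1166 : act 2 n610 = n292 := d12_1 D610 (iv D292) D291
def n611 : Q := act 6 n291
theorem D611 : act 6 n291 = n611 := rfl
theorem F1167 : act 0 n611 = n581 := d5_1 D611 F1125 (iv F583)
theorem F1168 : act 2 n611 = n293 := d14_1 D611 (iv D293) D291
def n612 : Q := act 6 n292
theorem D612 : act 6 n292 = n612 := rfl
theorem F1169 : act 0 n612 = n582 := d5_1 D612 F1127 (iv F584)
theorem F1170 : act 1 n612 = n550 := d10_1 D612 (iv D550) (iv F585)
theorem F1171 : act 4 n612 = n293 := d19_1 D612 (iv D293) D292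
theorem F1172 : act 5 n612 = n606 := d21_2 F1159 D612 (iv D606) D605
def n613 : Q := act 5 n293
theorem D613 : act 5 n293 = n613 := rfl
def n614 : Q := act 3 n294
theorem D614 : act 3 n294 = n614 := rfl
theorem F1177 : act 1 n614 = n295 := d7_1 D614 (iv D295) D294
def n615 : Q := act 6 n294
theorem D615 : act 6 n294 = n615 := rfl
theorem F1178 : act 1 n615 = n297 := d10_1 D615 (iv D297) D294
def n616 : Q := act 2 n295
theorem D616 : act 2 n295 = n616 := rfl
theorem F1179 : act 0 n616 = n572 := d1_1 D616 (iv D572) (iv F590)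
theorem F1180 : act 3 n616 = n572 := d23_1 D616 (iv D572) (iv D275) (iv D134) (iv D68) F67 D68 D134 D275 (iv F590)
def n617 : Q := act 4 n295
theorem D617 : act 4 n295 = n617 := rfl
theorem F1181 : act 0 n617 = n573 := d3_1 D617 (iv D573) (iv F590)
def n618 : Q := act 5 n295
theorem D618 : act 5 n295 = n618 := rfl
theorem F1182 : act 0 n618 = n574 := d4_1 D618 (iv D574) (iv F590)
def n619 : Q := act 6 n295
theorem D619 : act 6 n295 = n619 := rfl
theorem F1183 : act 0 n619 = n575 := d5_1 D619 (iv D575) (iv F590)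
def n620 : Q := act 3 n296
theorem D620 : act 3 n296 = n620 := rfl
theorem F1184 : act 0 n620 = n576 := d2_1 D620 (iv D576) (iv F591)
def n621 : Q := act 6 n296
theorem D621 : act 6 n296 = n621 := rfl
theorem F1185 : act 0 n621 = n577 := d5_1 D621 (iv D577) (iv F591)
theorem F1186 : act 2 n621 = n298 := d14_1 D621 (iv D298) (iv F592)
theorem F1188 : act 5 n621 = n309 := d21_2 F614 D621 (iv D309) D308
def n622 : Q := act 3 n297
theorem D622 : act 3 n297 = n622 := rfl
theorem F1189 : act 0 n622 = n578 := d2_1 D622 (iv D578) (iv F593)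
def n623 : Q := act 5 n297
theorem D623 : act 5 n297 = n623 := rfl
theorem F1190 : act 0 n623 = n579 := d4_1 D623 (iv D579) (iv F593)
theorem F1193 : act 6 n623 = n308 := d20_2 D297 D623 F614 D621 F1188 (iv D309) F326
def n624 : Q := act 3 n298
theorem D624 : act 3 n298 = n624 := rfl
theorem F1194 : act 0 n624 = n580 := d2_1 D624 (iv D580) (iv F595)
theorem F1195 : act 6 n624 = n580 := d17_2 D298 D624 (iv D580) (iv D278) (iv F320)
def n626 : Q := act 3 n300
theorem D626 : act 3 n300 = n626 := rfl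
theorem F1197 : act 1 n626 = n301 := d7_1 D626 (iv D301) D300
def n628 : Q := act 2 n301
theorem D628 : act 2 n301 = n628 := rfl
theorem F1199 : act 0 n628 = n595 := d1_1 D628 (iv D595) (iv F601)
theorem F1200 : act 3 n628 = n595 := d23_1 D628 (iv D595) (iv D285) (iv D138) (iv D70) F69 D70 D138 D285 (iv F601)
def n629 : Q := act 4 n301
theorem D629 : act 4 n301 = n629 := rfl
theorem F1201 : act 0 n629 = n596 := d3_1 D629 (iv D596) (iv F601)
def n630 : Q := act 5 n301
theorem D630 : act 5 n301 = n630 := rfl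
def n631 : Q := act 6 n301
theorem D631 : act 6 n301 = n631 := rfl
def n632 : Q := act 3 n302
theorem D632 : act 3 n302 = n632 := rfl
theorem F1204 : act 0 n632 = n599 := d2_1 D632 (iv D599) (iv F602)
def n633 : Q := act 5 n302
theorem D633 : act 5 n302 = n633 := rfl
theorem F1205 : act 0 n633 = n600 := d4_1 D633 (iv D600) (iv F602)
theorem F1206 : act 2 n633 = n304 := d13_1 D633 (iv D304) (iv F603)
theorem F1208 : act 6 n633 = n317 := d21_1 D633 (iv D317) F328 D302
def n634 : Q := act 3 n303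
theorem D634 : act 3 n303 = n634 := rfl
theorem F1209 : act 0 n634 = n601 := d2_1 D634 (iv D601) (iv F604)
def n635 : Q := act 6 n303
theorem D635 : act 6 n303 = n635 := rfl
theorem F1210 : act 0 n635 = n602 := d5_1 D635 (iv D602) (iv F604)
theorem F1211 : act 2 n635 = n305 := d14_1 D635 (iv D305) (iv F605)
theorem F1213 : act 5 n635 = n316 := d20_1 D635 F620 D633 F1208 (iv D317) F328 D303
def n636 : Q := act 3 n304
theorem D636 : act 3 n304 = n636 := rfl
def n637 : Q := act 3 n305
theorem D637 : act 3 n305 = n637 := rfl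
theorem F1216 : act 0 n637 = n607 := d2_1 D637 (iv D607) (iv F609)
def n638 : Q := act 0 n306
theorem D638 : act 0 n306 = n638 := rfl
theorem F1217 : act 5 n638 = n570 := d4_2 (iv F612) D638 F1113
theorem F1218 : act 1 n638 = n554 := d22_4 F386 D408 F776 D638 F1078 F541 (iv F388) (iv F779) (iv D410)
theorem F1219 : act 4 n552 = n638 := d22_9 (iv D638) (iv D306) (iv D148) (iv F298) F299 D238 F491 D491 (iv F1074)
def n639 : Q := act 3 n306
theorem D639 : act 3 n306 = n639 := rfl
theorem F1220 : act 1 n639 = n307 := d7_1 D639 (iv D307) D306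
def n640 : Q := act 4 n306
theorem D640 : act 4 n306 = n640 := rfl
theorem F1221 : act 0 n640 = n552 := d3_1 D640 F1219 (iv D638)
theorem F1222 : act 1 n640 = n308 := d8_1 D640 (iv D308) D306
theorem F1223 : act 5 n640 = n568 := d18_2 (iv F612) D640 (iv F1111)
def n641 : Q := act 6 n306
theorem D641 : act 6 n306 = n641 := rfl
theorem F1224 : act 1 n641 = n309 := d10_1 D641 (iv D309) D306
def n642 : Q := act 2 n307
theorem D642 : act 2 n307 = n642 := rfl
def n643 : Q := act 4 n307
theorem D643 : act 4 n307 = n643 := rfl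
def n644 : Q := act 5 n307
theorem D644 : act 5 n307 = n644 := rfl
theorem F1225 : act 3 n644 = n618 := d16_1 D644 (iv D618) (iv D295) (iv F326) D307
def n645 : Q := act 6 n307
theorem D645 : act 6 n307 = n645 := rfl
def n646 : Q := act 3 n308
theorem D646 : act 3 n308 = n646 := rfl
def n647 : Q := act 3 n309
theorem D647 : act 3 n309 = n647 := rfl
def n648 : Q := act 2 n310
theorem D648 : act 2 n310 = n648 := rfl
theorem F1226 : act 6 n648 = n311 := d14_2 (iv F616) D648 (iv D311)
def n649 : Q := act 4 n310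
theorem D649 : act 4 n310 = n649 := rfl
theorem F1227 : act 6 n649 = n312 := d19_2 (iv F616) D649 (iv D312)
def n650 : Q := act 5 n310
theorem D650 : act 5 n310 = n650 := rfl
def n651 : Q := act 1 n311
theorem D651 : act 1 n311 = n651 := rfl
def n652 : Q := act 3 n311
theorem D652 : act 3 n311 = n652 := rfl
def n654 : Q := act 5 n311
theorem D654 : act 5 n311 = n654 := rfl
theorem F1229 : act 2 n654 = n313 := d13_1 D654 (iv D313) D311
def n655 : Q := act 5 n312
theorem D655 : act 5 n312 = n655 := rfl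
theorem F1230 : act 4 n655 = n313 := d18_1 D655 (iv D313) D312
def n656 : Q := act 6 n313
theorem D656 : act 6 n313 = n656 := rfl
def n657 : Q := act 0 n314
theorem D657 : act 0 n314 = n657 := rfl
theorem F1235 : act 1 n657 = n562 := d22_4 F392 D414 F790 D657 F1095 F550 (iv F394) (iv F793) (iv D416)
def n658 : Q := act 3 n314
theorem D658 : act 3 n314 = n658 := rfl
theorem F1237 : act 1 n658 = n315 := d7_1 D658 (iv D315) D314
def n661 : Q := act 2 n315
theorem D661 : act 2 n315 = n661 := rfl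
def n662 : Q := act 4 n315
theorem D662 : act 4 n315 = n662 := rfl
def n663 : Q := act 5 n315
theorem D663 : act 5 n315 = n663 := rfl
def n664 : Q := act 6 n315
theorem D664 : act 6 n315 = n664 := rfl
theorem F1242 : act 3 n664 = n631 := d17_1 D664 (iv D631) (iv D301) (iv F328) D315
def n665 : Q := act 3 n316
theorem D665 : act 3 n316 = n665 := rfl
def n666 : Q := act 3 n317
theorem D666 : act 3 n317 = n666 := rfl
def n667 : Q := act 2 n318
theorem D667 : act 2 n318 = n667 := rfl
theorem F1243 : act 5 n667 = n319 := d13_2 (iv F622) D667 (iv D319)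
def n668 : Q := act 4 n318
theorem D668 : act 4 n318 = n668 := rfl
theorem F1244 : act 5 n668 = n320 := d18_2 (iv F622) D668 (iv D320)
def n669 : Q := act 6 n318
theorem D669 : act 6 n318 = n669 := rfl
def n670 : Q := act 1 n319
theorem D670 : act 1 n319 = n670 := rfl
def n671 : Q := act 3 n319
theorem D671 : act 3 n319 = n671 := rfl
def n672 : Q := act 4 n319
theorem D672 : act 4 n319 = n672 := rfl
def n673 : Q := act 6 n319
theorem D673 : act 6 n319 = n673 := rfl
theorem F1246 : act 2 n673 = n321 := d14_1 D673 (iv D321) D319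
def n674 : Q := act 6 n320
theorem D674 : act 6 n320 = n674 := rfl
theorem F1247 : act 4 n674 = n321 := d19_1 D674 (iv D321) D320
theorem F1248 : act 5 n674 = n669 := d21_2 F1244 D674 (iv D669) D668
def n675 : Q := act 5 n321
theorem D675 : act 5 n321 = n675 := rfl
theorem F1249 : act 4 n675 = n669 := d18_1 D675 (iv F1248) F1247
def n676 : Q := act 1 n322
theorem D676 : act 1 n322 = n676 := rfl
theorem F1251 : act 2 n676 = n676 := d6_2 D322 D676 (iv D676) (iv D322) F331
def n677 : Q := act 3 n322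
theorem D677 : act 3 n322 = n677 := rfl
theorem F1252 : act 0 n677 = n331 := d2_1 D677 (iv D331) (iv F625)
def n678 : Q := act 4 n322
theorem D678 : act 4 n322 = n678 := rfl
theorem F1253 : act 0 n678 = n332 := d3_1 D678 (iv D332) (iv F625)
theorem F1254 : act 2 n678 = n323 := d12_1 D678 (iv D323) D322
def n679 : Q := act 6 n322
theorem D679 : act 6 n322 = n679 := rfl
theorem F1255 : act 0 n679 = n333 := d5_1 D679 (iv D333) (iv F625)
theorem F1256 : act 2 n679 = n324 := d14_1 D679 (iv D324) D322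
def n680 : Q := act 6 n323
theorem D680 : act 6 n323 = n680 := rfl
theorem F1257 : act 0 n680 = n334 := d5_1 D680 (iv D334) (iv F626)
theorem F1258 : act 1 n680 = n680 := d10_1 D680 (iv D680) F627
theorem F1259 : act 4 n680 = n324 := d19_1 D680 (iv D324) D323
theorem F1260 : act 5 n680 = n352 := d21_2 F666 D680 (iv D352) D351
def n681 : Q := act 3 n324
theorem D681 : act 3 n324 = n681 := rfl
theorem F1261 : act 0 n681 = n335 := d2_1 D681 (iv D335) (iv F628)
theorem F1262 : act 1 n681 = n681 := d7_1 D681 (iv D681) F629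
theorem F1263 : act 6 n681 = n325 := d17_2 D324 D681 (iv D325) (iv D157) D156
def n682 : Q := act 5 n324
theorem D682 : act 5 n324 = n682 := rfl
theorem F1264 : act 0 n682 = n336 := d4_1 D682 (iv D336) (iv F628)
theorem F1265 : act 1 n682 = n682 := d9_1 D682 (iv D682) F629
theorem F1266 : act 4 n682 = n352 := d18_1 D682 (iv F1260) F1259
theorem F1267 : act 6 n682 = n351 := d20_2 D324 D682 F666 D680 F1260 (iv D352) F346
def n683 : Q := act 2 n325
theorem D683 : act 2 n325 = n683 := rfl
theorem F1268 : act 0 n683 = n337 := d1_1 D683 (iv D337) (iv F630)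
def n684 : Q := act 4 n325
theorem D684 : act 4 n325 = n684 := rfl
theorem F1269 : act 0 n684 = n338 := d3_1 D684 (iv D338) (iv F630)
theorem F1270 : act 1 n684 = n684 := d8_1 D684 (iv D684) F631
def n685 : Q := act 5 n325
theorem D685 : act 5 n325 = n685 := rfl
theorem F1271 : act 0 n685 = n339 := d4_1 D685 (iv D339) (iv F630)
theorem F1272 : act 1 n685 = n685 := d9_1 D685 (iv D685) F631
theorem F1273 : act 3 n685 = n355 := d16_1 D685 (iv D355) (iv D169) (iv F335) D325
def n686 : Q := act 1 n326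
theorem D686 : act 1 n326 = n686 := rfl
theorem F1274 : act 2 n686 = n686 := d6_2 D326 D686 (iv D686) (iv D326) F337
def n687 : Q := act 3 n326
theorem D687 : act 3 n326 = n687 := rfl
theorem F1275 : act 0 n687 = n341 := d2_1 D687 (iv D341) (iv F632)
def n688 : Q := act 4 n326
theorem D688 : act 4 n326 = n688 := rfl
theorem F1276 : act 0 n688 = n342 := d3_1 D688 (iv D342) (iv F632)
theorem F1277 : act 2 n688 = n327 := d12_1 D688 (iv D327) D326
def n689 : Q := act 5 n326
theorem D689 : act 5 n326 = n689 := rfl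
theorem F1278 : act 0 n689 = n343 := d4_1 D689 (iv D343) (iv F632)
theorem F1279 : act 2 n689 = n328 := d13_1 D689 (iv D328) D326
def n690 : Q := act 5 n327
theorem D690 : act 5 n327 = n690 := rfl
theorem F1280 : act 0 n690 = n344 := d4_1 D690 (iv D344) (iv F633)
theorem F1281 : act 1 n690 = n690 := d9_1 D690 (iv D690) F634
theorem F1282 : act 4 n690 = n328 := d18_1 D690 (iv D328) D327
theorem F1283 : act 6 n690 = n355 := d21_1 D690 (iv D355) F349 D327
def n691 : Q := act 3 n328
theorem D691 : act 3 n328 = n691 := rfl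
theorem F1284 : act 0 n691 = n345 := d2_1 D691 (iv D345) (iv F635)
theorem F1285 : act 1 n691 = n691 := d7_1 D691 (iv D691) F636
theorem F1286 : act 5 n691 = n329 := d16_2 D328 D691 (iv D329) (iv D159) D158
def n692 : Q := act 6 n328
theorem D692 : act 6 n328 = n692 := rfl
theorem F1287 : act 0 n692 = n346 := d5_1 D692 (iv D346) (iv F635)
theorem F1288 : act 1 n692 = n692 := d10_1 D692 (iv D692) F636
theorem F1289 : act 4 n692 = n355 := d19_1 D692 (iv F1283) F1282
theorem F1290 : act 5 n692 = n354 := d20_1 D692 F674 D690 F1283 (iv D355) F349 D328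
def n693 : Q := act 2 n329
theorem D693 : act 2 n329 = n693 := rfl
theorem F1291 : act 0 n693 = n347 := d1_1 D693 (iv D347) (iv F637)
def n694 : Q := act 4 n329
theorem D694 : act 4 n329 = n694 := rfl
theorem F1292 : act 0 n694 = n348 := d3_1 D694 (iv D348) (iv F637)
theorem F1293 : act 1 n694 = n694 := d8_1 D694 (iv D694) F638
theorem F1294 : act 3 n694 = n684 := d15_1 D694 (iv D684) (iv D325) (iv F341) D329
def n695 : Q := act 6 n329
theorem D695 : act 6 n329 = n695 := rfl
theorem F1295 : act 0 n695 = n349 := d5_1 D695 (iv D349) (iv F637)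
theorem F1296 : act 1 n695 = n695 := d10_1 D695 (iv D695) F638
theorem F1297 : act 3 n695 = n352 := d17_1 D695 (iv D352) (iv D168) (iv F342) D329
def n696 : Q := act 0 n330
theorem D696 : act 0 n330 = n696 := rfl
theorem F1298 : act 1 n696 = n358 := d22_7 (iv F344) F345 D350 F661 D356 F677 D696 F679 (iv D171)
theorem F1299 : act 4 n356 = n696 := d22_9 (iv D696) (iv D330) (iv D160) (iv F330) F331 D322 F625 D330 (iv F677)
def n697 : Q := act 3 n330
theorem D697 : act 3 n330 = n697 := rfl
theorem F1300 : act 1 n697 = n331 := d7_1 D697 (iv D331) D330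
def n698 : Q := act 4 n330
theorem D698 : act 4 n330 = n698 := rfl
theorem F1301 : act 0 n698 = n356 := d3_1 D698 F1299 (iv D696)
theorem F1302 : act 1 n698 = n332 := d8_1 D698 (iv D332) D330
theorem F1303 : act 2 n698 = n696 := d12_1 D698 (iv F1299) F677
theorem F1304 : act 5 n698 = n696 := d18_2 F678 D698 (iv F1299)
def n699 : Q := act 6 n330
theorem D699 : act 6 n330 = n699 := rfl
theorem F1305 : act 1 n699 = n333 := d10_1 D699 (iv D333) D330
def n700 : Q := act 2 n331
theorem D700 : act 2 n331 = n700 := rfl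
def n701 : Q := act 4 n331
theorem D701 : act 4 n331 = n701 := rfl
def n702 : Q := act 5 n331
theorem D702 : act 5 n331 = n702 := rfl
def n703 : Q := act 6 n331
theorem D703 : act 6 n331 = n703 := rfl
def n704 : Q := act 3 n332
theorem D704 : act 3 n332 = n704 := rfl
def n705 : Q := act 6 n332
theorem D705 : act 6 n332 = n705 := rfl
theorem F1306 : act 2 n705 = n334 := d14_1 D705 (iv D334) (iv F639)
theorem F1307 : act 4 n705 = n333 := d19_1 D705 (iv D333) D332
theorem F1308 : act 5 n705 = n359 := d21_2 F680 D705 (iv D359) D358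
def n706 : Q := act 3 n333
theorem D706 : act 3 n333 = n706 := rfl
def n707 : Q := act 5 n333
theorem D707 : act 5 n333 = n707 := rfl
theorem F1309 : act 2 n707 = n336 := d13_1 D707 (iv D336) (iv F640)
theorem F1310 : act 4 n707 = n359 := d18_1 D707 (iv F1308) F1307
theorem F1311 : act 6 n707 = n358 := d20_2 D333 D707 F680 D705 F1308 (iv D359) F350
def n708 : Q := act 3 n334
theorem D708 : act 3 n334 = n708 := rfl
def n709 : Q := act 2 n335
theorem D709 : act 2 n335 = n709 := rfl
theorem F1312 : act 6 n709 = n337 := d14_2 (iv F643) D709 (iv D337)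
def n710 : Q := act 4 n335
theorem D710 : act 4 n335 = n710 := rfl
theorem F1313 : act 6 n710 = n338 := d19_2 (iv F643) D710 (iv D338)
def n711 : Q := act 5 n335
theorem D711 : act 5 n335 = n711 := rfl
def n712 : Q := act 3 n336
theorem D712 : act 3 n336 = n712 := rfl
theorem F1314 : act 1 n712 = n708 := d7_1 D712 (iv D708) (iv F644)
theorem F1315 : act 6 n712 = n708 := d17_2 (iv F646) D712 (iv D708) (iv D334) (iv F352)
def n713 : Q := act 1 n337
theorem D713 : act 1 n337 = n713 := rfl
def n714 : Q := act 3 n337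
theorem D714 : act 3 n337 = n714 := rfl
def n715 : Q := act 4 n337
theorem D715 : act 4 n337 = n715 := rfl
theorem F1316 : act 2 n715 = n338 := d12_1 D715 (iv D338) D337
def n716 : Q := act 5 n337
theorem D716 : act 5 n337 = n716 := rfl
theorem F1317 : act 2 n716 = n339 := d13_1 D716 (iv D339) D337
def n717 : Q := act 5 n338
theorem D717 : act 5 n338 = n717 := rfl
theorem F1318 : act 4 n717 = n339 := d18_1 D717 (iv D339) D338
theorem F1319 : act 6 n717 = n711 := d21_1 D717 (iv D711) F643 D338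
def n718 : Q := act 6 n339
theorem D718 : act 6 n339 = n718 := rfl
theorem F1320 : act 4 n718 = n711 := d19_1 D718 (iv F1319) F1318
theorem F1321 : act 5 n718 = n710 := d20_1 D718 F1313 D717 F1319 (iv D711) F643 D339
def n719 : Q := act 0 n340
theorem D719 : act 0 n340 = n719 := rfl
theorem F1322 : act 1 n719 = n362 := d22_7 (iv F347) F348 D353 F669 D360 F682 D719 F684 (iv D174)
theorem F1323 : act 4 n360 = n719 := d22_9 (iv D719) (iv D340) (iv D164) (iv F336) F337 D326 F632 D340 (iv F682)
def n720 : Q := act 3 n340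
theorem D720 : act 3 n340 = n720 := rfl
theorem F1324 : act 1 n720 = n341 := d7_1 D720 (iv D341) D340
def n721 : Q := act 4 n340
theorem D721 : act 4 n340 = n721 := rfl
theorem F1325 : act 0 n721 = n360 := d3_1 D721 F1323 (iv D719)
theorem F1326 : act 1 n721 = n342 := d8_1 D721 (iv D342) D340
theorem F1327 : act 2 n721 = n719 := d12_1 D721 (iv F1323) F682
theorem F1328 : act 6 n721 = n719 := d19_2 F683 D721 (iv F1323)
def n722 : Q := act 5 n340
theorem D722 : act 5 n340 = n722 := rfl
theorem F1329 : act 1 n722 = n343 := d9_1 D722 (iv D343) D340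
def n723 : Q := act 2 n341
theorem D723 : act 2 n341 = n723 := rfl
def n724 : Q := act 4 n341
theorem D724 : act 4 n341 = n724 := rfl
def n725 : Q := act 5 n341
theorem D725 : act 5 n341 = n725 := rfl
def n726 : Q := act 6 n341
theorem D726 : act 6 n341 = n726 := rfl
def n727 : Q := act 3 n342
theorem D727 : act 3 n342 = n727 := rfl
def n728 : Q := act 5 n342
theorem D728 : act 5 n342 = n728 := rfl
theorem F1330 : act 2 n728 = n344 := d13_1 D728 (iv D344) (iv F648)
theorem F1331 : act 4 n728 = n343 := d18_1 D728 (iv D343) D342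
theorem F1332 : act 6 n728 = n363 := d21_1 D728 (iv D363) F355 D342
def n729 : Q := act 3 n343
theorem D729 : act 3 n343 = n729 := rfl
def n730 : Q := act 6 n343
theorem D730 : act 6 n343 = n730 := rfl
theorem F1333 : act 2 n730 = n346 := d14_1 D730 (iv D346) (iv F649)
theorem F1334 : act 4 n730 = n363 := d19_1 D730 (iv F1332) F1331
theorem F1335 : act 5 n730 = n362 := d20_1 D730 F685 D728 F1332 (iv D363) F355 D343
def n731 : Q := act 3 n344
theorem D731 : act 3 n344 = n731 := rfl
def n732 : Q := act 2 n345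
theorem D732 : act 2 n345 = n732 := rfl
theorem F1336 : act 5 n732 = n347 := d13_2 (iv F653) D732 (iv D347)
def n733 : Q := act 4 n345
theorem D733 : act 4 n345 = n733 := rfl
theorem F1337 : act 1 n733 = n717 := d8_1 D733 F1318 (iv F652)
theorem F1338 : act 5 n733 = n348 := d18_2 (iv F653) D733 (iv D348)
def n734 : Q := act 6 n345
theorem D734 : act 6 n345 = n734 := rfl
theorem F1339 : act 1 n734 = n718 := d10_1 D734 (iv D718) (iv F652)
def n735 : Q := act 3 n346
theorem D735 : act 3 n346 = n735 := rfl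
theorem F1340 : act 1 n735 = n731 := d7_1 D735 (iv D731) (iv F654)
theorem F1341 : act 5 n735 = n731 := d16_2 (iv F656) D735 (iv D731) (iv D344) (iv F357)
def n736 : Q := act 1 n347
theorem D736 : act 1 n347 = n736 := rfl
theorem F1342 : act 2 n736 = n713 := d6_2 D347 D736 (iv D713) (iv D337) (iv F343)
def n737 : Q := act 3 n347
theorem D737 : act 3 n347 = n737 := rfl
def n738 : Q := act 4 n347
theorem D738 : act 4 n347 = n738 := rfl
theorem F1343 : act 2 n738 = n348 := d12_1 D738 (iv D348) D347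
def n739 : Q := act 6 n347
theorem D739 : act 6 n347 = n739 := rfl
theorem F1344 : act 2 n739 = n349 := d14_1 D739 (iv D349) D347
def n740 : Q := act 6 n348
theorem D740 : act 6 n348 = n740 := rfl
theorem F1345 : act 1 n740 = n710 := d10_1 D740 F1313 (iv F657)
theorem F1346 : act 4 n740 = n349 := d19_1 D740 (iv D349) D348
theorem F1347 : act 5 n740 = n734 := d21_2 F1338 D740 (iv D734) D733
def n741 : Q := act 5 n349
theorem D741 : act 5 n349 = n741 := rfl
theorem F1348 : act 1 n741 = n711 := d9_1 D741 (iv D711) (iv F659)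
def n742 : Q := act 1 n350
theorem D742 : act 1 n350 = n742 := rfl
theorem F1351 : act 2 n742 = n742 := d6_2 D350 D742 (iv D742) (iv D350) F345
theorem F1352 : act 5 n742 = n676 := d9_2 (iv F662) D742 (iv D676)
def n743 : Q := act 3 n350
theorem D743 : act 3 n350 = n743 := rfl
theorem F1353 : act 0 n743 = n357 := d2_1 D743 (iv D357) (iv F661)
def n744 : Q := act 4 n350
theorem D744 : act 4 n350 = n744 := rfl
theorem F1354 : act 0 n744 = n358 := d3_1 D744 (iv D358) (iv F661)
theorem F1355 : act 2 n744 = n351 := d12_1 D744 (iv D351) D350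
theorem F1356 : act 5 n744 = n678 := d18_2 (iv F662) D744 (iv D678)
def n745 : Q := act 6 n350
theorem D745 : act 6 n350 = n745 := rfl
theorem F1357 : act 0 n745 = n359 := d5_1 D745 (iv D359) (iv F661)
theorem F1358 : act 2 n745 = n352 := d14_1 D745 (iv D352) D350
def n746 : Q := act 1 n353
theorem D746 : act 1 n353 = n746 := rfl
theorem F1359 : act 2 n746 = n746 := d6_2 D353 D746 (iv D746) (iv D353) F348
theorem F1360 : act 6 n746 = n686 := d10_2 (iv F670) D746 (iv D686)
def n747 : Q := act 3 n353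
theorem D747 : act 3 n353 = n747 := rfl
theorem F1361 : act 0 n747 = n361 := d2_1 D747 (iv D361) (iv F669)
def n748 : Q := act 4 n353
theorem D748 : act 4 n353 = n748 := rfl
theorem F1362 : act 0 n748 = n362 := d3_1 D748 (iv D362) (iv F669)
theorem F1363 : act 2 n748 = n354 := d12_1 D748 (iv D354) D353
theorem F1364 : act 6 n748 = n688 := d19_2 (iv F670) D748 (iv D688)
def n749 : Q := act 5 n353
theorem D749 : act 5 n353 = n749 := rfl
theorem F1365 : act 0 n749 = n363 := d4_1 D749 (iv D363) (iv F669)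
theorem F1366 : act 2 n749 = n355 := d13_1 D749 (iv D355) D353
def n750 : Q := act 3 n356
theorem D750 : act 3 n356 = n750 := rfl
theorem F1367 : act 1 n750 = n357 := d7_1 D750 (iv D357) D356
def n751 : Q := act 6 n356
theorem D751 : act 6 n356 = n751 := rfl
theorem F1368 : act 1 n751 = n359 := d10_1 D751 (iv D359) D356
theorem F1369 : act 2 n751 = n699 := d14_1 D751 (iv D699) (iv F677)
def n752 : Q := act 2 n357
theorem D752 : act 2 n357 = n752 := rfl
def n753 : Q := act 4 n357
theorem D753 : act 4 n357 = n753 := rfl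
def n754 : Q := act 5 n357
theorem D754 : act 5 n357 = n754 := rfl
theorem F1370 : act 3 n754 = n702 := d16_1 D754 (iv D702) (iv D331) (iv F350) D357
def n755 : Q := act 6 n357
theorem D755 : act 6 n357 = n755 := rfl
def n756 : Q := act 3 n358
theorem D756 : act 3 n358 = n756 := rfl
def n757 : Q := act 3 n359
theorem D757 : act 3 n359 = n757 := rfl
def n758 : Q := act 3 n360
theorem D758 : act 3 n360 = n758 := rfl
theorem F1371 : act 1 n758 = n361 := d7_1 D758 (iv D361) D360
def n759 : Q := act 5 n360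
theorem D759 : act 5 n360 = n759 := rfl
theorem F1372 : act 1 n759 = n363 := d9_1 D759 (iv D363) D360
theorem F1373 : act 2 n759 = n722 := d13_1 D759 (iv D722) (iv F682)
def n760 : Q := act 2 n361
theorem D760 : act 2 n361 = n760 := rfl
def n761 : Q := act 4 n361
theorem D761 : act 4 n361 = n761 := rfl
def n762 : Q := act 5 n361
theorem D762 : act 5 n361 = n762 := rfl
def n763 : Q := act 6 n361
theorem D763 : act 6 n361 = n763 := rfl
theorem F1374 : act 3 n763 = n726 := d17_1 D763 (iv D726) (iv D341) (iv F355) D361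
def n764 : Q := act 3 n362
theorem D764 : act 3 n362 = n764 := rfl
def n765 : Q := act 3 n363
theorem D765 : act 3 n363 = n765 := rfl
def n766 : Q := act 1 n364
theorem D766 : act 1 n364 = n766 := rfl
theorem F1375 : act 5 n766 = n370 := d9_2 (iv F688) D766 (iv D370)
def n767 : Q := act 3 n364
theorem D767 : act 3 n364 = n767 := rfl
theorem F1376 : act 0 n767 = n371 := d2_1 D767 (iv D371) (iv F687)
def n768 : Q := act 4 n364
theorem D768 : act 4 n364 = n768 := rfl
theorem F1377 : act 0 n768 = n372 := d3_1 D768 (iv D372) (iv F687)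
theorem F1378 : act 2 n768 = n365 := d12_1 D768 (iv D365) D364
theorem F1379 : act 5 n768 = n372 := d18_2 (iv F688) D768 (iv D372)
def n769 : Q := act 6 n364
theorem D769 : act 6 n364 = n769 := rfl
theorem F1380 : act 0 n769 = n373 := d5_1 D769 (iv D373) (iv F687)
theorem F1381 : act 2 n769 = n366 := d14_1 D769 (iv D366) D364
def n770 : Q := act 1 n367
theorem D770 : act 1 n367 = n770 := rfl
theorem F1382 : act 6 n770 = n376 := d10_2 (iv F694) D770 (iv D376)
def n771 : Q := act 3 n367
theorem D771 : act 3 n367 = n771 := rfl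
theorem F1383 : act 0 n771 = n377 := d2_1 D771 (iv D377) (iv F693)
def n772 : Q := act 4 n367
theorem D772 : act 4 n367 = n772 := rfl
theorem F1384 : act 0 n772 = n378 := d3_1 D772 (iv D378) (iv F693)
theorem F1385 : act 2 n772 = n368 := d12_1 D772 (iv D368) D367
theorem F1386 : act 6 n772 = n378 := d19_2 (iv F694) D772 (iv D378)
def n773 : Q := act 5 n367
theorem D773 : act 5 n367 = n773 := rfl
theorem F1387 : act 0 n773 = n379 := d4_1 D773 (iv D379) (iv F693)
def n774 : Q := act 0 n370
theorem D774 : act 0 n370 = n774 := rfl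
theorem F1389 : act 1 n774 = n768 := d22_4 F372 D388 F729 D774 F1378 F689 (iv F374) (iv F732) (iv D390)
theorem F1390 : act 4 n766 = n774 := d8_0 F1389 (iv D768) D766
def n775 : Q := act 3 n370
theorem D775 : act 3 n370 = n775 := rfl
theorem F1391 : act 1 n775 = n371 := d7_1 D775 (iv D371) D370
def n776 : Q := act 4 n370
theorem D776 : act 4 n370 = n776 := rfl
theorem F1392 : act 0 n776 = n766 := d3_1 D776 F1390 (iv D774)
theorem F1393 : act 1 n776 = n372 := d8_1 D776 (iv D372) D370
theorem F1394 : act 5 n776 = n774 := d18_2 F1375 D776 (iv F1390)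
def n777 : Q := act 6 n370
theorem D777 : act 6 n370 = n777 := rfl
theorem F1395 : act 1 n777 = n373 := d10_1 D777 (iv D373) D370
def n778 : Q := act 2 n371
theorem D778 : act 2 n371 = n778 := rfl
def n779 : Q := act 4 n371
theorem D779 : act 4 n371 = n779 := rfl
def n780 : Q := act 5 n371
theorem D780 : act 5 n371 = n780 := rfl
def n781 : Q := act 6 n371
theorem D781 : act 6 n371 = n781 := rfl
def n782 : Q := act 3 n372
theorem D782 : act 3 n372 = n782 := rfl
def n783 : Q := act 6 n372
theorem D783 : act 6 n372 = n783 := rfl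
theorem F1396 : act 2 n783 = n374 := d14_1 D783 (iv D374) (iv F699)
theorem F1397 : act 4 n783 = n373 := d19_1 D783 (iv D373) D372
theorem F1398 : act 5 n783 = n769 := d21_2 F1379 D783 (iv D769) D768
def n784 : Q := act 3 n373
theorem D784 : act 3 n373 = n784 := rfl
def n785 : Q := act 5 n373
theorem D785 : act 5 n373 = n785 := rfl
theorem F1399 : act 0 n785 = n783 := d4_1 D785 F1398 F1380
theorem F1400 : act 2 n785 = n375 := d13_1 D785 (iv D375) (iv F700)
theorem F1401 : act 4 n785 = n769 := d18_1 D785 (iv F1398) F1397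
theorem F1402 : act 6 n785 = n768 := d20_2 D373 D785 F1379 D783 F1398 (iv D769) F688
def n786 : Q := act 3 n374
theorem D786 : act 3 n374 = n786 := rfl
def n787 : Q := act 3 n375
theorem D787 : act 3 n375 = n787 := rfl
theorem F1404 : act 0 n787 = n786 := d2_1 D787 (iv D786) (iv F703)
def n788 : Q := act 0 n376
theorem D788 : act 0 n376 = n788 := rfl
theorem F1406 : act 1 n788 = n772 := d22_4 F379 D398 F752 D788 F1385 F695 (iv F381) (iv F755) (iv D400)
theorem F1407 : act 4 n770 = n788 := d8_0 F1406 (iv D772) D770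
def n789 : Q := act 3 n376
theorem D789 : act 3 n376 = n789 := rfl
theorem F1408 : act 1 n789 = n377 := d7_1 D789 (iv D377) D376
def n790 : Q := act 4 n376
theorem D790 : act 4 n376 = n790 := rfl
theorem F1409 : act 0 n790 = n770 := d3_1 D790 F1407 (iv D788)
theorem F1410 : act 1 n790 = n378 := d8_1 D790 (iv D378) D376
def n791 : Q := act 5 n376
theorem D791 : act 5 n376 = n791 := rfl
theorem F1412 : act 1 n791 = n379 := d9_1 D791 (iv D379) D376
def n792 : Q := act 2 n377
theorem D792 : act 2 n377 = n792 := rfl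
def n793 : Q := act 4 n377
theorem D793 : act 4 n377 = n793 := rfl
def n794 : Q := act 5 n377
theorem D794 : act 5 n377 = n794 := rfl
def n795 : Q := act 6 n377
theorem D795 : act 6 n377 = n795 := rfl
def n796 : Q := act 3 n378
theorem D796 : act 3 n378 = n796 := rfl
def n797 : Q := act 5 n378
theorem D797 : act 5 n378 = n797 := rfl
theorem F1413 : act 2 n797 = n380 := d13_1 D797 (iv D380) (iv F706)
theorem F1415 : act 6 n797 = n773 := d21_1 D797 (iv D773) F694 D378
def n798 : Q := act 3 n379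
theorem D798 : act 3 n379 = n798 := rfl
def n799 : Q := act 6 n379
theorem D799 : act 6 n379 = n799 := rfl
theorem F1416 : act 0 n799 = n797 := d5_1 D799 F1415 F1387
theorem F1417 : act 2 n799 = n381 := d14_1 D799 (iv D381) (iv F707)
theorem F1419 : act 5 n799 = n772 := d20_1 D799 F1386 D797 F1415 (iv D773) F694 D379
def n800 : Q := act 3 n380
theorem D800 : act 3 n380 = n800 := rfl
def n801 : Q := act 3 n381
theorem D801 : act 3 n381 = n801 := rfl
theorem F1421 : act 0 n801 = n800 := d2_1 D801 (iv D800) (iv F710)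
theorem F1422 : act 5 n801 = n607 := d16_2 (iv F712) D801 (iv D607) F582 (iv F696)
def n802 : Q := act 1 n382
theorem D802 : act 1 n382 = n802 := rfl
theorem F1423 : act 2 n802 = n766 := d6_2 D382 D802 (iv D766) (iv D364) (iv F367)
theorem F1424 : act 5 n802 = n388 := d9_2 (iv F714) D802 (iv D388)
def n803 : Q := act 3 n382
theorem D803 : act 3 n382 = n803 := rfl
theorem F1425 : act 0 n803 = n803 := d2_1 D803 (iv D803) F713
def n804 : Q := act 4 n382
theorem D804 : act 4 n382 = n804 := rfl
theorem F1427 : act 2 n804 = n383 := d12_1 D804 (iv D383) D382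
theorem F1428 : act 5 n804 = n390 := d18_2 (iv F714) D804 (iv D390)
def n805 : Q := act 6 n382
theorem D805 : act 6 n382 = n805 := rfl
theorem F1429 : act 0 n805 = n805 := d5_1 D805 (iv D805) F713
theorem F1430 : act 2 n805 = n384 := d14_1 D805 (iv D384) D382
def n806 : Q := act 1 n385
theorem D806 : act 1 n385 = n806 := rfl
theorem F1431 : act 2 n806 = n770 := d6_2 D385 D806 (iv D770) (iv D367) (iv F370)
theorem F1432 : act 6 n806 = n398 := d10_2 (iv F722) D806 (iv D398)
def n807 : Q := act 3 n385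
theorem D807 : act 3 n385 = n807 := rfl
theorem F1433 : act 0 n807 = n807 := d2_1 D807 (iv D807) F721
def n808 : Q := act 4 n385
theorem D808 : act 4 n385 = n808 := rfl
theorem F1435 : act 2 n808 = n386 := d12_1 D808 (iv D386) D385
theorem F1436 : act 6 n808 = n400 := d19_2 (iv F722) D808 (iv D400)
def n809 : Q := act 5 n385
theorem D809 : act 5 n385 = n809 := rfl
theorem F1438 : act 2 n809 = n387 := d13_1 D809 (iv D387) D385
def n810 : Q := act 0 n388
theorem D810 : act 0 n388 = n810 := rfl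
theorem F1439 : act 2 n810 = n774 := d1_2 (iv F729) D810 (iv D774)
theorem F1440 : act 1 n810 = n804 := d22_4 F687 D370 (iv F729) D810 F1427 F715 F716 (iv F1378) (iv D768)
theorem F1441 : act 4 n802 = n810 := d22_9 (iv D810) (iv D388) (iv D186) F215 F216 D178 (iv F687) D766 (iv F1423)
def n811 : Q := act 3 n388
theorem D811 : act 3 n388 = n811 := rfl
theorem F1442 : act 1 n811 = n389 := d7_1 D811 (iv D389) D388
def n812 : Q := act 4 n388
theorem D812 : act 4 n388 = n812 := rfl
theorem F1443 : act 0 n812 = n802 := d3_1 D812 F1441 (iv D810)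
theorem F1444 : act 1 n812 = n390 := d8_1 D812 (iv D390) D388
theorem F1445 : act 2 n812 = n776 := d12_1 D812 (iv D776) (iv F729)
theorem F1446 : act 5 n812 = n810 := d18_2 F1424 D812 (iv F1441)
def n813 : Q := act 6 n388
theorem D813 : act 6 n388 = n813 := rfl
theorem F1447 : act 1 n813 = n391 := d10_1 D813 (iv D391) D388
theorem F1448 : act 2 n813 = n777 := d14_1 D813 (iv D777) (iv F729)
def n814 : Q := act 2 n389
theorem D814 : act 2 n389 = n814 := rfl
def n815 : Q := act 4 n389
theorem D815 : act 4 n389 = n815 := rfl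
def n816 : Q := act 5 n389
theorem D816 : act 5 n389 = n816 := rfl
def n817 : Q := act 6 n389
theorem D817 : act 6 n389 = n817 := rfl
def n818 : Q := act 3 n390
theorem D818 : act 3 n390 = n818 := rfl
theorem F1453 : act 0 n818 = n818 := d2_1 D818 (iv D818) F731
def n819 : Q := act 6 n390
theorem D819 : act 6 n390 = n819 := rfl
theorem F1454 : act 0 n819 = n819 := d5_1 D819 (iv D819) F731
theorem F1455 : act 2 n819 = n392 := d14_1 D819 (iv D392) (iv F732)
theorem F1456 : act 4 n819 = n391 := d19_1 D819 (iv D391) D390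
theorem F1457 : act 5 n819 = n805 := d21_2 F1428 D819 (iv D805) D804
def n820 : Q := act 3 n391
theorem D820 : act 3 n391 = n820 := rfl
def n821 : Q := act 5 n391
theorem D821 : act 5 n391 = n821 := rfl
theorem F1460 : act 2 n821 = n394 := d13_1 D821 (iv D394) (iv F734)
theorem F1461 : act 4 n821 = n805 := d18_1 D821 (iv F1457) F1456
theorem F1462 : act 6 n821 = n804 := d20_2 D391 D821 F1428 D819 F1457 (iv D805) F714
def n822 : Q := act 3 n392
theorem D822 : act 3 n392 = n822 := rfl
theorem F1464 : act 1 n822 = n786 := d7_1 D822 (iv D786) (iv F736)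
def n823 : Q := act 2 n393
theorem D823 : act 2 n393 = n823 := rfl
theorem F1466 : act 6 n823 = n395 := d14_2 (iv F741) D823 (iv D395)
def n824 : Q := act 4 n393
theorem D824 : act 4 n393 = n824 := rfl
theorem F1469 : act 6 n824 = n396 := d19_2 (iv F741) D824 (iv D396)
def n825 : Q := act 5 n393
theorem D825 : act 5 n393 = n825 := rfl
theorem F1470 : act 0 n825 = n825 := d4_1 D825 (iv D825) F739
def n826 : Q := act 3 n394
theorem D826 : act 3 n394 = n826 := rfl
theorem F1474 : act 6 n826 = n522 := d17_2 (iv F745) D826 (iv D522) F516 (iv F717)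
def n827 : Q := act 1 n395
theorem D827 : act 1 n395 = n827 := rfl
theorem F1475 : act 2 n827 = n670 := d6_2 D395 D827 (iv D670) (iv D319) (iv F378)
def n828 : Q := act 3 n395
theorem D828 : act 3 n395 = n828 := rfl
theorem F1476 : act 0 n828 = n828 := d2_1 D828 (iv D828) F746
def n829 : Q := act 4 n395
theorem D829 : act 4 n395 = n829 := rfl
theorem F1477 : act 0 n829 = n829 := d3_1 D829 (iv D829) F746
theorem F1478 : act 2 n829 = n396 := d12_1 D829 (iv D396) D395
def n830 : Q := act 5 n395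
theorem D830 : act 5 n395 = n830 := rfl
theorem F1479 : act 0 n830 = n830 := d4_1 D830 (iv D830) F746
theorem F1480 : act 2 n830 = n397 := d13_1 D830 (iv D397) D395
def n831 : Q := act 5 n396
theorem D831 : act 5 n396 = n831 := rfl
theorem F1482 : act 1 n831 = n668 := d9_1 D831 F1244 (iv F748)
theorem F1483 : act 4 n831 = n397 := d18_1 D831 (iv D397) D396
theorem F1484 : act 6 n831 = n825 := d21_1 D831 (iv D825) F741 D396
def n832 : Q := act 6 n397
theorem D832 : act 6 n397 = n832 := rfl
theorem F1485 : act 0 n832 = n832 := d5_1 D832 (iv D832) F749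
theorem F1486 : act 1 n832 = n669 := d10_1 D832 (iv D669) (iv F750)
def n833 : Q := act 0 n398
theorem D833 : act 0 n398 = n833 := rfl
theorem F1490 : act 1 n833 = n808 := d22_4 F693 D376 (iv F752) D833 F1435 F723 F724 (iv F1385) (iv D772)
theorem F1491 : act 4 n806 = n833 := d22_9 (iv D833) (iv D398) (iv D190) F220 F221 D181 (iv F693) D770 (iv F1431)
def n834 : Q := act 3 n398
theorem D834 : act 3 n398 = n834 := rfl
theorem F1492 : act 1 n834 = n399 := d7_1 D834 (iv D399) D398
def n835 : Q := act 4 n398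
theorem D835 : act 4 n398 = n835 := rfl
theorem F1493 : act 0 n835 = n806 := d3_1 D835 F1491 (iv D833)
def n836 : Q := act 5 n398
theorem D836 : act 5 n398 = n836 := rfl
theorem F1497 : act 1 n836 = n401 := d9_1 D836 (iv D401) D398
def n837 : Q := act 2 n399
theorem D837 : act 2 n399 = n837 := rfl
theorem F1499 : act 0 n837 = n837 := d1_1 D837 (iv D837) F753
def n838 : Q := act 4 n399
theorem D838 : act 4 n399 = n838 := rfl
theorem F1500 : act 0 n838 = n838 := d3_1 D838 (iv D838) F753
def n839 : Q := act 5 n399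
theorem D839 : act 5 n399 = n839 := rfl
def n840 : Q := act 6 n399
theorem D840 : act 6 n399 = n840 := rfl
def n841 : Q := act 3 n400
theorem D841 : act 3 n400 = n841 := rfl
def n842 : Q := act 5 n400
theorem D842 : act 5 n400 = n842 := rfl
theorem F1505 : act 2 n842 = n402 := d13_1 D842 (iv D402) (iv F755)
theorem F1506 : act 4 n842 = n401 := d18_1 D842 (iv D401) D400
theorem F1507 : act 6 n842 = n809 := d21_1 D842 (iv D809) F722 D400
def n843 : Q := act 3 n401
theorem D843 : act 3 n401 = n843 := rfl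
theorem F1508 : act 0 n843 = n843 := d2_1 D843 (iv D843) F756
def n844 : Q := act 6 n401
theorem D844 : act 6 n401 = n844 := rfl
theorem F1509 : act 0 n844 = n844 := d5_1 D844 (iv D844) F756
theorem F1510 : act 2 n844 = n404 := d14_1 D844 (iv D404) (iv F757)
theorem F1512 : act 5 n844 = n808 := d20_1 D844 F1436 D842 F1507 (iv D809) F722 D401
def n845 : Q := act 3 n402
theorem D845 : act 3 n402 = n845 := rfl
theorem F1514 : act 1 n845 = n800 := d7_1 D845 (iv D800) (iv F759)
def n846 : Q := act 2 n403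
theorem D846 : act 2 n403 = n846 := rfl
theorem F1516 : act 5 n846 = n405 := d13_2 (iv F764) D846 (iv D405)
def n847 : Q := act 4 n403
theorem D847 : act 4 n403 = n847 := rfl
theorem F1519 : act 5 n847 = n406 := d18_2 (iv F764) D847 (iv D406)
def n848 : Q := act 6 n403
theorem D848 : act 6 n403 = n848 := rfl
def n849 : Q := act 3 n404
theorem D849 : act 3 n404 = n849 := rfl
theorem F1522 : act 0 n849 = n849 := d2_1 D849 (iv D849) F765
theorem F1523 : act 1 n849 = n801 := d7_1 D849 (iv D801) (iv F766)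
theorem F1524 : act 5 n849 = n545 := d16_2 (iv F768) D849 (iv D545) F533 (iv F725)
def n850 : Q := act 1 n405
theorem D850 : act 1 n405 = n850 := rfl
theorem F1525 : act 2 n850 = n651 := d6_2 D405 D850 (iv D651) (iv D311) (iv F385)
def n851 : Q := act 3 n405
theorem D851 : act 3 n405 = n851 := rfl
theorem F1526 : act 0 n851 = n851 := d2_1 D851 (iv D851) F769
def n852 : Q := act 4 n405
theorem D852 : act 4 n405 = n852 := rfl
theorem F1528 : act 2 n852 = n406 := d12_1 D852 (iv D406) D405
def n853 : Q := act 6 n405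
theorem D853 : act 6 n405 = n853 := rfl
theorem F1529 : act 0 n853 = n853 := d5_1 D853 (iv D853) F769
theorem F1530 : act 2 n853 = n407 := d14_1 D853 (iv D407) D405
def n854 : Q := act 6 n406
theorem D854 : act 6 n406 = n854 := rfl
theorem F1532 : act 1 n854 = n649 := d10_1 D854 F1227 (iv F771)
theorem F1533 : act 4 n854 = n407 := d19_1 D854 (iv D407) D406
theorem F1534 : act 5 n854 = n848 := d21_2 F1519 D854 (iv D848) D847
def n855 : Q := act 5 n407
theorem D855 : act 5 n407 = n855 := rfl
theorem F1538 : act 6 n855 = n847 := d20_2 D407 D855 F1519 D854 F1534 (iv D848) F764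
def n856 : Q := act 0 n408
theorem D856 : act 0 n408 = n856 := rfl
theorem F1539 : act 2 n856 = n638 := d1_2 (iv F776) D856 (iv D638)
theorem F1540 : act 5 n856 = n509 := d4_2 F805 D856 F995
theorem F1541 : act 1 n856 = n493 := d22_4 F539 D306 (iv F776) D856 F968 F493 (iv F542) (iv F1078) (iv D554)
theorem F1542 : act 4 n491 = n856 := d22_9 (iv D856) (iv D408) (iv D194) F227 F228 D148 (iv F539) D552 F1074
def n857 : Q := act 3 n408
theorem D857 : act 3 n408 = n857 := rfl
theorem F1543 : act 1 n857 = n409 := d7_1 D857 (iv D409) D408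
def n858 : Q := act 4 n408
theorem D858 : act 4 n408 = n858 := rfl
theorem F1544 : act 0 n858 = n491 := d3_1 D858 F1542 (iv D856)
theorem F1545 : act 1 n858 = n410 := d8_1 D858 (iv D410) D408
theorem F1546 : act 2 n858 = n640 := d12_1 D858 (iv D640) (iv F776)
theorem F1547 : act 5 n858 = n507 := d18_2 F805 D858 (iv F993)
def n859 : Q := act 6 n408
theorem D859 : act 6 n408 = n859 := rfl
def n860 : Q := act 2 n409
theorem D860 : act 2 n409 = n860 := rfl
theorem F1551 : act 3 n860 = n814 := d23_1 D860 (iv D814) (iv D389) (iv D186) (iv D94) (iv F108) D98 D194 D409 F777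
def n861 : Q := act 4 n409
theorem D861 : act 4 n409 = n861 := rfl
def n862 : Q := act 5 n409
theorem D862 : act 5 n409 = n862 := rfl
def n863 : Q := act 6 n409
theorem D863 : act 6 n409 = n863 := rfl
def n864 : Q := act 3 n410
theorem D864 : act 3 n410 = n864 := rfl
def n865 : Q := act 6 n410
theorem D865 : act 6 n410 = n865 := rfl
theorem F1559 : act 5 n865 = n423 := d21_2 F809 D865 (iv D423) D422
def n866 : Q := act 3 n411
theorem D866 : act 3 n411 = n866 := rfl
def n867 : Q := act 5 n411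
theorem D867 : act 5 n411 = n867 := rfl
theorem F1562 : act 2 n867 = n413 := d13_1 D867 (iv D413) (iv F781)
theorem F1564 : act 6 n867 = n422 := d20_2 D411 D867 F809 D865 F1559 (iv D423) F399
def n868 : Q := act 3 n412
theorem D868 : act 3 n412 = n868 := rfl
theorem F1567 : act 6 n868 = n822 := d17_2 D412 D868 (iv D822) (iv D392) (iv F389)
def n869 : Q := act 3 n413
theorem D869 : act 3 n413 = n869 := rfl
theorem F1568 : act 0 n869 = n869 := d2_1 D869 (iv D869) F786
theorem F1569 : act 1 n869 = n624 := d7_1 D869 (iv D624) (iv F787)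
theorem F1570 : act 6 n869 = n518 := d17_2 (iv F789) D869 (iv D518) (iv D250) (iv F402)
def n870 : Q := act 0 n414
theorem D870 : act 0 n414 = n870 := rfl
theorem F1572 : act 6 n870 = n531 := d5_2 F813 D870 F1037
theorem F1573 : act 1 n870 = n501 := d22_4 F548 D314 (iv F790) D870 F981 F499 (iv F551) (iv F1095) (iv D562)
def n871 : Q := act 3 n414
theorem D871 : act 3 n414 = n871 := rfl
theorem F1575 : act 1 n871 = n415 := d7_1 D871 (iv D415) D414
def n872 : Q := act 4 n414
theorem D872 : act 4 n414 = n872 := rfl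
theorem F1577 : act 1 n872 = n416 := d8_1 D872 (iv D416) D414
theorem F1579 : act 6 n872 = n529 := d19_2 F813 D872 (iv F1035)
def n873 : Q := act 5 n414
theorem D873 : act 5 n414 = n873 := rfl
theorem F1580 : act 1 n873 = n417 := d9_1 D873 (iv D417) D414
def n874 : Q := act 2 n415
theorem D874 : act 2 n415 = n874 := rfl
theorem F1582 : act 0 n874 = n874 := d1_1 D874 (iv D874) F791
theorem F1583 : act 3 n874 = n837 := d23_1 D874 (iv D837) (iv D399) (iv D190) (iv D96) (iv F112) D99 D197 D415 F791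
def n875 : Q := act 4 n415
theorem D875 : act 4 n415 = n875 := rfl
theorem F1584 : act 0 n875 = n875 := d3_1 D875 (iv D875) F791
def n876 : Q := act 5 n415
theorem D876 : act 5 n415 = n876 := rfl
theorem F1585 : act 0 n876 = n876 := d4_1 D876 (iv D876) F791
theorem F1586 : act 3 n876 = n501 := d16_1 D876 (iv F1054) (iv F1055) (iv D417) D415
def n877 : Q := act 6 n415
theorem D877 : act 6 n415 = n877 := rfl
def n878 : Q := act 3 n416
theorem D878 : act 3 n416 = n878 := rfl
theorem F1588 : act 0 n878 = n878 := d2_1 D878 (iv D878) F792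
def n879 : Q := act 5 n416
theorem D879 : act 5 n416 = n879 := rfl
theorem F1590 : act 2 n879 = n418 := d13_1 D879 (iv D418) (iv F793)
theorem F1591 : act 4 n879 = n417 := d18_1 D879 (iv D417) D416
theorem F1592 : act 6 n879 = n427 := d21_1 D879 (iv D427) F407 D416
def n880 : Q := act 6 n417
theorem D880 : act 6 n417 = n880 := rfl
theorem F1594 : act 2 n880 = n419 := d14_1 D880 (iv D419) (iv F795)
theorem F1596 : act 5 n880 = n426 := d20_1 D880 F817 D879 F1592 (iv D427) F407 D417
def n881 : Q := act 3 n418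
theorem D881 : act 3 n418 = n881 := rfl
theorem F1598 : act 1 n881 = n637 := d7_1 D881 (iv D637) (iv F797)
theorem F1599 : act 5 n881 = n845 := d16_2 D418 D881 (iv D845) (iv D402) (iv F395)
def n882 : Q := act 3 n419
theorem D882 : act 3 n419 = n882 := rfl
theorem F1600 : act 0 n882 = n882 := d2_1 D882 (iv D882) F800
theorem F1602 : act 5 n882 = n541 := d16_2 (iv F803) D882 (iv D541) (iv D260) (iv F410)
def n883 : Q := act 3 n420
theorem D883 : act 3 n420 = n883 := rfl
theorem F1603 : act 1 n883 = n421 := d7_1 D883 (iv D421) D420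
def n884 : Q := act 6 n420
theorem D884 : act 6 n420 = n884 := rfl
def n885 : Q := act 2 n421
theorem D885 : act 2 n421 = n885 := rfl
def n886 : Q := act 4 n421
theorem D886 : act 4 n421 = n886 := rfl
theorem F1607 : act 0 n886 = n886 := d3_1 D886 (iv D886) F806
def n887 : Q := act 5 n421
theorem D887 : act 5 n421 = n887 := rfl
theorem F1609 : act 3 n887 = n862 := d16_1 D887 (iv D862) (iv D409) (iv F399) D421
def n888 : Q := act 6 n421
theorem D888 : act 6 n421 = n888 := rfl
def n889 : Q := act 3 n422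
theorem D889 : act 3 n422 = n889 := rfl
theorem F1611 : act 0 n889 = n889 := d2_1 D889 (iv D889) F807
def n890 : Q := act 3 n423
theorem D890 : act 3 n423 = n890 := rfl
def n891 : Q := act 3 n424
theorem D891 : act 3 n424 = n891 := rfl
theorem F1613 : act 1 n891 = n425 := d7_1 D891 (iv D425) D424
def n893 : Q := act 2 n425
theorem D893 : act 2 n425 = n893 := rfl
theorem F1616 : act 0 n893 = n893 := d1_1 D893 (iv D893) F814
def n894 : Q := act 4 n425
theorem D894 : act 4 n425 = n894 := rfl
theorem F1617 : act 0 n894 = n894 := d3_1 D894 (iv D894) F814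
def n895 : Q := act 5 n425
theorem D895 : act 5 n425 = n895 := rfl
def n896 : Q := act 6 n425
theorem D896 : act 6 n425 = n896 := rfl
theorem F1620 : act 3 n896 = n877 := d17_1 D896 (iv D877) (iv D415) (iv F407) D425
def n897 : Q := act 3 n426
theorem D897 : act 3 n426 = n897 := rfl
theorem F1621 : act 0 n897 = n897 := d2_1 D897 (iv D897) F815
def n898 : Q := act 3 n427
theorem D898 : act 3 n427 = n898 := rfl
def n899 : Q := act 3 n428
theorem D899 : act 3 n428 = n899 := rfl
theorem F1623 : act 0 n899 = n899 := d2_1 D899 (iv D899) F823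
theorem F1624 : act 1 n899 = n429 := d7_1 D899 (iv D429) D428
def n900 : Q := act 6 n428
theorem D900 : act 6 n428 = n900 := rfl
def n901 : Q := act 2 n429
theorem D901 : act 2 n429 = n901 := rfl
theorem F1631 : act 3 n901 = n885 := d23_1 D901 (iv D885) (iv D421) (iv D200) (iv D100) (iv F122) D102 D206 D429 F824
def n902 : Q := act 4 n429
theorem D902 : act 4 n429 = n902 := rfl
theorem F1632 : act 0 n902 = n902 := d3_1 D902 (iv D902) F824
theorem F1633 : act 3 n902 = n902 := d15_1 D902 (iv D902) (iv D429) F415 D429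
def n903 : Q := act 5 n429
theorem D903 : act 5 n429 = n903 := rfl
def n904 : Q := act 6 n429
theorem D904 : act 6 n429 = n904 := rfl
def n905 : Q := act 3 n430
theorem D905 : act 3 n430 = n905 := rfl
def n906 : Q := act 0 n431
theorem D906 : act 0 n431 = n906 := rfl
theorem F1640 : act 1 n906 = n433 := d22_4 F421 D431 F829 D906 F833 F423 F424 (iv F833) (iv D433)
def n907 : Q := act 3 n431
theorem D907 : act 3 n431 = n907 := rfl
theorem F1642 : act 1 n907 = n432 := d7_1 D907 (iv D432) D431
def n909 : Q := act 2 n432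
theorem D909 : act 2 n432 = n909 := rfl
theorem F1645 : act 0 n909 = n909 := d1_1 D909 (iv D909) F831
theorem F1646 : act 3 n909 = n893 := d23_1 D909 (iv D893) (iv D425) (iv D203) (iv D101) (iv F126) D103 D208 D432 F831
def n910 : Q := act 4 n432
theorem D910 : act 4 n432 = n910 := rfl
theorem F1647 : act 0 n910 = n910 := d3_1 D910 (iv D910) F831
def n911 : Q := act 5 n432
theorem D911 : act 5 n432 = n911 := rfl
def n912 : Q := act 6 n432
theorem D912 : act 6 n432 = n912 := rfl
theorem F1650 : act 3 n912 = n912 := d17_1 D912 (iv D912) (iv D432) F422 D432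
def n913 : Q := act 3 n433
theorem D913 : act 3 n433 = n913 := rfl
theorem F1651 : act 0 n913 = n913 := d2_1 D913 (iv D913) F832
def n914 : Q := act 5 n433
theorem D914 : act 5 n433 = n914 := rfl
theorem F1655 : act 6 n914 = n434 := d21_1 D914 (iv D434) F422 D433
def n915 : Q := act 3 n434
theorem D915 : act 3 n434 = n915 := rfl
def n916 : Q := act 3 n435
theorem D916 : act 3 n435 = n916 := rfl
def n917 : Q := act 3 n436
theorem D917 : act 3 n436 = n917 := rfl
theorem F1660 : act 0 n917 = n437 := d2_1 D917 (iv D437) D436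
theorem F1661 : act 1 n917 = n441 := d7_1 D917 F858 (iv F842)
theorem F1662 : act 5 n437 = n917 := d9_0 F1661 (iv D441) (iv F844)
def n918 : Q := act 5 n436
theorem D918 : act 5 n436 = n918 := rfl
theorem F1663 : act 0 n918 = n438 := d4_1 D918 (iv D438) D436
theorem F1664 : act 1 n918 = n444 := d9_1 D918 (iv D444) (iv F842)
theorem F1665 : act 3 n918 = n438 := d16_1 D918 (iv D438) D437 F1662 (iv D917)
theorem F1666 : act 4 n918 = n438 := d18_1 D918 (iv D438) F843
theorem F1667 : act 6 n918 = n438 := d21_1 D918 (iv D438) F429 F843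
def n919 : Q := act 2 n437
theorem D919 : act 2 n437 = n919 := rfl
def n920 : Q := act 4 n437
theorem D920 : act 4 n437 = n920 := rfl
theorem F1668 : act 1 n920 = n440 := d8_1 D920 (iv D440) (iv F844)
def n921 : Q := act 6 n437
theorem D921 : act 6 n437 = n921 := rfl
theorem F1669 : act 1 n921 = n439 := d10_1 D921 F864 (iv F844)
theorem F1670 : act 3 n921 = n921 := d17_1 D921 (iv D921) (iv D437) F429 D437
def n922 : Q := act 4 n439
theorem D922 : act 4 n439 = n922 := rfl
theorem F1671 : act 0 n922 = n922 := d3_1 D922 (iv D922) F846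
theorem F1672 : act 2 n922 = n440 := d12_1 D922 (iv D440) D439
theorem F1673 : act 6 n922 = n440 := d19_2 (iv F864) D922 (iv D440)
def n923 : Q := act 5 n439
theorem D923 : act 5 n439 = n923 := rfl
theorem F1674 : act 0 n923 = n923 := d4_1 D923 (iv D923) F846
theorem F1675 : act 2 n923 = n441 := d13_1 D923 (iv D441) D439
def n924 : Q := act 3 n440
theorem D924 : act 3 n440 = n924 := rfl
theorem F1676 : act 0 n924 = n924 := d2_1 D924 (iv D924) F848
theorem F1677 : act 4 n924 = n441 := d15_2 D440 D924 F858 (iv D213) D212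
theorem F1678 : act 5 n440 = n924 := d18_0 F1677 (iv D441) D440
theorem F1679 : act 6 n923 = n924 := d21_3 (iv D441) (iv F864) D923 F1677
def n925 : Q := act 6 n441
theorem D925 : act 6 n441 = n925 := rfl
theorem F1680 : act 0 n925 = n925 := d5_1 D925 (iv D925) F849
theorem F1681 : act 2 n925 = n924 := d14_1 D925 (iv F1679) F1675
theorem F1682 : act 3 n925 = n925 := d17_1 D925 (iv D925) F858 F433 (iv F858)
theorem F1683 : act 4 n925 = n923 := d19_1 D925 F1679 F1677
theorem F1684 : act 5 n925 = n922 := d20_1 D925 F1673 F1678 (iv F1679) (iv D923) F864 D441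
def n926 : Q := act 3 n446
theorem D926 : act 3 n446 = n926 := rfl
theorem F1685 : act 0 n926 = n447 := d2_1 D926 (iv D447) D446
theorem F1686 : act 1 n926 = n453 := d7_1 D926 (iv D453) (iv F867)
def n927 : Q := act 5 n446
theorem D927 : act 5 n446 = n927 := rfl
theorem F1687 : act 0 n927 = n448 := d4_1 D927 (iv D448) D446
theorem F1688 : act 1 n927 = n454 := d9_1 D927 (iv D454) (iv F867)
theorem F1689 : act 2 n927 = n918 := d13_1 D927 (iv D918) (iv F865)
theorem F1690 : act 4 n927 = n448 := d18_1 D927 (iv D448) F868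
theorem F1691 : act 6 n927 = n448 := d21_1 D927 (iv D448) F440 F868
def n928 : Q := act 2 n447
theorem D928 : act 2 n447 = n928 := rfl
def n929 : Q := act 4 n447
theorem D929 : act 4 n447 = n929 := rfl
theorem F1692 : act 1 n929 = n450 := d8_1 D929 (iv D450) (iv F869)
def n930 : Q := act 5 n447
theorem D930 : act 5 n447 = n930 := rfl
theorem F1693 : act 1 n930 = n451 := d9_1 D930 (iv D451) (iv F869)
def n931 : Q := act 6 n447
theorem D931 : act 6 n447 = n931 := rfl
theorem F1694 : act 1 n931 = n452 := d10_1 D931 (iv D452) (iv F869)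
theorem F1695 : act 3 n931 = n931 := d17_1 D931 (iv D931) (iv D447) F440 D447
def n932 : Q := act 3 n448
theorem D932 : act 3 n448 = n932 := rfl
theorem F1696 : act 1 n932 = n455 := d7_1 D932 (iv D455) (iv F870)
def n933 : Q := act 1 n449
theorem D933 : act 1 n449 = n933 := rfl
def n934 : Q := act 4 n449
theorem D934 : act 4 n449 = n934 := rfl
theorem F1698 : act 2 n934 = n450 := d12_1 D934 (iv D450) D449
def n935 : Q := act 5 n449
theorem D935 : act 5 n449 = n935 := rfl
theorem F1700 : act 2 n935 = n451 := d13_1 D935 (iv D451) D449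
def n936 : Q := act 6 n449
theorem D936 : act 6 n449 = n936 := rfl
theorem F1702 : act 2 n936 = n452 := d14_1 D936 (iv D452) D449
def n937 : Q := act 3 n450
theorem D937 : act 3 n450 = n937 := rfl
theorem F1703 : act 0 n937 = n937 := d2_1 D937 (iv D937) F873
theorem F1704 : act 4 n937 = n453 := d15_2 D450 D937 (iv D453) (iv D218) D217
def n938 : Q := act 5 n450
theorem D938 : act 5 n450 = n938 := rfl
theorem F1706 : act 4 n938 = n451 := d18_1 D938 (iv D451) D450
def n939 : Q := act 6 n450
theorem D939 : act 6 n450 = n939 := rfl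
theorem F1708 : act 4 n939 = n452 := d19_1 D939 (iv D452) D450
def n940 : Q := act 3 n451
theorem D940 : act 3 n451 = n940 := rfl
theorem F1710 : act 5 n940 = n455 := d16_2 D451 D940 (iv D455) (iv D219) D217
theorem F1711 : act 2 n520 = n940 := d13_3 F1710 F1032 F1031
theorem F1712 : act 4 n519 = n940 := d21_4 F1710 (iv F1033) (iv D526) (iv F1016)
theorem F1713 : act 6 n940 = n525 := d21_3 D526 F1033 (iv F1710) (iv D525)
def n941 : Q := act 6 n451
theorem D941 : act 6 n451 = n941 := rfl
theorem F1715 : act 5 n941 = n939 := d21_2 D451 D941 (iv D939) (iv D450)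
def n942 : Q := act 5 n452
theorem D942 : act 5 n452 = n942 := rfl
theorem F1716 : act 0 n942 = n942 := d4_1 D942 (iv D942) F875
theorem F1717 : act 4 n942 = n941 := d18_1 D942 F1715 F1708
theorem F1718 : act 6 n942 = n938 := d20_2 D452 D942 (iv D938) D939 (iv F1715) (iv D941) (iv D451)
def n943 : Q := act 2 n453
theorem D943 : act 2 n453 = n943 := rfl
theorem F1719 : act 0 n943 = n943 := d1_1 D943 (iv D943) F877
def n944 : Q := act 5 n453
theorem D944 : act 5 n453 = n944 := rfl
def n945 : Q := act 6 n453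
theorem D945 : act 6 n453 = n945 := rfl
theorem F1721 : act 0 n945 = n945 := d5_1 D945 (iv D945) F877
theorem F1722 : act 3 n945 = n945 := d17_1 D945 (iv D945) (iv D453) F444 D453
def n946 : Q := act 3 n454
theorem D946 : act 3 n454 = n946 := rfl
theorem F1724 : act 2 n946 = n551 := d24_3 F444 D454 D946 F1073 F1060 F536 (iv F1023) (iv F1713) F1710 (iv D455) F446 (iv F450) (iv D220) F255 (iv F443)
theorem F1725 : act 5 n549 = n946 := d24_1 D549 (iv D946) F879 F450 (iv D109) (iv D55) (iv F50) (iv D23) F39 (iv F19) D6 D28 D65 D129 D263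
theorem F1726 : act 3 n944 = n549 := d16_5 F1725 (iv D946) (iv D454) D453 D944
def n947 : Q := act 4 n455
theorem D947 : act 4 n455 = n947 := rfl
theorem F1729 : act 5 n947 = n519 := d18_2 F1710 D947 F1712
def n948 : Q := act 2 n456
theorem D948 : act 2 n456 = n948 := rfl
theorem F1730 : act 0 n948 = n948 := d1_1 D948 (iv D948) F883
theorem F1731 : act 1 n948 = n948 := d6_1 D948 (iv D948) F884 F863 (iv F884)
theorem F1732 : act 4 n948 = n948 := d12_2 F885 D948 (iv D948)
theorem F1733 : act 5 n948 = n948 := d13_2 F886 D948 (iv D948)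
theorem F1734 : act 6 n948 = n948 := d14_2 F887 D948 (iv D948)
def n949 : Q := act 3 n457
theorem D949 : act 3 n457 = n949 := rfl
theorem F1735 : act 0 n949 = n458 := d2_1 D949 (iv D458) D457
theorem F1736 : act 1 n949 = n464 := d7_1 D949 (iv D464) (iv F889)
def n951 : Q := act 2 n458
theorem D951 : act 2 n458 = n951 := rfl
def n957 : Q := act 1 n460
theorem D957 : act 1 n460 = n957 := rfl
theorem F1752 : act 3 n957 = n933 := d7_2 (iv F895) D957 (iv D933)
def n958 : Q := act 4 n460
theorem D958 : act 4 n460 = n958 := rfl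
theorem F1753 : act 0 n958 = n958 := d3_1 D958 (iv D958) F894
theorem F1754 : act 2 n958 = n461 := d12_1 D958 (iv D461) D460
def n959 : Q := act 5 n460
theorem D959 : act 5 n460 = n959 := rfl
def n960 : Q := act 6 n460
theorem D960 : act 6 n460 = n960 := rfl
theorem F1758 : act 2 n960 = n463 := d14_1 D960 (iv D463) D460
def n961 : Q := act 3 n461
theorem D961 : act 3 n461 = n961 := rfl
theorem F1759 : act 0 n961 = n961 := d2_1 D961 (iv D961) F896
theorem F1760 : act 4 n961 = n464 := d15_2 D461 D961 (iv D464) (iv D223) D222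
def n963 : Q := act 6 n461
theorem D963 : act 6 n461 = n963 := rfl
theorem F1764 : act 4 n963 = n463 := d19_1 D963 (iv D463) D461
def n964 : Q := act 3 n462
theorem D964 : act 3 n462 = n964 := rfl
theorem F1766 : act 5 n964 = n466 := d16_2 D462 D964 (iv D466) (iv D224) D222
def n966 : Q := act 5 n463
theorem D966 : act 5 n463 = n966 := rfl
def n967 : Q := act 2 n464
theorem D967 : act 2 n464 = n967 := rfl
def n968 : Q := act 5 n464
theorem D968 : act 5 n464 = n968 := rfl
def n969 : Q := act 6 n464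
theorem D969 : act 6 n464 = n969 := rfl
def n970 : Q := act 3 n465
theorem D970 : act 3 n465 = n970 := rfl
theorem F1776 : act 6 n970 = n466 := d17_2 (iv F903) D970 (iv D466) D467 (iv F909)
def n971 : Q := act 2 n466
theorem D971 : act 2 n466 = n971 := rfl
def n975 : Q := act 2 n469
theorem D975 : act 2 n469 = n975 := rfl
def n977 : Q := act 0 n470
theorem D977 : act 0 n470 = n977 := rfl
theorem F1793 : act 2 n977 = n977 := d1_2 F917 D977 (iv D977)
theorem F1794 : act 6 n977 = n977 := d5_2 F918 D977 (iv D977)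
theorem F1795 : act 1 n977 = n472 := d22_4 F465 D470 F917 D977 F921 F467 F468 (iv F921) (iv D472)
theorem F1796 : act 4 n470 = n977 := d22_9 (iv D977) (iv D470) (iv D227) F267 F268 D227 F465 D470 F917
def n978 : Q := act 3 n470
theorem D978 : act 3 n470 = n978 := rfl
theorem F1797 : act 1 n978 = n471 := d7_1 D978 (iv D471) D470
def n979 : Q := act 5 n470
theorem D979 : act 5 n470 = n979 := rfl
theorem F1798 : act 1 n979 = n473 := d9_1 D979 (iv D473) D470
def n980 : Q := act 2 n471
theorem D980 : act 2 n471 = n980 := rfl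
def n981 : Q := act 4 n471
theorem D981 : act 4 n471 = n981 := rfl
def n982 : Q := act 5 n471
theorem D982 : act 5 n471 = n982 := rfl
def n983 : Q := act 6 n471
theorem D983 : act 6 n471 = n983 := rfl
def n984 : Q := act 3 n472
theorem D984 : act 3 n472 = n984 := rfl
theorem F1805 : act 0 n984 = n984 := d2_1 D984 (iv D984) F920
def n985 : Q := act 5 n472
theorem D985 : act 5 n472 = n985 := rfl
theorem F1807 : act 2 n985 = n474 := d13_1 D985 (iv D474) (iv F921)
theorem F1808 : act 4 n985 = n473 := d18_1 D985 (iv D473) D472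
theorem F1809 : act 6 n985 = n473 := d21_1 D985 (iv D473) F466 D472
def n986 : Q := act 3 n473
theorem D986 : act 3 n473 = n986 := rfl
theorem F1811 : act 2 n986 = n832 := d24_3 F466 D473 D986 (iv D832) (iv D397) (iv D189) (iv F224) F226 (iv D48) D17 D18 D53 (iv F137) D113 D227
theorem F1812 : act 6 n830 = n986 := d14_0 F1811 (iv D832) (iv F1480)
def n988 : Q := act 3 n475
theorem D988 : act 3 n475 = n988 := rfl
theorem F1818 : act 0 n988 = n476 := d2_1 D988 (iv D476) D475
theorem F1819 : act 1 n988 = n480 := d7_1 D988 F939 (iv F931)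
def n989 : Q := act 2 n476
theorem D989 : act 2 n476 = n989 := rfl
def n992 : Q := act 1 n478
theorem D992 : act 1 n478 = n992 := rfl
def n993 : Q := act 4 n478
theorem D993 : act 4 n478 = n993 := rfl
theorem F1824 : act 0 n993 = n993 := d3_1 D993 (iv D993) F936
theorem F1825 : act 2 n993 = n479 := d12_1 D993 (iv D479) D478
def n994 : Q := act 5 n478
theorem D994 : act 5 n478 = n994 := rfl
theorem F1827 : act 2 n994 = n480 := d13_1 D994 (iv D480) D478
def n995 : Q := act 6 n478
theorem D995 : act 6 n478 = n995 := rfl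
theorem F1829 : act 2 n995 = n481 := d14_1 D995 (iv D481) D478
def n996 : Q := act 3 n479
theorem D996 : act 3 n479 = n996 := rfl
theorem F1831 : act 4 n996 = n480 := d15_2 D479 D996 F939 (iv D232) D231
theorem F1832 : act 5 n479 = n996 := d18_0 F1831 (iv D480) D479
def n997 : Q := act 6 n479
theorem D997 : act 6 n479 = n997 := rfl
theorem F1834 : act 4 n997 = n481 := d19_1 D997 (iv D481) D479
def n998 : Q := act 6 n480
theorem D998 : act 6 n480 = n998 := rfl
theorem F1836 : act 3 n998 = n969 := d17_1 D998 (iv D969) (iv D464) (iv F478) (iv F939)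
theorem F1837 : act 5 n998 = n997 := d21_2 D480 D998 (iv D997) (iv D479)
def n999 : Q := act 5 n481
theorem D999 : act 5 n481 = n999 := rfl
theorem F1840 : act 6 n999 = n996 := d20_2 D481 D999 (iv F1832) D997 (iv F1837) (iv D998) (iv D480)
def n1000 : Q := act 1 n482
theorem D1000 : act 1 n482 = n1000 := rfl
theorem F1841 : act 2 n1000 = n1000 := d6_2 D482 D1000 (iv D1000) (iv D482) F482
theorem F1842 : act 5 n1000 = n485 := d9_2 (iv F943) D1000 (iv D485)
def n1001 : Q := act 3 n482
theorem D1001 : act 3 n482 = n1001 := rfl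
def n1002 : Q := act 4 n482
theorem D1002 : act 4 n482 = n1002 := rfl
theorem F1846 : act 5 n1002 = n487 := d18_2 (iv F943) D1002 (iv D487)
def n1003 : Q := act 6 n482
theorem D1003 : act 6 n482 = n1003 := rfl
theorem F1848 : act 2 n1003 = n484 := d14_1 D1003 (iv D484) D482
def n1004 : Q := act 0 n485
theorem D1004 : act 0 n485 = n1004 := rfl
theorem F1850 : act 1 n1004 = n487 := d22_4 F484 D485 F949 D1004 F952 F485 F486 (iv F952) (iv D487)
def n1005 : Q := act 3 n485
theorem D1005 : act 3 n485 = n1005 := rfl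
theorem F1852 : act 1 n1005 = n486 := d7_1 D1005 (iv D486) D485
def n1006 : Q := act 6 n485
theorem D1006 : act 6 n485 = n1006 := rfl
theorem F1853 : act 1 n1006 = n488 := d10_1 D1006 (iv D488) D485
def n1007 : Q := act 2 n486
theorem D1007 : act 2 n486 = n1007 := rfl
def n1008 : Q := act 4 n486
theorem D1008 : act 4 n486 = n1008 := rfl
def n1009 : Q := act 5 n486
theorem D1009 : act 5 n486 = n1009 := rfl
def n1010 : Q := act 6 n486
theorem D1010 : act 6 n486 = n1010 := rfl
theorem F1858 : act 0 n1010 = n1010 := d5_1 D1010 (iv D1010) F950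
def n1011 : Q := act 3 n487
theorem D1011 : act 3 n487 = n1011 := rfl
theorem F1859 : act 0 n1011 = n1011 := d2_1 D1011 (iv D1011) F951
def n1012 : Q := act 6 n487
theorem D1012 : act 6 n487 = n1012 := rfl
theorem F1862 : act 4 n1012 = n488 := d19_1 D1012 (iv D488) D487
theorem F1863 : act 5 n1012 = n1003 := d21_2 F1846 D1012 (iv D1003) D1002
def n1013 : Q := act 3 n488
theorem D1013 : act 3 n488 = n1013 := rfl
def n1014 : Q := act 5 n488
theorem D1014 : act 5 n488 = n1014 := rfl
def n1015 : Q := act 3 n491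
theorem D1015 : act 3 n491 = n1015 := rfl
theorem F1869 : act 1 n1015 = n492 := d7_1 D1015 (iv D492) D491
def n1016 : Q := act 6 n491
theorem D1016 : act 6 n491 = n1016 := rfl
theorem F1870 : act 1 n1016 = n494 := d10_1 D1016 (iv D494) D491
def n1017 : Q := act 2 n492
theorem D1017 : act 2 n492 = n1017 := rfl
def n1018 : Q := act 4 n492
theorem D1018 : act 4 n492 = n1018 := rfl
def n1019 : Q := act 5 n492
theorem D1019 : act 5 n492 = n1019 := rfl
theorem F1874 : act 0 n1019 = n1019 := d4_1 D1019 (iv D1019) F966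
theorem F1875 : act 3 n1019 = n512 := d16_1 D1019 (iv D512) (iv D247) (iv F492) D492
def n1020 : Q := act 6 n492
theorem D1020 : act 6 n492 = n1020 := rfl
def n1022 : Q := act 3 n494
theorem D1022 : act 3 n494 = n1022 := rfl
def n1023 : Q := act 2 n495
theorem D1023 : act 2 n495 = n1023 := rfl
theorem F1880 : act 6 n1023 = n496 := d14_2 (iv F973) D1023 (iv D496)
def n1024 : Q := act 4 n495
theorem D1024 : act 4 n495 = n1024 := rfl
theorem F1882 : act 6 n1024 = n497 := d19_2 (iv F973) D1024 (iv D497)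
def n1025 : Q := act 5 n495
theorem D1025 : act 5 n495 = n1025 := rfl
def n1026 : Q := act 1 n496
theorem D1026 : act 1 n496 = n1026 := rfl
def n1027 : Q := act 3 n496
theorem D1027 : act 3 n496 = n1027 := rfl
def n1028 : Q := act 4 n496
theorem D1028 : act 4 n496 = n1028 := rfl
theorem F1886 : act 2 n1028 = n497 := d12_1 D1028 (iv D497) D496
def n1029 : Q := act 5 n496
theorem D1029 : act 5 n496 = n1029 := rfl
theorem F1888 : act 2 n1029 = n498 := d13_1 D1029 (iv D498) D496
def n1030 : Q := act 5 n497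
theorem D1030 : act 5 n497 = n1030 := rfl
theorem F1891 : act 6 n1030 = n1025 := d21_1 D1030 (iv D1025) F973 D497
def n1031 : Q := act 6 n498
theorem D1031 : act 6 n498 = n1031 := rfl
theorem F1894 : act 5 n1031 = n1024 := d20_1 D1031 F1882 D1030 F1891 (iv D1025) F973 D498
def n1032 : Q := act 3 n499
theorem D1032 : act 3 n499 = n1032 := rfl
def n1033 : Q := act 5 n499
theorem D1033 : act 5 n499 = n1033 := rfl
theorem F1896 : act 1 n1033 = n502 := d9_1 D1033 (iv D502) D499
def n1034 : Q := act 2 n500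
theorem D1034 : act 2 n500 = n1034 := rfl
theorem F1898 : act 3 n1034 = n1034 := d23_1 D1034 (iv D1034) (iv D500) (iv D242) (iv D120) F148 D120 D242 D500 F979
def n1035 : Q := act 4 n500
theorem D1035 : act 4 n500 = n1035 := rfl
def n1036 : Q := act 5 n500
theorem D1036 : act 5 n500 = n1036 := rfl
def n1037 : Q := act 6 n500
theorem D1037 : act 6 n500 = n1037 := rfl
theorem F1902 : act 3 n1037 = n536 := d17_1 D1037 (iv D536) (iv D257) (iv F498) D500
def n1038 : Q := act 3 n502
theorem D1038 : act 3 n502 = n1038 := rfl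
def n1039 : Q := act 2 n503
theorem D1039 : act 2 n503 = n1039 := rfl
theorem F1904 : act 0 n1039 = n1039 := d1_1 D1039 (iv D1039) F985
theorem F1905 : act 5 n1039 = n504 := d13_2 (iv F986) D1039 (iv D504)
def n1040 : Q := act 4 n503
theorem D1040 : act 4 n503 = n1040 := rfl
theorem F1907 : act 5 n1040 = n505 := d18_2 (iv F986) D1040 (iv D505)
def n1041 : Q := act 6 n503
theorem D1041 : act 6 n503 = n1041 := rfl
def n1042 : Q := act 1 n504
theorem D1042 : act 1 n504 = n1042 := rfl
def n1043 : Q := act 3 n504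
theorem D1043 : act 3 n504 = n1043 := rfl
theorem F1909 : act 0 n1043 = n1043 := d2_1 D1043 (iv D1043) F987
def n1044 : Q := act 4 n504
theorem D1044 : act 4 n504 = n1044 := rfl
theorem F1911 : act 2 n1044 = n505 := d12_1 D1044 (iv D505) D504
def n1045 : Q := act 6 n504
theorem D1045 : act 6 n504 = n1045 := rfl
theorem F1913 : act 2 n1045 = n506 := d14_1 D1045 (iv D506) D504
def n1046 : Q := act 6 n505
theorem D1046 : act 6 n505 = n1046 := rfl
theorem F1914 : act 0 n1046 = n1046 := d5_1 D1046 (iv D1046) F988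
theorem F1916 : act 5 n1046 = n1041 := d21_2 F1907 D1046 (iv D1041) D1040
def n1047 : Q := act 5 n506
theorem D1047 : act 5 n506 = n1047 := rfl
theorem F1919 : act 6 n1047 = n1040 := d20_2 D506 D1047 F1907 D1046 F1916 (iv D1041) F986
def n1048 : Q := act 3 n507
theorem D1048 : act 3 n507 = n1048 := rfl
theorem F1920 : act 0 n1048 = n508 := d2_1 D1048 (iv D508) D507
theorem F1921 : act 1 n1048 = n889 := d7_1 D1048 (iv D889) (iv F992)
def n1049 : Q := act 6 n507
theorem D1049 : act 6 n507 = n1049 := rfl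
theorem F1923 : act 1 n1049 = n867 := d10_1 D1049 F1564 (iv F992)
theorem F1925 : act 5 n1049 = n859 := d21_2 F1547 D1049 (iv D859) D858
def n1050 : Q := act 2 n508
theorem D1050 : act 2 n508 = n1050 := rfl
theorem F1926 : act 1 n1050 = n1050 := d6_1 D1050 (iv D1050) F994 F504 (iv F994)
def n1051 : Q := act 4 n508
theorem D1051 : act 4 n508 = n1051 := rfl
theorem F1927 : act 1 n1051 = n511 := d8_1 D1051 (iv D511) (iv F994)
def n1052 : Q := act 5 n508
theorem D1052 : act 5 n508 = n1052 := rfl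
theorem F1928 : act 1 n1052 = n512 := d9_1 D1052 (iv D512) (iv F994)
def n1053 : Q := act 6 n508
theorem D1053 : act 6 n508 = n1053 := rfl
theorem F1929 : act 1 n1053 = n513 := d10_1 D1053 (iv D513) (iv F994)
def n1054 : Q := act 3 n509
theorem D1054 : act 3 n509 = n1054 := rfl
theorem F1930 : act 0 n1054 = n883 := d2_1 D1054 (iv D883) (iv F995)
theorem F1931 : act 1 n1054 = n514 := d7_1 D1054 (iv D514) (iv F996)
def n1055 : Q := act 6 n509
theorem D1055 : act 6 n509 = n1055 := rfl
theorem F1935 : act 5 n1055 = n1016 := d21_2 F1540 D1055 (iv D1016) F1542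
def n1056 : Q := act 3 n510
theorem D1056 : act 3 n510 = n1056 := rfl
theorem F1936 : act 1 n1056 = n516 := d7_1 D1056 (iv D516) (iv F997)
def n1057 : Q := act 5 n510
theorem D1057 : act 5 n510 = n1057 := rfl
theorem F1940 : act 6 n1057 = n856 := d20_2 D510 D1057 F1540 D1055 F1935 (iv D1016) F965
def n1058 : Q := act 3 n511
theorem D1058 : act 3 n511 = n1058 := rfl
theorem F1942 : act 4 n1058 = n514 := d15_2 D511 D1058 (iv D514) (iv D248) D247
def n1059 : Q := act 5 n511
theorem D1059 : act 5 n511 = n1059 := rfl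
def n1060 : Q := act 6 n511
theorem D1060 : act 6 n511 = n1060 := rfl
theorem F1948 : act 4 n1060 = n513 := d19_1 D1060 (iv D513) D511
def n1061 : Q := act 6 n512
theorem D1061 : act 6 n512 = n1061 := rfl
theorem F1950 : act 2 n1061 = n1061 := d14_1 D1061 (iv D1061) F1001
theorem F1951 : act 5 n1061 = n1060 := d21_2 D512 D1061 (iv D1060) (iv D511)
def n1062 : Q := act 3 n513
theorem D1062 : act 3 n513 = n1062 := rfl
theorem F1952 : act 0 n1062 = n1062 := d2_1 D1062 (iv D1062) F1002
theorem F1953 : act 6 n1062 = n516 := d17_2 D513 D1062 (iv D516) (iv D249) D247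
def n1063 : Q := act 5 n513
theorem D1063 : act 5 n513 = n1063 := rfl
theorem F1955 : act 2 n1063 = n1063 := d13_1 D1063 (iv D1063) F1003
theorem F1956 : act 4 n1063 = n1061 := d18_1 D1063 F1951 F1948
theorem F1957 : act 6 n1063 = n1059 := d20_2 D513 D1063 (iv D1059) D1060 (iv F1951) (iv D1061) (iv D512)
def n1064 : Q := act 2 n514
theorem D1064 : act 2 n514 = n1064 := rfl
def n1065 : Q := act 5 n514
theorem D1065 : act 5 n514 = n1065 := rfl
def n1066 : Q := act 6 n514
theorem D1066 : act 6 n514 = n1066 := rfl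
def n1067 : Q := act 3 n515
theorem D1067 : act 3 n515 = n1067 := rfl
def n1068 : Q := act 2 n516
theorem D1068 : act 2 n516 = n1068 := rfl
theorem F1962 : act 0 n1068 = n1068 := d1_1 D1068 (iv D1068) F1009
def n1069 : Q := act 4 n516
theorem D1069 : act 4 n516 = n1069 := rfl
def n1070 : Q := act 5 n516
theorem D1070 : act 5 n516 = n1070 := rfl
def n1071 : Q := act 3 n517
theorem D1071 : act 3 n517 = n1071 := rfl
def n1072 : Q := act 2 n518
theorem D1072 : act 2 n518 = n1072 := rfl
theorem F1966 : act 0 n1072 = n1072 := d1_1 D1072 (iv D1072) F1014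
def n1073 : Q := act 4 n518
theorem D1073 : act 4 n518 = n1073 := rfl
theorem F1967 : act 0 n1073 = n1073 := d3_1 D1073 (iv D1073) F1014
theorem F1968 : act 3 n1073 = n520 := d15_1 D1073 (iv D520) (iv D251) (iv F510) D518
def n1074 : Q := act 5 n518
theorem D1074 : act 5 n518 = n1074 := rfl
def n1075 : Q := act 1 n519
theorem D1075 : act 1 n519 = n1075 := rfl
theorem F1971 : act 6 n1075 = n523 := d10_2 (iv F1016) D1075 (iv D523)
def n1076 : Q := act 3 n519
theorem D1076 : act 3 n519 = n1076 := rfl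
def n1077 : Q := act 3 n521
theorem D1077 : act 3 n521 = n1077 := rfl
theorem F1974 : act 5 n1077 = n522 := d16_2 D521 D1077 (iv D522) (iv D252) D251
def n1078 : Q := act 2 n522
theorem D1078 : act 2 n522 = n1078 := rfl
def n1080 : Q := act 0 n523
theorem D1080 : act 0 n523 = n1080 := rfl
theorem F1978 : act 1 n1080 = n548 := d22_4 F583 D585 F1130 D1080 F1065 F535 (iv F585) (iv F1166) (iv D610)
def n1081 : Q := act 3 n523
theorem D1081 : act 3 n523 = n1081 := rfl
theorem F1980 : act 1 n1081 = n524 := d7_1 D1081 (iv D524) D523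
def n1082 : Q := act 4 n523
theorem D1082 : act 4 n523 = n1082 := rfl
theorem F1982 : act 1 n1082 = n525 := d8_1 D1082 (iv D525) D523
def n1083 : Q := act 5 n523
theorem D1083 : act 5 n523 = n1083 := rfl
theorem F1983 : act 1 n1083 = n526 := d9_1 D1083 (iv D526) D523
theorem F1984 : act 6 n932 = n1083 := d10_0 F1983 F1033 (iv F1696)
def n1084 : Q := act 2 n524
theorem D1084 : act 2 n524 = n1084 := rfl
theorem F1986 : act 3 n1084 = n980 := d23_1 D1084 (iv D980) (iv D471) (iv D227) (iv D113) (iv F151) D125 D253 D524 F1021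
def n1085 : Q := act 4 n524
theorem D1085 : act 4 n524 = n1085 := rfl
def n1086 : Q := act 5 n524
theorem D1086 : act 5 n524 = n1086 := rfl
theorem F1988 : act 0 n1086 = n1086 := d4_1 D1086 (iv D1086) F1021
def n1087 : Q := act 6 n524
theorem D1087 : act 6 n524 = n1087 := rfl
def n1088 : Q := act 3 n525
theorem D1088 : act 3 n525 = n1088 := rfl
theorem F1990 : act 0 n1088 = n1088 := d2_1 D1088 (iv D1088) F1022
def n1089 : Q := act 5 n525
theorem D1089 : act 5 n525 = n1089 := rfl
theorem F1993 : act 4 n1089 = n526 := d18_1 D1089 (iv D526) D525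
theorem F1994 : act 6 n1089 = n947 := d20_2 F1713 D1089 F1729 F1016 D526 F1033 (iv F1710)
def n1090 : Q := act 3 n526
theorem D1090 : act 3 n526 = n1090 := rfl
theorem F1996 : act 6 n1090 = n946 := d17_2 (iv F1033) D1090 (iv D946) F881 D455
theorem F1997 : act 2 n543 = n1090 := d14_3 F1996 F1724 F1073
theorem F1998 : act 5 n548 = n1090 := d21_0 F1996 (iv F1725) (iv D549) D548
theorem F1999 : act 4 n1090 = n542 := d21_4 F1058 D549 F1725 (iv F1996)
theorem F2000 : act 3 n1086 = n548 := d16_5 F1998 (iv D1090) (iv D526) D524 D1086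
theorem E9 : n860 = n239 := (c24_12 F1016 D526 D1090 (iv F1997) (iv F1073) (iv D551) F538 (iv F811) (iv D423) F399 D409 D860 (iv F516) (iv D252) D251 D519)
theorem E10 : n493 = n409 := (((iv F968)).symm.trans (sb E9 (iv D860)))
theorem E11 : n814 = n383 := ((((iv F717)).symm.trans (sb E9 F1551))).symm
theorem E12 : n857 = n856 := (((iv F1543)).symm.trans (sb E10 (iv F1541)))
theorem F2001 : act 2 n409 = n239 := (sb E10 F968)
theorem E14 : n861 = n238 := ((D861).symm.trans (sb E10 (iv D493)))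
theorem E15 : n862 = n248 := ((D862).symm.trans (sb E10 F969))
theorem E16 : n863 = n517 := ((D863).symm.trans (sb E10 (iv F1013)))
theorem E17 : n804 = n389 := (((iv F1427)).symm.trans (sb E11 (iv D814)))
theorem F2002 : act 1 n856 = n409 := (sb E12 F1543)
theorem F2003 : act 3 n856 = n408 := (sb E12 (iv D857))
theorem F2004 : act 4 n238 = n409 := (sb E14 (iv D861))
theorem E18 : n887 = n514 := (((D514).symm.trans (sb E15 (iv F1609)))).symm
theorem F2005 : act 5 n248 = n409 := (sb E15 (iv D862))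
theorem F2006 : act 6 n517 = n409 := (sb E16 (iv D863))
theorem E19 : n811 = n810 := (((iv F1442)).symm.trans (sb E17 (iv F1440)))
theorem F2007 : act 2 n389 = n383 := (sb E17 F1427)
theorem E20 : n815 = n382 := ((D815).symm.trans (sb E17 (iv D804)))
theorem E21 : n816 = n390 := ((D816).symm.trans (sb E17 F1428))
theorem E22 : n821 = n817 := (((D817).symm.trans (sb E17 (iv F1462)))).symm
theorem E23 : n1065 = n421 := ((D1065).symm.trans (sb E18 (iv D887)))
theorem F2008 : act 1 n810 = n389 := (sb E19 F1442)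
theorem F2009 : act 3 n810 = n388 := (sb E19 (iv D811))
theorem F2010 : act 4 n382 = n389 := (sb E20 (iv D815))
theorem F2011 : act 5 n390 = n389 := (sb E21 (iv D816))
theorem F2012 : act 2 n817 = n394 := (sb E22 F1460)
theorem F2013 : act 4 n817 = n805 := (sb E22 F1461)
theorem F2014 : act 5 n817 = n391 := (sb E22 (iv D821))
theorem F2015 : act 5 n421 = n514 := (sb E23 (iv D1065))
theorem F2016 : act 5 n1054 = n883 := d9_2 F2015 (iv F1931) F1603
theorem F2017 : act 5 n1064 = n885 := d13_2 F2015 D1064 (iv D885)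
theorem F2018 : act 5 n1058 = n886 := d18_2 F2015 (iv F1942) (iv D886)
theorem F2019 : act 5 n803 = n818 := d16_4 F2011 (iv D389) (iv F714) D803 (iv D818)
theorem F2020 : act 4 n818 = n803 := d15_4 F2010 (iv D389) D390 D818 (iv D803)
theorem F2021 : act 6 n866 = n1071 := d17_4 F2006 (iv D409) D411 D866 (iv D1071)
theorem E24 : n1018 = n864 := ((c15_4 F2004 (iv D409) D410 D864 (iv D1018) (iv D492))).symm
theorem F2022 : act 4 n864 = n492 := (sb E24 (iv D1018))
def n1091 : Q := act 3 n527
theorem D1091 : act 3 n527 = n1091 := rfl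
theorem F2024 : act 4 n1091 = n882 := d15_2 (iv F1027) D1091 (iv D882) F802 (iv F520)
def n1092 : Q := act 3 n528
theorem D1092 : act 3 n528 = n1092 := rfl
theorem F2025 : act 0 n1092 = n1092 := d2_1 D1092 (iv D1092) F1029
theorem F2026 : act 6 n1092 = n881 := d17_2 D528 D1092 (iv D881) F799 (iv F520)
theorem F2027 : act 2 n1092 = n1092 := d23_2 F1032 D1092 (iv D1092) (iv F1032) (iv D455) F446 F259 (iv F446) D455 F882
theorem F2028 : act 2 n881 = n881 := d14_3 (iv F2026) F2027 F2026
theorem F2029 : act 2 n845 = n845 := d13_3 (iv F1599) F2028 F1599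
def n1093 : Q := act 3 n529
theorem D1093 : act 3 n529 = n1093 := rfl
theorem F2030 : act 0 n1093 = n530 := d2_1 D1093 (iv D530) D529
theorem F2031 : act 1 n1093 = n897 := d7_1 D1093 (iv D897) (iv F1034)
def n1094 : Q := act 5 n529
theorem D1094 : act 5 n529 = n1094 := rfl
theorem F2032 : act 0 n1094 = n532 := d4_1 D1094 (iv D532) D529
theorem F2033 : act 1 n1094 = n880 := d9_1 D1094 F1596 (iv F1034)
theorem F2035 : act 6 n1094 = n873 := d21_1 D1094 (iv D873) (iv F813) F1035
def n1095 : Q := act 2 n530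
theorem D1095 : act 2 n530 = n1095 := rfl
def n1096 : Q := act 4 n530
theorem D1096 : act 4 n530 = n1096 := rfl
def n1099 : Q := act 3 n531
theorem D1099 : act 3 n531 = n1099 := rfl
theorem F2039 : act 0 n1099 = n891 := d2_1 D1099 (iv D891) (iv F1037)
theorem F2040 : act 1 n1099 = n537 := d7_1 D1099 (iv D537) (iv F1038)
def n1100 : Q := act 5 n531
theorem D1100 : act 5 n531 = n1100 := rfl
theorem F2043 : act 4 n1100 = n532 := d18_1 D1100 (iv D532) D531
theorem F2044 : act 6 n1100 = n1033 := d21_1 D1100 (iv D1033) F978 D531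
def n1101 : Q := act 3 n532
theorem D1101 : act 3 n532 = n1101 := rfl
theorem F2045 : act 1 n1101 = n539 := d7_1 D1101 (iv D539) (iv F1039)
def n1102 : Q := act 6 n532
theorem D1102 : act 6 n532 = n1102 := rfl
theorem F2047 : act 1 n1102 = n540 := d10_1 D1102 (iv D540) (iv F1039)
theorem F2048 : act 4 n1102 = n1033 := d19_1 D1102 (iv F2044) F2043
theorem F2049 : act 5 n1102 = n870 := d20_1 D1102 F1572 D1100 F2044 (iv D1033) F978 D532
theorem F2050 : act 3 n873 = n1102 := d7_0 F2047 (iv F1055) (iv F1580)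
def n1103 : Q := act 1 n533
theorem D1103 : act 1 n533 = n1103 := rfl
theorem F2051 : act 3 n1103 = n992 := d7_2 (iv F1041) D1103 (iv D992)
def n1104 : Q := act 4 n533
theorem D1104 : act 4 n533 = n1104 := rfl
theorem F2052 : act 0 n1104 = n1104 := d3_1 D1104 (iv D1104) F1040
theorem F2053 : act 2 n1104 = n534 := d12_1 D1104 (iv D534) D533
def n1105 : Q := act 5 n533
theorem D1105 : act 5 n533 = n1105 := rfl
theorem F2055 : act 2 n1105 = n535 := d13_1 D1105 (iv D535) D533
def n1106 : Q := act 6 n533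
theorem D1106 : act 6 n533 = n1106 := rfl
theorem F2056 : act 0 n1106 = n1106 := d5_1 D1106 (iv D1106) F1040
theorem F2057 : act 2 n1106 = n536 := d14_1 D1106 (iv D536) D533
def n1107 : Q := act 3 n534
theorem D1107 : act 3 n534 = n1107 := rfl
theorem F2059 : act 4 n1107 = n537 := d15_2 D534 D1107 (iv D537) (iv D258) D257
def n1108 : Q := act 5 n534
theorem D1108 : act 5 n534 = n1108 := rfl
def n1109 : Q := act 6 n534
theorem D1109 : act 6 n534 = n1109 := rfl
theorem F2063 : act 4 n1109 = n536 := d19_1 D1109 (iv D536) D534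
def n1110 : Q := act 3 n535
theorem D1110 : act 3 n535 = n1110 := rfl
theorem F2065 : act 5 n1110 = n539 := d16_2 D535 D1110 (iv D539) (iv D259) D257
def n1111 : Q := act 6 n535
theorem D1111 : act 6 n535 = n1111 := rfl
theorem F2067 : act 5 n1111 = n1109 := d21_2 D535 D1111 (iv D1109) (iv D534)
def n1112 : Q := act 5 n536
theorem D1112 : act 5 n536 = n1112 := rfl
theorem F2068 : act 0 n1112 = n1112 := d4_1 D1112 (iv D1112) F1044
theorem F2070 : act 6 n1112 = n1108 := d20_2 D536 D1112 (iv D1108) D1109 (iv F2067) (iv D1111) (iv D535)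
def n1113 : Q := act 2 n537
theorem D1113 : act 2 n537 = n1113 := rfl
theorem F2071 : act 0 n1113 = n1113 := d1_1 D1113 (iv D1113) F1045
def n1114 : Q := act 5 n537
theorem D1114 : act 5 n537 = n1114 := rfl
def n1115 : Q := act 6 n537
theorem D1115 : act 6 n537 = n1115 := rfl
def n1116 : Q := act 3 n538
theorem D1116 : act 3 n538 = n1116 := rfl
def n1117 : Q := act 2 n539
theorem D1117 : act 2 n539 = n1117 := rfl
def n1118 : Q := act 4 n539
theorem D1118 : act 4 n539 = n1118 := rfl
def n1119 : Q := act 6 n539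
theorem D1119 : act 6 n539 = n1119 := rfl
theorem F2077 : act 0 n1119 = n1119 := d5_1 D1119 (iv D1119) F1050
theorem F2078 : act 3 n1119 = n880 := d17_1 D1119 (iv D880) F1055 (iv D540) D539
def n1120 : Q := act 2 n541
theorem D1120 : act 2 n541 = n1120 := rfl
theorem F2079 : act 0 n1120 = n1120 := d1_1 D1120 (iv D1120) F1056
def n1121 : Q := act 4 n541
theorem D1121 : act 4 n541 = n1121 := rfl
theorem F2081 : act 3 n1121 = n543 := d15_1 D1121 (iv D543) (iv D261) (iv F527) D541
def n1122 : Q := act 6 n541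
theorem D1122 : act 6 n541 = n1122 := rfl
theorem F2084 : act 3 n1122 = n1041 := d17_1 D1122 (iv D1041) (iv D503) (iv F528) D541
def n1123 : Q := act 1 n542
theorem D1123 : act 1 n542 = n1123 := rfl
def n1124 : Q := act 3 n542
theorem D1124 : act 3 n542 = n1124 := rfl
def n1125 : Q := act 6 n542
theorem D1125 : act 6 n542 = n1125 := rfl
theorem F2088 : act 2 n1125 = n544 := d14_1 D1125 (iv D544) D542
theorem F2089 : act 4 n1125 = n946 := d19_1 D1125 (iv F1996) F1999
theorem F2090 : act 3 n947 = n1125 := d15_5 F2089 (iv D946) F880 D455 D947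
def n1126 : Q := act 3 n544
theorem D1126 : act 3 n544 = n1126 := rfl
theorem F2092 : act 6 n1126 = n545 := d17_2 D544 D1126 (iv D545) (iv D262) D261
def n1127 : Q := act 2 n545
theorem D1127 : act 2 n545 = n1127 := rfl
def n1128 : Q := act 4 n545
theorem D1128 : act 4 n545 = n1128 := rfl
theorem F2095 : act 3 n1128 = n1040 := d15_1 D1128 (iv D1040) (iv D503) (iv F532) D545
def n1130 : Q := act 6 n546
theorem D1130 : act 6 n546 = n1130 := rfl
theorem F2097 : act 1 n1130 = n549 := d10_1 D1130 (iv D549) D546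
def n1131 : Q := act 2 n547
theorem D1131 : act 2 n547 = n1131 := rfl
theorem F2099 : act 3 n1131 = n1007 := d23_1 D1131 (iv D1007) (iv D486) (iv D235) (iv D117) (iv F155) D129 D263 D547 F1063
def n1132 : Q := act 4 n547
theorem D1132 : act 4 n547 = n1132 := rfl
theorem F2100 : act 0 n1132 = n1132 := d3_1 D1132 (iv D1132) F1063
def n1133 : Q := act 5 n547
theorem D1133 : act 5 n547 = n1133 := rfl
def n1134 : Q := act 6 n547
theorem D1134 : act 6 n547 = n1134 := rfl
def n1135 : Q := act 6 n548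
theorem D1135 : act 6 n548 = n1135 := rfl
theorem F2104 : act 2 n1135 = n550 := d14_1 D1135 (iv D550) (iv F1065)
theorem F2106 : act 5 n1135 = n1125 := d20_1 D1135 (iv D1125) F1058 D549 F1725 (iv F1996) (iv F1998)
def n1136 : Q := act 3 n550
theorem D1136 : act 3 n550 = n1136 := rfl
theorem F2108 : act 4 n1136 = n869 := d15_2 (iv F1069) D1136 (iv D869) F788 (iv F538)
theorem F2109 : act 6 n1136 = n1073 := d17_2 D550 D1136 F1968 F1018 (iv F536)
def n1137 : Q := act 3 n551
theorem D1137 : act 3 n551 = n1137 := rfl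
theorem F2111 : act 5 n1137 = n868 := d16_2 D551 D1137 (iv D868) F785 (iv F538)
def n1138 : Q := act 3 n552
theorem D1138 : act 3 n552 = n1138 := rfl
theorem F2112 : act 1 n1138 = n553 := d7_1 D1138 (iv D553) D552
def n1139 : Q := act 6 n552
theorem D1139 : act 6 n552 = n1139 := rfl
def n1140 : Q := act 2 n553
theorem D1140 : act 2 n553 = n1140 := rfl
theorem F2115 : act 0 n1140 = n642 := d1_1 D1140 (iv D642) (iv F1076)
theorem F2116 : act 3 n1140 = n700 := d23_1 D1140 (iv D700) (iv D331) (iv D160) (iv D80) F82 D74 D148 D307 (iv F1076)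
def n1141 : Q := act 4 n553
theorem D1141 : act 4 n553 = n1141 := rfl
theorem F2117 : act 0 n1141 = n643 := d3_1 D1141 (iv D643) (iv F1076)
def n1142 : Q := act 5 n553
theorem D1142 : act 5 n553 = n1142 := rfl
theorem F2118 : act 0 n1142 = n644 := d4_1 D1142 (iv D644) (iv F1076)
theorem F2119 : act 3 n1142 = n574 := d16_1 D1142 (iv D574) (iv D275) (iv F540) D553
def n1143 : Q := act 6 n553
theorem D1143 : act 6 n553 = n1143 := rfl
theorem F2120 : act 0 n1143 = n645 := d5_1 D1143 (iv D645) (iv F1076)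
def n1144 : Q := act 3 n554
theorem D1144 : act 3 n554 = n1144 := rfl
theorem F2121 : act 0 n1144 = n646 := d2_1 D1144 (iv D646) (iv F1077)
def n1145 : Q := act 3 n555
theorem D1145 : act 3 n555 = n1145 := rfl
theorem F2122 : act 0 n1145 = n647 := d2_1 D1145 (iv D647) (iv F1080)
def n1146 : Q := act 2 n556
theorem D1146 : act 2 n556 = n1146 := rfl
theorem F2123 : act 0 n1146 = n648 := d1_1 D1146 (iv D648) (iv F1082)
theorem F2124 : act 6 n1146 = n557 := d14_2 (iv F1084) D1146 (iv D557)
def n1147 : Q := act 4 n556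
theorem D1147 : act 4 n556 = n1147 := rfl
theorem F2125 : act 0 n1147 = n649 := d3_1 D1147 (iv D649) (iv F1082)
def n1148 : Q := act 5 n556
theorem D1148 : act 5 n556 = n1148 := rfl
theorem F2128 : act 0 n1148 = n650 := d4_1 D1148 (iv D650) (iv F1082)
def n1149 : Q := act 1 n557
theorem D1149 : act 1 n557 = n1149 := rfl
theorem F2130 : act 2 n1149 = n1026 := d6_2 D557 D1149 (iv D1026) (iv D496) (iv F547)
def n1150 : Q := act 3 n557
theorem D1150 : act 3 n557 = n1150 := rfl
theorem F2131 : act 0 n1150 = n652 := d2_1 D1150 (iv D652) (iv F1085)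
def n1151 : Q := act 4 n557
theorem D1151 : act 4 n557 = n1151 := rfl
theorem F2133 : act 2 n1151 = n558 := d12_1 D1151 (iv D558) D557
def n1152 : Q := act 5 n557
theorem D1152 : act 5 n557 = n1152 := rfl
theorem F2134 : act 0 n1152 = n654 := d4_1 D1152 (iv D654) (iv F1085)
theorem F2135 : act 2 n1152 = n559 := d13_1 D1152 (iv D559) D557
def n1153 : Q := act 5 n558
theorem D1153 : act 5 n558 = n1153 := rfl
theorem F2137 : act 1 n1153 = n1030 := d9_1 D1153 (iv D1030) (iv F1087)
theorem F2138 : act 4 n1153 = n559 := d18_1 D1153 (iv D559) D558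
theorem F2139 : act 6 n1153 = n1148 := d21_1 D1153 (iv D1148) F1084 D558
def n1154 : Q := act 6 n559
theorem D1154 : act 6 n559 = n1154 := rfl
def n1157 : Q := act 2 n561
theorem D1157 : act 2 n561 = n1157 := rfl
theorem F2147 : act 0 n1157 = n661 := d1_1 D1157 (iv D661) (iv F1093)
theorem F2148 : act 3 n1157 = n723 := d23_1 D1157 (iv D723) (iv D341) (iv D164) (iv D82) F83 D76 D152 D315 (iv F1093)
def n1158 : Q := act 4 n561
theorem D1158 : act 4 n561 = n1158 := rfl
def n1159 : Q := act 5 n561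
theorem D1159 : act 5 n561 = n1159 := rfl
def n1160 : Q := act 6 n561
theorem D1160 : act 6 n561 = n1160 := rfl
theorem F2152 : act 3 n1160 = n598 := d17_1 D1160 (iv D598) (iv D285) (iv F549) D561
def n1161 : Q := act 3 n562
theorem D1161 : act 3 n562 = n1161 := rfl
theorem F2153 : act 0 n1161 = n665 := d2_1 D1161 (iv D665) (iv F1094)
def n1162 : Q := act 3 n563
theorem D1162 : act 3 n563 = n1162 := rfl
def n1163 : Q := act 2 n564
theorem D1163 : act 2 n564 = n1163 := rfl
theorem F2155 : act 0 n1163 = n667 := d1_1 D1163 (iv D667) (iv F1099)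
theorem F2156 : act 5 n1163 = n565 := d13_2 (iv F1101) D1163 (iv D565)
def n1164 : Q := act 4 n564
theorem D1164 : act 4 n564 = n1164 := rfl
theorem F2157 : act 0 n1164 = n668 := d3_1 D1164 (iv D668) (iv F1099)
theorem F2158 : act 1 n1164 = n1040 := d8_1 D1164 (iv D1040) (iv F1100)
theorem F2159 : act 5 n1164 = n566 := d18_2 (iv F1101) D1164 (iv D566)
def n1165 : Q := act 6 n564
theorem D1165 : act 6 n564 = n1165 := rfl
theorem F2160 : act 0 n1165 = n669 := d5_1 D1165 (iv D669) (iv F1099)
def n1166 : Q := act 1 n565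
theorem D1166 : act 1 n565 = n1166 := rfl
theorem F2162 : act 2 n1166 = n1042 := d6_2 D565 D1166 (iv D1042) (iv D504) (iv F556)
def n1167 : Q := act 3 n565
theorem D1167 : act 3 n565 = n1167 := rfl
theorem F2163 : act 0 n1167 = n671 := d2_1 D1167 (iv D671) (iv F1102)
def n1168 : Q := act 4 n565
theorem D1168 : act 4 n565 = n1168 := rfl
theorem F2164 : act 0 n1168 = n672 := d3_1 D1168 (iv D672) (iv F1102)
theorem F2165 : act 2 n1168 = n566 := d12_1 D1168 (iv D566) D565
def n1169 : Q := act 6 n565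
theorem D1169 : act 6 n565 = n1169 := rfl
theorem F2166 : act 0 n1169 = n673 := d5_1 D1169 (iv D673) (iv F1102)
theorem F2167 : act 2 n1169 = n567 := d14_1 D1169 (iv D567) D565
def n1170 : Q := act 6 n566
theorem D1170 : act 6 n566 = n1170 := rfl
theorem F2169 : act 1 n1170 = n1046 := d10_1 D1170 (iv D1046) (iv F1104)
theorem F2170 : act 4 n1170 = n567 := d19_1 D1170 (iv D567) D566
theorem F2171 : act 5 n1170 = n1165 := d21_2 F2159 D1170 (iv D1165) D1164
def n1171 : Q := act 5 n567
theorem D1171 : act 5 n567 = n1171 := rfl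
theorem F2174 : act 4 n1171 = n1165 := d18_1 D1171 (iv F2171) F2170
def n1172 : Q := act 3 n568
theorem D1172 : act 3 n568 = n1172 := rfl
theorem F2176 : act 0 n1172 = n569 := d2_1 D1172 (iv D569) D568
theorem F2177 : act 1 n1172 = n620 := d7_1 D1172 (iv D620) (iv F1110)
def n1173 : Q := act 6 n568
theorem D1173 : act 6 n568 = n1173 := rfl
theorem F2178 : act 0 n1173 = n571 := d5_1 D1173 (iv D571) D568
theorem F2179 : act 1 n1173 = n621 := d10_1 D1173 (iv D621) (iv F1110)
theorem F2182 : act 5 n1173 = n641 := d21_2 F1223 D1173 (iv D641) D640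
def n1174 : Q := act 2 n569
theorem D1174 : act 2 n569 = n1174 := rfl
def n1175 : Q := act 4 n569
theorem D1175 : act 4 n569 = n1175 := rfl
theorem F2183 : act 1 n1175 = n573 := d8_1 D1175 (iv D573) (iv F1112)
def n1176 : Q := act 5 n569
theorem D1176 : act 5 n569 = n1176 := rfl
theorem F2184 : act 1 n1176 = n574 := d9_1 D1176 (iv D574) (iv F1112)
def n1177 : Q := act 6 n569
theorem D1177 : act 6 n569 = n1177 := rfl
theorem F2185 : act 1 n1177 = n575 := d10_1 D1177 (iv D575) (iv F1112)
def n1178 : Q := act 3 n570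
theorem D1178 : act 3 n570 = n1178 := rfl
theorem F2186 : act 0 n1178 = n614 := d2_1 D1178 (iv D614) (iv F1113)
theorem F2187 : act 1 n1178 = n576 := d7_1 D1178 (iv D576) (iv F1114)
def n1179 : Q := act 6 n570
theorem D1179 : act 6 n570 = n1179 := rfl
theorem F2189 : act 1 n1179 = n577 := d10_1 D1179 (iv D577) (iv F1114)
theorem F2192 : act 5 n1179 = n1139 := d21_2 F1217 D1179 (iv D1139) F1219
def n1180 : Q := act 3 n571
theorem D1180 : act 3 n571 = n1180 := rfl
theorem F2193 : act 1 n1180 = n578 := d7_1 D1180 (iv D578) (iv F1116)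
def n1181 : Q := act 5 n571
theorem D1181 : act 5 n571 = n1181 := rfl
theorem F2198 : act 6 n1181 = n638 := d20_2 D571 D1181 F1217 D1179 F2192 (iv D1139) F1075
def n1182 : Q := act 1 n572
theorem D1182 : act 1 n572 = n1182 := rfl
def n1183 : Q := act 4 n572
theorem D1183 : act 4 n572 = n1183 := rfl
theorem F2199 : act 2 n1183 = n573 := d12_1 D1183 (iv D573) D572
def n1184 : Q := act 5 n572
theorem D1184 : act 5 n572 = n1184 := rfl
theorem F2200 : act 2 n1184 = n574 := d13_1 D1184 (iv D574) D572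
def n1185 : Q := act 6 n572
theorem D1185 : act 6 n572 = n1185 := rfl
theorem F2201 : act 2 n1185 = n575 := d14_1 D1185 (iv D575) D572
def n1186 : Q := act 3 n573
theorem D1186 : act 3 n573 = n1186 := rfl
theorem F2202 : act 4 n1186 = n576 := d15_2 D573 D1186 (iv D576) (iv D276) D275
def n1187 : Q := act 5 n573
theorem D1187 : act 5 n573 = n1187 := rfl
theorem F2203 : act 4 n1187 = n574 := d18_1 D1187 (iv D574) D573
def n1188 : Q := act 6 n573
theorem D1188 : act 6 n573 = n1188 := rfl
theorem F2204 : act 4 n1188 = n575 := d19_1 D1188 (iv D575) D573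
def n1189 : Q := act 6 n574
theorem D1189 : act 6 n574 = n1189 := rfl
theorem F2205 : act 5 n1189 = n1188 := d21_2 D574 D1189 (iv D1188) (iv D573)
def n1190 : Q := act 3 n575
theorem D1190 : act 3 n575 = n1190 := rfl
theorem F2206 : act 6 n1190 = n578 := d17_2 D575 D1190 (iv D578) (iv D277) D275
def n1191 : Q := act 5 n575
theorem D1191 : act 5 n575 = n1191 := rfl
theorem F2207 : act 4 n1191 = n1189 := d18_1 D1191 F2205 F2204
theorem F2208 : act 6 n1191 = n1187 := d20_2 D575 D1191 (iv D1187) D1188 (iv F2205) (iv D1189) (iv D574)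
def n1192 : Q := act 2 n576
theorem D1192 : act 2 n576 = n1192 := rfl
def n1193 : Q := act 5 n576
theorem D1193 : act 5 n576 = n1193 := rfl
def n1194 : Q := act 6 n576
theorem D1194 : act 6 n576 = n1194 := rfl
def n1195 : Q := act 3 n577
theorem D1195 : act 3 n577 = n1195 := rfl
def n1196 : Q := act 2 n578
theorem D1196 : act 2 n578 = n1196 := rfl
def n1197 : Q := act 4 n578
theorem D1197 : act 4 n578 = n1197 := rfl
def n1198 : Q := act 5 n578
theorem D1198 : act 5 n578 = n1198 := rfl
def n1199 : Q := act 3 n579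
theorem D1199 : act 3 n579 = n1199 := rfl
def n1200 : Q := act 2 n580
theorem D1200 : act 2 n580 = n1200 := rfl
def n1201 : Q := act 4 n580
theorem D1201 : act 4 n580 = n1201 := rfl
theorem F2209 : act 1 n1201 = n1073 := d8_1 D1201 (iv D1073) (iv F1124)
theorem F2210 : act 3 n1201 = n582 := d15_1 D1201 (iv D582) (iv D279) (iv F561) D580
def n1203 : Q := act 1 n581
theorem D1203 : act 1 n581 = n1203 := rfl
theorem F2213 : act 2 n1203 = n1075 := d6_2 D581 D1203 (iv D1075) (iv D519) (iv F563)
theorem F2214 : act 6 n1203 = n585 := d10_2 (iv F1125) D1203 (iv D585)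
def n1204 : Q := act 3 n581
theorem D1204 : act 3 n581 = n1204 := rfl
def n1205 : Q := act 4 n581
theorem D1205 : act 4 n581 = n1205 := rfl
theorem F2215 : act 2 n1205 = n582 := d12_1 D1205 (iv D582) D581
theorem F2216 : act 6 n1205 = n587 := d19_2 (iv F1125) D1205 (iv D587)
def n1206 : Q := act 5 n581
theorem D1206 : act 5 n581 = n1206 := rfl
theorem F2217 : act 2 n1206 = n583 := d13_1 D1206 (iv D583) D581
def n1210 : Q := act 0 n585
theorem D1210 : act 0 n585 = n1210 := rfl
theorem F2222 : act 2 n1210 = n1080 := d1_2 (iv F1130) D1210 (iv D1080)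
theorem F2223 : act 1 n1210 = n610 := d22_4 F517 D523 (iv F1130) D1210 F1166 F584 F568 (iv F1023) (iv D525)
theorem F2224 : act 4 n608 = n1210 := d22_9 (iv D1210) (iv D585) (iv D281) (iv F316) F317 D263 F534 D546 (iv F1163)
def n1211 : Q := act 3 n585
theorem D1211 : act 3 n585 = n1211 := rfl
theorem F2225 : act 1 n1211 = n586 := d7_1 D1211 (iv D586) D585
def n1212 : Q := act 4 n585
theorem D1212 : act 4 n585 = n1212 := rfl
theorem F2226 : act 0 n1212 = n608 := d3_1 D1212 F2224 (iv D1210)
theorem F2227 : act 1 n1212 = n587 := d8_1 D1212 (iv D587) D585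
theorem F2228 : act 2 n1212 = n1082 := d12_1 D1212 (iv D1082) (iv F1130)
def n1213 : Q := act 5 n585
theorem D1213 : act 5 n585 = n1213 := rfl
theorem F2230 : act 2 n1213 = n1083 := d13_1 D1213 (iv D1083) (iv F1130)
def n1214 : Q := act 2 n586
theorem D1214 : act 2 n586 = n1214 := rfl
def n1215 : Q := act 4 n586
theorem D1215 : act 4 n586 = n1215 := rfl
def n1218 : Q := act 3 n587
theorem D1218 : act 3 n587 = n1218 := rfl
def n1219 : Q := act 5 n587
theorem D1219 : act 5 n587 = n1219 := rfl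
theorem F2231 : act 2 n1219 = n589 := d13_1 D1219 (iv D589) (iv F1131)
theorem F2232 : act 4 n1219 = n588 := d18_1 D1219 (iv D588) D587
theorem F2233 : act 6 n1219 = n1206 := d21_1 D1219 (iv D1206) F1125 D587
def n1221 : Q := act 6 n588
theorem D1221 : act 6 n588 = n1221 := rfl
theorem F2234 : act 2 n1221 = n590 := d14_1 D1221 (iv D590) (iv F1132)
theorem F2235 : act 4 n1221 = n1206 := d19_1 D1221 (iv F2233) F2232
theorem F2236 : act 5 n1221 = n1205 := d20_1 D1221 F2216 D1219 F2233 (iv D1206) F1125 D588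
def n1223 : Q := act 3 n590
theorem D1223 : act 3 n590 = n1223 := rfl
theorem F2239 : act 1 n1223 = n1092 := d7_1 D1223 (iv D1092) (iv F1136)
theorem F2240 : act 6 n1223 = n637 := d17_2 D590 D1223 (iv D637) (iv D305) (iv F570)
def n1224 : Q := act 3 n591
theorem D1224 : act 3 n591 = n1224 := rfl
theorem F2241 : act 0 n1224 = n592 := d2_1 D1224 (iv D592) D591
theorem F2242 : act 1 n1224 = n632 := d7_1 D1224 (iv D632) (iv F1140)
def n1225 : Q := act 5 n591
theorem D1225 : act 5 n591 = n1225 := rfl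
theorem F2243 : act 0 n1225 = n594 := d4_1 D1225 (iv D594) D591
theorem F2244 : act 1 n1225 = n633 := d9_1 D1225 (iv D633) (iv F1140)
def n1226 : Q := act 2 n592
theorem D1226 : act 2 n592 = n1226 := rfl
def n1227 : Q := act 4 n592
theorem D1227 : act 4 n592 = n1227 := rfl
def n1230 : Q := act 3 n593
theorem D1230 : act 3 n593 = n1230 := rfl
theorem F2251 : act 0 n1230 = n626 := d2_1 D1230 (iv D626) (iv F1143)
theorem F2252 : act 1 n1230 = n599 := d7_1 D1230 (iv D599) (iv F1144)
def n1232 : Q := act 3 n594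
theorem D1232 : act 3 n594 = n1232 := rfl
theorem F2258 : act 1 n1232 = n601 := d7_1 D1232 (iv D601) (iv F1146)
def n1234 : Q := act 1 n595
theorem D1234 : act 1 n595 = n1234 := rfl
def n1235 : Q := act 4 n595
theorem D1235 : act 4 n595 = n1235 := rfl
theorem F2264 : act 2 n1235 = n596 := d12_1 D1235 (iv D596) D595
def n1236 : Q := act 5 n595
theorem D1236 : act 5 n595 = n1236 := rfl
theorem F2265 : act 2 n1236 = n597 := d13_1 D1236 (iv D597) D595
def n1237 : Q := act 6 n595
theorem D1237 : act 6 n595 = n1237 := rfl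
def n1238 : Q := act 3 n596
theorem D1238 : act 3 n596 = n1238 := rfl
theorem F2267 : act 4 n1238 = n599 := d15_2 D596 D1238 (iv D599) (iv D286) D285
def n1239 : Q := act 5 n596
theorem D1239 : act 5 n596 = n1239 := rfl
def n1240 : Q := act 6 n596
theorem D1240 : act 6 n596 = n1240 := rfl
theorem F2269 : act 4 n1240 = n598 := d19_1 D1240 (iv D598) D596
def n1241 : Q := act 3 n597
theorem D1241 : act 3 n597 = n1241 := rfl
theorem F2270 : act 5 n1241 = n601 := d16_2 D597 D1241 (iv D601) (iv D287) D285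
def n1244 : Q := act 2 n599
theorem D1244 : act 2 n599 = n1244 := rfl
def n1245 : Q := act 5 n599
theorem D1245 : act 5 n599 = n1245 := rfl
def n1246 : Q := act 6 n599
theorem D1246 : act 6 n599 = n1246 := rfl
def n1247 : Q := act 3 n600
theorem D1247 : act 3 n600 = n1247 := rfl
def n1248 : Q := act 2 n601
theorem D1248 : act 2 n601 = n1248 := rfl
def n1249 : Q := act 4 n601
theorem D1249 : act 4 n601 = n1249 := rfl
def n1250 : Q := act 6 n601
theorem D1250 : act 6 n601 = n1250 := rfl
def n1251 : Q := act 3 n602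
theorem D1251 : act 3 n602 = n1251 := rfl
def n1252 : Q := act 2 n603
theorem D1252 : act 2 n603 = n1252 := rfl
def n1254 : Q := act 6 n603
theorem D1254 : act 6 n603 = n1254 := rfl
theorem F2279 : act 3 n1254 = n1165 := d17_1 D1254 (iv D1165) (iv D564) (iv F576) D603
def n1255 : Q := act 1 n604
theorem D1255 : act 1 n604 = n1255 := rfl
theorem F2280 : act 2 n1255 = n1123 := d6_2 D604 D1255 (iv D1123) (iv D542) (iv F578)
theorem F2281 : act 5 n1255 = n608 := d9_2 (iv F1156) D1255 (iv D608)
def n1256 : Q := act 3 n604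
theorem D1256 : act 3 n604 = n1256 := rfl
def n1257 : Q := act 4 n604
theorem D1257 : act 4 n604 = n1257 := rfl
theorem F2285 : act 5 n1257 = n610 := d18_2 (iv F1156) D1257 (iv D610)
def n1258 : Q := act 6 n604
theorem D1258 : act 6 n604 = n1258 := rfl
theorem F2287 : act 2 n1258 = n606 := d14_1 D1258 (iv D606) D604
def n1259 : Q := act 3 n606
theorem D1259 : act 3 n606 = n1259 := rfl
theorem F2288 : act 0 n1259 = n1223 := d2_1 D1259 (iv D1223) (iv F1160)
theorem F2290 : act 6 n1259 = n607 := d17_2 D606 D1259 (iv D607) (iv D290) D289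
def n1260 : Q := act 2 n607
theorem D1260 : act 2 n607 = n1260 := rfl
def n1261 : Q := act 4 n607
theorem D1261 : act 4 n607 = n1261 := rfl
theorem F2291 : act 1 n1261 = n1128 := d8_1 D1261 (iv D1128) (iv F1162)
def n1262 : Q := act 3 n608
theorem D1262 : act 3 n608 = n1262 := rfl
theorem F2293 : act 1 n1262 = n609 := d7_1 D1262 (iv D609) D608
def n1263 : Q := act 6 n608
theorem D1263 : act 6 n608 = n1263 := rfl
theorem F2294 : act 1 n1263 = n611 := d10_1 D1263 (iv D611) D608
theorem F2295 : act 2 n1263 = n1130 := d14_1 D1263 (iv D1130) (iv F1163)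
def n1264 : Q := act 2 n609
theorem D1264 : act 2 n609 = n1264 := rfl
theorem F2297 : act 3 n1264 = n1214 := d23_1 D1264 (iv D1214) (iv D586) (iv D281) (iv D137) F164 D137 D281 D586 (iv F1164)
def n1265 : Q := act 4 n609
theorem D1265 : act 4 n609 = n1265 := rfl
def n1268 : Q := act 3 n610
theorem D1268 : act 3 n610 = n1268 := rfl
theorem F2301 : act 0 n1268 = n1218 := d2_1 D1268 (iv D1218) (iv F1165)
def n1269 : Q := act 6 n610
theorem D1269 : act 6 n610 = n1269 := rfl
theorem F2302 : act 0 n1269 = n1205 := d5_1 D1269 F2216 (iv F1165)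
theorem F2303 : act 2 n1269 = n612 := d14_1 D1269 (iv D612) (iv F1166)
theorem F2304 : act 4 n1269 = n611 := d19_1 D1269 (iv D611) D610
theorem F2305 : act 5 n1269 = n1258 := d21_2 F2285 D1269 (iv D1258) D1257
def n1270 : Q := act 3 n611
theorem D1270 : act 3 n611 = n1270 := rfl
def n1271 : Q := act 5 n611
theorem D1271 : act 5 n611 = n1271 := rfl
theorem F2308 : act 2 n1271 = n613 := d13_1 D1271 (iv D613) (iv F1168)
theorem F2310 : act 6 n1271 = n1257 := d20_2 D611 D1271 F2285 D1269 F2305 (iv D1258) F1156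
def n1272 : Q := act 3 n612
theorem D1272 : act 3 n612 = n1272 := rfl
theorem F2311 : act 0 n1272 = n1201 := d2_1 D1272 F2210 (iv F1169)
theorem F2312 : act 1 n1272 = n1136 := d7_1 D1272 (iv D1136) (iv F1170)
theorem F2313 : act 4 n1272 = n624 := d15_2 (iv F1171) D1272 (iv D624) F596 (iv F589)
def n1273 : Q := act 3 n613
theorem D1273 : act 3 n613 = n1273 := rfl
def n1274 : Q := act 2 n614
theorem D1274 : act 2 n614 = n1274 := rfl
def n1275 : Q := act 4 n614
theorem D1275 : act 4 n614 = n1275 := rfl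
theorem F2318 : act 1 n1275 = n617 := d8_1 D1275 (iv D617) (iv F1177)
def n1276 : Q := act 5 n614
theorem D1276 : act 5 n614 = n1276 := rfl
theorem F2319 : act 1 n1276 = n618 := d9_1 D1276 (iv D618) (iv F1177)
def n1277 : Q := act 6 n614
theorem D1277 : act 6 n614 = n1277 := rfl
theorem F2320 : act 1 n1277 = n619 := d10_1 D1277 (iv D619) (iv F1177)
def n1278 : Q := act 3 n615
theorem D1278 : act 3 n615 = n1278 := rfl
theorem F2321 : act 1 n1278 = n622 := d7_1 D1278 (iv D622) (iv F1178)
def n1279 : Q := act 5 n615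
theorem D1279 : act 5 n615 = n1279 := rfl
theorem F2323 : act 1 n1279 = n623 := d9_1 D1279 (iv D623) (iv F1178)
theorem F2325 : act 6 n1279 = n640 := d20_2 D615 D1279 F1223 D1173 F2182 (iv D641) F612
def n1280 : Q := act 1 n616
theorem D1280 : act 1 n616 = n1280 := rfl
theorem F2326 : act 3 n1280 = n1182 := d7_2 (iv F1180) D1280 (iv D1182)
def n1281 : Q := act 4 n616
theorem D1281 : act 4 n616 = n1281 := rfl
theorem F2327 : act 0 n1281 = n1183 := d3_1 D1281 (iv D1183) (iv F1179)
theorem F2328 : act 2 n1281 = n617 := d12_1 D1281 (iv D617) D616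
def n1282 : Q := act 5 n616
theorem D1282 : act 5 n616 = n1282 := rfl
theorem F2329 : act 0 n1282 = n1184 := d4_1 D1282 (iv D1184) (iv F1179)
theorem F2330 : act 2 n1282 = n618 := d13_1 D1282 (iv D618) D616
def n1283 : Q := act 6 n616
theorem D1283 : act 6 n616 = n1283 := rfl
theorem F2331 : act 0 n1283 = n1185 := d5_1 D1283 (iv D1185) (iv F1179)
theorem F2332 : act 2 n1283 = n619 := d14_1 D1283 (iv D619) D616
def n1284 : Q := act 3 n617
theorem D1284 : act 3 n617 = n1284 := rfl
theorem F2333 : act 0 n1284 = n1186 := d2_1 D1284 (iv D1186) (iv F1181)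
theorem F2334 : act 4 n1284 = n620 := d15_2 D617 D1284 (iv D620) (iv D296) D295
def n1285 : Q := act 5 n617
theorem D1285 : act 5 n617 = n1285 := rfl
theorem F2335 : act 0 n1285 = n1187 := d4_1 D1285 (iv D1187) (iv F1181)
theorem F2336 : act 4 n1285 = n618 := d18_1 D1285 (iv D618) D617
def n1286 : Q := act 6 n617
theorem D1286 : act 6 n617 = n1286 := rfl
theorem F2337 : act 0 n1286 = n1188 := d5_1 D1286 (iv D1188) (iv F1181)
theorem F2338 : act 4 n1286 = n619 := d19_1 D1286 (iv D619) D617
def n1287 : Q := act 6 n618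
theorem D1287 : act 6 n618 = n1287 := rfl
theorem F2339 : act 0 n1287 = n1189 := d5_1 D1287 (iv D1189) (iv F1182)
theorem F2340 : act 5 n1287 = n1286 := d21_2 D618 D1287 (iv D1286) (iv D617)
def n1288 : Q := act 3 n619
theorem D1288 : act 3 n619 = n1288 := rfl
theorem F2342 : act 6 n1288 = n622 := d17_2 D619 D1288 (iv D622) (iv D297) D295
def n1289 : Q := act 5 n619
theorem D1289 : act 5 n619 = n1289 := rfl
theorem F2343 : act 0 n1289 = n1191 := d4_1 D1289 (iv D1191) (iv F1183)
theorem F2344 : act 4 n1289 = n1287 := d18_1 D1289 F2340 F2338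
theorem F2345 : act 6 n1289 = n1285 := d20_2 D619 D1289 (iv D1285) D1286 (iv F2340) (iv D1287) (iv D618)
def n1290 : Q := act 2 n620
theorem D1290 : act 2 n620 = n1290 := rfl
theorem F2346 : act 0 n1290 = n1192 := d1_1 D1290 (iv D1192) (iv F1184)
def n1291 : Q := act 5 n620
theorem D1291 : act 5 n620 = n1291 := rfl
theorem F2347 : act 0 n1291 = n1193 := d4_1 D1291 (iv D1193) (iv F1184)
def n1292 : Q := act 6 n620
theorem D1292 : act 6 n620 = n1292 := rfl
theorem F2348 : act 0 n1292 = n1194 := d5_1 D1292 (iv D1194) (iv F1184)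
def n1293 : Q := act 3 n621
theorem D1293 : act 3 n621 = n1293 := rfl
theorem F2349 : act 0 n1293 = n1195 := d2_1 D1293 (iv D1195) (iv F1185)
def n1294 : Q := act 2 n622
theorem D1294 : act 2 n622 = n1294 := rfl
theorem F2350 : act 0 n1294 = n1196 := d1_1 D1294 (iv D1196) (iv F1189)
def n1295 : Q := act 4 n622
theorem D1295 : act 4 n622 = n1295 := rfl
theorem F2351 : act 0 n1295 = n1197 := d3_1 D1295 (iv D1197) (iv F1189)
def n1296 : Q := act 5 n622
theorem D1296 : act 5 n622 = n1296 := rfl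
theorem F2352 : act 0 n1296 = n1198 := d4_1 D1296 (iv D1198) (iv F1189)
def n1297 : Q := act 3 n623
theorem D1297 : act 3 n623 = n1297 := rfl
theorem F2353 : act 0 n1297 = n1199 := d2_1 D1297 (iv D1199) (iv F1190)
def n1298 : Q := act 2 n624
theorem D1298 : act 2 n624 = n1298 := rfl
theorem F2354 : act 0 n1298 = n1200 := d1_1 D1298 (iv D1200) (iv F1194)
theorem F2355 : act 6 n1298 = n1200 := d14_2 (iv F1195) D1298 (iv D1200)
def n1302 : Q := act 2 n626
theorem D1302 : act 2 n626 = n1302 := rfl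
def n1303 : Q := act 4 n626
theorem D1303 : act 4 n626 = n1303 := rfl
theorem F2361 : act 1 n1303 = n629 := d8_1 D1303 (iv D629) (iv F1197)
def n1308 : Q := act 1 n628
theorem D1308 : act 1 n628 = n1308 := rfl
theorem F2369 : act 3 n1308 = n1234 := d7_2 (iv F1200) D1308 (iv D1234)
def n1309 : Q := act 4 n628
theorem D1309 : act 4 n628 = n1309 := rfl
theorem F2370 : act 0 n1309 = n1235 := d3_1 D1309 (iv D1235) (iv F1199)
theorem F2371 : act 2 n1309 = n629 := d12_1 D1309 (iv D629) D628
def n1310 : Q := act 5 n628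
theorem D1310 : act 5 n628 = n1310 := rfl
theorem F2372 : act 0 n1310 = n1236 := d4_1 D1310 (iv D1236) (iv F1199)
theorem F2373 : act 2 n1310 = n630 := d13_1 D1310 (iv D630) D628
def n1311 : Q := act 6 n628
theorem D1311 : act 6 n628 = n1311 := rfl
theorem F2374 : act 0 n1311 = n1237 := d5_1 D1311 (iv D1237) (iv F1199)
def n1312 : Q := act 3 n629
theorem D1312 : act 3 n629 = n1312 := rfl
theorem F2376 : act 0 n1312 = n1238 := d2_1 D1312 (iv D1238) (iv F1201)
theorem F2377 : act 4 n1312 = n632 := d15_2 D629 D1312 (iv D632) (iv D302) D301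
def n1313 : Q := act 5 n629
theorem D1313 : act 5 n629 = n1313 := rfl
def n1314 : Q := act 6 n629
theorem D1314 : act 6 n629 = n1314 := rfl
theorem F2381 : act 4 n1314 = n631 := d19_1 D1314 (iv D631) D629
def n1315 : Q := act 3 n630
theorem D1315 : act 3 n630 = n1315 := rfl
theorem F2383 : act 5 n1315 = n634 := d16_2 D630 D1315 (iv D634) (iv D303) D301
def n1318 : Q := act 2 n632
theorem D1318 : act 2 n632 = n1318 := rfl
theorem F2389 : act 0 n1318 = n1244 := d1_1 D1318 (iv D1244) (iv F1204)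
def n1319 : Q := act 5 n632
theorem D1319 : act 5 n632 = n1319 := rfl
theorem F2390 : act 0 n1319 = n1245 := d4_1 D1319 (iv D1245) (iv F1204)
def n1320 : Q := act 6 n632
theorem D1320 : act 6 n632 = n1320 := rfl
def n1321 : Q := act 3 n633
theorem D1321 : act 3 n633 = n1321 := rfl
theorem F2392 : act 0 n1321 = n1247 := d2_1 D1321 (iv D1247) (iv F1205)
def n1322 : Q := act 2 n634
theorem D1322 : act 2 n634 = n1322 := rfl
theorem F2393 : act 0 n1322 = n1248 := d1_1 D1322 (iv D1248) (iv F1209)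
def n1324 : Q := act 6 n634
theorem D1324 : act 6 n634 = n1324 := rfl
theorem F2395 : act 0 n1324 = n1250 := d5_1 D1324 (iv D1250) (iv F1209)
def n1325 : Q := act 3 n635
theorem D1325 : act 3 n635 = n1325 := rfl
theorem F2396 : act 0 n1325 = n1251 := d2_1 D1325 (iv D1251) (iv F1210)
def n1326 : Q := act 2 n636
theorem D1326 : act 2 n636 = n1326 := rfl
def n1327 : Q := act 6 n636
theorem D1327 : act 6 n636 = n1327 := rfl
theorem F2400 : act 3 n1327 = n669 := d17_1 D1327 (iv D669) (iv D318) (iv F608) D636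
def n1328 : Q := act 2 n637
theorem D1328 : act 2 n637 = n1328 := rfl
theorem F2401 : act 0 n1328 = n1260 := d1_1 D1328 (iv D1260) (iv F1216)
theorem F2402 : act 1 n1328 = n1328 := d6_1 D1328 (iv D1328) (iv F1598) F2028 F1598
theorem E25 : n1128 = n1127 := ((c22_9 F1062 (iv F1162) D1260 (iv F2401) F2402 (iv D1328) F1216 F1162 D1127 (iv D1128))).symm
theorem F2403 : act 1 n1127 = n1261 := (sb E25 (iv F2291))
theorem F2404 : act 3 n1127 = n1040 := (sb E25 F2095)
theorem F2405 : act 4 n1127 = n545 := (sb E25 (iv D1128))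
def n1330 : Q := act 3 n638
theorem D1330 : act 3 n638 = n1330 := rfl
theorem F2408 : act 0 n1330 = n639 := d2_1 D1330 (iv D639) D638
theorem F2409 : act 1 n1330 = n1144 := d7_1 D1330 (iv D1144) (iv F1218)
def n1331 : Q := act 2 n639
theorem D1331 : act 2 n639 = n1331 := rfl
def n1332 : Q := act 4 n639
theorem D1332 : act 4 n639 = n1332 := rfl
theorem F2410 : act 1 n1332 = n643 := d8_1 D1332 (iv D643) (iv F1220)
def n1333 : Q := act 5 n639
theorem D1333 : act 5 n639 = n1333 := rfl
theorem F2411 : act 1 n1333 = n644 := d9_1 D1333 (iv D644) (iv F1220)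
theorem F2412 : act 3 n1333 = n1276 := d16_1 D1333 (iv D1276) (iv D614) (iv F612) D639
def n1334 : Q := act 6 n639
theorem D1334 : act 6 n639 = n1334 := rfl
theorem F2413 : act 1 n1334 = n645 := d10_1 D1334 (iv D645) (iv F1220)
def n1335 : Q := act 3 n640
theorem D1335 : act 3 n640 = n1335 := rfl
theorem F2414 : act 0 n1335 = n1138 := d2_1 D1335 (iv D1138) (iv F1221)
theorem F2415 : act 1 n1335 = n646 := d7_1 D1335 (iv D646) (iv F1222)
def n1336 : Q := act 3 n641
theorem D1336 : act 3 n641 = n1336 := rfl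
theorem F2416 : act 1 n1336 = n647 := d7_1 D1336 (iv D647) (iv F1224)
def n1337 : Q := act 1 n642
theorem D1337 : act 1 n642 = n1337 := rfl
def n1338 : Q := act 3 n642
theorem D1338 : act 3 n642 = n1338 := rfl
theorem F2417 : act 0 n1338 = n700 := d2_1 D1338 (iv F2116) F2115
theorem F2418 : act 2 n1338 = n677 := d11_1 D1338 (iv D677) (iv D322) (iv D156) F181 D130 D266 D553 D1140 F2116 (iv D700) (iv D331) (iv D160) (iv D80) F82 D74 D148 D307 D642
def n1339 : Q := act 4 n642
theorem D1339 : act 4 n642 = n1339 := rfl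
theorem F2419 : act 2 n1339 = n643 := d12_1 D1339 (iv D643) D642
def n1340 : Q := act 5 n642
theorem D1340 : act 5 n642 = n1340 := rfl
theorem F2420 : act 2 n1340 = n644 := d13_1 D1340 (iv D644) D642
def n1341 : Q := act 6 n642
theorem D1341 : act 6 n642 = n1341 := rfl
theorem F2421 : act 2 n1341 = n645 := d14_1 D1341 (iv D645) D642
def n1342 : Q := act 3 n643
theorem D1342 : act 3 n643 = n1342 := rfl
theorem F2422 : act 4 n1342 = n646 := d15_2 D643 D1342 (iv D646) (iv D308) D307
def n1343 : Q := act 5 n643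
theorem D1343 : act 5 n643 = n1343 := rfl
theorem F2423 : act 4 n1343 = n644 := d18_1 D1343 (iv D644) D643
def n1344 : Q := act 6 n643
theorem D1344 : act 6 n643 = n1344 := rfl
theorem F2424 : act 4 n1344 = n645 := d19_1 D1344 (iv D645) D643
def n1345 : Q := act 6 n644
theorem D1345 : act 6 n644 = n1345 := rfl
def n1346 : Q := act 3 n645
theorem D1346 : act 3 n645 = n1346 := rfl
theorem F2426 : act 6 n1346 = n647 := d17_2 D645 D1346 (iv D647) (iv D309) D307
def n1347 : Q := act 5 n645
theorem D1347 : act 5 n645 = n1347 := rfl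
def n1348 : Q := act 2 n646
theorem D1348 : act 2 n646 = n1348 := rfl
def n1349 : Q := act 5 n646
theorem D1349 : act 5 n646 = n1349 := rfl
theorem F2429 : act 3 n1349 = n1291 := d16_1 D1349 (iv D1291) (iv D620) (iv F614) D646
def n1350 : Q := act 6 n646
theorem D1350 : act 6 n646 = n1350 := rfl
def n1351 : Q := act 2 n647
theorem D1351 : act 2 n647 = n1351 := rfl
def n1352 : Q := act 4 n647
theorem D1352 : act 4 n647 = n1352 := rfl
def n1353 : Q := act 5 n647
theorem D1353 : act 5 n647 = n1353 := rfl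
def n1354 : Q := act 1 n648
theorem D1354 : act 1 n648 = n1354 := rfl
theorem F2430 : act 6 n1354 = n651 := d10_2 (iv F1226) D1354 (iv D651)
def n1355 : Q := act 3 n648
theorem D1355 : act 3 n648 = n1355 := rfl
def n1357 : Q := act 5 n648
theorem D1357 : act 5 n648 = n1357 := rfl
def n1358 : Q := act 0 n651
theorem D1358 : act 0 n651 = n1358 := rfl
theorem F2434 : act 1 n1358 = n1151 := d22_4 F769 D850 F1525 D1358 F2133 F1086 (iv F771) (iv F1528) (iv D852)
theorem F2435 : act 4 n1149 = n1358 := d22_9 (iv D1358) (iv D651) (iv D311) (iv F546) F547 D496 F974 D1026 (iv F2130)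
def n1361 : Q := act 5 n651
theorem D1361 : act 5 n651 = n1361 := rfl
theorem F2439 : act 1 n1361 = n654 := d9_1 D1361 (iv D654) D651
def n1362 : Q := act 2 n652
theorem D1362 : act 2 n652 = n1362 := rfl
def n1363 : Q := act 4 n652
theorem D1363 : act 4 n652 = n1363 := rfl
def n1365 : Q := act 6 n652
theorem D1365 : act 6 n652 = n1365 := rfl
def n1369 : Q := act 6 n654
theorem D1369 : act 6 n654 = n1369 := rfl
theorem F2443 : act 2 n1369 = n656 := d14_1 D1369 (iv D656) (iv F1229)
theorem F2446 : act 3 n1357 = n1369 := d24_2 (iv F1226) D1357 F2443 (iv D656) (iv D313) (iv D151) (iv F185) (iv D81) (iv D37) (iv F78) F77 D44 (iv F175) D151 D311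
def n1370 : Q := act 3 n655
theorem D1370 : act 3 n655 = n1370 := rfl
theorem F2447 : act 4 n1370 = n800 := d15_2 (iv F1230) D1370 (iv D800) F708 (iv F617)
def n1372 : Q := act 3 n657
theorem D1372 : act 3 n657 = n1372 := rfl
theorem F2450 : act 0 n1372 = n658 := d2_1 D1372 (iv D658) D657
theorem F2451 : act 1 n1372 = n1161 := d7_1 D1372 (iv D1161) (iv F1235)
def n1373 : Q := act 2 n658
theorem D1373 : act 2 n658 = n1373 := rfl
def n1379 : Q := act 1 n661
theorem D1379 : act 1 n661 = n1379 := rfl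
def n1380 : Q := act 3 n661
theorem D1380 : act 3 n661 = n1380 := rfl
theorem F2459 : act 0 n1380 = n723 := d2_1 D1380 (iv F2148) F2147
theorem F2460 : act 2 n1380 = n687 := d11_1 D1380 (iv D687) (iv D326) (iv D158) F184 D132 D270 D561 D1157 F2148 (iv D723) (iv D341) (iv D164) (iv D82) F83 D76 D152 D315 D661
def n1381 : Q := act 4 n661
theorem D1381 : act 4 n661 = n1381 := rfl
theorem F2461 : act 2 n1381 = n662 := d12_1 D1381 (iv D662) D661
def n1382 : Q := act 5 n661
theorem D1382 : act 5 n661 = n1382 := rfl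
theorem F2462 : act 2 n1382 = n663 := d13_1 D1382 (iv D663) D661
def n1383 : Q := act 6 n661
theorem D1383 : act 6 n661 = n1383 := rfl
theorem F2463 : act 2 n1383 = n664 := d14_1 D1383 (iv D664) D661
def n1384 : Q := act 3 n662
theorem D1384 : act 3 n662 = n1384 := rfl
theorem F2464 : act 4 n1384 = n665 := d15_2 D662 D1384 (iv D665) (iv D316) D315
def n1386 : Q := act 6 n662
theorem D1386 : act 6 n662 = n1386 := rfl
theorem F2466 : act 4 n1386 = n664 := d19_1 D1386 (iv D664) D662
def n1387 : Q := act 3 n663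
theorem D1387 : act 3 n663 = n1387 := rfl
theorem F2467 : act 5 n1387 = n666 := d16_2 D663 D1387 (iv D666) (iv D317) D315
def n1390 : Q := act 2 n665
theorem D1390 : act 2 n665 = n1390 := rfl
def n1391 : Q := act 5 n665
theorem D1391 : act 5 n665 = n1391 := rfl
def n1392 : Q := act 6 n665
theorem D1392 : act 6 n665 = n1392 := rfl
theorem F2471 : act 3 n1392 = n1320 := d17_1 D1392 (iv D1320) (iv D632) (iv F620) D665
def n1393 : Q := act 2 n666
theorem D1393 : act 2 n666 = n1393 := rfl
def n1394 : Q := act 4 n666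
theorem D1394 : act 4 n666 = n1394 := rfl
def n1395 : Q := act 6 n666
theorem D1395 : act 6 n666 = n1395 := rfl
def n1396 : Q := act 1 n667
theorem D1396 : act 1 n667 = n1396 := rfl
theorem F2472 : act 5 n1396 = n670 := d9_2 (iv F1243) D1396 (iv D670)
def n1397 : Q := act 3 n667
theorem D1397 : act 3 n667 = n1397 := rfl
def n1398 : Q := act 4 n667
theorem D1398 : act 4 n667 = n1398 := rfl
theorem F2473 : act 2 n1398 = n668 := d12_1 D1398 (iv D668) D667
theorem F2474 : act 5 n1398 = n672 := d18_2 (iv F1243) D1398 (iv D672)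
def n1399 : Q := act 6 n667
theorem D1399 : act 6 n667 = n1399 := rfl
theorem F2475 : act 2 n1399 = n669 := d14_1 D1399 (iv D669) D667
def n1400 : Q := act 0 n670
theorem D1400 : act 0 n670 = n1400 := rfl
theorem F2476 : act 1 n1400 = n1168 := d22_4 F746 D827 F1475 D1400 F2165 F1103 (iv F748) (iv F1478) (iv D829)
theorem F2477 : act 4 n1166 = n1400 := d22_9 (iv D1400) (iv D670) (iv D319) (iv F555) F556 D504 F987 D1042 (iv F2162)
def n1401 : Q := act 3 n670
theorem D1401 : act 3 n670 = n1401 := rfl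
theorem F2478 : act 1 n1401 = n671 := d7_1 D1401 (iv D671) D670
def n1402 : Q := act 4 n670
theorem D1402 : act 4 n670 = n1402 := rfl
theorem F2479 : act 0 n1402 = n1166 := d3_1 D1402 F2477 (iv D1400)
def n1403 : Q := act 6 n670
theorem D1403 : act 6 n670 = n1403 := rfl
theorem F2481 : act 1 n1403 = n673 := d10_1 D1403 (iv D673) D670
def n1404 : Q := act 2 n671
theorem D1404 : act 2 n671 = n1404 := rfl
def n1405 : Q := act 4 n671
theorem D1405 : act 4 n671 = n1405 := rfl
def n1406 : Q := act 5 n671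
theorem D1406 : act 5 n671 = n1406 := rfl
def n1408 : Q := act 3 n672
theorem D1408 : act 3 n672 = n1408 := rfl
def n1409 : Q := act 6 n672
theorem D1409 : act 6 n672 = n1409 := rfl
theorem F2483 : act 4 n1409 = n673 := d19_1 D1409 (iv D673) D672
theorem F2484 : act 5 n1409 = n1399 := d21_2 F2474 D1409 (iv D1399) D1398
def n1410 : Q := act 3 n673
theorem D1410 : act 3 n673 = n1410 := rfl
def n1411 : Q := act 5 n673
theorem D1411 : act 5 n673 = n1411 := rfl
theorem F2485 : act 2 n1411 = n675 := d13_1 D1411 (iv D675) (iv F1246)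
theorem F2487 : act 6 n1411 = n1398 := d20_2 D673 D1411 F2474 D1409 F2484 (iv D1399) F1243
theorem F2488 : act 3 n1411 = n1399 := d24_2 D673 D1411 F2475 (iv D669) F622 (iv D155) (iv F188) F190 (iv D40) F78 (iv D10) D35 D77 D155 D319
def n1412 : Q := act 3 n674
theorem D1412 : act 3 n674 = n1412 := rfl
theorem F2489 : act 4 n1412 = n786 := d15_2 (iv F1247) D1412 (iv D786) F701 (iv F624)
def n1413 : Q := act 3 n675
theorem D1413 : act 3 n675 = n1413 := rfl
theorem F2491 : act 5 n1413 = n787 := d16_2 D675 D1413 (iv D787) (iv D375) (iv F624)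
def n1414 : Q := act 0 n676
theorem D1414 : act 0 n676 = n1414 := rfl
theorem F2492 : act 1 n1414 = n744 := d0_2 D676 D1414 F1354 (iv F1298) (iv D696) (iv D330) (iv F625)
theorem F2493 : act 2 n1414 = n1414 := d1_2 F1251 D1414 (iv D1414)
theorem F2494 : act 4 n742 = n1414 := d22_9 (iv D1414) (iv D676) (iv D322) F330 (iv F197) D170 (iv F661) D742 F1351
def n1415 : Q := act 3 n676
theorem D1415 : act 3 n676 = n1415 := rfl
theorem F2495 : act 1 n1415 = n677 := d7_1 D1415 (iv D677) D676
def n1416 : Q := act 4 n676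
theorem D1416 : act 4 n676 = n1416 := rfl
theorem F2496 : act 0 n1416 = n742 := d3_1 D1416 F2494 (iv D1414)
theorem F2497 : act 1 n1416 = n678 := d8_1 D1416 (iv D678) D676
theorem F2498 : act 2 n1416 = n1416 := d12_1 D1416 (iv D1416) F1251
theorem F2499 : act 5 n1416 = n1414 := d18_2 F1352 D1416 (iv F2494)
def n1417 : Q := act 6 n676
theorem D1417 : act 6 n676 = n1417 := rfl
theorem F2500 : act 1 n1417 = n679 := d10_1 D1417 (iv D679) D676
theorem F2501 : act 2 n1417 = n1417 := d14_1 D1417 (iv D1417) F1251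
def n1418 : Q := act 4 n677
theorem D1418 : act 4 n677 = n1418 := rfl
theorem F2502 : act 0 n1418 = n701 := d3_1 D1418 (iv D701) (iv F1252)
def n1419 : Q := act 5 n677
theorem D1419 : act 5 n677 = n1419 := rfl
theorem F2503 : act 0 n1419 = n702 := d4_1 D1419 (iv D702) (iv F1252)
def n1420 : Q := act 6 n677
theorem D1420 : act 6 n677 = n1420 := rfl
theorem F2504 : act 0 n1420 = n703 := d5_1 D1420 (iv D703) (iv F1252)
def n1421 : Q := act 3 n678
theorem D1421 : act 3 n678 = n1421 := rfl
theorem F2505 : act 0 n1421 = n704 := d2_1 D1421 (iv D704) (iv F1253)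
def n1422 : Q := act 6 n678
theorem D1422 : act 6 n678 = n1422 := rfl
theorem F2506 : act 0 n1422 = n705 := d5_1 D1422 (iv D705) (iv F1253)
theorem F2507 : act 2 n1422 = n680 := d14_1 D1422 (iv D680) (iv F1254)
theorem F2508 : act 4 n1422 = n679 := d19_1 D1422 (iv D679) D678
theorem F2509 : act 5 n1422 = n745 := d21_2 F1356 D1422 (iv D745) D744
def n1423 : Q := act 3 n679
theorem D1423 : act 3 n679 = n1423 := rfl
theorem F2510 : act 0 n1423 = n706 := d2_1 D1423 (iv D706) (iv F1255)
def n1424 : Q := act 5 n679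
theorem D1424 : act 5 n679 = n1424 := rfl
theorem F2511 : act 0 n1424 = n707 := d4_1 D1424 (iv D707) (iv F1255)
theorem F2512 : act 2 n1424 = n682 := d13_1 D1424 (iv D682) (iv F1256)
theorem F2513 : act 4 n1424 = n745 := d18_1 D1424 (iv F2509) F2508
theorem F2514 : act 6 n1424 = n744 := d20_2 D679 D1424 F1356 D1422 F2509 (iv D745) F662
def n1425 : Q := act 3 n680
theorem D1425 : act 3 n680 = n1425 := rfl
theorem F2515 : act 0 n1425 = n708 := d2_1 D1425 (iv D708) (iv F1257)
theorem F2516 : act 1 n1425 = n1425 := d7_1 D1425 (iv D1425) F1258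
def n1426 : Q := act 2 n681
theorem D1426 : act 2 n681 = n1426 := rfl
theorem F2517 : act 0 n1426 = n709 := d1_1 D1426 (iv D709) (iv F1261)
theorem F2518 : act 6 n1426 = n683 := d14_2 (iv F1263) D1426 (iv D683)
def n1427 : Q := act 4 n681
theorem D1427 : act 4 n681 = n1427 := rfl
theorem F2519 : act 0 n1427 = n710 := d3_1 D1427 (iv D710) (iv F1261)
theorem F2520 : act 1 n1427 = n1427 := d8_1 D1427 (iv D1427) F1262
theorem F2521 : act 6 n1427 = n684 := d19_2 (iv F1263) D1427 (iv D684)
def n1428 : Q := act 5 n681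
theorem D1428 : act 5 n681 = n1428 := rfl
theorem F2522 : act 0 n1428 = n711 := d4_1 D1428 (iv D711) (iv F1261)
theorem F2523 : act 1 n1428 = n1428 := d9_1 D1428 (iv D1428) F1262
def n1429 : Q := act 3 n682
theorem D1429 : act 3 n682 = n1429 := rfl
theorem F2524 : act 0 n1429 = n712 := d2_1 D1429 (iv D712) (iv F1264)
theorem F2525 : act 1 n1429 = n1429 := d7_1 D1429 (iv D1429) F1265
theorem F2526 : act 6 n1429 = n1425 := d17_2 (iv F1267) D1429 (iv D1425) (iv D680) (iv F665)
def n1430 : Q := act 1 n683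
theorem D1430 : act 1 n683 = n1430 := rfl
theorem F2527 : act 2 n1430 = n1430 := d6_2 D683 D1430 (iv D1430) (iv D683) F631
def n1431 : Q := act 3 n683
theorem D1431 : act 3 n683 = n1431 := rfl
theorem F2528 : act 0 n1431 = n714 := d2_1 D1431 (iv D714) (iv F1268)
def n1432 : Q := act 4 n683
theorem D1432 : act 4 n683 = n1432 := rfl
theorem F2529 : act 0 n1432 = n715 := d3_1 D1432 (iv D715) (iv F1268)
theorem F2530 : act 2 n1432 = n684 := d12_1 D1432 (iv D684) D683
def n1433 : Q := act 5 n683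
theorem D1433 : act 5 n683 = n1433 := rfl
theorem F2532 : act 2 n1433 = n685 := d13_1 D1433 (iv D685) D683
def n1434 : Q := act 5 n684
theorem D1434 : act 5 n684 = n1434 := rfl
theorem F2533 : act 0 n1434 = n717 := d4_1 D1434 (iv D717) (iv F1269)
theorem F2534 : act 1 n1434 = n1434 := d9_1 D1434 (iv D1434) F1270
theorem F2535 : act 4 n1434 = n685 := d18_1 D1434 (iv D685) D684
theorem F2536 : act 6 n1434 = n1428 := d21_1 D1434 (iv D1428) F1263 D684
def n1435 : Q := act 6 n685
theorem D1435 : act 6 n685 = n1435 := rfl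
theorem F2537 : act 0 n1435 = n718 := d5_1 D1435 (iv D718) (iv F1271)
theorem F2538 : act 1 n1435 = n1435 := d10_1 D1435 (iv D1435) F1272
theorem F2539 : act 4 n1435 = n1428 := d19_1 D1435 (iv F2536) F2535
def n1436 : Q := act 0 n686
theorem D1436 : act 0 n686 = n1436 := rfl
theorem F2541 : act 1 n1436 = n748 := d0_2 D686 D1436 F1362 (iv F1322) (iv D719) (iv D340) (iv F632)
theorem F2542 : act 2 n1436 = n1436 := d1_2 F1274 D1436 (iv D1436)
theorem F2543 : act 4 n746 = n1436 := d22_9 (iv D1436) (iv D686) (iv D326) F336 (iv F199) D173 (iv F669) D746 F1359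
def n1437 : Q := act 3 n686
theorem D1437 : act 3 n686 = n1437 := rfl
theorem F2544 : act 1 n1437 = n687 := d7_1 D1437 (iv D687) D686
def n1438 : Q := act 4 n686
theorem D1438 : act 4 n686 = n1438 := rfl
theorem F2545 : act 0 n1438 = n746 := d3_1 D1438 F2543 (iv D1436)
theorem F2546 : act 1 n1438 = n688 := d8_1 D1438 (iv D688) D686
theorem F2547 : act 2 n1438 = n1438 := d12_1 D1438 (iv D1438) F1274
theorem F2548 : act 6 n1438 = n1436 := d19_2 F1360 D1438 (iv F2543)
def n1439 : Q := act 5 n686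
theorem D1439 : act 5 n686 = n1439 := rfl
theorem F2549 : act 1 n1439 = n689 := d9_1 D1439 (iv D689) D686
theorem F2550 : act 2 n1439 = n1439 := d13_1 D1439 (iv D1439) F1274
def n1440 : Q := act 4 n687
theorem D1440 : act 4 n687 = n1440 := rfl
theorem F2551 : act 0 n1440 = n724 := d3_1 D1440 (iv D724) (iv F1275)
def n1441 : Q := act 5 n687
theorem D1441 : act 5 n687 = n1441 := rfl
theorem F2552 : act 0 n1441 = n725 := d4_1 D1441 (iv D725) (iv F1275)
def n1442 : Q := act 6 n687
theorem D1442 : act 6 n687 = n1442 := rfl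
theorem F2553 : act 0 n1442 = n726 := d5_1 D1442 (iv D726) (iv F1275)
def n1443 : Q := act 3 n688
theorem D1443 : act 3 n688 = n1443 := rfl
theorem F2554 : act 0 n1443 = n727 := d2_1 D1443 (iv D727) (iv F1276)
def n1444 : Q := act 5 n688
theorem D1444 : act 5 n688 = n1444 := rfl
theorem F2555 : act 0 n1444 = n728 := d4_1 D1444 (iv D728) (iv F1276)
theorem F2556 : act 2 n1444 = n690 := d13_1 D1444 (iv D690) (iv F1277)
theorem F2557 : act 4 n1444 = n689 := d18_1 D1444 (iv D689) D688
theorem F2558 : act 6 n1444 = n749 := d21_1 D1444 (iv D749) F670 D688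
def n1445 : Q := act 3 n689
theorem D1445 : act 3 n689 = n1445 := rfl
theorem F2559 : act 0 n1445 = n729 := d2_1 D1445 (iv D729) (iv F1278)
def n1446 : Q := act 6 n689
theorem D1446 : act 6 n689 = n1446 := rfl
theorem F2560 : act 0 n1446 = n730 := d5_1 D1446 (iv D730) (iv F1278)
theorem F2561 : act 2 n1446 = n692 := d14_1 D1446 (iv D692) (iv F1279)
theorem F2562 : act 4 n1446 = n749 := d19_1 D1446 (iv F2558) F2557
theorem F2563 : act 5 n1446 = n748 := d20_1 D1446 F1364 D1444 F2558 (iv D749) F670 D689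
def n1447 : Q := act 3 n690
theorem D1447 : act 3 n690 = n1447 := rfl
theorem F2564 : act 0 n1447 = n731 := d2_1 D1447 (iv D731) (iv F1280)
theorem F2565 : act 1 n1447 = n1447 := d7_1 D1447 (iv D1447) F1281
def n1448 : Q := act 2 n691
theorem D1448 : act 2 n691 = n1448 := rfl
theorem F2566 : act 0 n1448 = n732 := d1_1 D1448 (iv D732) (iv F1284)
theorem F2567 : act 5 n1448 = n693 := d13_2 (iv F1286) D1448 (iv D693)
def n1449 : Q := act 4 n691
theorem D1449 : act 4 n691 = n1449 := rfl
theorem F2568 : act 0 n1449 = n733 := d3_1 D1449 (iv D733) (iv F1284)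
theorem F2569 : act 1 n1449 = n1449 := d8_1 D1449 (iv D1449) F1285
theorem F2570 : act 5 n1449 = n694 := d18_2 (iv F1286) D1449 (iv D694)
def n1450 : Q := act 6 n691
theorem D1450 : act 6 n691 = n1450 := rfl
theorem F2571 : act 0 n1450 = n734 := d5_1 D1450 (iv D734) (iv F1284)
theorem F2572 : act 1 n1450 = n1450 := d10_1 D1450 (iv D1450) F1285
def n1451 : Q := act 3 n692
theorem D1451 : act 3 n692 = n1451 := rfl
theorem F2573 : act 0 n1451 = n735 := d2_1 D1451 (iv D735) (iv F1287)
theorem F2574 : act 1 n1451 = n1451 := d7_1 D1451 (iv D1451) F1288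
theorem F2575 : act 5 n1451 = n1447 := d16_2 (iv F1290) D1451 (iv D1447) (iv D690) (iv F673)
def n1452 : Q := act 1 n693
theorem D1452 : act 1 n693 = n1452 := rfl
theorem F2576 : act 2 n1452 = n1452 := d6_2 D693 D1452 (iv D1452) (iv D693) F638
def n1453 : Q := act 3 n693
theorem D1453 : act 3 n693 = n1453 := rfl
theorem F2577 : act 0 n1453 = n737 := d2_1 D1453 (iv D737) (iv F1291)
def n1454 : Q := act 4 n693
theorem D1454 : act 4 n693 = n1454 := rfl
theorem F2578 : act 0 n1454 = n738 := d3_1 D1454 (iv D738) (iv F1291)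
theorem F2579 : act 2 n1454 = n694 := d12_1 D1454 (iv D694) D693
def n1455 : Q := act 6 n693
theorem D1455 : act 6 n693 = n1455 := rfl
theorem F2580 : act 0 n1455 = n739 := d5_1 D1455 (iv D739) (iv F1291)
theorem F2581 : act 2 n1455 = n695 := d14_1 D1455 (iv D695) D693
def n1456 : Q := act 6 n694
theorem D1456 : act 6 n694 = n1456 := rfl
theorem F2582 : act 0 n1456 = n740 := d5_1 D1456 (iv D740) (iv F1292)
theorem F2583 : act 1 n1456 = n1456 := d10_1 D1456 (iv D1456) F1293
theorem F2584 : act 4 n1456 = n695 := d19_1 D1456 (iv D695) D694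
theorem F2585 : act 5 n1456 = n1450 := d21_2 F2570 D1456 (iv D1450) D1449
def n1457 : Q := act 5 n695
theorem D1457 : act 5 n695 = n1457 := rfl
theorem F2587 : act 1 n1457 = n1457 := d9_1 D1457 (iv D1457) F1296
theorem F2588 : act 4 n1457 = n1450 := d18_1 D1457 (iv F2585) F2584
theorem F2589 : act 6 n1457 = n1449 := d20_2 D695 D1457 F2570 D1456 F2585 (iv D1450) F1286
def n1458 : Q := act 3 n696
theorem D1458 : act 3 n696 = n1458 := rfl
theorem F2590 : act 0 n1458 = n697 := d2_1 D1458 (iv D697) D696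
theorem F2591 : act 1 n1458 = n756 := d7_1 D1458 (iv D756) (iv F1298)
def n1459 : Q := act 6 n696
theorem D1459 : act 6 n696 = n1459 := rfl
theorem F2592 : act 0 n1459 = n699 := d5_1 D1459 (iv D699) D696
theorem F2594 : act 4 n1459 = n751 := d19_1 D1459 (iv D751) F1299
theorem F2595 : act 5 n1459 = n699 := d21_2 F1304 D1459 (iv D699) D698
def n1460 : Q := act 2 n697
theorem D1460 : act 2 n697 = n1460 := rfl
def n1461 : Q := act 4 n697
theorem D1461 : act 4 n697 = n1461 := rfl
theorem F2596 : act 1 n1461 = n701 := d8_1 D1461 (iv D701) (iv F1300)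
def n1462 : Q := act 5 n697
theorem D1462 : act 5 n697 = n1462 := rfl
theorem F2597 : act 1 n1462 = n702 := d9_1 D1462 (iv D702) (iv F1300)
def n1463 : Q := act 6 n697
theorem D1463 : act 6 n697 = n1463 := rfl
theorem F2598 : act 1 n1463 = n703 := d10_1 D1463 (iv D703) (iv F1300)
def n1464 : Q := act 3 n698
theorem D1464 : act 3 n698 = n1464 := rfl
theorem F2599 : act 0 n1464 = n750 := d2_1 D1464 (iv D750) (iv F1301)
theorem F2600 : act 1 n1464 = n704 := d7_1 D1464 (iv D704) (iv F1302)
def n1465 : Q := act 6 n698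
theorem D1465 : act 6 n698 = n1465 := rfl
theorem F2601 : act 0 n1465 = n751 := d5_1 D1465 (iv D751) (iv F1301)
theorem F2602 : act 1 n1465 = n705 := d10_1 D1465 (iv D705) (iv F1302)
theorem F2603 : act 2 n1465 = n1459 := d14_1 D1465 (iv D1459) (iv F1303)
theorem F2604 : act 4 n1465 = n699 := d19_1 D1465 (iv D699) D698
theorem F2605 : act 5 n1465 = n751 := d20_1 D1465 (iv D751) F678 D699 (iv F2595) (iv D1459) (iv F1304)
def n1466 : Q := act 3 n699
theorem D1466 : act 3 n699 = n1466 := rfl
theorem F2606 : act 1 n1466 = n706 := d7_1 D1466 (iv D706) (iv F1305)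
def n1467 : Q := act 1 n700
theorem D1467 : act 1 n700 = n1467 := rfl
def n1468 : Q := act 4 n700
theorem D1468 : act 4 n700 = n1468 := rfl
theorem F2607 : act 2 n1468 = n701 := d12_1 D1468 (iv D701) D700
def n1469 : Q := act 5 n700
theorem D1469 : act 5 n700 = n1469 := rfl
theorem F2608 : act 2 n1469 = n702 := d13_1 D1469 (iv D702) D700
def n1470 : Q := act 6 n700
theorem D1470 : act 6 n700 = n1470 := rfl
theorem F2609 : act 2 n1470 = n703 := d14_1 D1470 (iv D703) D700
def n1471 : Q := act 3 n701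
theorem D1471 : act 3 n701 = n1471 := rfl
theorem F2610 : act 4 n1471 = n704 := d15_2 D701 D1471 (iv D704) (iv D332) D331
def n1472 : Q := act 5 n701
theorem D1472 : act 5 n701 = n1472 := rfl
theorem F2611 : act 4 n1472 = n702 := d18_1 D1472 (iv D702) D701
def n1473 : Q := act 6 n701
theorem D1473 : act 6 n701 = n1473 := rfl
theorem F2612 : act 4 n1473 = n703 := d19_1 D1473 (iv D703) D701
def n1474 : Q := act 6 n702
theorem D1474 : act 6 n702 = n1474 := rfl
theorem F2613 : act 5 n1474 = n1473 := d21_2 D702 D1474 (iv D1473) (iv D701)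
def n1475 : Q := act 3 n703
theorem D1475 : act 3 n703 = n1475 := rfl
theorem F2614 : act 6 n1475 = n706 := d17_2 D703 D1475 (iv D706) (iv D333) D331
def n1476 : Q := act 5 n703
theorem D1476 : act 5 n703 = n1476 := rfl
theorem F2615 : act 4 n1476 = n1474 := d18_1 D1476 F2613 F2612
theorem F2616 : act 6 n1476 = n1472 := d20_2 D703 D1476 (iv D1472) D1473 (iv F2613) (iv D1474) (iv D702)
def n1477 : Q := act 2 n704
theorem D1477 : act 2 n704 = n1477 := rfl
def n1478 : Q := act 5 n704
theorem D1478 : act 5 n704 = n1478 := rfl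
def n1479 : Q := act 6 n704
theorem D1479 : act 6 n704 = n1479 := rfl
def n1480 : Q := act 3 n705
theorem D1480 : act 3 n705 = n1480 := rfl
def n1481 : Q := act 2 n706
theorem D1481 : act 2 n706 = n1481 := rfl
def n1482 : Q := act 4 n706
theorem D1482 : act 4 n706 = n1482 := rfl
def n1483 : Q := act 5 n706
theorem D1483 : act 5 n706 = n1483 := rfl
theorem F2617 : act 6 n1322 = n1483 := d24_0 (iv D1483) (iv D706) F640 (iv D162) (iv F198) (iv D86) (iv F94) (iv F178) (iv D77) D76 D152 F328 D303 D634 D1322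
theorem F2618 : act 2 n1483 = n1324 := d14_1 F2617 (iv D1324) D1322
theorem F2619 : act 5 n1324 = n1481 := d13_2 D1483 F2618 (iv D1481)
def n1484 : Q := act 3 n707
theorem D1484 : act 3 n707 = n1484 := rfl
def n1485 : Q := act 2 n708
theorem D1485 : act 2 n708 = n1485 := rfl
def n1486 : Q := act 4 n708
theorem D1486 : act 4 n708 = n1486 := rfl
theorem F2620 : act 3 n1486 = n710 := d15_1 D1486 (iv D710) (iv D335) (iv F641) D708
def n1487 : Q := act 5 n708
theorem D1487 : act 5 n708 = n1487 := rfl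
theorem F2621 : act 3 n1487 = n741 := d16_1 D1487 (iv D741) F660 (iv F642) D708
def n1488 : Q := act 1 n709
theorem D1488 : act 1 n709 = n1488 := rfl
theorem F2622 : act 6 n1488 = n713 := d10_2 (iv F1312) D1488 (iv D713)
def n1489 : Q := act 3 n709
theorem D1489 : act 3 n709 = n1489 := rfl
def n1490 : Q := act 4 n709
theorem D1490 : act 4 n709 = n1490 := rfl
theorem F2623 : act 2 n1490 = n710 := d12_1 D1490 (iv D710) D709
theorem F2624 : act 6 n1490 = n715 := d19_2 (iv F1312) D1490 (iv D715)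
def n1491 : Q := act 5 n709
theorem D1491 : act 5 n709 = n1491 := rfl
theorem F2625 : act 2 n1491 = n711 := d13_1 D1491 (iv D711) D709
def n1492 : Q := act 3 n711
theorem D1492 : act 3 n711 = n1492 := rfl
theorem F2626 : act 1 n1492 = n1487 := d7_1 D1492 F2621 F1348
theorem F2627 : act 5 n1492 = n712 := d16_2 D711 D1492 (iv D712) (iv D336) D335
def n1493 : Q := act 2 n712
theorem D1493 : act 2 n712 = n1493 := rfl
theorem F2628 : act 6 n1493 = n1485 := d14_2 (iv F1315) D1493 (iv D1485)
def n1494 : Q := act 4 n712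
theorem D1494 : act 4 n712 = n1494 := rfl
theorem F2629 : act 1 n1494 = n1486 := d8_1 D1494 (iv D1486) (iv F1314)
theorem F2630 : act 3 n1494 = n740 := d15_1 D1494 F1346 F660 (iv F645) D712
theorem F2631 : act 6 n1494 = n1486 := d19_2 (iv F1315) D1494 (iv D1486)
def n1495 : Q := act 0 n713
theorem D1495 : act 0 n713 = n1495 := rfl
theorem F2632 : act 1 n1495 = n738 := d22_4 F1291 D736 F1342 D1495 F1343 (iv F1292) F1293 (iv F2579) (iv D1454)
theorem F2633 : act 4 n736 = n1495 := d22_9 (iv D1495) (iv D713) (iv D337) (iv F630) F631 D683 F1268 D713 (iv F1342)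
def n1496 : Q := act 3 n713
theorem D1496 : act 3 n713 = n1496 := rfl
theorem F2634 : act 1 n1496 = n714 := d7_1 D1496 (iv D714) D713
def n1497 : Q := act 4 n713
theorem D1497 : act 4 n713 = n1497 := rfl
theorem F2635 : act 0 n1497 = n736 := d3_1 D1497 F2633 (iv D1495)
theorem F2636 : act 1 n1497 = n715 := d8_1 D1497 (iv D715) D713
theorem F2637 : act 2 n1497 = n1495 := d12_1 D1497 (iv F2633) F1342
def n1498 : Q := act 5 n713
theorem D1498 : act 5 n713 = n1498 := rfl
theorem F2638 : act 1 n1498 = n716 := d9_1 D1498 (iv D716) D713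
def n1499 : Q := act 2 n714
theorem D1499 : act 2 n714 = n1499 := rfl
def n1500 : Q := act 4 n714
theorem D1500 : act 4 n714 = n1500 := rfl
def n1501 : Q := act 5 n714
theorem D1501 : act 5 n714 = n1501 := rfl
def n1502 : Q := act 6 n714
theorem D1502 : act 6 n714 = n1502 := rfl
def n1503 : Q := act 3 n715
theorem D1503 : act 3 n715 = n1503 := rfl
def n1504 : Q := act 5 n715
theorem D1504 : act 5 n715 = n1504 := rfl
theorem F2639 : act 2 n1504 = n717 := d13_1 D1504 (iv D717) (iv F1316)
theorem F2640 : act 4 n1504 = n716 := d18_1 D1504 (iv D716) D715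
theorem F2641 : act 6 n1504 = n1491 := d21_1 D1504 (iv D1491) F1312 D715
def n1505 : Q := act 3 n716
theorem D1505 : act 3 n716 = n1505 := rfl
def n1506 : Q := act 6 n716
theorem D1506 : act 6 n716 = n1506 := rfl
theorem F2642 : act 2 n1506 = n718 := d14_1 D1506 (iv D718) (iv F1317)
theorem F2643 : act 4 n1506 = n1491 := d19_1 D1506 (iv F2641) F2640
theorem F2644 : act 5 n1506 = n1490 := d20_1 D1506 F2624 D1504 F2641 (iv D1491) F1312 D716
theorem F2645 : act 3 n1206 = n1506 := d24_2 (iv F1125) D1206 F2642 (iv D718) (iv D339) (iv D163) F185 (iv D75) (iv D34) (iv D9) F26 D33 (iv F165) D137 D281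
def n1507 : Q := act 3 n717
theorem D1507 : act 3 n717 = n1507 := rfl
theorem F2646 : act 4 n1507 = n735 := d15_2 (iv F1318) D1507 (iv D735) F655 (iv F647)
def n1508 : Q := act 3 n718
theorem D1508 : act 3 n718 = n1508 := rfl
theorem F2647 : act 6 n1508 = n731 := d17_2 D718 D1508 (iv D731) F651 (iv F647)
def n1509 : Q := act 3 n719
theorem D1509 : act 3 n719 = n1509 := rfl
theorem F2648 : act 0 n1509 = n720 := d2_1 D1509 (iv D720) D719
theorem F2649 : act 1 n1509 = n764 := d7_1 D1509 (iv D764) (iv F1322)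
def n1510 : Q := act 5 n719
theorem D1510 : act 5 n719 = n1510 := rfl
theorem F2650 : act 0 n1510 = n722 := d4_1 D1510 (iv D722) D719
theorem F2651 : act 1 n1510 = n730 := d9_1 D1510 F1335 (iv F1322)
theorem F2652 : act 4 n1510 = n759 := d18_1 D1510 (iv D759) F1323
theorem F2653 : act 6 n1510 = n722 := d21_1 D1510 (iv D722) (iv F683) F1323
def n1511 : Q := act 2 n720
theorem D1511 : act 2 n720 = n1511 := rfl
def n1512 : Q := act 4 n720
theorem D1512 : act 4 n720 = n1512 := rfl
theorem F2654 : act 1 n1512 = n724 := d8_1 D1512 (iv D724) (iv F1324)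
def n1513 : Q := act 5 n720
theorem D1513 : act 5 n720 = n1513 := rfl
theorem F2655 : act 1 n1513 = n725 := d9_1 D1513 (iv D725) (iv F1324)
def n1514 : Q := act 6 n720
theorem D1514 : act 6 n720 = n1514 := rfl
theorem F2656 : act 1 n1514 = n726 := d10_1 D1514 (iv D726) (iv F1324)
def n1515 : Q := act 3 n721
theorem D1515 : act 3 n721 = n1515 := rfl
theorem F2657 : act 0 n1515 = n758 := d2_1 D1515 (iv D758) (iv F1325)
theorem F2658 : act 1 n1515 = n727 := d7_1 D1515 (iv D727) (iv F1326)
def n1516 : Q := act 5 n721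
theorem D1516 : act 5 n721 = n1516 := rfl
theorem F2659 : act 0 n1516 = n759 := d4_1 D1516 (iv D759) (iv F1325)
theorem F2660 : act 1 n1516 = n728 := d9_1 D1516 (iv D728) (iv F1326)
theorem F2661 : act 2 n1516 = n1510 := d13_1 D1516 (iv D1510) (iv F1327)
theorem F2662 : act 4 n1516 = n722 := d18_1 D1516 (iv D722) D721
theorem F2663 : act 6 n1516 = n759 := d20_2 (iv F1328) D1516 (iv D759) F683 D722 (iv F2653) (iv D1510)
def n1517 : Q := act 3 n722
theorem D1517 : act 3 n722 = n1517 := rfl
theorem F2664 : act 1 n1517 = n729 := d7_1 D1517 (iv D729) (iv F1329)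
def n1518 : Q := act 1 n723
theorem D1518 : act 1 n723 = n1518 := rfl
def n1519 : Q := act 4 n723
theorem D1519 : act 4 n723 = n1519 := rfl
theorem F2665 : act 2 n1519 = n724 := d12_1 D1519 (iv D724) D723
def n1520 : Q := act 5 n723
theorem D1520 : act 5 n723 = n1520 := rfl
theorem F2666 : act 2 n1520 = n725 := d13_1 D1520 (iv D725) D723
def n1521 : Q := act 6 n723
theorem D1521 : act 6 n723 = n1521 := rfl
theorem F2667 : act 2 n1521 = n726 := d14_1 D1521 (iv D726) D723
def n1522 : Q := act 3 n724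
theorem D1522 : act 3 n724 = n1522 := rfl
theorem F2668 : act 4 n1522 = n727 := d15_2 D724 D1522 (iv D727) (iv D342) D341
def n1523 : Q := act 5 n724
theorem D1523 : act 5 n724 = n1523 := rfl
theorem F2669 : act 4 n1523 = n725 := d18_1 D1523 (iv D725) D724
def n1524 : Q := act 6 n724
theorem D1524 : act 6 n724 = n1524 := rfl
theorem F2670 : act 4 n1524 = n726 := d19_1 D1524 (iv D726) D724
def n1525 : Q := act 3 n725
theorem D1525 : act 3 n725 = n1525 := rfl
theorem F2671 : act 5 n1525 = n729 := d16_2 D725 D1525 (iv D729) (iv D343) D341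
def n1526 : Q := act 6 n725
theorem D1526 : act 6 n725 = n1526 := rfl
theorem F2672 : act 5 n1526 = n1524 := d21_2 D725 D1526 (iv D1524) (iv D724)
def n1527 : Q := act 5 n726
theorem D1527 : act 5 n726 = n1527 := rfl
theorem F2674 : act 6 n1527 = n1523 := d20_2 D726 D1527 (iv D1523) D1524 (iv F2672) (iv D1526) (iv D725)
def n1528 : Q := act 2 n727
theorem D1528 : act 2 n727 = n1528 := rfl
def n1529 : Q := act 5 n727
theorem D1529 : act 5 n727 = n1529 := rfl
def n1530 : Q := act 6 n727
theorem D1530 : act 6 n727 = n1530 := rfl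
def n1531 : Q := act 3 n728
theorem D1531 : act 3 n728 = n1531 := rfl
def n1532 : Q := act 2 n729
theorem D1532 : act 2 n729 = n1532 := rfl
theorem F2675 : act 6 n1532 = n1296 := d24_4 F355 D343 D729 D1532 (iv D1296) (iv D622) F594 (iv D144) (iv F174) (iv D74) (iv F82) D81 F186 D87 D173
def n1533 : Q := act 4 n729
theorem D1533 : act 4 n729 = n1533 := rfl
def n1534 : Q := act 6 n729
theorem D1534 : act 6 n729 = n1534 := rfl
theorem F2676 : act 2 n1534 = n1296 := d14_1 D1534 (iv F2675) (iv D1532)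
theorem F2677 : act 5 n1294 = n1534 := d13_0 F2676 (iv D1296) D1294
def n1535 : Q := act 3 n730
theorem D1535 : act 3 n730 = n1535 := rfl
def n1536 : Q := act 2 n731
theorem D1536 : act 2 n731 = n1536 := rfl
def n1537 : Q := act 4 n731
theorem D1537 : act 4 n731 = n1537 := rfl
theorem F2678 : act 1 n1537 = n1507 := d8_1 D1537 F2646 F1340
theorem F2679 : act 3 n1537 = n733 := d15_1 D1537 (iv D733) (iv D345) (iv F650) D731
theorem F2680 : act 5 n1537 = n1507 := d18_2 F1341 D1537 F2646
def n1538 : Q := act 1 n732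
theorem D1538 : act 1 n732 = n1538 := rfl
theorem F2681 : act 2 n1538 = n1498 := d6_2 D732 D1538 F2638 F1317 (iv F652)
theorem F2682 : act 5 n1538 = n736 := d9_2 (iv F1336) D1538 (iv D736)
def n1539 : Q := act 3 n732
theorem D1539 : act 3 n732 = n1539 := rfl
def n1540 : Q := act 4 n732
theorem D1540 : act 4 n732 = n1540 := rfl
theorem F2684 : act 5 n1540 = n738 := d18_2 (iv F1336) D1540 (iv D738)
def n1541 : Q := act 6 n732
theorem D1541 : act 6 n732 = n1541 := rfl
theorem F2685 : act 2 n1541 = n734 := d14_1 D1541 (iv D734) D732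
def n1542 : Q := act 3 n734
theorem D1542 : act 3 n734 = n1542 := rfl
theorem F2686 : act 1 n1542 = n1508 := d7_1 D1542 (iv D1508) (iv F1339)
theorem F2687 : act 6 n1542 = n735 := d17_2 D734 D1542 (iv D735) (iv D346) D345
def n1543 : Q := act 2 n735
theorem D1543 : act 2 n735 = n1543 := rfl
theorem F2688 : act 5 n1543 = n1536 := d13_2 (iv F1341) D1543 (iv D1536)
def n1544 : Q := act 3 n736
theorem D1544 : act 3 n736 = n1544 := rfl
theorem F2689 : act 1 n1544 = n737 := d7_1 D1544 (iv D737) D736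
def n1545 : Q := act 6 n736
theorem D1545 : act 6 n736 = n1545 := rfl
theorem F2690 : act 1 n1545 = n739 := d10_1 D1545 (iv D739) D736
theorem F2691 : act 2 n1545 = n1488 := d14_1 D1545 F2622 (iv F1342)
def n1546 : Q := act 2 n737
theorem D1546 : act 2 n737 = n1546 := rfl
def n1547 : Q := act 4 n737
theorem D1547 : act 4 n737 = n1547 := rfl
def n1548 : Q := act 5 n737
theorem D1548 : act 5 n737 = n1548 := rfl
def n1549 : Q := act 6 n737
theorem D1549 : act 6 n737 = n1549 := rfl
def n1550 : Q := act 3 n738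
theorem D1550 : act 3 n738 = n1550 := rfl
def n1551 : Q := act 6 n738
theorem D1551 : act 6 n738 = n1551 := rfl
theorem F2693 : act 4 n1551 = n739 := d19_1 D1551 (iv D739) D738
theorem F2694 : act 5 n1551 = n1541 := d21_2 F2684 D1551 (iv D1541) D1540
def n1552 : Q := act 3 n739
theorem D1552 : act 3 n739 = n1552 := rfl
def n1553 : Q := act 5 n739
theorem D1553 : act 5 n739 = n1553 := rfl
theorem F2695 : act 2 n1553 = n741 := d13_1 D1553 (iv D741) (iv F1344)
theorem F2697 : act 6 n1553 = n1540 := d20_2 D739 D1553 F2684 D1551 F2694 (iv D1541) F1336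
theorem F2698 : act 3 n1553 = n1258 := d24_2 D739 D1553 F2287 (iv D606) F579 (iv D141) F169 F171 (iv D32) D9 D10 D38 D83 D167 D347
def n1554 : Q := act 3 n742
theorem D1554 : act 3 n742 = n1554 := rfl
theorem F2699 : act 1 n1554 = n743 := d7_1 D1554 (iv D743) D742
def n1555 : Q := act 6 n742
theorem D1555 : act 6 n742 = n1555 := rfl
theorem F2700 : act 1 n1555 = n745 := d10_1 D1555 (iv D745) D742
theorem F2701 : act 2 n1555 = n1555 := d14_1 D1555 (iv D1555) F1351
def n1556 : Q := act 2 n743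
theorem D1556 : act 2 n743 = n1556 := rfl
theorem F2702 : act 0 n1556 = n752 := d1_1 D1556 (iv D752) (iv F1353)
theorem F2703 : act 3 n1556 = n778 := d23_1 D1556 (iv D778) (iv D371) (iv D178) (iv D90) F94 D86 D170 D357 (iv F1353)
def n1557 : Q := act 4 n743
theorem D1557 : act 4 n743 = n1557 := rfl
theorem F2704 : act 0 n1557 = n753 := d3_1 D1557 (iv D753) (iv F1353)
def n1558 : Q := act 5 n743
theorem D1558 : act 5 n743 = n1558 := rfl
theorem F2705 : act 0 n1558 = n754 := d4_1 D1558 (iv D754) (iv F1353)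
theorem F2706 : act 3 n1558 = n1419 := d16_1 D1558 (iv D1419) (iv D677) (iv F662) D743
def n1559 : Q := act 6 n743
theorem D1559 : act 6 n743 = n1559 := rfl
theorem F2707 : act 0 n1559 = n755 := d5_1 D1559 (iv D755) (iv F1353)
def n1560 : Q := act 3 n744
theorem D1560 : act 3 n744 = n1560 := rfl
theorem F2708 : act 0 n1560 = n756 := d2_1 D1560 (iv D756) (iv F1354)
def n1561 : Q := act 3 n745
theorem D1561 : act 3 n745 = n1561 := rfl
theorem F2709 : act 0 n1561 = n757 := d2_1 D1561 (iv D757) (iv F1357)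
def n1562 : Q := act 3 n746
theorem D1562 : act 3 n746 = n1562 := rfl
theorem F2710 : act 1 n1562 = n747 := d7_1 D1562 (iv D747) D746
def n1563 : Q := act 5 n746
theorem D1563 : act 5 n746 = n1563 := rfl
theorem F2711 : act 1 n1563 = n749 := d9_1 D1563 (iv D749) D746
theorem F2712 : act 2 n1563 = n1563 := d13_1 D1563 (iv D1563) F1359
def n1564 : Q := act 2 n747
theorem D1564 : act 2 n747 = n1564 := rfl
theorem F2713 : act 0 n1564 = n760 := d1_1 D1564 (iv D760) (iv F1361)
theorem F2714 : act 3 n1564 = n792 := d23_1 D1564 (iv D792) (iv D377) (iv D181) (iv D91) F96 D87 D173 D361 (iv F1361)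
def n1565 : Q := act 4 n747
theorem D1565 : act 4 n747 = n1565 := rfl
theorem F2715 : act 0 n1565 = n761 := d3_1 D1565 (iv D761) (iv F1361)
def n1566 : Q := act 5 n747
theorem D1566 : act 5 n747 = n1566 := rfl
theorem F2716 : act 0 n1566 = n762 := d4_1 D1566 (iv D762) (iv F1361)
def n1567 : Q := act 6 n747
theorem D1567 : act 6 n747 = n1567 := rfl
theorem F2718 : act 3 n1567 = n1442 := d17_1 D1567 (iv D1442) (iv D687) (iv F670) D747
def n1568 : Q := act 3 n748
theorem D1568 : act 3 n748 = n1568 := rfl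
theorem F2719 : act 0 n1568 = n764 := d2_1 D1568 (iv D764) (iv F1362)
def n1569 : Q := act 3 n749
theorem D1569 : act 3 n749 = n1569 := rfl
theorem F2720 : act 0 n1569 = n765 := d2_1 D1569 (iv D765) (iv F1365)
def n1570 : Q := act 2 n750
theorem D1570 : act 2 n750 = n1570 := rfl
def n1571 : Q := act 4 n750
theorem D1571 : act 4 n750 = n1571 := rfl
theorem F2721 : act 1 n1571 = n753 := d8_1 D1571 (iv D753) (iv F1367)
def n1572 : Q := act 5 n750
theorem D1572 : act 5 n750 = n1572 := rfl
theorem F2722 : act 1 n1572 = n754 := d9_1 D1572 (iv D754) (iv F1367)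
theorem F2723 : act 3 n1572 = n1462 := d16_1 D1572 (iv D1462) (iv D697) (iv F678) D750
def n1573 : Q := act 6 n750
theorem D1573 : act 6 n750 = n1573 := rfl
theorem F2724 : act 1 n1573 = n755 := d10_1 D1573 (iv D755) (iv F1367)
def n1574 : Q := act 3 n751
theorem D1574 : act 3 n751 = n1574 := rfl
theorem F2725 : act 1 n1574 = n757 := d7_1 D1574 (iv D757) (iv F1368)
def n1575 : Q := act 1 n752
theorem D1575 : act 1 n752 = n1575 := rfl
def n1576 : Q := act 3 n752
theorem D1576 : act 3 n752 = n1576 := rfl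
theorem F2726 : act 0 n1576 = n778 := d2_1 D1576 (iv F2703) F2702
theorem F2727 : act 2 n1576 = n767 := d11_1 D1576 (iv D767) (iv D364) (iv D176) F202 D168 D350 D743 D1556 F2703 (iv D778) (iv D371) (iv D178) (iv D90) F94 D86 D170 D357 D752
def n1577 : Q := act 4 n752
theorem D1577 : act 4 n752 = n1577 := rfl
theorem F2728 : act 2 n1577 = n753 := d12_1 D1577 (iv D753) D752
def n1578 : Q := act 5 n752
theorem D1578 : act 5 n752 = n1578 := rfl
theorem F2729 : act 2 n1578 = n754 := d13_1 D1578 (iv D754) D752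
def n1579 : Q := act 6 n752
theorem D1579 : act 6 n752 = n1579 := rfl
theorem F2730 : act 2 n1579 = n755 := d14_1 D1579 (iv D755) D752
def n1580 : Q := act 3 n753
theorem D1580 : act 3 n753 = n1580 := rfl
theorem F2731 : act 4 n1580 = n756 := d15_2 D753 D1580 (iv D756) (iv D358) D357
def n1581 : Q := act 5 n753
theorem D1581 : act 5 n753 = n1581 := rfl
theorem F2732 : act 4 n1581 = n754 := d18_1 D1581 (iv D754) D753
def n1582 : Q := act 6 n753
theorem D1582 : act 6 n753 = n1582 := rfl
theorem F2733 : act 4 n1582 = n755 := d19_1 D1582 (iv D755) D753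
def n1583 : Q := act 6 n754
theorem D1583 : act 6 n754 = n1583 := rfl
theorem F2734 : act 5 n1583 = n1582 := d21_2 D754 D1583 (iv D1582) (iv D753)
def n1584 : Q := act 3 n755
theorem D1584 : act 3 n755 = n1584 := rfl
theorem F2735 : act 6 n1584 = n757 := d17_2 D755 D1584 (iv D757) (iv D359) D357
def n1585 : Q := act 5 n755
theorem D1585 : act 5 n755 = n1585 := rfl
theorem F2736 : act 4 n1585 = n1583 := d18_1 D1585 F2734 F2733
theorem F2737 : act 6 n1585 = n1581 := d20_2 D755 D1585 (iv D1581) D1582 (iv F2734) (iv D1583) (iv D754)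
def n1586 : Q := act 2 n756
theorem D1586 : act 2 n756 = n1586 := rfl
def n1587 : Q := act 5 n756
theorem D1587 : act 5 n756 = n1587 := rfl
theorem F2738 : act 3 n1587 = n1478 := d16_1 D1587 (iv D1478) (iv D704) (iv F680) D756
def n1588 : Q := act 6 n756
theorem D1588 : act 6 n756 = n1588 := rfl
def n1589 : Q := act 2 n757
theorem D1589 : act 2 n757 = n1589 := rfl
def n1590 : Q := act 4 n757
theorem D1590 : act 4 n757 = n1590 := rfl
def n1591 : Q := act 5 n757
theorem D1591 : act 5 n757 = n1591 := rfl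
def n1592 : Q := act 2 n758
theorem D1592 : act 2 n758 = n1592 := rfl
def n1593 : Q := act 4 n758
theorem D1593 : act 4 n758 = n1593 := rfl
theorem F2739 : act 1 n1593 = n761 := d8_1 D1593 (iv D761) (iv F1371)
def n1594 : Q := act 5 n758
theorem D1594 : act 5 n758 = n1594 := rfl
theorem F2740 : act 1 n1594 = n762 := d9_1 D1594 (iv D762) (iv F1371)
def n1595 : Q := act 6 n758
theorem D1595 : act 6 n758 = n1595 := rfl
theorem F2741 : act 1 n1595 = n763 := d10_1 D1595 (iv D763) (iv F1371)
theorem F2742 : act 3 n1595 = n1514 := d17_1 D1595 (iv D1514) (iv D720) (iv F683) D758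
def n1596 : Q := act 3 n759
theorem D1596 : act 3 n759 = n1596 := rfl
theorem F2743 : act 1 n1596 = n765 := d7_1 D1596 (iv D765) (iv F1372)
def n1597 : Q := act 1 n760
theorem D1597 : act 1 n760 = n1597 := rfl
def n1598 : Q := act 3 n760
theorem D1598 : act 3 n760 = n1598 := rfl
theorem F2744 : act 0 n1598 = n792 := d2_1 D1598 (iv F2714) F2713
theorem F2745 : act 2 n1598 = n771 := d11_1 D1598 (iv D771) (iv D367) (iv D177) F205 D169 D353 D747 D1564 F2714 (iv D792) (iv D377) (iv D181) (iv D91) F96 D87 D173 D361 D760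
def n1599 : Q := act 4 n760
theorem D1599 : act 4 n760 = n1599 := rfl
theorem F2746 : act 2 n1599 = n761 := d12_1 D1599 (iv D761) D760
def n1600 : Q := act 5 n760
theorem D1600 : act 5 n760 = n1600 := rfl
theorem F2747 : act 2 n1600 = n762 := d13_1 D1600 (iv D762) D760
def n1601 : Q := act 6 n760
theorem D1601 : act 6 n760 = n1601 := rfl
theorem F2748 : act 2 n1601 = n763 := d14_1 D1601 (iv D763) D760
def n1602 : Q := act 3 n761
theorem D1602 : act 3 n761 = n1602 := rfl
theorem F2749 : act 4 n1602 = n764 := d15_2 D761 D1602 (iv D764) (iv D362) D361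
def n1603 : Q := act 5 n761
theorem D1603 : act 5 n761 = n1603 := rfl
theorem F2750 : act 4 n1603 = n762 := d18_1 D1603 (iv D762) D761
def n1604 : Q := act 6 n761
theorem D1604 : act 6 n761 = n1604 := rfl
theorem F2751 : act 4 n1604 = n763 := d19_1 D1604 (iv D763) D761
def n1605 : Q := act 3 n762
theorem D1605 : act 3 n762 = n1605 := rfl
theorem F2752 : act 5 n1605 = n765 := d16_2 D762 D1605 (iv D765) (iv D363) D361
def n1606 : Q := act 6 n762
theorem D1606 : act 6 n762 = n1606 := rfl
theorem F2753 : act 5 n1606 = n1604 := d21_2 D762 D1606 (iv D1604) (iv D761)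
def n1607 : Q := act 5 n763
theorem D1607 : act 5 n763 = n1607 := rfl
theorem F2754 : act 4 n1607 = n1606 := d18_1 D1607 F2753 F2751
theorem F2755 : act 6 n1607 = n1603 := d20_2 D763 D1607 (iv D1603) D1604 (iv F2753) (iv D1606) (iv D762)
def n1608 : Q := act 2 n764
theorem D1608 : act 2 n764 = n1608 := rfl
def n1609 : Q := act 5 n764
theorem D1609 : act 5 n764 = n1609 := rfl
def n1610 : Q := act 6 n764
theorem D1610 : act 6 n764 = n1610 := rfl
theorem F2756 : act 3 n1610 = n1530 := d17_1 D1610 (iv D1530) (iv D727) (iv F685) D764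
def n1611 : Q := act 2 n765
theorem D1611 : act 2 n765 = n1611 := rfl
def n1612 : Q := act 4 n765
theorem D1612 : act 4 n765 = n1612 := rfl
def n1613 : Q := act 6 n765
theorem D1613 : act 6 n765 = n1613 := rfl
def n1614 : Q := act 3 n766
theorem D1614 : act 3 n766 = n1614 := rfl
theorem F2757 : act 1 n1614 = n767 := d7_1 D1614 (iv D767) D766
def n1615 : Q := act 6 n766
theorem D1615 : act 6 n766 = n1615 := rfl
theorem F2758 : act 1 n1615 = n769 := d10_1 D1615 (iv D769) D766
def n1616 : Q := act 4 n767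
theorem D1616 : act 4 n767 = n1616 := rfl
theorem F2759 : act 0 n1616 = n779 := d3_1 D1616 (iv D779) (iv F1376)
def n1617 : Q := act 5 n767
theorem D1617 : act 5 n767 = n1617 := rfl
theorem F2760 : act 0 n1617 = n780 := d4_1 D1617 (iv D780) (iv F1376)
theorem F2761 : act 3 n1617 = n780 := d16_1 D1617 (iv D780) (iv D371) (iv F688) D767
def n1618 : Q := act 6 n767
theorem D1618 : act 6 n767 = n1618 := rfl
theorem F2762 : act 0 n1618 = n781 := d5_1 D1618 (iv D781) (iv F1376)
def n1619 : Q := act 3 n768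
theorem D1619 : act 3 n768 = n1619 := rfl
theorem F2763 : act 0 n1619 = n782 := d2_1 D1619 (iv D782) (iv F1377)
def n1620 : Q := act 3 n769
theorem D1620 : act 3 n769 = n1620 := rfl
theorem F2764 : act 0 n1620 = n784 := d2_1 D1620 (iv D784) (iv F1380)
def n1621 : Q := act 3 n770
theorem D1621 : act 3 n770 = n1621 := rfl
theorem F2765 : act 1 n1621 = n771 := d7_1 D1621 (iv D771) D770
def n1622 : Q := act 5 n770
theorem D1622 : act 5 n770 = n1622 := rfl
theorem F2766 : act 1 n1622 = n773 := d9_1 D1622 (iv D773) D770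
def n1623 : Q := act 4 n771
theorem D1623 : act 4 n771 = n1623 := rfl
theorem F2767 : act 0 n1623 = n793 := d3_1 D1623 (iv D793) (iv F1383)
def n1624 : Q := act 5 n771
theorem D1624 : act 5 n771 = n1624 := rfl
theorem F2768 : act 0 n1624 = n794 := d4_1 D1624 (iv D794) (iv F1383)
def n1625 : Q := act 6 n771
theorem D1625 : act 6 n771 = n1625 := rfl
theorem F2769 : act 0 n1625 = n795 := d5_1 D1625 (iv D795) (iv F1383)
theorem F2770 : act 3 n1625 = n795 := d17_1 D1625 (iv D795) (iv D377) (iv F694) D771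
def n1626 : Q := act 3 n772
theorem D1626 : act 3 n772 = n1626 := rfl
theorem F2771 : act 0 n1626 = n796 := d2_1 D1626 (iv D796) (iv F1384)
def n1627 : Q := act 3 n773
theorem D1627 : act 3 n773 = n1627 := rfl
theorem F2772 : act 0 n1627 = n798 := d2_1 D1627 (iv D798) (iv F1387)
def n1628 : Q := act 3 n774
theorem D1628 : act 3 n774 = n1628 := rfl
theorem F2773 : act 0 n1628 = n775 := d2_1 D1628 (iv D775) D774
theorem F2774 : act 1 n1628 = n1619 := d7_1 D1628 (iv D1619) (iv F1389)
def n1629 : Q := act 6 n774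
theorem D1629 : act 6 n774 = n1629 := rfl
theorem F2775 : act 0 n1629 = n777 := d5_1 D1629 (iv D777) D774
theorem F2776 : act 1 n1629 = n785 := d10_1 D1629 F1402 (iv F1389)
theorem F2777 : act 4 n1629 = n1615 := d19_1 D1629 (iv D1615) F1390
theorem F2778 : act 5 n1629 = n777 := d21_2 F1394 D1629 (iv D777) D776
def n1630 : Q := act 2 n775
theorem D1630 : act 2 n775 = n1630 := rfl
def n1631 : Q := act 4 n775
theorem D1631 : act 4 n775 = n1631 := rfl
theorem F2779 : act 1 n1631 = n779 := d8_1 D1631 (iv D779) (iv F1391)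
def n1632 : Q := act 5 n775
theorem D1632 : act 5 n775 = n1632 := rfl
theorem F2780 : act 1 n1632 = n780 := d9_1 D1632 (iv D780) (iv F1391)
def n1633 : Q := act 6 n775
theorem D1633 : act 6 n775 = n1633 := rfl
theorem F2781 : act 1 n1633 = n781 := d10_1 D1633 (iv D781) (iv F1391)
def n1634 : Q := act 3 n776
theorem D1634 : act 3 n776 = n1634 := rfl
theorem F2782 : act 0 n1634 = n1614 := d2_1 D1634 (iv D1614) (iv F1392)
theorem F2783 : act 1 n1634 = n782 := d7_1 D1634 (iv D782) (iv F1393)
def n1635 : Q := act 6 n776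
theorem D1635 : act 6 n776 = n1635 := rfl
theorem F2784 : act 0 n1635 = n1615 := d5_1 D1635 (iv D1615) (iv F1392)
theorem F2785 : act 1 n1635 = n783 := d10_1 D1635 (iv D783) (iv F1393)
theorem F2786 : act 4 n1635 = n777 := d19_1 D1635 (iv D777) D776
theorem F2787 : act 5 n1635 = n1615 := d20_1 D1635 (iv D1615) F1375 D777 (iv F2778) (iv D1629) (iv F1394)
def n1636 : Q := act 3 n777
theorem D1636 : act 3 n777 = n1636 := rfl
theorem F2788 : act 1 n1636 = n784 := d7_1 D1636 (iv D784) (iv F1395)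
def n1637 : Q := act 1 n778
theorem D1637 : act 1 n778 = n1637 := rfl
def n1638 : Q := act 4 n778
theorem D1638 : act 4 n778 = n1638 := rfl
theorem F2789 : act 2 n1638 = n779 := d12_1 D1638 (iv D779) D778
def n1639 : Q := act 5 n778
theorem D1639 : act 5 n778 = n1639 := rfl
theorem F2790 : act 2 n1639 = n780 := d13_1 D1639 (iv D780) D778
def n1640 : Q := act 6 n778
theorem D1640 : act 6 n778 = n1640 := rfl
theorem F2791 : act 2 n1640 = n781 := d14_1 D1640 (iv D781) D778
def n1641 : Q := act 3 n779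
theorem D1641 : act 3 n779 = n1641 := rfl
theorem F2792 : act 4 n1641 = n782 := d15_2 D779 D1641 (iv D782) (iv D372) D371
def n1642 : Q := act 5 n779
theorem D1642 : act 5 n779 = n1642 := rfl
theorem F2793 : act 4 n1642 = n780 := d18_1 D1642 (iv D780) D779
def n1643 : Q := act 6 n779
theorem D1643 : act 6 n779 = n1643 := rfl
theorem F2794 : act 4 n1643 = n781 := d19_1 D1643 (iv D781) D779
def n1644 : Q := act 6 n780
theorem D1644 : act 6 n780 = n1644 := rfl
theorem F2795 : act 5 n1644 = n1643 := d21_2 D780 D1644 (iv D1643) (iv D779)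
def n1645 : Q := act 3 n781
theorem D1645 : act 3 n781 = n1645 := rfl
theorem F2796 : act 6 n1645 = n784 := d17_2 D781 D1645 (iv D784) (iv D373) D371
def n1646 : Q := act 5 n781
theorem D1646 : act 5 n781 = n1646 := rfl
theorem F2797 : act 4 n1646 = n1644 := d18_1 D1646 F2795 F2794
theorem F2798 : act 6 n1646 = n1642 := d20_2 D781 D1646 (iv D1642) D1643 (iv F2795) (iv D1644) (iv D780)
def n1647 : Q := act 2 n782
theorem D1647 : act 2 n782 = n1647 := rfl
def n1648 : Q := act 5 n782
theorem D1648 : act 5 n782 = n1648 := rfl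
def n1649 : Q := act 6 n782
theorem D1649 : act 6 n782 = n1649 := rfl
def n1650 : Q := act 3 n783
theorem D1650 : act 3 n783 = n1650 := rfl
def n1651 : Q := act 2 n784
theorem D1651 : act 2 n784 = n1651 := rfl
def n1652 : Q := act 4 n784
theorem D1652 : act 4 n784 = n1652 := rfl
def n1653 : Q := act 5 n784
theorem D1653 : act 5 n784 = n1653 := rfl
def n1654 : Q := act 3 n785
theorem D1654 : act 3 n785 = n1654 := rfl
theorem F2799 : act 0 n1654 = n1650 := d2_1 D1654 (iv D1650) (iv F1399)
def n1655 : Q := act 2 n786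
theorem D1655 : act 2 n786 = n1655 := rfl
def n1656 : Q := act 5 n786
theorem D1656 : act 5 n786 = n1656 := rfl
theorem F2801 : act 0 n1656 = n1413 := d4_1 D1656 F2491 F1404
theorem F2802 : act 3 n1656 = n1171 := d16_1 D1656 (iv D1171) F1108 (iv F702) D786
def n1659 : Q := act 3 n788
theorem D1659 : act 3 n788 = n1659 := rfl
theorem F2808 : act 0 n1659 = n789 := d2_1 D1659 (iv D789) D788
theorem F2809 : act 1 n1659 = n1626 := d7_1 D1659 (iv D1626) (iv F1406)
def n1660 : Q := act 5 n788
theorem D1660 : act 5 n788 = n1660 := rfl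
theorem F2810 : act 0 n1660 = n791 := d4_1 D1660 (iv D791) D788
theorem F2811 : act 1 n1660 = n799 := d9_1 D1660 F1419 (iv F1406)
def n1661 : Q := act 2 n789
theorem D1661 : act 2 n789 = n1661 := rfl
def n1662 : Q := act 4 n789
theorem D1662 : act 4 n789 = n1662 := rfl
theorem F2814 : act 1 n1662 = n793 := d8_1 D1662 (iv D793) (iv F1408)
def n1663 : Q := act 5 n789
theorem D1663 : act 5 n789 = n1663 := rfl
theorem F2815 : act 1 n1663 = n794 := d9_1 D1663 (iv D794) (iv F1408)
def n1664 : Q := act 6 n789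
theorem D1664 : act 6 n789 = n1664 := rfl
theorem F2816 : act 1 n1664 = n795 := d10_1 D1664 (iv D795) (iv F1408)
def n1665 : Q := act 3 n790
theorem D1665 : act 3 n790 = n1665 := rfl
theorem F2817 : act 0 n1665 = n1621 := d2_1 D1665 (iv D1621) (iv F1409)
theorem F2818 : act 1 n1665 = n796 := d7_1 D1665 (iv D796) (iv F1410)
def n1666 : Q := act 5 n790
theorem D1666 : act 5 n790 = n1666 := rfl
theorem F2819 : act 0 n1666 = n1622 := d4_1 D1666 (iv D1622) (iv F1409)
theorem F2820 : act 1 n1666 = n797 := d9_1 D1666 (iv D797) (iv F1410)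
def n1667 : Q := act 3 n791
theorem D1667 : act 3 n791 = n1667 := rfl
theorem F2823 : act 1 n1667 = n798 := d7_1 D1667 (iv D798) (iv F1412)
def n1668 : Q := act 1 n792
theorem D1668 : act 1 n792 = n1668 := rfl
def n1669 : Q := act 4 n792
theorem D1669 : act 4 n792 = n1669 := rfl
theorem F2824 : act 2 n1669 = n793 := d12_1 D1669 (iv D793) D792
def n1670 : Q := act 5 n792
theorem D1670 : act 5 n792 = n1670 := rfl
theorem F2825 : act 2 n1670 = n794 := d13_1 D1670 (iv D794) D792
def n1671 : Q := act 6 n792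
theorem D1671 : act 6 n792 = n1671 := rfl
theorem F2826 : act 2 n1671 = n795 := d14_1 D1671 (iv D795) D792
def n1672 : Q := act 3 n793
theorem D1672 : act 3 n793 = n1672 := rfl
theorem F2827 : act 4 n1672 = n796 := d15_2 D793 D1672 (iv D796) (iv D378) D377
def n1673 : Q := act 5 n793
theorem D1673 : act 5 n793 = n1673 := rfl
theorem F2828 : act 4 n1673 = n794 := d18_1 D1673 (iv D794) D793
def n1674 : Q := act 6 n793
theorem D1674 : act 6 n793 = n1674 := rfl
theorem F2829 : act 4 n1674 = n795 := d19_1 D1674 (iv D795) D793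
def n1675 : Q := act 3 n794
theorem D1675 : act 3 n794 = n1675 := rfl
theorem F2830 : act 5 n1675 = n798 := d16_2 D794 D1675 (iv D798) (iv D379) D377
def n1676 : Q := act 6 n794
theorem D1676 : act 6 n794 = n1676 := rfl
theorem F2831 : act 5 n1676 = n1674 := d21_2 D794 D1676 (iv D1674) (iv D793)
def n1677 : Q := act 5 n795
theorem D1677 : act 5 n795 = n1677 := rfl
theorem F2832 : act 4 n1677 = n1676 := d18_1 D1677 F2831 F2829
theorem F2833 : act 6 n1677 = n1673 := d20_2 D795 D1677 (iv D1673) D1674 (iv F2831) (iv D1676) (iv D794)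
def n1678 : Q := act 2 n796
theorem D1678 : act 2 n796 = n1678 := rfl
def n1680 : Q := act 6 n796
theorem D1680 : act 6 n796 = n1680 := rfl
def n1681 : Q := act 3 n797
theorem D1681 : act 3 n797 = n1681 := rfl
def n1682 : Q := act 2 n798
theorem D1682 : act 2 n798 = n1682 := rfl
def n1683 : Q := act 4 n798
theorem D1683 : act 4 n798 = n1683 := rfl
def n1684 : Q := act 6 n798
theorem D1684 : act 6 n798 = n1684 := rfl
def n1685 : Q := act 3 n799
theorem D1685 : act 3 n799 = n1685 := rfl
theorem F2834 : act 0 n1685 = n1681 := d2_1 D1685 (iv D1681) (iv F1416)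
def n1686 : Q := act 2 n800
theorem D1686 : act 2 n800 = n1686 := rfl
theorem F2835 : act 1 n1686 = n1686 := d6_1 D1686 (iv D1686) (iv F1514) F2029 F1514
def n1688 : Q := act 2 n801
theorem D1688 : act 2 n801 = n1688 := rfl
theorem F2839 : act 0 n1688 = n1686 := d1_1 D1688 (iv D1686) (iv F1421)
def n1689 : Q := act 4 n801
theorem D1689 : act 4 n801 = n1689 := rfl
theorem F2841 : act 0 n1689 = n1370 := d3_1 D1689 F2447 (iv F1421)
theorem F2842 : act 3 n1689 = n1153 := d15_1 D1689 F2138 F1090 (iv F711) D801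
theorem F2843 : act 5 n1689 = n1261 := d18_2 (iv F1422) D1689 (iv D1261)
def n1690 : Q := act 3 n802
theorem D1690 : act 3 n802 = n1690 := rfl
theorem F2844 : act 1 n1690 = n803 := d7_1 D1690 (iv D803) D802
def n1691 : Q := act 6 n802
theorem D1691 : act 6 n802 = n1691 := rfl
theorem F2845 : act 1 n1691 = n805 := d10_1 D1691 (iv D805) D802
theorem F2846 : act 2 n1691 = n1615 := d14_1 D1691 (iv D1615) (iv F1423)
def n1692 : Q := act 2 n803
theorem D1692 : act 2 n803 = n1692 := rfl
theorem F2847 : act 0 n1692 = n1692 := d1_1 D1692 (iv D1692) F1425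
theorem F2848 : act 3 n1692 = n1692 := d23_1 D1692 (iv D1692) (iv D803) (iv D382) (iv D184) F209 D184 D382 D803 F1425
def n1693 : Q := act 6 n803
theorem D1693 : act 6 n803 = n1693 := rfl
theorem F2849 : act 0 n1693 = n1693 := d5_1 D1693 (iv D1693) F1425
theorem F2850 : act 5 n1693 = n1693 := d21_2 (iv F2019) D1693 (iv D1693) (iv F2020)
def n1695 : Q := act 3 n806
theorem D1695 : act 3 n806 = n1695 := rfl
theorem F2852 : act 1 n1695 = n807 := d7_1 D1695 (iv D807) D806
def n1696 : Q := act 5 n806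
theorem D1696 : act 5 n806 = n1696 := rfl
theorem F2853 : act 1 n1696 = n809 := d9_1 D1696 (iv D809) D806
def n1697 : Q := act 2 n807
theorem D1697 : act 2 n807 = n1697 := rfl
def n1698 : Q := act 4 n807
theorem D1698 : act 4 n807 = n1698 := rfl
def n1699 : Q := act 5 n807
theorem D1699 : act 5 n807 = n1699 := rfl
def n1700 : Q := act 6 n807
theorem D1700 : act 6 n807 = n1700 := rfl
theorem F2860 : act 3 n1700 = n840 := d17_1 D1700 (iv D840) (iv D399) (iv F722) D807
def n1701 : Q := act 3 n808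
theorem D1701 : act 3 n808 = n1701 := rfl
def n1702 : Q := act 3 n809
theorem D1702 : act 3 n809 = n1702 := rfl
def n1703 : Q := act 6 n810
theorem D1703 : act 6 n810 = n1703 := rfl
theorem F2863 : act 0 n1703 = n813 := d5_1 D1703 (iv D813) D810
theorem F2864 : act 1 n1703 = n817 := d10_1 D1703 (iv D817) (iv F2008)
theorem F2865 : act 2 n1703 = n1629 := d14_1 D1703 (iv D1629) (iv F1439)
theorem F2866 : act 4 n1703 = n1691 := d19_1 D1703 (iv D1691) F1441
theorem F2867 : act 5 n1703 = n813 := d21_2 F1446 D1703 (iv D813) D812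
def n1704 : Q := act 3 n812
theorem D1704 : act 3 n812 = n1704 := rfl
theorem F2868 : act 0 n1704 = n1690 := d2_1 D1704 (iv D1690) (iv F1443)
theorem F2869 : act 1 n1704 = n818 := d7_1 D1704 (iv D818) (iv F1444)
theorem F2870 : act 4 n1704 = n1690 := d15_2 D812 D1704 (iv D1690) F1441 F2009
theorem F2871 : act 5 n1704 = n1690 := d16_2 (iv F1446) D1704 (iv D1690) F1424 (iv F2009)
def n1705 : Q := act 6 n812
theorem D1705 : act 6 n812 = n1705 := rfl
theorem F2872 : act 0 n1705 = n1691 := d5_1 D1705 (iv D1691) (iv F1443)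
theorem F2873 : act 1 n1705 = n819 := d10_1 D1705 (iv D819) (iv F1444)
theorem F2874 : act 2 n1705 = n1635 := d14_1 D1705 (iv D1635) (iv F1445)
theorem F2875 : act 4 n1705 = n813 := d19_1 D1705 (iv D813) D812
theorem F2876 : act 5 n1705 = n1691 := d20_1 D1705 (iv D1691) F1424 D813 (iv F2867) (iv D1703) (iv F1446)
def n1706 : Q := act 3 n813
theorem D1706 : act 3 n813 = n1706 := rfl
theorem F2877 : act 1 n1706 = n820 := d7_1 D1706 (iv D820) (iv F1447)
def n1707 : Q := act 3 n817
theorem D1707 : act 3 n817 = n1707 := rfl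
theorem F2879 : act 6 n1707 = n820 := d17_2 D817 D1707 (iv D820) (iv D391) D389
def n1708 : Q := act 2 n818
theorem D1708 : act 2 n818 = n1708 := rfl
theorem F2880 : act 0 n1708 = n1708 := d1_1 D1708 (iv D1708) F1453
theorem F2881 : act 4 n1708 = n1692 := d12_2 (iv F2020) D1708 (iv D1692)
theorem F2882 : act 5 n1708 = n1692 := d13_2 F2019 D1708 (iv D1692)
def n1709 : Q := act 6 n818
theorem D1709 : act 6 n818 = n1709 := rfl
theorem F2883 : act 0 n1709 = n1709 := d5_1 D1709 (iv D1709) F1453
theorem F2884 : act 4 n1709 = n1693 := d19_1 D1709 (iv D1693) (iv F2020)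
theorem F2885 : act 5 n1709 = n1709 := d20_1 D1709 (iv D1709) (iv F2019) D1693 F2850 (iv D1693) F2019
def n1710 : Q := act 3 n819
theorem D1710 : act 3 n819 = n1710 := rfl
def n1711 : Q := act 2 n820
theorem D1711 : act 2 n820 = n1711 := rfl
def n1712 : Q := act 4 n820
theorem D1712 : act 4 n820 = n1712 := rfl
def n1713 : Q := act 5 n820
theorem D1713 : act 5 n820 = n1713 := rfl
theorem F2890 : act 6 n1117 = n1713 := d24_0 (iv D1713) (iv D820) F734 (iv D188) (iv F368) (iv D184) F209 (iv F289) (iv D121) D120 D242 F498 D259 D539 D1117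
theorem F2891 : act 2 n1713 = n1119 := d14_1 F2890 (iv D1119) D1117
theorem F2892 : act 5 n1119 = n1711 := d13_2 D1713 F2891 (iv D1711)
def n1714 : Q := act 2 n822
theorem D1714 : act 2 n822 = n1714 := rfl
def n1715 : Q := act 4 n822
theorem D1715 : act 4 n822 = n1715 := rfl
theorem F2896 : act 3 n1715 = n824 := d15_1 D1715 (iv D824) (iv D393) (iv F737) D822
def n1716 : Q := act 5 n822
theorem D1716 : act 5 n822 = n1716 := rfl
theorem F2898 : act 1 n1716 = n1656 := d9_1 D1716 (iv D1656) (iv F1464)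
def n1717 : Q := act 1 n823
theorem D1717 : act 1 n823 = n1717 := rfl
theorem F2900 : act 2 n1717 = n1403 := d6_2 D823 D1717 F2481 F1246 (iv F740)
theorem F2901 : act 6 n1717 = n827 := d10_2 (iv F1466) D1717 (iv D827)
def n1718 : Q := act 3 n823
theorem D1718 : act 3 n823 = n1718 := rfl
def n1719 : Q := act 4 n823
theorem D1719 : act 4 n823 = n1719 := rfl
theorem F2904 : act 2 n1719 = n824 := d12_1 D1719 (iv D824) D823
theorem F2905 : act 6 n1719 = n829 := d19_2 (iv F1466) D1719 (iv D829)
theorem F2906 : act 5 n1719 = n986 := d21_0 (iv F1812) (iv D830) (iv F1466) D1719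
theorem F2907 : act 3 n982 = n1719 := d16_5 F2906 (iv D986) (iv D473) D471 D982
def n1720 : Q := act 5 n823
theorem D1720 : act 5 n823 = n1720 := rfl
theorem F2909 : act 2 n1720 = n825 := d13_1 D1720 (iv D825) D823
theorem F2910 : act 4 n1720 = n986 := d18_1 D1720 (iv F2906) (iv D1719)
def n1721 : Q := act 3 n825
theorem D1721 : act 3 n825 = n1721 := rfl
theorem F2911 : act 0 n1721 = n1721 := d2_1 D1721 (iv D1721) F1470
theorem F2913 : act 5 n1721 = n826 := d16_2 D825 D1721 (iv D826) (iv D394) D393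
def n1722 : Q := act 2 n826
theorem D1722 : act 2 n826 = n1722 := rfl
theorem F2915 : act 6 n1722 = n1078 := d14_2 (iv F1474) D1722 (iv D1078)
def n1724 : Q := act 0 n827
theorem D1724 : act 0 n827 = n1724 := rfl
theorem F2921 : act 1 n1724 = n1044 := d22_4 F1102 D670 (iv F1475) D1724 F1911 F988 (iv F1104) (iv F2165) (iv D1168)
theorem F2922 : act 4 n1042 = n1724 := d22_9 (iv D1724) (iv D827) (iv D395) F377 F378 D319 (iv F1102) D1166 F2162
def n1725 : Q := act 3 n827
theorem D1725 : act 3 n827 = n1725 := rfl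
theorem F2923 : act 1 n1725 = n828 := d7_1 D1725 (iv D828) D827
def n1726 : Q := act 4 n827
theorem D1726 : act 4 n827 = n1726 := rfl
theorem F2924 : act 0 n1726 = n1042 := d3_1 D1726 F2922 (iv D1724)
theorem F2925 : act 1 n1726 = n829 := d8_1 D1726 (iv D829) D827
def n1727 : Q := act 5 n827
theorem D1727 : act 5 n827 = n1727 := rfl
theorem F2927 : act 1 n1727 = n830 := d9_1 D1727 (iv D830) D827
theorem F2928 : act 2 n1727 = n1396 := d13_1 D1727 F2472 (iv F1475)
def n1728 : Q := act 2 n828
theorem D1728 : act 2 n828 = n1728 := rfl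
def n1729 : Q := act 4 n828
theorem D1729 : act 4 n828 = n1729 := rfl
def n1730 : Q := act 5 n828
theorem D1730 : act 5 n828 = n1730 := rfl
theorem F2931 : act 0 n1730 = n1730 := d4_1 D1730 (iv D1730) F1476
def n1731 : Q := act 6 n828
theorem D1731 : act 6 n828 = n1731 := rfl
theorem F2932 : act 0 n1731 = n1731 := d5_1 D1731 (iv D1731) F1476
def n1732 : Q := act 3 n829
theorem D1732 : act 3 n829 = n1732 := rfl
def n1733 : Q := act 5 n829
theorem D1733 : act 5 n829 = n1733 := rfl
theorem F2934 : act 0 n1733 = n1733 := d4_1 D1733 (iv D1733) F1477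
theorem F2935 : act 2 n1733 = n831 := d13_1 D1733 (iv D831) (iv F1478)
theorem F2936 : act 4 n1733 = n830 := d18_1 D1733 (iv D830) D829
theorem F2937 : act 6 n1733 = n1720 := d20_2 F2905 D1733 (iv D1720) F1466 D830 F1812 (iv F2906)
def n1734 : Q := act 3 n830
theorem D1734 : act 3 n830 = n1734 := rfl
theorem F2939 : act 2 n1734 = n1040 := d23_2 (iv F1480) D1734 (iv F2404) (iv D1127) (iv D545) (iv F1052) (iv F1055) F795 (iv F751) F749
theorem F2940 : act 4 n1039 = n1734 := d12_0 F2939 (iv D1040) D1039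
theorem F2941 : act 5 n1044 = n1734 := d13_0 F2939 F1907 (iv F1911)
theorem F2942 : act 3 n1730 = n1044 := d16_5 F2941 (iv D1734) (iv D830) D828 D1730
def n1735 : Q := act 3 n831
theorem D1735 : act 3 n831 = n1735 := rfl
theorem F2945 : act 4 n1735 = n881 := d15_2 (iv F1483) D1735 (iv D881) F798 (iv F751)
theorem F2946 : act 2 n1735 = n1735 := d12_3 F2945 F2028 (iv F2945)
def n1736 : Q := act 3 n832
theorem D1736 : act 3 n832 = n1736 := rfl
theorem F2947 : act 0 n1736 = n1736 := d2_1 D1736 (iv D1736) F1485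
theorem F2948 : act 1 n1736 = n1327 := d7_1 D1736 F2400 (iv F1486)
theorem F2949 : act 6 n1736 = n882 := d17_2 D832 D1736 (iv D882) (iv D419) (iv F751)
def n1737 : Q := act 3 n833
theorem D1737 : act 3 n833 = n1737 := rfl
theorem F2951 : act 1 n1737 = n1701 := d7_1 D1737 (iv D1701) (iv F1490)
def n1738 : Q := act 5 n833
theorem D1738 : act 5 n833 = n1738 := rfl
theorem F2953 : act 1 n1738 = n844 := d9_1 D1738 F1512 (iv F1490)
def n1739 : Q := act 2 n834
theorem D1739 : act 2 n834 = n1739 := rfl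
def n1740 : Q := act 4 n834
theorem D1740 : act 4 n834 = n1740 := rfl
def n1741 : Q := act 5 n834
theorem D1741 : act 5 n834 = n1741 := rfl
def n1742 : Q := act 6 n834
theorem D1742 : act 6 n834 = n1742 := rfl
def n1743 : Q := act 3 n835
theorem D1743 : act 3 n835 = n1743 := rfl
theorem F2960 : act 0 n1743 = n1695 := d2_1 D1743 (iv D1695) (iv F1493)
def n1745 : Q := act 3 n836
theorem D1745 : act 3 n836 = n1745 := rfl
theorem F2967 : act 1 n1745 = n843 := d7_1 D1745 (iv D843) (iv F1497)
def n1746 : Q := act 1 n837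
theorem D1746 : act 1 n837 = n1746 := rfl
def n1747 : Q := act 4 n837
theorem D1747 : act 4 n837 = n1747 := rfl
theorem F2968 : act 0 n1747 = n1747 := d3_1 D1747 (iv D1747) F1499
theorem F2969 : act 2 n1747 = n838 := d12_1 D1747 (iv D838) D837
def n1748 : Q := act 5 n837
theorem D1748 : act 5 n837 = n1748 := rfl
theorem F2971 : act 2 n1748 = n839 := d13_1 D1748 (iv D839) D837
def n1749 : Q := act 6 n837
theorem D1749 : act 6 n837 = n1749 := rfl
def n1750 : Q := act 3 n838
theorem D1750 : act 3 n838 = n1750 := rfl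
theorem F2975 : act 4 n1750 = n841 := d15_2 D838 D1750 (iv D841) (iv D400) D399
def n1752 : Q := act 6 n838
theorem D1752 : act 6 n838 = n1752 := rfl
theorem F2979 : act 4 n1752 = n840 := d19_1 D1752 (iv D840) D838
def n1753 : Q := act 3 n839
theorem D1753 : act 3 n839 = n1753 := rfl
theorem F2981 : act 5 n1753 = n843 := d16_2 D839 D1753 (iv D843) (iv D401) D399
def n1754 : Q := act 6 n839
theorem D1754 : act 6 n839 = n1754 := rfl
theorem F2983 : act 5 n1754 = n1752 := d21_2 D839 D1754 (iv D1752) (iv D838)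
def n1755 : Q := act 5 n840
theorem D1755 : act 5 n840 = n1755 := rfl
theorem F2985 : act 4 n1755 = n1754 := d18_1 D1755 F2983 F2979
def n1756 : Q := act 2 n841
theorem D1756 : act 2 n841 = n1756 := rfl
def n1757 : Q := act 5 n841
theorem D1757 : act 5 n841 = n1757 := rfl
def n1758 : Q := act 6 n841
theorem D1758 : act 6 n841 = n1758 := rfl
def n1759 : Q := act 3 n842
theorem D1759 : act 3 n842 = n1759 := rfl
def n1760 : Q := act 2 n843
theorem D1760 : act 2 n843 = n1760 := rfl
theorem F2991 : act 0 n1760 = n1760 := d1_1 D1760 (iv D1760) F1508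
theorem F2992 : act 6 n1760 = n1070 := d24_4 F722 D401 D843 D1760 (iv D1070) (iv D516) F508 (iv D124) (iv F280) (iv D118) F146 D119 F283 D185 D385
def n1761 : Q := act 4 n843
theorem D1761 : act 4 n843 = n1761 := rfl
def n1762 : Q := act 6 n843
theorem D1762 : act 6 n843 = n1762 := rfl
theorem F2995 : act 2 n1762 = n1070 := d14_1 D1762 (iv F2992) (iv D1760)
theorem F2996 : act 5 n1068 = n1762 := d13_0 F2995 (iv D1070) D1068
def n1763 : Q := act 3 n844
theorem D1763 : act 3 n844 = n1763 := rfl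
theorem F2997 : act 0 n1763 = n1763 := d2_1 D1763 (iv D1763) F1509
def n1764 : Q := act 4 n845
theorem D1764 : act 4 n845 = n1764 := rfl
theorem F3002 : act 5 n1764 = n1735 := d18_2 F1599 D1764 F2945
def n1765 : Q := act 6 n845
theorem D1765 : act 6 n845 = n1765 := rfl
theorem F3005 : act 2 n1765 = n1765 := d14_1 D1765 (iv D1765) F2029
theorem F3006 : act 3 n1765 = n1031 := d17_1 D1765 (iv D1031) F977 (iv F761) D845
def n1766 : Q := act 1 n846
theorem D1766 : act 1 n846 = n1766 := rfl
theorem F3007 : act 2 n1766 = n1361 := d6_2 D846 D1766 F2439 F1229 (iv F763)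
theorem F3008 : act 5 n1766 = n850 := d9_2 (iv F1516) D1766 (iv D850)
def n1767 : Q := act 3 n846
theorem D1767 : act 3 n846 = n1767 := rfl
def n1768 : Q := act 4 n846
theorem D1768 : act 4 n846 = n1768 := rfl
theorem F3011 : act 2 n1768 = n847 := d12_1 D1768 (iv D847) D846
theorem F3012 : act 5 n1768 = n852 := d18_2 (iv F1516) D1768 (iv D852)
def n1769 : Q := act 6 n846
theorem D1769 : act 6 n846 = n1769 := rfl
theorem F3014 : act 2 n1769 = n848 := d14_1 D1769 (iv D848) D846
def n1770 : Q := act 3 n848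
theorem D1770 : act 3 n848 = n1770 := rfl
theorem F3017 : act 6 n1770 = n849 := d17_2 D848 D1770 (iv D849) (iv D404) D403
def n1771 : Q := act 2 n849
theorem D1771 : act 2 n849 = n1771 := rfl
theorem F3019 : act 5 n1771 = n1127 := d13_2 (iv F1524) D1771 (iv D1127)
theorem F3021 : act 1 n1689 = n1771 := d22_1 (iv F2841) (iv D1771) F1522 F1523 D1688 F2839 F2835 (iv D1686) (iv F2447)
theorem F3022 : act 3 n1771 = n1030 := d7_2 (iv F2842) F3021 (iv F2137)
def n1772 : Q := act 0 n850
theorem D1772 : act 0 n850 = n1772 := rfl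
theorem F3023 : act 2 n1772 = n1358 := d1_2 (iv F1525) D1772 (iv D1358)
theorem F3024 : act 1 n1772 = n1028 := d22_4 F1085 D651 (iv F1525) D1772 F1886 F975 (iv F1087) (iv F2133) (iv D1151)
theorem F3025 : act 4 n1026 = n1772 := d22_9 (iv D1772) (iv D850) (iv D405) F384 F385 D311 (iv F1085) D1149 F2130
def n1773 : Q := act 3 n850
theorem D1773 : act 3 n850 = n1773 := rfl
theorem F3026 : act 1 n1773 = n851 := d7_1 D1773 (iv D851) D850
def n1774 : Q := act 4 n850
theorem D1774 : act 4 n850 = n1774 := rfl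
theorem F3027 : act 0 n1774 = n1026 := d3_1 D1774 F3025 (iv D1772)
theorem F3028 : act 1 n1774 = n852 := d8_1 D1774 (iv D852) D850
def n1775 : Q := act 6 n850
theorem D1775 : act 6 n850 = n1775 := rfl
theorem F3030 : act 1 n1775 = n853 := d10_1 D1775 (iv D853) D850
theorem F3031 : act 2 n1775 = n1354 := d14_1 D1775 F2430 (iv F1525)
def n1776 : Q := act 2 n851
theorem D1776 : act 2 n851 = n1776 := rfl
theorem F3033 : act 3 n1776 = n1728 := d23_1 D1776 (iv D1728) (iv D828) (iv D395) (iv D189) (iv F224) D193 D405 D851 F1526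
def n1777 : Q := act 4 n851
theorem D1777 : act 4 n851 = n1777 := rfl
theorem F3034 : act 0 n1777 = n1777 := d3_1 D1777 (iv D1777) F1526
def n1778 : Q := act 5 n851
theorem D1778 : act 5 n851 = n1778 := rfl
theorem F3035 : act 0 n1778 = n1778 := d4_1 D1778 (iv D1778) F1526
def n1779 : Q := act 6 n851
theorem D1779 : act 6 n851 = n1779 := rfl
def n1780 : Q := act 3 n852
theorem D1780 : act 3 n852 = n1780 := rfl
def n1781 : Q := act 6 n852
theorem D1781 : act 6 n852 = n1781 := rfl
theorem F3039 : act 2 n1781 = n854 := d14_1 D1781 (iv D854) (iv F1528)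
theorem F3040 : act 4 n1781 = n853 := d19_1 D1781 (iv D853) D852
theorem F3041 : act 5 n1781 = n1769 := d21_2 F3012 D1781 (iv D1769) D1768
def n1782 : Q := act 3 n853
theorem D1782 : act 3 n853 = n1782 := rfl
theorem F3042 : act 0 n1782 = n1782 := d2_1 D1782 (iv D1782) F1529
def n1783 : Q := act 5 n853
theorem D1783 : act 5 n853 = n1783 := rfl
theorem F3046 : act 6 n1783 = n1768 := d20_2 D853 D1783 F3012 D1781 F3041 (iv D1769) F1516
theorem F3047 : act 3 n1783 = n1003 := d24_2 D853 D1783 F1848 (iv D484) F483 (iv D117) (iv F155) F157 (iv D50) (iv D17) (iv F80) D47 D97 D193 D405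
def n1784 : Q := act 3 n854
theorem D1784 : act 3 n854 = n1784 := rfl
theorem F3050 : act 4 n1784 = n868 := d15_2 (iv F1533) D1784 (iv D868) F784 (iv F775)
theorem F3051 : act 6 n1784 = n1715 := d17_2 D854 D1784 F2896 F1469 (iv F772)
def n1785 : Q := act 3 n855
theorem D1785 : act 3 n855 = n1785 := rfl
theorem F3054 : act 5 n1785 = n869 := d16_2 D855 D1785 (iv D869) (iv D413) (iv F775)
def n1786 : Q := act 3 n858
theorem D1786 : act 3 n858 = n1786 := rfl
theorem F3055 : act 0 n1786 = n1015 := d2_1 D1786 (iv D1015) (iv F1544)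
theorem F3056 : act 1 n1786 = n864 := d7_1 D1786 (iv D864) (iv F1545)
def n1787 : Q := act 6 n858
theorem D1787 : act 6 n858 = n1787 := rfl
theorem F3060 : act 2 n1787 = n1279 := d14_1 D1787 F2325 (iv F1546)
theorem F3061 : act 4 n1787 = n859 := d19_1 D1787 (iv D859) D858
theorem F3062 : act 5 n1787 = n884 := d20_1 D1787 (iv D884) F805 D859 (iv F1925) (iv D1049) (iv F1547)
def n1789 : Q := act 2 n864
theorem D1789 : act 2 n864 = n1789 := rfl
theorem F3065 : act 4 n1789 = n1017 := d12_2 (iv F2022) D1789 (iv D1017)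
def n1791 : Q := act 6 n864
theorem D1791 : act 6 n864 = n1791 := rfl
def n1792 : Q := act 3 n865
theorem D1792 : act 3 n865 = n1792 := rfl
def n1793 : Q := act 2 n866
theorem D1793 : act 2 n866 = n1793 := rfl
def n1795 : Q := act 5 n866
theorem D1795 : act 5 n866 = n1795 := rfl
theorem F3074 : act 6 n971 = n1795 := d24_0 (iv D1795) (iv D866) F781 (iv D196) (iv F233) (iv D100) (iv F122) (iv F144) (iv D59) D58 D114 F271 D224 D466 D971
theorem F3075 : act 2 n1795 = n970 := d14_1 F3074 F1776 D971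
theorem F3076 : act 5 n970 = n1793 := d13_2 D1795 F3075 (iv D1793)
theorem F3077 : act 3 n1793 = n968 := d16_1 F3076 (iv D968) (iv D464) D465 D970
def n1796 : Q := act 3 n867
theorem D1796 : act 3 n867 = n1796 := rfl
def n1797 : Q := act 2 n868
theorem D1797 : act 2 n868 = n1797 := rfl
theorem F3080 : act 6 n1797 = n1714 := d14_2 (iv F1567) D1797 (iv D1714)
def n1798 : Q := act 2 n869
theorem D1798 : act 2 n869 = n1798 := rfl
theorem F3081 : act 0 n1798 = n1798 := d1_1 D1798 (iv D1798) F1568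
theorem F3082 : act 6 n1798 = n1072 := d14_2 (iv F1570) D1798 (iv D1072)
def n1799 : Q := act 3 n870
theorem D1799 : act 3 n870 = n1799 := rfl
theorem F3083 : act 0 n1799 = n871 := d2_1 D1799 (iv D871) D870
theorem F3084 : act 1 n1799 = n876 := d7_1 D1799 F1586 (iv F1573)
theorem F3085 : act 5 n1799 = n871 := d16_2 F2049 D1799 (iv D871) D873 F2050
def n1800 : Q := act 2 n871
theorem D1800 : act 2 n871 = n1800 := rfl
def n1801 : Q := act 4 n871
theorem D1801 : act 4 n871 = n1801 := rfl
def n1802 : Q := act 6 n871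
theorem D1802 : act 6 n871 = n1802 := rfl
def n1803 : Q := act 3 n872
theorem D1803 : act 3 n872 = n1803 := rfl
theorem F3089 : act 1 n1803 = n878 := d7_1 D1803 (iv D878) (iv F1577)
def n1804 : Q := act 5 n872
theorem D1804 : act 5 n872 = n1804 := rfl
theorem F3091 : act 1 n1804 = n879 := d9_1 D1804 (iv D879) (iv F1577)
theorem F3093 : act 4 n1804 = n873 := d18_1 D1804 (iv D873) D872
def n1805 : Q := act 1 n874
theorem D1805 : act 1 n874 = n1805 := rfl
theorem F3095 : act 3 n1805 = n1746 := d7_2 (iv F1583) D1805 (iv D1746)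
def n1806 : Q := act 4 n874
theorem D1806 : act 4 n874 = n1806 := rfl
theorem F3096 : act 0 n1806 = n1806 := d3_1 D1806 (iv D1806) F1582
theorem F3097 : act 2 n1806 = n875 := d12_1 D1806 (iv D875) D874
def n1807 : Q := act 5 n874
theorem D1807 : act 5 n874 = n1807 := rfl
theorem F3099 : act 2 n1807 = n876 := d13_1 D1807 (iv D876) D874
def n1808 : Q := act 6 n874
theorem D1808 : act 6 n874 = n1808 := rfl
theorem F3101 : act 2 n1808 = n877 := d14_1 D1808 (iv D877) D874
def n1809 : Q := act 3 n875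
theorem D1809 : act 3 n875 = n1809 := rfl
theorem F3102 : act 0 n1809 = n1809 := d2_1 D1809 (iv D1809) F1584
theorem F3103 : act 4 n1809 = n878 := d15_2 D875 D1809 (iv D878) (iv D416) D415
def n1810 : Q := act 5 n875
theorem D1810 : act 5 n875 = n1810 := rfl
theorem F3105 : act 4 n1810 = n876 := d18_1 D1810 (iv D876) D875
theorem F3106 : act 3 n1035 = n1810 := d15_5 F3105 F1586 (iv D501) D500 D1035
def n1811 : Q := act 6 n875
theorem D1811 : act 6 n875 = n1811 := rfl
theorem F3108 : act 4 n1811 = n877 := d19_1 D1811 (iv D877) D875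
def n1812 : Q := act 6 n876
theorem D1812 : act 6 n876 = n1812 := rfl
theorem F3110 : act 3 n1812 = n1115 := d17_1 D1812 (iv D1115) (iv D537) (iv F982) (iv F1586)
theorem F3111 : act 5 n1812 = n1811 := d21_2 D876 D1812 (iv D1811) (iv D875)
def n1813 : Q := act 5 n877
theorem D1813 : act 5 n877 = n1813 := rfl
theorem F3113 : act 4 n1813 = n1812 := d18_1 D1813 F3111 F3108
theorem F3114 : act 6 n1813 = n1810 := d20_2 D877 D1813 (iv D1810) D1811 (iv F3111) (iv D1812) (iv D876)
def n1814 : Q := act 2 n878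
theorem D1814 : act 2 n878 = n1814 := rfl
def n1815 : Q := act 5 n878
theorem D1815 : act 5 n878 = n1815 := rfl
def n1816 : Q := act 6 n878
theorem D1816 : act 6 n878 = n1816 := rfl
def n1817 : Q := act 3 n879
theorem D1817 : act 3 n879 = n1817 := rfl
theorem F3119 : act 4 n1817 = n1038 := d15_2 (iv F1591) D1817 (iv D1038) (iv F1053) (iv F1055)
def n1818 : Q := act 2 n882
theorem D1818 : act 2 n882 = n1818 := rfl
theorem F3121 : act 5 n1818 = n1120 := d13_2 (iv F1602) D1818 (iv D1120)
def n1824 : Q := act 4 n885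
theorem D1824 : act 4 n885 = n1824 := rfl
theorem F3126 : act 2 n1824 = n886 := d12_1 D1824 (iv D886) D885
def n1825 : Q := act 6 n885
theorem D1825 : act 6 n885 = n1825 := rfl
theorem F3128 : act 2 n1825 = n888 := d14_1 D1825 (iv D888) D885
def n1826 : Q := act 3 n886
theorem D1826 : act 3 n886 = n1826 := rfl
theorem F3129 : act 0 n1826 = n1826 := d2_1 D1826 (iv D1826) F1607
theorem F3130 : act 4 n1826 = n889 := d15_2 D886 D1826 (iv D889) (iv D422) D421
def n1827 : Q := act 6 n886
theorem D1827 : act 6 n886 = n1827 := rfl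
theorem F3133 : act 5 n1827 = n1066 := d21_2 F2018 D1827 (iv D1066) (iv F1942)
def n1828 : Q := act 3 n888
theorem D1828 : act 3 n888 = n1828 := rfl
theorem F3135 : act 6 n1828 = n890 := d17_2 D888 D1828 (iv D890) (iv D423) D421
def n1829 : Q := act 5 n888
theorem D1829 : act 5 n888 = n1829 := rfl
theorem F3138 : act 6 n1829 = n1058 := d20_2 D888 D1829 F2018 D1827 F3133 (iv D1066) (iv F2015)
def n1830 : Q := act 2 n889
theorem D1830 : act 2 n889 = n1830 := rfl
def n1831 : Q := act 5 n889
theorem D1831 : act 5 n889 = n1831 := rfl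
def n1832 : Q := act 6 n889
theorem D1832 : act 6 n889 = n1832 := rfl
def n1833 : Q := act 2 n890
theorem D1833 : act 2 n890 = n1833 := rfl
def n1834 : Q := act 4 n890
theorem D1834 : act 4 n890 = n1834 := rfl
def n1835 : Q := act 5 n890
theorem D1835 : act 5 n890 = n1835 := rfl
def n1836 : Q := act 2 n891
theorem D1836 : act 2 n891 = n1836 := rfl
def n1837 : Q := act 4 n891
theorem D1837 : act 4 n891 = n1837 := rfl
theorem F3146 : act 1 n1837 = n894 := d8_1 D1837 (iv D894) (iv F1613)
def n1838 : Q := act 5 n891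
theorem D1838 : act 5 n891 = n1838 := rfl
theorem F3147 : act 1 n1838 = n895 := d9_1 D1838 (iv D895) (iv F1613)
def n1839 : Q := act 6 n891
theorem D1839 : act 6 n891 = n1839 := rfl
theorem F3149 : act 3 n1839 = n1802 := d17_1 D1839 (iv D1802) (iv D871) (iv F813) D891
def n1841 : Q := act 1 n893
theorem D1841 : act 1 n893 = n1841 := rfl
def n1842 : Q := act 4 n893
theorem D1842 : act 4 n893 = n1842 := rfl
theorem F3151 : act 0 n1842 = n1842 := d3_1 D1842 (iv D1842) F1616
theorem F3152 : act 2 n1842 = n894 := d12_1 D1842 (iv D894) D893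
def n1843 : Q := act 5 n893
theorem D1843 : act 5 n893 = n1843 := rfl
theorem F3154 : act 2 n1843 = n895 := d13_1 D1843 (iv D895) D893
def n1844 : Q := act 6 n893
theorem D1844 : act 6 n893 = n1844 := rfl
def n1845 : Q := act 3 n894
theorem D1845 : act 3 n894 = n1845 := rfl
theorem F3157 : act 0 n1845 = n1845 := d2_1 D1845 (iv D1845) F1617
theorem F3158 : act 4 n1845 = n897 := d15_2 D894 D1845 (iv D897) (iv D426) D425
def n1846 : Q := act 5 n894
theorem D1846 : act 5 n894 = n1846 := rfl
def n1847 : Q := act 6 n894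
theorem D1847 : act 6 n894 = n1847 := rfl
theorem F3162 : act 4 n1847 = n896 := d19_1 D1847 (iv D896) D894
def n1848 : Q := act 3 n895
theorem D1848 : act 3 n895 = n1848 := rfl
theorem F3164 : act 5 n1848 = n898 := d16_2 D895 D1848 (iv D898) (iv D427) D425
def n1849 : Q := act 6 n895
theorem D1849 : act 6 n895 = n1849 := rfl
theorem F3166 : act 5 n1849 = n1847 := d21_2 D895 D1849 (iv D1847) (iv D894)
def n1850 : Q := act 5 n896
theorem D1850 : act 5 n896 = n1850 := rfl
theorem F3169 : act 6 n1850 = n1846 := d20_2 D896 D1850 (iv D1846) D1847 (iv F3166) (iv D1849) (iv D895)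
def n1851 : Q := act 2 n897
theorem D1851 : act 2 n897 = n1851 := rfl
theorem F3170 : act 0 n1851 = n1851 := d1_1 D1851 (iv D1851) F1621
def n1852 : Q := act 5 n897
theorem D1852 : act 5 n897 = n1852 := rfl
theorem F3172 : act 3 n1852 = n1711 := d16_1 D1852 (iv F2892) F2078 F1596 D897
def n1853 : Q := act 6 n897
theorem D1853 : act 6 n897 = n1853 := rfl
theorem F3174 : act 3 n1853 = n1816 := d17_1 D1853 (iv D1816) (iv D878) (iv F817) D897
def n1854 : Q := act 2 n898
theorem D1854 : act 2 n898 = n1854 := rfl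
theorem F3176 : act 6 n1854 = n1835 := d24_4 (iv F407) D427 D898 D1854 (iv D1835) (iv D890) F811 (iv D202) F233 (iv D98) F108 D95 F219 D99 D197
def n1855 : Q := act 4 n898
theorem D1855 : act 4 n898 = n1855 := rfl
def n1856 : Q := act 6 n898
theorem D1856 : act 6 n898 = n1856 := rfl
theorem F3179 : act 2 n1856 = n1835 := d14_1 D1856 (iv F3176) (iv D1854)
theorem F3180 : act 5 n1833 = n1856 := d13_0 F3179 (iv D1835) D1833
def n1857 : Q := act 2 n899
theorem D1857 : act 2 n899 = n1857 := rfl
def n1858 : Q := act 4 n899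
theorem D1858 : act 4 n899 = n1858 := rfl
theorem F3182 : act 0 n1858 = n1858 := d3_1 D1858 (iv D1858) F1623
theorem F3183 : act 1 n1858 = n902 := d8_1 D1858 (iv D902) (iv F1624)
theorem F3184 : act 3 n1858 = n1858 := d15_1 D1858 (iv D1858) (iv D899) F821 D899
def n1859 : Q := act 5 n899
theorem D1859 : act 5 n899 = n1859 := rfl
theorem F3186 : act 1 n1859 = n903 := d9_1 D1859 (iv D903) (iv F1624)
def n1863 : Q := act 4 n901
theorem D1863 : act 4 n901 = n1863 := rfl
theorem F3194 : act 2 n1863 = n902 := d12_1 D1863 (iv D902) D901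
def n1864 : Q := act 5 n901
theorem D1864 : act 5 n901 = n1864 := rfl
theorem F3196 : act 2 n1864 = n903 := d13_1 D1864 (iv D903) D901
def n1866 : Q := act 5 n902
theorem D1866 : act 5 n902 = n1866 := rfl
theorem F3200 : act 4 n1866 = n903 := d18_1 D1866 (iv D903) D902
def n1867 : Q := act 6 n902
theorem D1867 : act 6 n902 = n1867 := rfl
theorem F3202 : act 4 n1867 = n904 := d19_1 D1867 (iv D904) D902
def n1869 : Q := act 3 n904
theorem D1869 : act 3 n904 = n1869 := rfl
theorem F3206 : act 6 n1869 = n905 := d17_2 D904 D1869 (iv D905) (iv D430) D429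
def n1871 : Q := act 2 n905
theorem D1871 : act 2 n905 = n1871 := rfl
def n1873 : Q := act 5 n905
theorem D1873 : act 5 n905 = n1873 := rfl
theorem F3214 : act 3 n1873 = n1873 := d16_1 D1873 (iv D1873) (iv D905) F828 D905
def n1874 : Q := act 3 n906
theorem D1874 : act 3 n906 = n1874 := rfl
theorem F3215 : act 0 n1874 = n907 := d2_1 D1874 (iv D907) D906
theorem F3216 : act 1 n1874 = n913 := d7_1 D1874 (iv D913) (iv F1640)
def n1876 : Q := act 2 n907
theorem D1876 : act 2 n907 = n1876 := rfl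
def n1877 : Q := act 4 n907
theorem D1877 : act 4 n907 = n1877 := rfl
theorem F3222 : act 1 n1877 = n910 := d8_1 D1877 (iv D910) (iv F1642)
def n1878 : Q := act 5 n907
theorem D1878 : act 5 n907 = n1878 := rfl
theorem F3223 : act 1 n1878 = n911 := d9_1 D1878 (iv D911) (iv F1642)
def n1879 : Q := act 6 n907
theorem D1879 : act 6 n907 = n1879 := rfl
theorem F3225 : act 3 n1879 = n1879 := d17_1 D1879 (iv D1879) (iv D907) F830 D907
def n1881 : Q := act 1 n909
theorem D1881 : act 1 n909 = n1881 := rfl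
theorem F3227 : act 3 n1881 = n1841 := d7_2 (iv F1646) D1881 (iv D1841)
def n1882 : Q := act 4 n909
theorem D1882 : act 4 n909 = n1882 := rfl
theorem F3228 : act 0 n1882 = n1882 := d3_1 D1882 (iv D1882) F1645
theorem F3229 : act 2 n1882 = n910 := d12_1 D1882 (iv D910) D909
def n1883 : Q := act 5 n909
theorem D1883 : act 5 n909 = n1883 := rfl
def n1884 : Q := act 6 n909
theorem D1884 : act 6 n909 = n1884 := rfl
def n1885 : Q := act 3 n910
theorem D1885 : act 3 n910 = n1885 := rfl
theorem F3234 : act 0 n1885 = n1885 := d2_1 D1885 (iv D1885) F1647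
theorem F3235 : act 4 n1885 = n913 := d15_2 D910 D1885 (iv D913) (iv D433) D432
def n1886 : Q := act 5 n910
theorem D1886 : act 5 n910 = n1886 := rfl
def n1887 : Q := act 6 n910
theorem D1887 : act 6 n910 = n1887 := rfl
theorem F3239 : act 4 n1887 = n912 := d19_1 D1887 (iv D912) D910
def n1888 : Q := act 3 n911
theorem D1888 : act 3 n911 = n1888 := rfl
theorem F3241 : act 5 n1888 = n915 := d16_2 D911 D1888 (iv D915) (iv D434) D432
def n1889 : Q := act 6 n911
theorem D1889 : act 6 n911 = n1889 := rfl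
theorem F3243 : act 5 n1889 = n1887 := d21_2 D911 D1889 (iv D1887) (iv D910)
def n1890 : Q := act 5 n912
theorem D1890 : act 5 n912 = n1890 := rfl
theorem F3245 : act 4 n1890 = n1889 := d18_1 D1890 F3243 F3239
theorem F3246 : act 6 n1890 = n1886 := d20_2 D912 D1890 (iv D1886) D1887 (iv F3243) (iv D1889) (iv D911)
def n1891 : Q := act 2 n913
theorem D1891 : act 2 n913 = n1891 := rfl
def n1892 : Q := act 5 n913
theorem D1892 : act 5 n913 = n1892 := rfl
def n1893 : Q := act 6 n913
theorem D1893 : act 6 n913 = n1893 := rfl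
theorem F3250 : act 3 n1893 = n1893 := d17_1 D1893 (iv D1893) (iv D913) F834 D913
def n1894 : Q := act 3 n914
theorem D1894 : act 3 n914 = n1894 := rfl
def n1895 : Q := act 2 n915
theorem D1895 : act 2 n915 = n1895 := rfl
def n1896 : Q := act 4 n915
theorem D1896 : act 4 n915 = n1896 := rfl
def n1897 : Q := act 6 n915
theorem D1897 : act 6 n915 = n1897 := rfl
def n1899 : Q := act 2 n917
theorem D1899 : act 2 n917 = n1899 := rfl
theorem F3257 : act 0 n1899 = n919 := d1_1 D1899 (iv D919) (iv F1660)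
theorem F3258 : act 5 n1899 = n919 := d13_2 F1662 D1899 (iv D919)
def n1900 : Q := act 4 n917
theorem D1900 : act 4 n917 = n1900 := rfl
theorem F3259 : act 0 n1900 = n920 := d3_1 D1900 (iv D920) (iv F1660)
theorem F3260 : act 1 n1900 = n924 := d8_1 D1900 F1677 (iv F1661)
theorem F3261 : act 3 n1900 = n920 := d15_1 D1900 (iv D920) (iv D437) F843 D917
theorem F3262 : act 5 n1900 = n920 := d18_2 F1662 D1900 (iv D920)
def n1901 : Q := act 6 n917
theorem D1901 : act 6 n917 = n1901 := rfl
theorem F3263 : act 0 n1901 = n921 := d5_1 D1901 (iv D921) (iv F1660)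
theorem F3264 : act 1 n1901 = n925 := d10_1 D1901 (iv D925) (iv F1661)
theorem F3265 : act 3 n1901 = n1901 := d17_1 D1901 (iv D1901) (iv D917) F841 D917
def n1902 : Q := act 1 n919
theorem D1902 : act 1 n919 = n1902 := rfl
theorem F3266 : act 2 n1902 = n921 := d6_2 D919 D1902 F1669 (iv D439) (iv F844)
theorem F3267 : act 6 n919 = n1902 := d14_0 F3266 (iv D921) D919
def n1903 : Q := act 3 n919
theorem D1903 : act 3 n919 = n1903 := rfl
def n1904 : Q := act 4 n919
theorem D1904 : act 4 n919 = n1904 := rfl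
theorem F3268 : act 2 n1904 = n920 := d12_1 D1904 (iv D920) D919
def n1905 : Q := act 6 n920
theorem D1905 : act 6 n920 = n1905 := rfl
theorem F3269 : act 1 n1905 = n922 := d10_1 D1905 F1673 (iv F1668)
theorem F3270 : act 4 n1905 = n921 := d19_1 D1905 (iv D921) D920
theorem F3271 : act 5 n1905 = n1901 := d21_2 F3262 D1905 (iv D1901) D1900
def n1906 : Q := act 5 n921
theorem D1906 : act 5 n921 = n1906 := rfl
theorem F3272 : act 0 n1906 = n1905 := d4_1 D1906 F3271 F3263
theorem F3273 : act 1 n1906 = n923 := d9_1 D1906 (iv D923) (iv F1669)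
theorem F3274 : act 4 n1906 = n1901 := d18_1 D1906 (iv F3271) F3270
theorem F3275 : act 6 n1906 = n1900 := d20_2 D921 D1906 F3262 D1905 F3271 (iv D1901) (iv F1662)
def n1907 : Q := act 3 n922
theorem D1907 : act 3 n922 = n1907 := rfl
theorem F3276 : act 0 n1907 = n1907 := d2_1 D1907 (iv D1907) F1671
theorem F3277 : act 4 n1907 = n1907 := d15_2 D922 D1907 (iv D1907) (iv D922) F847
theorem F3278 : act 5 n1907 = n1907 := d16_2 F1684 D1907 (iv D1907) (iv F1684) F1682
theorem F3279 : act 2 n1907 = n1907 := d23_2 (iv F1672) D1907 (iv D1907) F1672 D924 (iv F1681) F1682 F1681 (iv D924) F848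
def n1908 : Q := act 3 n923
theorem D1908 : act 3 n923 = n1908 := rfl
theorem F3280 : act 0 n1908 = n1908 := d2_1 D1908 (iv D1908) F1674
theorem F3281 : act 4 n1908 = n1908 := d15_2 F1683 D1908 (iv D1908) (iv F1683) F1682
theorem F3282 : act 5 n1908 = n1908 := d16_2 D923 D1908 (iv D1908) (iv D923) F847
theorem F3283 : act 6 n1908 = n1907 := d17_2 (iv F1679) D1908 (iv D1907) F1673 D924
theorem F3284 : act 2 n1908 = n1908 := d23_2 (iv F1675) D1908 (iv D1908) F1675 F858 F432 F247 (iv F432) (iv F858) F849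
def n1909 : Q := act 2 n926
theorem D1909 : act 2 n926 = n1909 := rfl
theorem F3285 : act 0 n1909 = n928 := d1_1 D1909 (iv D928) (iv F1685)
def n1910 : Q := act 4 n926
theorem D1910 : act 4 n926 = n1910 := rfl
theorem F3286 : act 0 n1910 = n929 := d3_1 D1910 (iv D929) (iv F1685)
theorem F3287 : act 1 n1910 = n937 := d8_1 D1910 F1704 (iv F1686)
theorem F3288 : act 3 n1910 = n929 := d15_1 D1910 (iv D929) (iv D447) F868 D926
def n1911 : Q := act 5 n926
theorem D1911 : act 5 n926 = n1911 := rfl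
theorem F3290 : act 1 n1911 = n944 := d9_1 D1911 (iv D944) (iv F1686)
theorem F3291 : act 3 n1130 = n1911 := d7_0 F3290 F1726 (iv F2097)
def n1912 : Q := act 6 n926
theorem D1912 : act 6 n926 = n1912 := rfl
theorem F3292 : act 0 n1912 = n931 := d5_1 D1912 (iv D931) (iv F1685)
theorem F3293 : act 1 n1912 = n945 := d10_1 D1912 (iv D945) (iv F1686)
theorem F3294 : act 3 n1912 = n1912 := d17_1 D1912 (iv D1912) (iv D926) F866 D926
def n1913 : Q := act 3 n927
theorem D1913 : act 3 n927 = n1913 := rfl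
theorem F3295 : act 0 n1913 = n932 := d2_1 D1913 (iv D932) (iv F1687)
theorem F3297 : act 5 n1913 = n1130 := d16_2 D927 D1913 F3291 (iv D1911) (iv D926)
def n1914 : Q := act 1 n928
theorem D1914 : act 1 n928 = n1914 := rfl
theorem F3298 : act 2 n1914 = n933 := d6_2 D928 D1914 (iv D933) (iv D449) (iv F869)
def n1915 : Q := act 3 n928
theorem D1915 : act 3 n928 = n1915 := rfl
def n1916 : Q := act 4 n928
theorem D1916 : act 4 n928 = n1916 := rfl
theorem F3299 : act 2 n1916 = n929 := d12_1 D1916 (iv D929) D928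
def n1917 : Q := act 5 n928
theorem D1917 : act 5 n928 = n1917 := rfl
theorem F3300 : act 2 n1917 = n930 := d13_1 D1917 (iv D930) D928
def n1918 : Q := act 6 n928
theorem D1918 : act 6 n928 = n1918 := rfl
theorem F3301 : act 2 n1918 = n931 := d14_1 D1918 (iv D931) D928
def n1920 : Q := act 6 n929
theorem D1920 : act 6 n929 = n1920 := rfl
theorem F3304 : act 1 n1920 = n939 := d10_1 D1920 (iv D939) (iv F1692)
theorem F3305 : act 4 n1920 = n931 := d19_1 D1920 (iv D931) D929
def n1921 : Q := act 3 n930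
theorem D1921 : act 3 n930 = n1921 := rfl
theorem F3307 : act 1 n1921 = n940 := d7_1 D1921 (iv D940) (iv F1693)
theorem F3308 : act 5 n1921 = n932 := d16_2 D930 D1921 (iv D932) (iv D448) D447
theorem F3309 : act 4 n1075 = n1921 := d21_4 F3308 F1984 (iv D1083) (iv F1971)
def n1922 : Q := act 6 n930
theorem D1922 : act 6 n930 = n1922 := rfl
theorem F3312 : act 5 n1922 = n1920 := d21_2 D930 D1922 (iv D1920) (iv D929)
def n1923 : Q := act 5 n931
theorem D1923 : act 5 n931 = n1923 := rfl
theorem F3313 : act 1 n1923 = n942 := d9_1 D1923 (iv D942) (iv F1694)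
theorem F3314 : act 4 n1923 = n1922 := d18_1 D1923 F3312 F3305
def n1924 : Q := act 2 n932
theorem D1924 : act 2 n932 = n1924 := rfl
theorem F3316 : act 1 n1924 = n1221 := d6_1 D1924 F2234 F1136 (iv F1032) (iv F1696)
theorem F3317 : act 6 n1924 = n1213 := d14_2 (iv F1984) D1924 F2230
def n1925 : Q := act 4 n932
theorem D1925 : act 4 n932 = n1925 := rfl
theorem F3318 : act 1 n1925 = n947 := d8_1 D1925 (iv D947) (iv F1696)
theorem F3319 : act 5 n1925 = n1075 := d18_2 F3308 D1925 F3309
def n1926 : Q := act 0 n933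
theorem D1926 : act 0 n933 = n1926 := rfl
def n1927 : Q := act 4 n933
theorem D1927 : act 4 n933 = n1927 := rfl
theorem F3320 : act 1 n1927 = n934 := d8_1 D1927 (iv D934) D933
def n1928 : Q := act 5 n933
theorem D1928 : act 5 n933 = n1928 := rfl
theorem F3321 : act 1 n1928 = n935 := d9_1 D1928 (iv D935) D933
def n1929 : Q := act 6 n933
theorem D1929 : act 6 n933 = n1929 := rfl
def n1930 : Q := act 3 n934
theorem D1930 : act 3 n934 = n1930 := rfl
def n1931 : Q := act 5 n934
theorem D1931 : act 5 n934 = n1931 := rfl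
theorem F3326 : act 4 n1931 = n935 := d18_1 D1931 (iv D935) D934
def n1932 : Q := act 6 n934
theorem D1932 : act 6 n934 = n1932 := rfl
theorem F3328 : act 2 n1932 = n939 := d14_1 D1932 (iv D939) (iv F1698)
theorem F3329 : act 4 n1932 = n936 := d19_1 D1932 (iv D936) D934
def n1933 : Q := act 3 n935
theorem D1933 : act 3 n935 = n1933 := rfl
def n1934 : Q := act 6 n935
theorem D1934 : act 6 n935 = n1934 := rfl
theorem F3333 : act 5 n1934 = n1932 := d21_2 D935 D1934 (iv D1932) (iv D934)
def n1935 : Q := act 3 n936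
theorem D1935 : act 3 n936 = n1935 := rfl
def n1936 : Q := act 5 n936
theorem D1936 : act 5 n936 = n1936 := rfl
theorem F3336 : act 2 n1936 = n942 := d13_1 D1936 (iv D942) (iv F1702)
def n1937 : Q := act 2 n937
theorem D1937 : act 2 n937 = n1937 := rfl
theorem F3340 : act 4 n1937 = n943 := d12_2 (iv F1704) D1937 (iv D943)
theorem F3341 : act 1 n1926 = n1937 := d22_7 F877 (iv F1686) D1909 F3285 D1914 F3298 D1926 (iv D1937) F1704
def n1938 : Q := act 5 n937
theorem D1938 : act 5 n937 = n1938 := rfl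
def n1939 : Q := act 6 n937
theorem D1939 : act 6 n937 = n1939 := rfl
theorem F3345 : act 4 n1939 = n945 := d19_1 D1939 (iv D945) (iv F1704)
def n1940 : Q := act 3 n938
theorem D1940 : act 3 n938 = n1940 := rfl
theorem F3347 : act 4 n1940 = n1076 := d15_2 (iv F1706) D1940 (iv D1076) F1712 (iv D940)
def n1941 : Q := act 3 n939
theorem D1941 : act 3 n939 = n1941 := rfl
theorem F3349 : act 4 n1941 = n1941 := d15_2 (iv F1708) D1941 (iv D1941) F1708 F876
def n1942 : Q := act 3 n941
theorem D1942 : act 3 n941 = n1942 := rfl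
theorem F3351 : act 6 n1942 = n1088 := d17_2 D941 D1942 (iv D1088) (iv F1713) (iv D940)
def n1943 : Q := act 3 n942
theorem D1943 : act 3 n942 = n1943 := rfl
def n1944 : Q := act 1 n943
theorem D1944 : act 1 n943 = n1944 := rfl
theorem F3354 : act 4 n1944 = n1926 := d8_2 F3340 D1944 F3341
theorem F3355 : act 0 n1927 = n1944 := d22_0 (iv D1944) (iv D943) F877 (iv F1686) D1909 F3285 D1914 F3298 D1927
def n1945 : Q := act 3 n943
theorem D1945 : act 3 n943 = n1945 := rfl
def n1946 : Q := act 5 n943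
theorem D1946 : act 5 n943 = n1946 := rfl
theorem F3359 : act 2 n1946 = n944 := d13_1 D1946 (iv D944) D943
def n1947 : Q := act 6 n943
theorem D1947 : act 6 n943 = n1947 := rfl
theorem F3361 : act 2 n1947 = n945 := d14_1 D1947 (iv D945) D943
def n1948 : Q := act 6 n944
theorem D1948 : act 6 n944 = n1948 := rfl
theorem F3363 : act 3 n1948 = n1134 := d17_1 D1948 (iv D1134) (iv D547) D549 (iv F1726)
theorem F3364 : act 5 n1948 = n1939 := d21_2 D944 D1948 (iv D1939) F1704
def n1949 : Q := act 5 n945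
theorem D1949 : act 5 n945 = n1949 := rfl
theorem F3365 : act 0 n1949 = n1949 := d4_1 D1949 (iv D1949) F1721
def n1950 : Q := act 3 n948
theorem D1950 : act 3 n948 = n1950 := rfl
theorem F3368 : act 0 n1950 = n1950 := d2_1 D1950 (iv D1950) F1730
theorem F3369 : act 1 n1950 = n1950 := d7_1 D1950 (iv D1950) F1731
def n1951 : Q := act 2 n949
theorem D1951 : act 2 n949 = n1951 := rfl
theorem F3370 : act 0 n1951 = n951 := d1_1 D1951 (iv D951) (iv F1735)
def n1956 : Q := act 1 n951
theorem D1956 : act 1 n951 = n1956 := rfl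
theorem F3381 : act 2 n1956 = n957 := d6_2 D951 D1956 (iv D957) (iv D460) (iv F891)
def n1968 : Q := act 0 n957
theorem D1968 : act 0 n957 = n1968 := rfl
theorem F3397 : act 3 n1968 = n1926 := d2_2 (iv F1752) D1968 (iv D1926)
def n1972 : Q := act 3 n958
theorem D1972 : act 3 n958 = n1972 := rfl
theorem F3401 : act 0 n1972 = n1972 := d2_1 D1972 (iv D1972) F1753
theorem F3402 : act 4 n1972 = n1930 := d15_2 D958 D1972 (iv D1930) (iv D934) (iv F895)
def n1973 : Q := act 5 n958
theorem D1973 : act 5 n958 = n1973 := rfl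
theorem F3405 : act 4 n1973 = n959 := d18_1 D1973 (iv D959) D958
def n1974 : Q := act 6 n958
theorem D1974 : act 6 n958 = n1974 := rfl
theorem F3407 : act 2 n1974 = n963 := d14_1 D1974 (iv D963) (iv F1754)
def n1975 : Q := act 3 n959
theorem D1975 : act 3 n959 = n1975 := rfl
theorem F3410 : act 5 n1975 = n1933 := d16_2 D959 D1975 (iv D1933) (iv D935) (iv F895)
def n1976 : Q := act 6 n959
theorem D1976 : act 6 n959 = n1976 := rfl
theorem F3413 : act 5 n1976 = n1974 := d21_2 D959 D1976 (iv D1974) (iv D958)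
def n1977 : Q := act 3 n960
theorem D1977 : act 3 n960 = n1977 := rfl
theorem F3415 : act 6 n1977 = n1935 := d17_2 D960 D1977 (iv D1935) (iv D936) (iv F895)
def n1978 : Q := act 5 n960
theorem D1978 : act 5 n960 = n1978 := rfl
theorem F3417 : act 2 n1978 = n966 := d13_1 D1978 (iv D966) (iv F1758)
theorem F3419 : act 6 n1978 = n1973 := d20_2 D960 D1978 (iv D1973) D1974 (iv F3413) (iv D1976) (iv D959)
def n1979 : Q := act 2 n961
theorem D1979 : act 2 n961 = n1979 := rfl
theorem F3421 : act 4 n1979 = n967 := d12_2 (iv F1760) D1979 (iv D967)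
theorem F3422 : act 1 n1968 = n1979 := d22_7 F899 (iv F1736) D1951 F3370 D1956 F3381 D1968 (iv D1979) F1760
theorem F3423 : act 3 n1979 = n1937 := d7_2 (iv F3397) F3422 (iv F3341)
theorem F3424 : act 2 n1930 = n1972 := d23_6 D1979 F3423 (iv D1937) (iv D937) (iv F1698) D1930 (iv D1972) F1754 D961 F1759
def n1983 : Q := act 3 n963
theorem D1983 : act 3 n963 = n1983 := rfl
def n1984 : Q := act 2 n964
theorem D1984 : act 2 n964 = n1984 := rfl
theorem F3432 : act 5 n1984 = n971 := d13_2 (iv F1766) D1984 (iv D971)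
theorem F3433 : act 4 n1071 = n1984 := d21_4 F3432 F3074 (iv D1795) F2021
def n1988 : Q := act 3 n966
theorem D1988 : act 3 n966 = n1988 := rfl
def n1989 : Q := act 1 n967
theorem D1989 : act 1 n967 = n1989 := rfl
theorem F3444 : act 4 n1989 = n1968 := d8_2 F3421 D1989 F3422
def n1990 : Q := act 3 n967
theorem D1990 : act 3 n967 = n1990 := rfl
theorem F3447 : act 4 n1990 = n1945 := d15_2 F3421 D1990 (iv D1945) (iv F3340) (iv F3423)
theorem F3448 : act 2 n1990 = n1990 := d23_2 D967 D1990 (iv D1990) (iv D967) (iv D464) F454 F263 (iv F454) D464 F899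
def n1991 : Q := act 5 n967
theorem D1991 : act 5 n967 = n1991 := rfl
theorem F3450 : act 2 n1991 = n968 := d13_1 D1991 (iv D968) D967
def n1992 : Q := act 6 n967
theorem D1992 : act 6 n967 = n1992 := rfl
theorem F3452 : act 2 n1992 = n969 := d14_1 D1992 (iv D969) D967
def n1994 : Q := act 5 n969
theorem D1994 : act 5 n969 = n1994 := rfl
def n1998 : Q := act 4 n971
theorem D1998 : act 4 n971 = n1998 := rfl
theorem F3466 : act 5 n1998 = n1071 := d18_2 F3432 D1998 F3433
theorem F3467 : act 3 n1070 = n1998 := d16_5 F3466 (iv D1071) (iv D517) D516 D1070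
def n2003 : Q := act 3 n975
theorem D2003 : act 3 n975 = n2003 := rfl
theorem F3480 : act 2 n2003 = n1001 := d23_2 D975 D2003 (iv D1001) (iv D482) (iv D234) (iv F480) F909 F906 D469 F914
def n2005 : Q := act 3 n977
theorem D2005 : act 3 n977 = n2005 := rfl
theorem F3484 : act 0 n2005 = n978 := d2_1 D2005 (iv D978) D977
theorem F3485 : act 1 n2005 = n984 := d7_1 D2005 (iv D984) (iv F1795)
def n2006 : Q := act 5 n977
theorem D2006 : act 5 n977 = n2006 := rfl
theorem F3488 : act 2 n2006 = n2006 := d13_1 D2006 (iv D2006) F1793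
theorem F3489 : act 4 n2006 = n979 := d18_1 D2006 (iv D979) F1796
theorem F3490 : act 6 n2006 = n979 := d21_1 D2006 (iv D979) F918 F1796
def n2007 : Q := act 2 n978
theorem D2007 : act 2 n978 = n2007 := rfl
def n2008 : Q := act 4 n978
theorem D2008 : act 4 n978 = n2008 := rfl
theorem F3491 : act 1 n2008 = n981 := d8_1 D2008 (iv D981) (iv F1797)
def n2009 : Q := act 5 n978
theorem D2009 : act 5 n978 = n2009 := rfl
def n2010 : Q := act 6 n978
theorem D2010 : act 6 n978 = n2010 := rfl
theorem F3493 : act 1 n2010 = n983 := d10_1 D2010 (iv D983) (iv F1797)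
theorem F3494 : act 3 n2010 = n2010 := d17_1 D2010 (iv D2010) (iv D978) F918 D978
def n2011 : Q := act 3 n979
theorem D2011 : act 3 n979 = n2011 := rfl
theorem F3495 : act 1 n2011 = n986 := d7_1 D2011 (iv D986) (iv F1798)
theorem F3496 : act 6 n1727 = n2011 := d10_0 F3495 (iv F1812) (iv F2927)
def n2012 : Q := act 1 n980
theorem D2012 : act 1 n980 = n2012 := rfl
def n2013 : Q := act 4 n980
theorem D2013 : act 4 n980 = n2013 := rfl
theorem F3498 : act 2 n2013 = n981 := d12_1 D2013 (iv D981) D980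
def n2014 : Q := act 5 n980
theorem D2014 : act 5 n980 = n2014 := rfl
theorem F3500 : act 2 n2014 = n982 := d13_1 D2014 (iv D982) D980
def n2015 : Q := act 6 n980
theorem D2015 : act 6 n980 = n2015 := rfl
theorem F3502 : act 2 n2015 = n983 := d14_1 D2015 (iv D983) D980
def n2016 : Q := act 3 n981
theorem D2016 : act 3 n981 = n2016 := rfl
theorem F3504 : act 4 n2016 = n984 := d15_2 D981 D2016 (iv D984) (iv D472) D471
def n2017 : Q := act 5 n981
theorem D2017 : act 5 n981 = n2017 := rfl
theorem F3506 : act 4 n2017 = n982 := d18_1 D2017 (iv D982) D981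
def n2018 : Q := act 6 n981
theorem D2018 : act 6 n981 = n2018 := rfl
def n2019 : Q := act 6 n982
theorem D2019 : act 6 n982 = n2019 := rfl
theorem F3510 : act 5 n2019 = n2018 := d21_2 D982 D2019 (iv D2018) (iv D981)
def n2020 : Q := act 5 n983
theorem D2020 : act 5 n983 = n2020 := rfl
theorem F3513 : act 6 n2020 = n2017 := d20_2 D983 D2020 (iv D2017) D2018 (iv F3510) (iv D2019) (iv D982)
def n2021 : Q := act 2 n984
theorem D2021 : act 2 n984 = n2021 := rfl
def n2022 : Q := act 5 n984
theorem D2022 : act 5 n984 = n2022 := rfl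
def n2023 : Q := act 6 n984
theorem D2023 : act 6 n984 = n2023 := rfl
theorem F3517 : act 3 n2023 = n2023 := d17_1 D2023 (iv D2023) (iv D984) F922 D984
def n2024 : Q := act 3 n985
theorem D2024 : act 3 n985 = n2024 := rfl
theorem F3519 : act 6 n2024 = n1734 := d17_2 (iv F1809) D2024 (iv D1734) F1812 (iv D986)
theorem F3520 : act 5 n1045 = n2024 := d24_1 D1045 (iv D2024) F1807 F928 (iv D229) (iv D113) (iv F151) (iv D63) (iv D27) D26 F59 D61 D121 D245 D504
theorem F3522 : act 3 n2022 = n1045 := d16_5 F3520 (iv D2024) (iv D985) D984 D2022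
def n2026 : Q := act 2 n988
theorem D2026 : act 2 n988 = n2026 := rfl
theorem F3527 : act 0 n2026 = n989 := d1_1 D2026 (iv D989) (iv F1818)
def n2029 : Q := act 1 n989
theorem D2029 : act 1 n989 = n2029 := rfl
theorem F3536 : act 2 n2029 = n992 := d6_2 D989 D2029 (iv D992) (iv D478) (iv F933)
def n2035 : Q := act 0 n992
theorem D2035 : act 0 n992 = n2035 := rfl
def n2036 : Q := act 4 n992
theorem D2036 : act 4 n992 = n2036 := rfl
theorem F3546 : act 1 n2036 = n993 := d8_1 D2036 (iv D993) D992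
def n2037 : Q := act 5 n992
theorem D2037 : act 5 n992 = n2037 := rfl
theorem F3547 : act 1 n2037 = n994 := d9_1 D2037 (iv D994) D992
theorem F3548 : act 0 n2036 = n2037 := d22_0 F3547 F1827 F938 (iv F1819) D2026 F3527 D2029 F3536 D2036
theorem F3550 : act 5 n2035 = n2036 := d4_0 F3548 (iv D2037) D2035
def n2039 : Q := act 3 n993
theorem D2039 : act 3 n993 = n2039 := rfl
theorem F3552 : act 0 n2039 = n2039 := d2_1 D2039 (iv D2039) F1824
def n2040 : Q := act 5 n993
theorem D2040 : act 5 n993 = n2040 := rfl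
theorem F3554 : act 1 n2040 = n2035 := d9_1 D2040 F3550 F3546
theorem F3555 : act 2 n2040 = n996 := d13_1 D2040 (iv F1832) (iv F1825)
theorem F3556 : act 4 n2040 = n994 := d18_1 D2040 (iv D994) D993
def n2041 : Q := act 6 n993
theorem D2041 : act 6 n993 = n2041 := rfl
theorem F3558 : act 2 n2041 = n997 := d14_1 D2041 (iv D997) (iv F1825)
def n2042 : Q := act 3 n994
theorem D2042 : act 3 n994 = n2042 := rfl
def n2043 : Q := act 6 n994
theorem D2043 : act 6 n994 = n2043 := rfl
theorem F3562 : act 2 n2043 = n998 := d14_1 D2043 (iv D998) (iv F1827)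
theorem F3563 : act 5 n2043 = n2041 := d21_2 D994 D2043 (iv D2041) (iv D993)
theorem F3564 : act 3 n2041 = n2043 := d24_2 D2043 F3563 F3562 (iv D998) (iv D480) (iv D231) (iv D114) F140 D112 F266 (iv F456) D467 F908 (iv F939) (iv F1827)
theorem F3565 : act 6 n2042 = n2039 := d17_2 (iv D2043) D2042 (iv D2039) D2041 F3564
def n2044 : Q := act 3 n995
theorem D2044 : act 3 n995 = n2044 := rfl
def n2046 : Q := act 3 n997
theorem D2046 : act 3 n997 = n2046 := rfl
theorem F3572 : act 4 n2046 = n1983 := d15_2 (iv F1834) D2046 (iv D1983) F1764 (iv F941)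
def n2047 : Q := act 3 n999
theorem D2047 : act 3 n999 = n2047 := rfl
theorem F3574 : act 5 n2047 = n1988 := d16_2 D999 D2047 (iv D1988) (iv D966) (iv F941)
theorem F3575 : act 6 n2047 = n2046 := d17_2 (iv F1840) D2047 (iv D2046) (iv D997) D996
def n2048 : Q := act 0 n1000
theorem D2048 : act 0 n1000 = n2048 := rfl
theorem F3577 : act 5 n2048 = n1004 := d4_2 (iv F1842) D2048 (iv D1004)
theorem F3579 : act 4 n1000 = n2048 := d22_9 (iv D2048) (iv D1000) (iv D482) F481 F482 D482 F942 D1000 F1841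
def n2049 : Q := act 3 n1000
theorem D2049 : act 3 n1000 = n2049 := rfl
theorem F3580 : act 1 n2049 = n1001 := d7_1 D2049 (iv D1001) D1000
def n2050 : Q := act 6 n1000
theorem D2050 : act 6 n1000 = n2050 := rfl
theorem F3581 : act 1 n2050 = n1003 := d10_1 D2050 (iv D1003) D1000
def n2051 : Q := act 4 n1001
theorem D2051 : act 4 n1001 = n2051 := rfl
def n2052 : Q := act 5 n1001
theorem D2052 : act 5 n1001 = n2052 := rfl
theorem F3585 : act 3 n2052 = n1009 := d16_1 D2052 (iv D1009) (iv D486) (iv F943) D1001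
def n2053 : Q := act 6 n1001
theorem D2053 : act 6 n1001 = n2053 := rfl
theorem F3587 : act 3 n2053 = n1768 := d17_1 D2053 (iv F3046) F3047 (iv D1003) D1001
def n2055 : Q := act 3 n1004
theorem D2055 : act 3 n1004 = n2055 := rfl
theorem F3589 : act 0 n2055 = n1005 := d2_1 D2055 (iv D1005) D1004
theorem F3590 : act 1 n2055 = n1011 := d7_1 D2055 (iv D1011) (iv F1850)
def n2056 : Q := act 6 n1004
theorem D2056 : act 6 n1004 = n2056 := rfl
theorem F3591 : act 0 n2056 = n1006 := d5_1 D2056 (iv D1006) D1004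
theorem F3595 : act 5 n2056 = n2050 := d21_2 F3577 D2056 (iv D2050) F3579
def n2057 : Q := act 2 n1005
theorem D2057 : act 2 n1005 = n2057 := rfl
def n2058 : Q := act 4 n1005
theorem D2058 : act 4 n1005 = n2058 := rfl
theorem F3596 : act 1 n2058 = n1008 := d8_1 D2058 (iv D1008) (iv F1852)
def n2059 : Q := act 5 n1005
theorem D2059 : act 5 n1005 = n2059 := rfl
theorem F3597 : act 1 n2059 = n1009 := d9_1 D2059 (iv D1009) (iv F1852)
def n2061 : Q := act 3 n1006
theorem D2061 : act 3 n1006 = n2061 := rfl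
theorem F3599 : act 1 n2061 = n1013 := d7_1 D2061 (iv D1013) (iv F1853)
def n2062 : Q := act 5 n1006
theorem D2062 : act 5 n1006 = n2062 := rfl
theorem F3600 : act 0 n2062 = n2050 := d4_1 D2062 (iv F3595) F3591
def n2064 : Q := act 4 n1007
theorem D2064 : act 4 n1007 = n2064 := rfl
def n2065 : Q := act 5 n1007
theorem D2065 : act 5 n1007 = n2065 := rfl
theorem F3608 : act 2 n2065 = n1009 := d13_1 D2065 (iv D1009) D1007
def n2066 : Q := act 6 n1007
theorem D2066 : act 6 n1007 = n2066 := rfl
theorem F3610 : act 2 n2066 = n1010 := d14_1 D2066 (iv D1010) D1007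
def n2067 : Q := act 3 n1008
theorem D2067 : act 3 n1008 = n2067 := rfl
theorem F3612 : act 4 n2067 = n1011 := d15_2 D1008 D2067 (iv D1011) (iv D487) D486
def n2068 : Q := act 5 n1008
theorem D2068 : act 5 n1008 = n2068 := rfl
theorem F3614 : act 4 n2068 = n1009 := d18_1 D2068 (iv D1009) D1008
def n2069 : Q := act 6 n1008
theorem D2069 : act 6 n1008 = n2069 := rfl
theorem F3616 : act 4 n2069 = n1010 := d19_1 D2069 (iv D1010) D1008
def n2070 : Q := act 6 n1009
theorem D2070 : act 6 n1009 = n2070 := rfl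
theorem F3618 : act 5 n2070 = n2069 := d21_2 D1009 D2070 (iv D2069) (iv D1008)
def n2071 : Q := act 3 n1010
theorem D2071 : act 3 n1010 = n2071 := rfl
theorem F3620 : act 6 n2071 = n1013 := d17_2 D1010 D2071 (iv D1013) (iv D488) D486
def n2072 : Q := act 5 n1010
theorem D2072 : act 5 n1010 = n2072 := rfl
theorem F3622 : act 4 n2072 = n2070 := d18_1 D2072 F3618 F3616
theorem F3623 : act 6 n2072 = n2068 := d20_2 D1010 D2072 (iv D2068) D2069 (iv F3618) (iv D2070) (iv D1009)
def n2073 : Q := act 2 n1011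
theorem D2073 : act 2 n1011 = n2073 := rfl
def n2074 : Q := act 5 n1011
theorem D2074 : act 5 n1011 = n2074 := rfl
def n2075 : Q := act 6 n1011
theorem D2075 : act 6 n1011 = n2075 := rfl
def n2076 : Q := act 3 n1012
theorem D2076 : act 3 n1012 = n2076 := rfl
theorem F3628 : act 5 n2076 = n1782 := d16_2 (iv F1863) D2076 (iv D1782) D1783 F3047
def n2077 : Q := act 2 n1013
theorem D2077 : act 2 n1013 = n2077 := rfl
def n2078 : Q := act 4 n1013
theorem D2078 : act 4 n1013 = n2078 := rfl
def n2079 : Q := act 5 n1013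
theorem D2079 : act 5 n1013 = n2079 := rfl
def n2080 : Q := act 3 n1014
theorem D2080 : act 3 n1014 = n2080 := rfl
theorem F3633 : act 2 n2080 = n1031 := d24_3 D488 D1014 D2080 (iv D1031) (iv D498) (iv D241) F282 (iv D119) (iv D60) (iv D26) (iv D6) D25 D59 D117 D235
theorem F3634 : act 6 n1029 = n2080 := d14_0 F3633 (iv D1031) (iv F1888)
def n2083 : Q := act 6 n1015
theorem D2083 : act 6 n1015 = n2083 := rfl
def n2084 : Q := act 3 n1016
theorem D2084 : act 3 n1016 = n2084 := rfl
theorem F3638 : act 1 n2084 = n1022 := d7_1 D2084 (iv D1022) (iv F1870)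
def n2086 : Q := act 5 n1017
theorem D2086 : act 5 n1017 = n2086 := rfl
theorem F3641 : act 2 n2086 = n1019 := d13_1 D2086 (iv D1019) D1017
def n2088 : Q := act 6 n1019
theorem D2088 : act 6 n1019 = n2088 := rfl
theorem F3644 : act 0 n2088 = n2088 := d5_1 D2088 (iv D2088) F1874
def n2089 : Q := act 3 n1020
theorem D2089 : act 3 n1020 = n2089 := rfl
theorem F3647 : act 6 n2089 = n1022 := d17_2 D1020 D2089 (iv D1022) (iv D494) D492
def n2091 : Q := act 2 n1022
theorem D2091 : act 2 n1022 = n2091 := rfl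
def n2092 : Q := act 4 n1022
theorem D2092 : act 4 n1022 = n2092 := rfl
def n2093 : Q := act 5 n1022
theorem D2093 : act 5 n1022 = n2093 := rfl
theorem F3655 : act 6 n1895 = n2093 := d24_0 (iv D2093) (iv D1022) F971 (iv D240) F280 (iv D62) F61 D57 F137 D103 D208 F422 D434 D915 D1895
theorem F3656 : act 2 n2093 = n1897 := d14_1 F3655 (iv D1897) D1895
theorem F3657 : act 5 n1897 = n2091 := d13_2 D2093 F3656 (iv D2091)
def n2095 : Q := act 3 n1023
theorem D2095 : act 3 n1023 = n2095 := rfl
def n2096 : Q := act 4 n1023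
theorem D2096 : act 4 n1023 = n2096 := rfl
theorem F3661 : act 2 n2096 = n1024 := d12_1 D2096 (iv D1024) D1023
theorem F3662 : act 6 n2096 = n1028 := d19_2 (iv F1880) D2096 (iv D1028)
theorem F3663 : act 5 n2096 = n2080 := d21_0 (iv F3634) (iv D1029) (iv F1880) D2096
theorem F3664 : act 3 n2079 = n2096 := d16_5 F3663 (iv D2080) (iv D1014) D1013 D2079
def n2097 : Q := act 5 n1023
theorem D2097 : act 5 n1023 = n2097 := rfl
theorem F3668 : act 3 n2097 = n1769 := d24_2 (iv F1880) D2097 F3014 (iv D848) F764 (iv D193) F224 (iv D95) (iv D46) D45 F101 D93 (iv F283) D241 D496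
def n2098 : Q := act 3 n1026
theorem D2098 : act 3 n1026 = n2098 := rfl
theorem F3669 : act 1 n2098 = n1027 := d7_1 D2098 (iv D1027) D1026
def n2099 : Q := act 5 n1026
theorem D2099 : act 5 n1026 = n2099 := rfl
def n2100 : Q := act 2 n1027
theorem D2100 : act 2 n1027 = n2100 := rfl
def n2101 : Q := act 4 n1027
theorem D2101 : act 4 n1027 = n2101 := rfl
def n2103 : Q := act 6 n1027
theorem D2103 : act 6 n1027 = n2103 := rfl
def n2104 : Q := act 3 n1028
theorem D2104 : act 3 n1028 = n2104 := rfl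
theorem F3677 : act 5 n1844 = n2104 := d24_1 D1844 (iv D2104) F1886 (iv F1882) (iv F1894) (iv F3006) F3005 (iv D1765) (iv F1599) (iv D881) (iv F1590) F1592 (iv D427) D425 D893
def n2105 : Q := act 5 n1028
theorem D2105 : act 5 n1028 = n2105 := rfl
theorem F3680 : act 2 n2105 = n1030 := d13_1 D2105 (iv D1030) (iv F1886)
theorem F3682 : act 6 n2105 = n2097 := d20_2 F3662 D2105 (iv D2097) F1880 D1029 F3634 (iv F3663)
def n2109 : Q := act 5 n1032
theorem D2109 : act 5 n1032 = n2109 := rfl
def n2111 : Q := act 3 n1033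
theorem D2111 : act 3 n1033 = n2111 := rfl
theorem F3689 : act 1 n2111 = n1038 := d7_1 D2111 (iv D1038) (iv F1896)
def n2113 : Q := act 4 n1034
theorem D2113 : act 4 n1034 = n2113 := rfl
theorem F3692 : act 2 n2113 = n1035 := d12_1 D2113 (iv D1035) D1034
def n2114 : Q := act 5 n1034
theorem D2114 : act 5 n1034 = n2114 := rfl
theorem F3694 : act 2 n2114 = n1036 := d13_1 D2114 (iv D1036) D1034
def n2115 : Q := act 6 n1034
theorem D2115 : act 6 n1034 = n2115 := rfl
def n2116 : Q := act 5 n1035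
theorem D2116 : act 5 n1035 = n2116 := rfl
theorem F3698 : act 4 n2116 = n1036 := d18_1 D2116 (iv D1036) D1035
def n2117 : Q := act 6 n1035
theorem D2117 : act 6 n1035 = n2117 := rfl
theorem F3700 : act 4 n2117 = n1037 := d19_1 D2117 (iv D1037) D1035
def n2118 : Q := act 3 n1036
theorem D2118 : act 3 n1036 = n2118 := rfl
theorem F3702 : act 5 n2118 = n1038 := d16_2 D1036 D2118 (iv D1038) (iv D502) D500
def n2121 : Q := act 2 n1038
theorem D2121 : act 2 n1038 = n2121 := rfl
theorem F3709 : act 6 n2121 = n1873 := d24_4 (iv F498) D502 D1038 D2121 (iv D1873) (iv D905) F826 (iv D207) F240 (iv D102) F122 (iv F157) (iv D65) D64 D126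
def n2122 : Q := act 6 n1038
theorem D2122 : act 6 n1038 = n2122 := rfl
theorem F3711 : act 2 n2122 = n1873 := d14_1 D2122 (iv F3709) (iv D2121)
def n2123 : Q := act 1 n1039
theorem D2123 : act 1 n1039 = n2123 := rfl
theorem F3713 : act 5 n2123 = n1042 := d9_2 (iv F1905) D2123 (iv D1042)
def n2124 : Q := act 3 n1039
theorem D2124 : act 3 n1039 = n2124 := rfl
theorem F3714 : act 0 n2124 = n2124 := d2_1 D2124 (iv D2124) F1904
def n2125 : Q := act 6 n1039
theorem D2125 : act 6 n1039 = n2125 := rfl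
theorem F3716 : act 2 n2125 = n1041 := d14_1 D2125 (iv D1041) D1039
theorem F3717 : act 4 n2125 = n2024 := d19_1 D2125 F3519 (iv F2940)
theorem F3718 : act 3 n1720 = n2125 := d15_5 F3717 (iv D2024) F1808 D986 (iv F2910)
def n2126 : Q := act 3 n1042
theorem D2126 : act 3 n1042 = n2126 := rfl
theorem F3719 : act 1 n2126 = n1043 := d7_1 D2126 (iv D1043) D1042
def n2127 : Q := act 6 n1042
theorem D2127 : act 6 n1042 = n2127 := rfl
theorem F3720 : act 1 n2127 = n1045 := d10_1 D2127 (iv D1045) D1042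
def n2128 : Q := act 2 n1043
theorem D2128 : act 2 n1043 = n2128 := rfl
theorem F3721 : act 0 n2128 = n2128 := d1_1 D2128 (iv D2128) F1909
theorem F3722 : act 3 n2128 = n2128 := d23_1 D2128 (iv D2128) (iv D1043) (iv D504) (iv D245) F287 D245 D504 D1043 F1909
def n2129 : Q := act 4 n1043
theorem D2129 : act 4 n1043 = n2129 := rfl
def n2130 : Q := act 5 n1043
theorem D2130 : act 5 n1043 = n2130 := rfl
theorem F3724 : act 0 n2130 = n2130 := d4_1 D2130 (iv D2130) F1909
def n2131 : Q := act 6 n1043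
theorem D2131 : act 6 n1043 = n2131 := rfl
def n2132 : Q := act 6 n1044
theorem D2132 : act 6 n1044 = n2132 := rfl
theorem F3727 : act 2 n2132 = n1046 := d14_1 D2132 (iv D1046) (iv F1911)
theorem F3728 : act 4 n2132 = n1045 := d19_1 D2132 (iv D1045) D1044
theorem F3729 : act 5 n2132 = n2125 := d20_1 D2132 (iv D2125) F1905 D1045 F3520 F3519 (iv F2941)
def n2133 : Q := act 2 n1048
theorem D2133 : act 2 n1048 = n2133 := rfl
theorem F3730 : act 0 n2133 = n1050 := d1_1 D2133 (iv D1050) (iv F1920)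
theorem E26 : n1830 = n1826 := (c22_9 F1611 (iv F1921) D2133 F3730 F1926 (iv D1050) (iv F1920) F1921 D1830 F3130)
theorem F3731 : act 2 n1826 = n889 := (sb E26 (iv D1830))
theorem F3732 : act 3 n1064 = n1824 := d23_7 F3731 (iv D889) F808 F402 (iv F506) D514 D1064 F3126 D1826 F3129
def n2134 : Q := act 4 n1048
theorem D2134 : act 4 n1048 = n2134 := rfl
theorem F3733 : act 0 n2134 = n1051 := d3_1 D2134 (iv D1051) (iv F1920)
theorem F3734 : act 1 n2134 = n1826 := d8_1 D2134 F3130 (iv F1921)
def n2135 : Q := act 5 n1048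
theorem D2135 : act 5 n1048 = n2135 := rfl
theorem F3737 : act 1 n2135 = n1831 := d9_1 D2135 (iv D1831) (iv F1921)
def n2136 : Q := act 6 n1048
theorem D2136 : act 6 n1048 = n2136 := rfl
theorem F3738 : act 0 n2136 = n1053 := d5_1 D2136 (iv D1053) (iv F1920)
theorem F3739 : act 1 n2136 = n1832 := d10_1 D2136 (iv D1832) (iv F1921)
def n2138 : Q := act 3 n1050
theorem D2138 : act 3 n1050 = n2138 := rfl
theorem F3742 : act 1 n2138 = n2138 := d7_1 D2138 (iv D2138) F1926
def n2139 : Q := act 4 n1050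
theorem D2139 : act 4 n1050 = n2139 := rfl
theorem F3743 : act 1 n2139 = n2139 := d8_1 D2139 (iv D2139) F1926
theorem F3744 : act 2 n2139 = n1051 := d12_1 D2139 (iv D1051) D1050
def n2140 : Q := act 5 n1050
theorem D2140 : act 5 n1050 = n2140 := rfl
theorem F3746 : act 2 n2140 = n1052 := d13_1 D2140 (iv D1052) D1050
def n2141 : Q := act 6 n1050
theorem D2141 : act 6 n1050 = n2141 := rfl
theorem F3747 : act 1 n2141 = n2141 := d10_1 D2141 (iv D2141) F1926
theorem F3748 : act 2 n2141 = n1053 := d14_1 D2141 (iv D1053) D1050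
def n2142 : Q := act 3 n1051
theorem D2142 : act 3 n1051 = n2142 := rfl
theorem F3751 : act 4 n2142 = n1054 := d15_2 D1051 D2142 (iv D1054) (iv D509) D508
def n2143 : Q := act 5 n1051
theorem D2143 : act 5 n1051 = n2143 := rfl
theorem F3753 : act 1 n2143 = n1059 := d9_1 D2143 (iv D1059) (iv F1927)
def n2144 : Q := act 6 n1051
theorem D2144 : act 6 n1051 = n2144 := rfl
theorem F3756 : act 4 n2144 = n1053 := d19_1 D2144 (iv D1053) D1051
def n2145 : Q := act 6 n1052
theorem D2145 : act 6 n1052 = n2145 := rfl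
theorem F3757 : act 1 n2145 = n1061 := d10_1 D2145 (iv D1061) (iv F1928)
theorem F3758 : act 5 n2145 = n2144 := d21_2 D1052 D2145 (iv D2144) (iv D1051)
def n2146 : Q := act 3 n1053
theorem D2146 : act 3 n1053 = n2146 := rfl
theorem F3759 : act 1 n2146 = n1062 := d7_1 D2146 (iv D1062) (iv F1929)
theorem F3760 : act 6 n2146 = n1056 := d17_2 D1053 D2146 (iv D1056) (iv D510) D508
def n2147 : Q := act 5 n1053
theorem D2147 : act 5 n1053 = n2147 := rfl
theorem F3761 : act 1 n2147 = n1063 := d9_1 D2147 (iv D1063) (iv F1929)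
theorem F3762 : act 4 n2147 = n2145 := d18_1 D2147 F3758 F3756
theorem F3763 : act 6 n2147 = n2143 := d20_2 D1053 D2147 (iv D2143) D2144 (iv F3758) (iv D2145) (iv D1052)
def n2148 : Q := act 2 n1054
theorem D2148 : act 2 n1054 = n2148 := rfl
def n2149 : Q := act 6 n1054
theorem D2149 : act 6 n1054 = n2149 := rfl
theorem F3767 : act 1 n2149 = n1066 := d10_1 D2149 (iv D1066) (iv F1931)
def n2151 : Q := act 2 n1056
theorem D2151 : act 2 n1056 = n2151 := rfl
def n2152 : Q := act 4 n1056
theorem D2152 : act 4 n1056 = n2152 := rfl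
def n2153 : Q := act 5 n1056
theorem D2153 : act 5 n1056 = n2153 := rfl
theorem F3771 : act 1 n2153 = n1070 := d9_1 D2153 (iv D1070) (iv F1936)
def n2155 : Q := act 2 n1058
theorem D2155 : act 2 n1058 = n2155 := rfl
theorem F3776 : act 4 n2155 = n1064 := d12_2 (iv F1942) D2155 (iv D1064)
theorem F3777 : act 5 n2155 = n1824 := d13_2 (iv F2018) D2155 F3126
theorem F3778 : act 3 n1864 = n2155 := d16_5 F3777 (iv F3732) F2017 (iv F1631) D1864
theorem E27 : n1864 = n1863 := ((c15_1 D1863 F3778 F3776 F3732 (iv D1824) (iv F1631))).symm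
theorem E28 : n903 = n902 := (((F3194).symm.trans (sb E27 F3196))).symm
theorem F3779 : act 3 n1863 = n2155 := (sb E27 F3778)
theorem F3780 : act 5 n1863 = n901 := (sb E27 (iv D1864))
theorem E29 : n1859 = n1858 := ((((iv F3183)).symm.trans (sb E28 (iv F3186)))).symm
theorem E30 : n1866 = n429 := ((((iv D902)).symm.trans (sb E28 (iv F3200)))).symm
theorem F3781 : act 5 n1858 = n899 := (sb E29 (iv D1859))
theorem F3782 : act 5 n429 = n902 := (sb E30 (iv D1866))
def n2156 : Q := act 3 n1059
theorem D2156 : act 3 n1059 = n2156 := rfl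
theorem F3789 : act 5 n2156 = n1826 := d16_2 D1059 D2156 (iv D1826) (iv F2018) (iv D1058)
theorem F3790 : act 2 n1831 = n2156 := d13_3 F3789 F3731 D1831
def n2157 : Q := act 3 n1060
theorem D2157 : act 3 n1060 = n2157 := rfl
def n2158 : Q := act 3 n1061
theorem D2158 : act 3 n1061 = n2158 := rfl
def n2159 : Q := act 2 n1062
theorem D2159 : act 2 n1062 = n2159 := rfl
theorem F3794 : act 6 n2159 = n1068 := d14_2 (iv F1953) D2159 (iv D1068)
theorem F3795 : act 5 n1761 = n2159 := d21_0 F3794 F2996 (iv D1762) D1761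
theorem F3796 : act 4 n2159 = n1753 := d21_4 F2981 D1762 (iv F2996) (iv F3794)
def n2160 : Q := act 4 n1062
theorem D2160 : act 4 n1062 = n2160 := rfl
theorem F3799 : act 6 n2160 = n1069 := d19_2 (iv F1953) D2160 (iv D1069)
theorem F3800 : act 5 n2160 = n1760 := d21_0 F2992 (iv D1070) (iv F1953) D2160
def n2161 : Q := act 5 n1062
theorem D2161 : act 5 n1062 = n2161 := rfl
theorem F3802 : act 2 n2161 = n1761 := d13_1 D2161 F3795 (iv D2159)
theorem F3803 : act 4 n2161 = n1760 := d18_1 D2161 (iv F3800) (iv D2160)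
def n2162 : Q := act 3 n1063
theorem D2162 : act 3 n1063 = n2162 := rfl
def n2165 : Q := act 3 n1066
theorem D2165 : act 3 n1066 = n2165 := rfl
theorem F3809 : act 6 n2165 = n1067 := d17_2 D1066 D2165 (iv D1067) (iv D515) D514
def n2166 : Q := act 2 n1067
theorem D2166 : act 2 n1067 = n2166 := rfl
def n2168 : Q := act 5 n1067
theorem D2168 : act 5 n1067 = n2168 := rfl
theorem F3814 : act 3 n2168 = n2093 := d16_1 D2168 (iv D2093) (iv D1022) (iv F1008) D1067
def n2169 : Q := act 1 n1068
theorem D2169 : act 1 n1068 = n2169 := rfl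
def n2171 : Q := act 4 n1068
theorem D2171 : act 4 n1068 = n2171 := rfl
theorem F3818 : act 6 n2171 = n1753 := d19_2 F3794 D2171 (iv F3796)
def n2172 : Q := act 5 n1069
theorem D2172 : act 5 n1069 = n2172 := rfl
theorem F3821 : act 6 n2172 = n2161 := d20_2 F3799 D2172 (iv D2161) F1953 D1070 (iv F2992) (iv F3800)
def n2173 : Q := act 1 n1072
theorem D2173 : act 1 n1072 = n2173 := rfl
def n2174 : Q := act 3 n1072
theorem D2174 : act 3 n1072 = n2174 := rfl
def n2175 : Q := act 4 n1072
theorem D2175 : act 4 n1072 = n2175 := rfl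
theorem F3824 : act 2 n2175 = n1073 := d12_1 D2175 (iv D1073) D1072
def n2177 : Q := act 5 n1073
theorem D2177 : act 5 n1073 = n2177 := rfl
theorem F3829 : act 6 n2177 = n1785 := d21_1 D2177 F3054 F1570 D1073
def n2178 : Q := act 6 n1074
theorem D2178 : act 6 n1074 = n2178 := rfl
theorem F3832 : act 5 n2178 = n1136 := d20_1 D2178 F2109 D2177 F3829 F3054 F1570 D1074
def n2179 : Q := act 0 n1075
theorem D2179 : act 0 n1075 = n2179 := rfl
theorem F3835 : act 1 n2179 = n1135 := d22_4 F1167 D1203 F2213 D2179 F2104 F1068 (iv F1170) (iv F2303) F2304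
def n2180 : Q := act 3 n1075
theorem D2180 : act 3 n1075 = n2180 := rfl
theorem F3836 : act 1 n2180 = n1076 := d7_1 D2180 (iv D1076) D1075
def n2182 : Q := act 5 n1076
theorem D2182 : act 5 n1076 = n2182 := rfl
theorem F3839 : act 3 n2182 = n1135 := d16_1 D2182 F2106 (iv F2090) F1729 D1076
def n2183 : Q := act 6 n1076
theorem D2183 : act 6 n1076 = n2183 := rfl
theorem F3841 : act 3 n2183 = n1087 := d17_1 D2183 (iv D1087) (iv D524) (iv F1016) D1076
def n2184 : Q := act 2 n1077
theorem D2184 : act 2 n1077 = n2184 := rfl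
theorem F3843 : act 5 n2184 = n1078 := d13_2 (iv F1974) D2184 (iv D1078)
def n2185 : Q := act 4 n1077
theorem D2185 : act 4 n1077 = n2185 := rfl
def n2190 : Q := act 3 n1080
theorem D2190 : act 3 n1080 = n2190 := rfl
theorem F3853 : act 0 n2190 = n1081 := d2_1 D2190 (iv D1081) D1080
theorem F3854 : act 1 n2190 = n1086 := d7_1 D2190 F2000 (iv F1978)
def n2192 : Q := act 2 n1081
theorem D2192 : act 2 n1081 = n2192 := rfl
def n2196 : Q := act 5 n1082
theorem D2196 : act 5 n1082 = n2196 := rfl
theorem F3866 : act 1 n2196 = n1089 := d9_1 D2196 (iv D1089) (iv F1982)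
def n2197 : Q := act 1 n1084
theorem D2197 : act 1 n1084 = n2197 := rfl
def n2198 : Q := act 4 n1084
theorem D2198 : act 4 n1084 = n2198 := rfl
theorem F3871 : act 2 n2198 = n1085 := d12_1 D2198 (iv D1085) D1084
def n2199 : Q := act 5 n1084
theorem D2199 : act 5 n1084 = n2199 := rfl
theorem F3873 : act 2 n2199 = n1086 := d13_1 D2199 (iv D1086) D1084
def n2200 : Q := act 6 n1084
theorem D2200 : act 6 n1084 = n2200 := rfl
theorem F3875 : act 2 n2200 = n1087 := d14_1 D2200 (iv D1087) D1084
def n2201 : Q := act 3 n1085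
theorem D2201 : act 3 n1085 = n2201 := rfl
theorem F3877 : act 4 n2201 = n1088 := d15_2 D1085 D2201 (iv D1088) (iv D525) D524
def n2202 : Q := act 5 n1085
theorem D2202 : act 5 n1085 = n2202 := rfl
theorem F3879 : act 4 n2202 = n1086 := d18_1 D2202 (iv D1086) D1085
theorem F3880 : act 3 n1132 = n2202 := d15_5 F3879 F2000 (iv D548) D547 D1132
def n2203 : Q := act 6 n1085
theorem D2203 : act 6 n1085 = n2203 := rfl
theorem F3882 : act 4 n2203 = n1087 := d19_1 D2203 (iv D1087) D1085
def n2204 : Q := act 6 n1086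
theorem D2204 : act 6 n1086 = n2204 := rfl
theorem F3884 : act 5 n2204 = n2203 := d21_2 D1086 D2204 (iv D2203) (iv D1085)
def n2206 : Q := act 2 n1088
theorem D2206 : act 2 n1088 = n2206 := rfl
def n2207 : Q := act 5 n1088
theorem D2207 : act 5 n1088 = n2207 := rfl
theorem F3890 : act 6 n1697 = n2207 := d24_0 (iv D2207) (iv D1088) F1023 (iv F1018) (iv F1031) D1092 F2027 F2026 F1599 (iv D845) (iv F1505) F1507 (iv D809) D807 D1697
theorem F3891 : act 2 n2207 = n1700 := d14_1 F3890 (iv D1700) D1697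
theorem F3892 : act 5 n1700 = n2206 := d13_2 D2207 F3891 (iv D2206)
def n2208 : Q := act 3 n1089
theorem D2208 : act 3 n1089 = n2208 := rfl
theorem F3894 : act 4 n2208 = n1124 := d15_2 (iv F1993) D2208 (iv D1124) (iv F1999) (iv D1090)
theorem F3895 : act 6 n2208 = n1124 := d17_2 (iv F1994) D2208 (iv D1124) D1125 (iv F2090)
def n2209 : Q := act 2 n1091
theorem D2209 : act 2 n1091 = n2209 := rfl
theorem F3897 : act 4 n2209 = n1818 := d12_2 (iv F2024) D2209 (iv D1818)
def n2211 : Q := act 4 n1092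
theorem D2211 : act 4 n1092 = n2211 := rfl
theorem F3904 : act 3 n2211 = n2185 := d15_1 D2211 (iv D2185) (iv D1077) (iv F1030) D1092
theorem F3905 : act 6 n2211 = n1735 := d19_2 (iv F2026) D2211 F2945
theorem F3906 : act 5 n2211 = n1765 := d21_0 (iv D1765) (iv F1599) (iv F2026) D2211
theorem E33 : n2100 = n983 := (c24_8 (iv F3905) F3906 F3006 (iv F3633) (iv F3634) (iv D1029) D1027 D2100 (iv D983) D982 F2907 F2904 F1469 D831 D1735 F2946)
theorem E34 : n2015 = n1027 := (((iv F3502)).symm.trans (sb E33 (iv D2100)))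
theorem F3907 : act 2 n1027 = n983 := (sb E34 F3502)
theorem E35 : n2103 = n980 := ((D2103).symm.trans (sb E34 (iv D2015)))
theorem F3908 : act 6 n980 = n1027 := (sb E35 (iv D2103))
theorem F3909 : act 6 n2098 = n2012 := d10_2 F3908 (iv F3669) (iv D2012)
theorem E36 : n2200 = n2095 := ((c17_4 F3908 (iv D1027) (iv F1880) D2095 (iv D2200) F1986)).symm
theorem F3910 : act 2 n2095 = n1087 := (sb E36 F3875)
theorem F3911 : act 6 n2095 = n1084 := (sb E36 (iv D2200))
theorem F3912 : act 6 n2101 = n2013 := d19_2 F3908 D2101 (iv D2013)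
theorem F3913 : act 2 n2018 = n2101 := d14_3 F3912 F3498 D2018
def n2212 : Q := act 5 n1092
theorem D2212 : act 5 n1092 = n2212 := rfl
theorem F3916 : act 2 n2212 = n2212 := d13_1 D2212 (iv D2212) F2027
theorem F3917 : act 3 n2212 = n2177 := d16_1 D2212 (iv D2177) F1968 (iv F1031) D1092
theorem F3919 : act 6 n2212 = n1764 := d20_2 (iv F2026) D2212 F3002 (iv F3905) F3906 (iv D1765) (iv F1599)
def n2213 : Q := act 2 n1093
theorem D2213 : act 2 n1093 = n2213 := rfl
theorem F3920 : act 0 n2213 = n1095 := d1_1 D2213 (iv D1095) (iv F2030)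
def n2214 : Q := act 4 n1093
theorem D2214 : act 4 n1093 = n2214 := rfl
theorem F3921 : act 0 n2214 = n1096 := d3_1 D2214 (iv D1096) (iv F2030)
theorem F3923 : act 3 n2214 = n1837 := d15_1 D2214 (iv D1837) (iv D891) F1035 D1093
def n2216 : Q := act 6 n1093
theorem D2216 : act 6 n1093 = n2216 := rfl
def n2217 : Q := act 3 n1094
theorem D2217 : act 3 n1094 = n2217 := rfl
theorem F3928 : act 0 n2217 = n1101 := d2_1 D2217 (iv D1101) (iv F2032)
theorem F3929 : act 1 n2217 = n1119 := d7_1 D2217 F2078 (iv F2033)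
theorem F3930 : act 6 n2217 = n1101 := d17_2 (iv F2035) D2217 (iv D1101) D1102 (iv F2050)
def n2218 : Q := act 1 n1095
theorem D2218 : act 1 n1095 = n2218 := rfl
theorem F3931 : act 2 n2218 = n1103 := d6_2 D1095 D2218 (iv D1103) (iv D533) (iv F1036)
def n2219 : Q := act 3 n1095
theorem D2219 : act 3 n1095 = n2219 := rfl
def n2220 : Q := act 4 n1095
theorem D2220 : act 4 n1095 = n2220 := rfl
def n2223 : Q := act 3 n1096
theorem D2223 : act 3 n1096 = n2223 := rfl
theorem F3935 : act 0 n2223 = n1837 := d2_1 D2223 (iv F3923) F3921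
theorem F3937 : act 4 n2223 = n1099 := d15_2 D1096 D2223 (iv D1099) (iv D531) D530
def n2229 : Q := act 2 n1099
theorem D2229 : act 2 n1099 = n2229 := rfl
theorem F3949 : act 0 n2229 = n1836 := d1_1 D2229 (iv D1836) (iv F2039)
def n2230 : Q := act 5 n1099
theorem D2230 : act 5 n1099 = n2230 := rfl
theorem F3950 : act 0 n2230 = n1838 := d4_1 D2230 (iv D1838) (iv F2039)
theorem F3951 : act 1 n2230 = n1114 := d9_1 D2230 (iv D1114) (iv F2040)
def n2231 : Q := act 6 n1099
theorem D2231 : act 6 n1099 = n2231 := rfl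
theorem F3952 : act 0 n2231 = n1839 := d5_1 D2231 (iv D1839) (iv F2039)
def n2233 : Q := act 2 n1101
theorem D2233 : act 2 n1101 = n2233 := rfl
def n2235 : Q := act 0 n1103
theorem D2235 : act 0 n1103 = n2235 := rfl
theorem F3957 : act 3 n2235 = n2035 := d2_2 (iv F2051) D2235 (iv D2035)
def n2236 : Q := act 4 n1103
theorem D2236 : act 4 n1103 = n2236 := rfl
theorem F3958 : act 1 n2236 = n1104 := d8_1 D2236 (iv D1104) D1103
def n2237 : Q := act 5 n1103
theorem D2237 : act 5 n1103 = n2237 := rfl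
def n2238 : Q := act 6 n1103
theorem D2238 : act 6 n1103 = n2238 := rfl
theorem F3960 : act 1 n2238 = n1106 := d10_1 D2238 (iv D1106) D1103
def n2239 : Q := act 3 n1104
theorem D2239 : act 3 n1104 = n2239 := rfl
theorem F3962 : act 4 n2239 = n2039 := d15_2 D1104 D2239 (iv D2039) (iv D993) (iv F1041)
def n2240 : Q := act 5 n1104
theorem D2240 : act 5 n1104 = n2240 := rfl
def n2241 : Q := act 6 n1104
theorem D2241 : act 6 n1104 = n2241 := rfl
theorem F3968 : act 4 n2241 = n1106 := d19_1 D2241 (iv D1106) D1104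
def n2242 : Q := act 3 n1105
theorem D2242 : act 3 n1105 = n2242 := rfl
theorem F3970 : act 5 n2242 = n2042 := d16_2 D1105 D2242 (iv D2042) (iv D994) (iv F1041)
def n2243 : Q := act 6 n1105
theorem D2243 : act 6 n1105 = n2243 := rfl
theorem F3972 : act 2 n2243 = n1111 := d14_1 D2243 (iv D1111) (iv F2055)
theorem F3973 : act 5 n2243 = n2241 := d21_2 D1105 D2243 (iv D2241) (iv D1104)
def n2244 : Q := act 3 n1106
theorem D2244 : act 3 n1106 = n2244 := rfl
theorem F3975 : act 6 n2244 = n2044 := d17_2 D1106 D2244 (iv D2044) (iv D995) (iv F1041)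
def n2245 : Q := act 5 n1106
theorem D2245 : act 5 n1106 = n2245 := rfl
theorem F3976 : act 0 n2245 = n2245 := d4_1 D2245 (iv D2245) F2056
theorem F3977 : act 2 n2245 = n1112 := d13_1 D2245 (iv D1112) (iv F2057)
theorem F3978 : act 4 n2245 = n2243 := d18_1 D2245 F3973 F3968
theorem F3979 : act 6 n2245 = n2240 := d20_2 D1106 D2245 (iv D2240) D2241 (iv F3973) (iv D2243) (iv D1105)
def n2246 : Q := act 2 n1107
theorem D2246 : act 2 n1107 = n2246 := rfl
theorem F3981 : act 4 n2246 = n1113 := d12_2 (iv F2059) D2246 (iv D1113)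
def n2248 : Q := act 6 n1107
theorem D2248 : act 6 n1107 = n2248 := rfl
theorem F3985 : act 4 n2248 = n1115 := d19_1 D2248 (iv D1115) (iv F2059)
def n2250 : Q := act 3 n1109
theorem D2250 : act 3 n1109 = n2250 := rfl
def n2251 : Q := act 2 n1110
theorem D2251 : act 2 n1110 = n2251 := rfl
theorem F3989 : act 5 n2251 = n1117 := d13_2 (iv F2065) D2251 (iv D1117)
theorem F3990 : act 4 n1707 = n2251 := d21_4 F3989 F2890 (iv D1713) (iv F2879)
theorem F3991 : act 6 n2251 = n1712 := d21_3 D1713 (iv F2890) (iv F3989) (iv D1712)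
def n2252 : Q := act 4 n1110
theorem D2252 : act 4 n1110 = n2252 := rfl
theorem F3994 : act 5 n2252 = n1118 := d18_2 (iv F2065) D2252 (iv D1118)
theorem F3995 : act 6 n1711 = n2252 := d21_3 F2065 D1119 F2892 (iv D2252)
def n2253 : Q := act 6 n1110
theorem D2253 : act 6 n1110 = n2253 := rfl
theorem F3997 : act 2 n2253 = n1712 := d14_1 D2253 (iv F3991) (iv D2251)
theorem F3998 : act 4 n2253 = n1711 := d19_1 D2253 F3995 (iv D2252)
def n2254 : Q := act 3 n1111
theorem D2254 : act 3 n1111 = n2254 := rfl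
def n2255 : Q := act 3 n1112
theorem D2255 : act 3 n1112 = n2255 := rfl
def n2256 : Q := act 1 n1113
theorem D2256 : act 1 n1113 = n2256 := rfl
def n2257 : Q := act 3 n1113
theorem D2257 : act 3 n1113 = n2257 := rfl
def n2258 : Q := act 5 n1113
theorem D2258 : act 5 n1113 = n2258 := rfl
theorem F4003 : act 2 n2258 = n1114 := d13_1 D2258 (iv D1114) D1113
def n2259 : Q := act 6 n1113
theorem D2259 : act 6 n1113 = n2259 := rfl
theorem F4005 : act 2 n2259 = n1115 := d14_1 D2259 (iv D1115) D1113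
def n2260 : Q := act 3 n1114
theorem D2260 : act 3 n1114 = n2260 := rfl
theorem F4007 : act 5 n2260 = n1116 := d16_2 D1114 D2260 (iv D1116) (iv D538) D537
theorem F4008 : act 6 n2166 = n2260 := d24_0 F4007 (iv D1116) F1047 F528 (iv D244) (iv D120) F148 (iv D61) D60 D118 D238 D494 (iv F1008) D1067 D2166
theorem F4009 : act 2 n2260 = n2165 := d14_1 F4008 F3809 D2166
def n2261 : Q := act 6 n1114
theorem D2261 : act 6 n1114 = n2261 := rfl
theorem F4011 : act 5 n2261 = n2248 := d21_2 D1114 D2261 (iv D2248) F2059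
def n2262 : Q := act 5 n1115
theorem D2262 : act 5 n1115 = n2262 := rfl
theorem F4013 : act 4 n2262 = n2261 := d18_1 D2262 F4011 F3985
def n2263 : Q := act 2 n1116
theorem D2263 : act 2 n1116 = n2263 := rfl
def n2264 : Q := act 4 n1116
theorem D2264 : act 4 n1116 = n2264 := rfl
theorem F4018 : act 3 n2264 = n1118 := d15_1 D2264 (iv D1118) (iv D539) (iv F1048) D1116
def n2265 : Q := act 6 n1116
theorem D2265 : act 6 n1116 = n2265 := rfl
def n2266 : Q := act 1 n1117
theorem D2266 : act 1 n1117 = n2266 := rfl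
def n2267 : Q := act 3 n1117
theorem D2267 : act 3 n1117 = n2267 := rfl
def n2268 : Q := act 4 n1117
theorem D2268 : act 4 n1117 = n2268 := rfl
theorem F4023 : act 2 n2268 = n1118 := d12_1 D2268 (iv D1118) D1117
theorem F4024 : act 5 n2268 = n1707 := d18_2 F3989 D2268 F3990
theorem F4025 : act 3 n1713 = n2268 := d16_5 F4024 (iv D1707) F2014 D820 D1713
def n2269 : Q := act 6 n1118
theorem D2269 : act 6 n1118 = n2269 := rfl
theorem F4027 : act 4 n2269 = n1119 := d19_1 D2269 (iv D1119) D1118
theorem F4028 : act 5 n2269 = n2253 := d20_1 D2269 (iv D2253) F2065 D1119 F2892 F3995 F3994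
def n2270 : Q := act 1 n1120
theorem D2270 : act 1 n1120 = n2270 := rfl
def n2271 : Q := act 3 n1120
theorem D2271 : act 3 n1120 = n2271 := rfl
def n2272 : Q := act 4 n1120
theorem D2272 : act 4 n1120 = n2272 := rfl
theorem F4031 : act 0 n2272 = n2272 := d3_1 D2272 (iv D2272) F2079
theorem F4032 : act 2 n2272 = n1121 := d12_1 D2272 (iv D1121) D1120
theorem F4033 : act 5 n2272 = n2209 := d18_2 F3121 D2272 F3897
theorem F4034 : act 3 n1854 = n2272 := d23_9 F4032 F2081 F1997 (iv D1090) F1025 F520 (iv F819) D898 D1854 F4031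
def n2273 : Q := act 6 n1120
theorem D2273 : act 6 n1120 = n2273 := rfl
theorem F4036 : act 2 n2273 = n1122 := d14_1 D2273 (iv D1122) D1120
def n2276 : Q := act 6 n1123
theorem D2276 : act 6 n1123 = n2276 := rfl
theorem F4042 : act 1 n2276 = n1125 := d10_1 D2276 (iv D1125) D1123
def n2278 : Q := act 5 n1124
theorem D2278 : act 5 n1124 = n2278 := rfl
theorem F4048 : act 3 n2278 = n1133 := d16_1 D2278 (iv D1133) (iv D547) (iv F1058) D1124
theorem F4049 : act 6 n2278 = n2278 := d21_1 D2278 (iv D2278) (iv F3895) F3894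
def n2279 : Q := act 2 n1126
theorem D2279 : act 2 n1126 = n2279 := rfl
theorem F4051 : act 6 n2279 = n1127 := d14_2 (iv F2092) D2279 (iv D1127)
theorem F4052 : act 4 n1126 = n2279 := d19_3 F4051 F2405 (iv F2092)
theorem F4053 : act 5 n1770 = n2279 := d21_2 (iv F1524) (iv F3017) F4051 F2405
theorem E37 : n2261 = n1776 := ((c24_8 (iv F4051) (iv F4053) (iv D1770) (iv F3014) (iv D1769) F1516 D851 D1776 (iv D2261) (iv D1114) (iv D537) F523 (iv F500) (iv F533) D545 D1127)).symm
theorem F4054 : act 4 n1776 = n2262 := (sb E37 (iv F4013))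
theorem F4055 : act 5 n1776 = n2248 := (sb E37 F4011)
theorem F4056 : act 6 n1776 = n1114 := (sb E37 (iv D2261))
theorem E38 : n2258 = n1779 := (c14_2 F4056 (iv F4003) (iv D1779) D1776)
theorem F4058 : act 5 n1779 = n1113 := (sb E38 (iv D2258))
theorem F4059 : act 4 n2259 = n1778 := d21_4 (iv D1778) D1779 F4058 D2259
theorem F4060 : act 6 n1778 = n2246 := d21_3 (iv F4058) (iv D1779) D1778 F3981
theorem F4061 : act 5 n1777 = n2259 := d21_0 (iv D2259) (iv F4058) (iv D1779) D1777
theorem F4062 : act 2 n2262 = n1777 := d13_3 F4061 F4005 D2262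
theorem F4063 : act 2 n2248 = n1778 := d14_3 F4060 (iv D2246) D2248
def n2280 : Q := act 5 n1126
theorem D2280 : act 5 n1126 = n2280 := rfl
theorem F4065 : act 2 n2280 = n1770 := d13_1 D2280 F4053 (iv D2279)
theorem F4066 : act 3 n2280 = n2178 := d16_1 D2280 F3832 (iv D1136) F1070 D1126
theorem F4068 : act 6 n2280 = n1771 := d20_2 (iv F2092) D2280 F3019 (iv F4051) (iv F4053) F3017 F1524
theorem F4069 : act 6 n1131 = n1757 := d24_8 (iv F4068) (iv D2280) (iv D1126) (iv F2088) (iv D1125) F1058 D547 D1131 (iv D1757) (iv D841) F755 (iv F726) (iv F768) D849 D1771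
theorem F4070 : act 2 n1757 = n1134 := d14_1 F4069 (iv D1134) D1131
theorem F4071 : act 5 n1134 = n1756 := d13_2 D1757 F4070 (iv D1756)
theorem F4072 : act 3 n2245 = n2175 := d24_14 (iv F2109) (iv F3832) (iv F4066) F4065 F3017 F1524 (iv D545) (iv F1052) (iv D540) (iv D259) D257 D533 D1106 D2245 F3824
theorem F4073 : act 2 n1933 = n2255 := d23_8 (iv F3977) F4072 F3824 F1968 F1711 (iv D940) (iv F1700) D1933 (iv D2255) F2068
def n2286 : Q := act 4 n1131
theorem D2286 : act 4 n1131 = n2286 := rfl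
theorem F4079 : act 2 n2286 = n1132 := d12_1 D2286 (iv D1132) D1131
theorem F4080 : act 5 n2286 = n1758 := d21_0 (iv D1758) D1757 (iv F4069) D2286
def n2287 : Q := act 5 n1131
theorem D2287 : act 5 n1131 = n2287 := rfl
theorem F4082 : act 2 n2287 = n1133 := d13_1 D2287 (iv D1133) D1131
theorem F4084 : act 6 n2287 = n1750 := d21_3 D1757 (iv F4069) D2287 F2975
def n2290 : Q := act 6 n1133
theorem D2290 : act 6 n1133 = n2290 := rfl
theorem F4092 : act 2 n2290 = n1750 := d14_1 D2290 (iv F4084) F4082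
theorem F4093 : act 3 n2290 = n2290 := d17_1 D2290 (iv D2290) (iv F4048) F4049 F4048
def n2291 : Q := act 2 n1136
theorem D2291 : act 2 n1136 = n2291 := rfl
theorem F4097 : act 4 n2291 = n1798 := d12_2 (iv F2108) D2291 (iv D1798)
theorem F4098 : act 6 n2291 = n2175 := d14_2 (iv F2109) D2291 F3824
def n2292 : Q := act 2 n1137
theorem D2292 : act 2 n1137 = n2292 := rfl
theorem F4100 : act 5 n2292 = n1797 := d13_2 (iv F2111) D2292 (iv D1797)
def n2293 : Q := act 4 n1137
theorem D2293 : act 4 n1137 = n2293 := rfl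
theorem F4102 : act 3 n2293 = n2279 := d15_1 D2293 (iv F4052) (iv D1126) (iv F1072) D1137
theorem F4103 : act 5 n2293 = n1784 := d18_2 (iv F2111) D2293 F3050
theorem F4104 : act 6 n1716 = n2293 := d21_3 F2111 F1567 D1716 (iv D2293)
def n2295 : Q := act 2 n1138
theorem D2295 : act 2 n1138 = n2295 := rfl
def n2296 : Q := act 4 n1138
theorem D2296 : act 4 n1138 = n2296 := rfl
theorem F4109 : act 1 n2296 = n1141 := d8_1 D2296 (iv D1141) (iv F2112)
def n2297 : Q := act 5 n1138
theorem D2297 : act 5 n1138 = n2297 := rfl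
theorem F4110 : act 1 n2297 = n1142 := d9_1 D2297 (iv D1142) (iv F2112)
theorem F4111 : act 3 n2297 = n1176 := d16_1 D2297 (iv D1176) (iv D569) (iv F1075) D1138
def n2298 : Q := act 6 n1138
theorem D2298 : act 6 n1138 = n2298 := rfl
theorem F4112 : act 1 n2298 = n1143 := d10_1 D2298 (iv D1143) (iv F2112)
def n2299 : Q := act 3 n1139
theorem D2299 : act 3 n1139 = n2299 := rfl
def n2300 : Q := act 1 n1140
theorem D2300 : act 1 n1140 = n2300 := rfl
theorem F4114 : act 3 n2300 = n1467 := d7_2 (iv F2116) D2300 (iv D1467)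
def n2301 : Q := act 4 n1140
theorem D2301 : act 4 n1140 = n2301 := rfl
theorem F4115 : act 0 n2301 = n1339 := d3_1 D2301 (iv D1339) (iv F2115)
theorem F4116 : act 2 n2301 = n1141 := d12_1 D2301 (iv D1141) D1140
def n2302 : Q := act 5 n1140
theorem D2302 : act 5 n1140 = n2302 := rfl
theorem F4118 : act 2 n2302 = n1142 := d13_1 D2302 (iv D1142) D1140
def n2303 : Q := act 6 n1140
theorem D2303 : act 6 n1140 = n2303 := rfl
theorem F4120 : act 2 n2303 = n1143 := d14_1 D2303 (iv D1143) D1140
def n2304 : Q := act 3 n1141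
theorem D2304 : act 3 n1141 = n2304 := rfl
theorem F4121 : act 0 n2304 = n1342 := d2_1 D2304 (iv D1342) (iv F2117)
theorem F4122 : act 4 n2304 = n1144 := d15_2 D1141 D2304 (iv D1144) (iv D554) D553
def n2305 : Q := act 5 n1141
theorem D2305 : act 5 n1141 = n2305 := rfl
theorem F4123 : act 0 n2305 = n1343 := d4_1 D2305 (iv D1343) (iv F2117)
theorem F4124 : act 4 n2305 = n1142 := d18_1 D2305 (iv D1142) D1141
def n2306 : Q := act 6 n1141
theorem D2306 : act 6 n1141 = n2306 := rfl
theorem F4126 : act 4 n2306 = n1143 := d19_1 D2306 (iv D1143) D1141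
def n2307 : Q := act 6 n1142
theorem D2307 : act 6 n1142 = n2307 := rfl
theorem F4128 : act 5 n2307 = n2306 := d21_2 D1142 D2307 (iv D2306) (iv D1141)
def n2308 : Q := act 3 n1143
theorem D2308 : act 3 n1143 = n2308 := rfl
theorem F4130 : act 6 n2308 = n1145 := d17_2 D1143 D2308 (iv D1145) (iv D555) D553
def n2309 : Q := act 5 n1143
theorem D2309 : act 5 n1143 = n2309 := rfl
theorem F4133 : act 6 n2309 = n2305 := d20_2 D1143 D2309 (iv D2305) D2306 (iv F4128) (iv D2307) (iv D1142)
def n2310 : Q := act 2 n1144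
theorem D2310 : act 2 n1144 = n2310 := rfl
theorem F4134 : act 0 n2310 = n1348 := d1_1 D2310 (iv D1348) (iv F2121)
def n2311 : Q := act 5 n1144
theorem D2311 : act 5 n1144 = n2311 := rfl
theorem F4135 : act 0 n2311 = n1349 := d4_1 D2311 (iv D1349) (iv F2121)
theorem F4136 : act 3 n2311 = n1193 := d16_1 D2311 (iv D1193) (iv D576) (iv F1079) D1144
def n2312 : Q := act 6 n1144
theorem D2312 : act 6 n1144 = n2312 := rfl
theorem F4137 : act 0 n2312 = n1350 := d5_1 D2312 (iv D1350) (iv F2121)
def n2313 : Q := act 2 n1145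
theorem D2313 : act 2 n1145 = n2313 := rfl
theorem F4138 : act 0 n2313 = n1351 := d1_1 D2313 (iv D1351) (iv F2122)
def n2314 : Q := act 4 n1145
theorem D2314 : act 4 n1145 = n2314 := rfl
def n2315 : Q := act 5 n1145
theorem D2315 : act 5 n1145 = n2315 := rfl
theorem F4141 : act 6 n1393 = n2315 := d24_0 (iv D2315) (iv D1145) F1081 (iv D268) F300 (iv D68) F67 D69 F165 D73 D145 (iv F328) D317 D666 D1393
theorem F4142 : act 2 n2315 = n1395 := d14_1 F4141 (iv D1395) D1393
theorem F4143 : act 5 n1395 = n2313 := d13_2 D2315 F4142 (iv D2313)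
def n2316 : Q := act 1 n1146
theorem D2316 : act 1 n1146 = n2316 := rfl
theorem F4145 : act 6 n2316 = n1149 := d10_2 (iv F2124) D2316 (iv D1149)
def n2317 : Q := act 3 n1146
theorem D2317 : act 3 n1146 = n2317 := rfl
theorem F4146 : act 0 n2317 = n1355 := d2_1 D2317 (iv D1355) (iv F2123)
def n2318 : Q := act 4 n1146
theorem D2318 : act 4 n1146 = n2318 := rfl
theorem F4148 : act 2 n2318 = n1147 := d12_1 D2318 (iv D1147) D1146
theorem F4149 : act 6 n2318 = n1151 := d19_2 (iv F2124) D2318 (iv D1151)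
def n2319 : Q := act 5 n1146
theorem D2319 : act 5 n1146 = n2319 := rfl
def n2321 : Q := act 5 n1149
theorem D2321 : act 5 n1149 = n2321 := rfl
theorem F4153 : act 1 n2321 = n1152 := d9_1 D2321 (iv D1152) D1149
theorem F4154 : act 2 n2321 = n2099 := d13_1 D2321 (iv D2099) (iv F2130)
def n2322 : Q := act 2 n1150
theorem D2322 : act 2 n1150 = n2322 := rfl
theorem F4155 : act 0 n2322 = n1362 := d1_1 D2322 (iv D1362) (iv F2131)
theorem F4156 : act 3 n2322 = n1499 := d23_1 D2322 (iv D1499) (iv D714) (iv D337) (iv D163) F185 D151 D311 D652 (iv F2131)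
def n2327 : Q := act 5 n1151
theorem D2327 : act 5 n1151 = n2327 := rfl
theorem F4164 : act 6 n2327 = n2319 := d21_1 D2327 (iv D2319) F2124 D1151
def n2329 : Q := act 6 n1152
theorem D2329 : act 6 n1152 = n2329 := rfl
theorem F4167 : act 2 n2329 = n1154 := d14_1 D2329 (iv D1154) (iv F2135)
theorem F4169 : act 5 n2329 = n2318 := d20_1 D2329 F4149 D2327 F4164 (iv D2319) F2124 D1152
theorem F4170 : act 3 n2319 = n2329 := d24_2 (iv F2124) D2319 F4167 (iv D1154) (iv D559) (iv D269) (iv F334) (iv D157) (iv D78) (iv F85) (iv F91) D89 (iv F303) D269 D557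
def n2336 : Q := act 4 n1157
theorem D2336 : act 4 n1157 = n2336 := rfl
theorem F4177 : act 0 n2336 = n1381 := d3_1 D2336 (iv D1381) (iv F2147)
theorem F4178 : act 2 n2336 = n1158 := d12_1 D2336 (iv D1158) D1157
def n2337 : Q := act 5 n1157
theorem D2337 : act 5 n1157 = n2337 := rfl
theorem F4180 : act 2 n2337 = n1159 := d13_1 D2337 (iv D1159) D1157
def n2338 : Q := act 6 n1157
theorem D2338 : act 6 n1157 = n2338 := rfl
theorem F4182 : act 2 n2338 = n1160 := d14_1 D2338 (iv D1160) D1157
def n2341 : Q := act 6 n1158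
theorem D2341 : act 6 n1158 = n2341 := rfl
theorem F4188 : act 4 n2341 = n1160 := d19_1 D2341 (iv D1160) D1158
def n2342 : Q := act 3 n1159
theorem D2342 : act 3 n1159 = n2342 := rfl
theorem F4190 : act 5 n2342 = n1162 := d16_2 D1159 D2342 (iv D1162) (iv D563) D561
def n2345 : Q := act 2 n1161
theorem D2345 : act 2 n1161 = n2345 := rfl
theorem F4196 : act 0 n2345 = n1390 := d1_1 D2345 (iv D1390) (iv F2153)
def n2347 : Q := act 6 n1161
theorem D2347 : act 6 n1161 = n2347 := rfl
theorem F4198 : act 0 n2347 = n1392 := d5_1 D2347 (iv D1392) (iv F2153)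
theorem F4199 : act 3 n2347 = n1246 := d17_1 D2347 (iv D1246) (iv D599) (iv F1096) D1161
def n2348 : Q := act 2 n1162
theorem D2348 : act 2 n1162 = n2348 := rfl
theorem F4201 : act 6 n2348 = n1353 := d24_4 (iv F549) D563 D1162 D2348 (iv D1353) (iv D647) F615 (iv D150) F174 (iv D72) F71 (iv F171) (iv D71) D70 D138
def n2350 : Q := act 6 n1162
theorem D2350 : act 6 n1162 = n2350 := rfl
theorem F4204 : act 2 n2350 = n1353 := d14_1 D2350 (iv F4201) (iv D2348)
theorem F4205 : act 5 n1351 = n2350 := d13_0 F4204 (iv D1353) D1351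
def n2351 : Q := act 1 n1163
theorem D2351 : act 1 n1163 = n2351 := rfl
theorem F4206 : act 2 n2351 = n2123 := d6_2 D1163 D2351 (iv D2123) (iv D1039) (iv F1100)
theorem F4207 : act 5 n2351 = n1166 := d9_2 (iv F2156) D2351 (iv D1166)
def n2352 : Q := act 3 n1163
theorem D2352 : act 3 n1163 = n2352 := rfl
def n2353 : Q := act 4 n1163
theorem D2353 : act 4 n1163 = n2353 := rfl
theorem F4209 : act 0 n2353 = n1398 := d3_1 D2353 (iv D1398) (iv F2155)
theorem F4210 : act 2 n2353 = n1164 := d12_1 D2353 (iv D1164) D1163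
theorem F4211 : act 5 n2353 = n1168 := d18_2 (iv F2156) D2353 (iv D1168)
def n2354 : Q := act 6 n1163
theorem D2354 : act 6 n1163 = n2354 := rfl
theorem F4213 : act 2 n2354 = n1165 := d14_1 D2354 (iv D1165) D1163
def n2355 : Q := act 3 n1166
theorem D2355 : act 3 n1166 = n2355 := rfl
theorem F4214 : act 1 n2355 = n1167 := d7_1 D2355 (iv D1167) D1166
def n2356 : Q := act 6 n1166
theorem D2356 : act 6 n1166 = n2356 := rfl
theorem F4215 : act 1 n2356 = n1169 := d10_1 D2356 (iv D1169) D1166
theorem F4216 : act 2 n2356 = n2127 := d14_1 D2356 (iv D2127) (iv F2162)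
def n2357 : Q := act 2 n1167
theorem D2357 : act 2 n1167 = n2357 := rfl
theorem F4217 : act 0 n2357 = n1404 := d1_1 D2357 (iv D1404) (iv F2163)
theorem F4218 : act 3 n2357 = n1546 := d23_1 D2357 (iv D1546) (iv D737) (iv D347) (iv D167) F188 D155 D319 D671 (iv F2163)
def n2358 : Q := act 4 n1167
theorem D2358 : act 4 n1167 = n2358 := rfl
theorem F4219 : act 0 n2358 = n1405 := d3_1 D2358 (iv D1405) (iv F2163)
def n2359 : Q := act 5 n1167
theorem D2359 : act 5 n1167 = n2359 := rfl
theorem F4220 : act 0 n2359 = n1406 := d4_1 D2359 (iv D1406) (iv F2163)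
def n2360 : Q := act 6 n1167
theorem D2360 : act 6 n1167 = n2360 := rfl
def n2361 : Q := act 3 n1168
theorem D2361 : act 3 n1168 = n2361 := rfl
theorem F4222 : act 0 n2361 = n1408 := d2_1 D2361 (iv D1408) (iv F2164)
def n2362 : Q := act 6 n1168
theorem D2362 : act 6 n1168 = n2362 := rfl
theorem F4224 : act 2 n2362 = n1170 := d14_1 D2362 (iv D1170) (iv F2165)
theorem F4225 : act 4 n2362 = n1169 := d19_1 D2362 (iv D1169) D1168
theorem F4226 : act 5 n2362 = n2354 := d21_2 F4211 D2362 (iv D2354) D2353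
def n2363 : Q := act 3 n1169
theorem D2363 : act 3 n1169 = n2363 := rfl
theorem F4227 : act 0 n2363 = n1410 := d2_1 D2363 (iv D1410) (iv F2166)
def n2364 : Q := act 5 n1169
theorem D2364 : act 5 n1169 = n2364 := rfl
theorem F4228 : act 0 n2364 = n1411 := d4_1 D2364 (iv D1411) (iv F2166)
theorem F4229 : act 2 n2364 = n1171 := d13_1 D2364 (iv D1171) (iv F2167)
theorem F4230 : act 4 n2364 = n2354 := d18_1 D2364 (iv F4226) F4225
theorem F4231 : act 6 n2364 = n2353 := d20_2 D1169 D2364 F4211 D2362 F4226 (iv D2354) F2156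
theorem F4232 : act 3 n2364 = n2354 := d24_2 D1169 D2364 F4213 (iv D1165) F1101 (iv D273) (iv F340) F342 (iv D84) F85 F76 D67 D133 D273 D565
def n2365 : Q := act 2 n1172
theorem D2365 : act 2 n1172 = n2365 := rfl
theorem F4233 : act 0 n2365 = n1174 := d1_1 D2365 (iv D1174) (iv F2176)
def n2366 : Q := act 4 n1172
theorem D2366 : act 4 n1172 = n2366 := rfl
theorem F4234 : act 0 n2366 = n1175 := d3_1 D2366 (iv D1175) (iv F2176)
theorem F4236 : act 3 n2366 = n1275 := d15_1 D2366 (iv D1275) (iv D614) F1111 D1172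
def n2367 : Q := act 5 n1172
theorem D2367 : act 5 n1172 = n2367 := rfl
theorem F4237 : act 0 n2367 = n1176 := d4_1 D2367 (iv D1176) (iv F2176)
def n2368 : Q := act 6 n1172
theorem D2368 : act 6 n1172 = n2368 := rfl
theorem F4239 : act 0 n2368 = n1177 := d5_1 D2368 (iv D1177) (iv F2176)
def n2369 : Q := act 3 n1173
theorem D2369 : act 3 n1173 = n2369 := rfl
theorem F4241 : act 0 n2369 = n1180 := d2_1 D2369 (iv D1180) (iv F2178)
theorem F4242 : act 1 n2369 = n1293 := d7_1 D2369 (iv D1293) (iv F2179)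
def n2370 : Q := act 1 n1174
theorem D2370 : act 1 n1174 = n2370 := rfl
theorem F4243 : act 2 n2370 = n1182 := d6_2 D1174 D2370 (iv D1182) (iv D572) (iv F1112)
def n2371 : Q := act 3 n1174
theorem D2371 : act 3 n1174 = n2371 := rfl
def n2372 : Q := act 4 n1174
theorem D2372 : act 4 n1174 = n2372 := rfl
theorem F4244 : act 2 n2372 = n1175 := d12_1 D2372 (iv D1175) D1174
def n2373 : Q := act 5 n1174
theorem D2373 : act 5 n1174 = n2373 := rfl
theorem F4245 : act 2 n2373 = n1176 := d13_1 D2373 (iv D1176) D1174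
def n2374 : Q := act 6 n1174
theorem D2374 : act 6 n1174 = n2374 := rfl
theorem F4246 : act 2 n2374 = n1177 := d14_1 D2374 (iv D1177) D1174
def n2375 : Q := act 3 n1175
theorem D2375 : act 3 n1175 = n2375 := rfl
theorem F4247 : act 0 n2375 = n1275 := d2_1 D2375 (iv F4236) F4234
theorem F4248 : act 1 n2375 = n1186 := d7_1 D2375 (iv D1186) (iv F2183)
theorem F4249 : act 4 n2375 = n1178 := d15_2 D1175 D2375 (iv D1178) (iv D570) D569
def n2376 : Q := act 5 n1175
theorem D2376 : act 5 n1175 = n2376 := rfl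
theorem F4250 : act 1 n2376 = n1187 := d9_1 D2376 (iv D1187) (iv F2183)
theorem F4251 : act 4 n2376 = n1176 := d18_1 D2376 (iv D1176) D1175
def n2377 : Q := act 6 n1175
theorem D2377 : act 6 n1175 = n2377 := rfl
theorem F4252 : act 1 n2377 = n1188 := d10_1 D2377 (iv D1188) (iv F2183)
theorem F4253 : act 4 n2377 = n1177 := d19_1 D2377 (iv D1177) D1175
def n2378 : Q := act 6 n1176
theorem D2378 : act 6 n1176 = n2378 := rfl
theorem F4254 : act 1 n2378 = n1189 := d10_1 D2378 (iv D1189) (iv F2184)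
theorem F4255 : act 5 n2378 = n2377 := d21_2 D1176 D2378 (iv D2377) (iv D1175)
def n2379 : Q := act 3 n1177
theorem D2379 : act 3 n1177 = n2379 := rfl
theorem F4256 : act 1 n2379 = n1190 := d7_1 D2379 (iv D1190) (iv F2185)
def n2380 : Q := act 5 n1177
theorem D2380 : act 5 n1177 = n2380 := rfl
theorem F4258 : act 1 n2380 = n1191 := d9_1 D2380 (iv D1191) (iv F2185)
theorem F4259 : act 4 n2380 = n2378 := d18_1 D2380 F4255 F4253
theorem F4260 : act 6 n2380 = n2376 := d20_2 D1177 D2380 (iv D2376) D2377 (iv F4255) (iv D2378) (iv D1176)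
def n2381 : Q := act 2 n1178
theorem D2381 : act 2 n1178 = n2381 := rfl
theorem F4261 : act 0 n2381 = n1274 := d1_1 D2381 (iv D1274) (iv F2186)
def n2382 : Q := act 5 n1178
theorem D2382 : act 5 n1178 = n2382 := rfl
theorem F4262 : act 0 n2382 = n1276 := d4_1 D2382 (iv D1276) (iv F2186)
theorem F4263 : act 1 n2382 = n1193 := d9_1 D2382 (iv D1193) (iv F2187)
def n2383 : Q := act 6 n1178
theorem D2383 : act 6 n1178 = n2383 := rfl
theorem F4264 : act 0 n2383 = n1277 := d5_1 D2383 (iv D1277) (iv F2186)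
theorem F4265 : act 1 n2383 = n1194 := d10_1 D2383 (iv D1194) (iv F2187)
def n2385 : Q := act 2 n1180
theorem D2385 : act 2 n1180 = n2385 := rfl
def n2386 : Q := act 4 n1180
theorem D2386 : act 4 n1180 = n2386 := rfl
theorem F4268 : act 1 n2386 = n1197 := d8_1 D2386 (iv D1197) (iv F2193)
def n2387 : Q := act 5 n1180
theorem D2387 : act 5 n1180 = n2387 := rfl
theorem F4269 : act 1 n2387 = n1198 := d9_1 D2387 (iv D1198) (iv F2193)
def n2389 : Q := act 0 n1182
theorem D2389 : act 0 n1182 = n2389 := rfl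
def n2390 : Q := act 4 n1182
theorem D2390 : act 4 n1182 = n2390 := rfl
theorem F4272 : act 1 n2390 = n1183 := d8_1 D2390 (iv D1183) D1182
def n2391 : Q := act 5 n1182
theorem D2391 : act 5 n1182 = n2391 := rfl
theorem F4273 : act 1 n2391 = n1184 := d9_1 D2391 (iv D1184) D1182
def n2392 : Q := act 6 n1182
theorem D2392 : act 6 n1182 = n2392 := rfl
theorem F4274 : act 1 n2392 = n1185 := d10_1 D2392 (iv D1185) D1182
def n2393 : Q := act 3 n1183
theorem D2393 : act 3 n1183 = n2393 := rfl
def n2394 : Q := act 5 n1183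
theorem D2394 : act 5 n1183 = n2394 := rfl
theorem F4275 : act 2 n2394 = n1187 := d13_1 D2394 (iv D1187) (iv F2199)
theorem F4276 : act 4 n2394 = n1184 := d18_1 D2394 (iv D1184) D1183
def n2395 : Q := act 6 n1183
theorem D2395 : act 6 n1183 = n2395 := rfl
theorem F4277 : act 2 n2395 = n1188 := d14_1 D2395 (iv D1188) (iv F2199)
theorem F4278 : act 4 n2395 = n1185 := d19_1 D2395 (iv D1185) D1183
def n2396 : Q := act 3 n1184
theorem D2396 : act 3 n1184 = n2396 := rfl
def n2397 : Q := act 6 n1184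
theorem D2397 : act 6 n1184 = n2397 := rfl
theorem F4279 : act 2 n2397 = n1189 := d14_1 D2397 (iv D1189) (iv F2200)
theorem F4280 : act 5 n2397 = n2395 := d21_2 D1184 D2397 (iv D2395) (iv D1183)
def n2398 : Q := act 3 n1185
theorem D2398 : act 3 n1185 = n2398 := rfl
def n2399 : Q := act 5 n1185
theorem D2399 : act 5 n1185 = n2399 := rfl
theorem F4281 : act 2 n2399 = n1191 := d13_1 D2399 (iv D1191) (iv F2201)
theorem F4282 : act 4 n2399 = n2397 := d18_1 D2399 F4280 F4278
theorem F4283 : act 6 n2399 = n2394 := d20_2 D1185 D2399 (iv D2394) D2395 (iv F4280) (iv D2397) (iv D1184)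
def n2400 : Q := act 2 n1186
theorem D2400 : act 2 n1186 = n2400 := rfl
theorem F4284 : act 4 n2400 = n1192 := d12_2 (iv F2202) D2400 (iv D1192)
theorem F4285 : act 1 n2389 = n2400 := d22_7 (iv F1184) (iv F2177) D2365 F4233 D2370 F4243 D2389 (iv D2400) F2202
def n2401 : Q := act 5 n1186
theorem D2401 : act 5 n1186 = n2401 := rfl
theorem F4286 : act 4 n2401 = n1193 := d18_1 D2401 (iv D1193) (iv F2202)
def n2402 : Q := act 6 n1186
theorem D2402 : act 6 n1186 = n2402 := rfl
theorem F4287 : act 4 n2402 = n1194 := d19_1 D2402 (iv D1194) (iv F2202)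
def n2403 : Q := act 3 n1187
theorem D2403 : act 3 n1187 = n2403 := rfl
def n2404 : Q := act 3 n1188
theorem D2404 : act 3 n1188 = n2404 := rfl
def n2405 : Q := act 3 n1189
theorem D2405 : act 3 n1189 = n2405 := rfl
def n2406 : Q := act 2 n1190
theorem D2406 : act 2 n1190 = n2406 := rfl
theorem F4288 : act 6 n2406 = n1196 := d14_2 (iv F2206) D2406 (iv D1196)
def n2407 : Q := act 4 n1190
theorem D2407 : act 4 n1190 = n2407 := rfl
theorem F4289 : act 6 n2407 = n1197 := d19_2 (iv F2206) D2407 (iv D1197)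
def n2408 : Q := act 5 n1190
theorem D2408 : act 5 n1190 = n2408 := rfl
def n2409 : Q := act 3 n1191
theorem D2409 : act 3 n1191 = n2409 := rfl
def n2410 : Q := act 1 n1192
theorem D2410 : act 1 n1192 = n2410 := rfl
theorem F4290 : act 4 n2410 = n2389 := d8_2 F4284 D2410 F4285
theorem F4291 : act 0 n2390 = n2410 := d22_0 (iv D2410) (iv D1192) (iv F1184) (iv F2177) D2365 F4233 D2370 F4243 D2390
def n2411 : Q := act 3 n1192
theorem D2411 : act 3 n1192 = n2411 := rfl
theorem F4292 : act 2 n2411 = n2411 := d23_2 D1192 D2411 (iv D2411) (iv D1192) (iv D576) F558 (iv F320) (iv F592) D620 F1184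
def n2412 : Q := act 5 n1192
theorem D2412 : act 5 n1192 = n2412 := rfl
theorem F4293 : act 2 n2412 = n1193 := d13_1 D2412 (iv D1193) D1192
def n2413 : Q := act 6 n1192
theorem D2413 : act 6 n1192 = n2413 := rfl
theorem F4294 : act 2 n2413 = n1194 := d14_1 D2413 (iv D1194) D1192
def n2414 : Q := act 6 n1193
theorem D2414 : act 6 n1193 = n2414 := rfl
theorem F4295 : act 5 n2414 = n2402 := d21_2 D1193 D2414 (iv D2402) F2202
def n2415 : Q := act 3 n1194
theorem D2415 : act 3 n1194 = n2415 := rfl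
theorem F4296 : act 6 n2415 = n1195 := d17_2 D1194 D2415 (iv D1195) (iv D577) D576
def n2416 : Q := act 5 n1194
theorem D2416 : act 5 n1194 = n2416 := rfl
theorem F4298 : act 6 n2416 = n2401 := d20_2 D1194 D2416 (iv D2401) D2402 (iv F4295) (iv D2414) (iv D1193)
def n2417 : Q := act 2 n1195
theorem D2417 : act 2 n1195 = n2417 := rfl
def n2418 : Q := act 4 n1195
theorem D2418 : act 4 n1195 = n2418 := rfl
def n2419 : Q := act 5 n1195
theorem D2419 : act 5 n1195 = n2419 := rfl
theorem F4300 : act 3 n2419 = n2315 := d16_1 D2419 (iv D2315) (iv D1145) (iv F1120) D1195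
def n2420 : Q := act 1 n1196
theorem D2420 : act 1 n1196 = n2420 := rfl
def n2421 : Q := act 3 n1196
theorem D2421 : act 3 n1196 = n2421 := rfl
def n2422 : Q := act 4 n1196
theorem D2422 : act 4 n1196 = n2422 := rfl
theorem F4301 : act 2 n2422 = n1197 := d12_1 D2422 (iv D1197) D1196
def n2423 : Q := act 5 n1196
theorem D2423 : act 5 n1196 = n2423 := rfl
theorem F4302 : act 0 n2423 = n1534 := d4_1 D2423 (iv F2677) F2350
theorem F4303 : act 2 n2423 = n1198 := d13_1 D2423 (iv D1198) D1196
theorem F4304 : act 6 n1445 = n2423 := d5_0 F4302 (iv D1534) (iv F2559)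
def n2424 : Q := act 5 n1197
theorem D2424 : act 5 n1197 = n2424 := rfl
theorem F4305 : act 4 n2424 = n1198 := d18_1 D2424 (iv D1198) D1197
theorem F4306 : act 6 n2424 = n2408 := d21_1 D2424 (iv D2408) F2206 D1197
def n2425 : Q := act 3 n1198
theorem D2425 : act 3 n1198 = n2425 := rfl
def n2426 : Q := act 6 n1198
theorem D2426 : act 6 n1198 = n2426 := rfl
theorem F4308 : act 0 n2426 = n1532 := d5_1 D2426 F2675 F2352
theorem F4309 : act 2 n2426 = n1445 := d14_1 D2426 F4304 F4303
theorem F4310 : act 4 n2426 = n2408 := d19_1 D2426 (iv F4306) F4305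
theorem F4311 : act 5 n2426 = n2407 := d20_1 D2426 F4289 D2424 F4306 (iv D2408) F2206 D1198
def n2427 : Q := act 2 n1199
theorem D2427 : act 2 n1199 = n2427 := rfl
def n2429 : Q := act 6 n1199
theorem D2429 : act 6 n1199 = n2429 := rfl
def n2430 : Q := act 1 n1200
theorem D2430 : act 1 n1200 = n2430 := rfl
theorem F4314 : act 2 n2430 = n2173 := d6_2 D1200 D2430 (iv D2173) (iv D1072) (iv F1124)
def n2432 : Q := act 4 n1200
theorem D2432 : act 4 n1200 = n2432 := rfl
theorem F4315 : act 2 n2432 = n1201 := d12_1 D2432 (iv D1201) D1200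
def n2436 : Q := act 0 n1203
theorem D2436 : act 0 n1203 = n2436 := rfl
theorem F4324 : act 2 n2436 = n2179 := d1_2 (iv F2213) D2436 (iv D2179)
theorem F4325 : act 6 n2436 = n1210 := d5_2 (iv F2214) D2436 (iv D1210)
theorem F4326 : act 1 n2436 = n1269 := d22_4 F1015 D1075 (iv F2213) D2436 F2303 F1169 F1126 F1711 (iv F1712)
theorem F4327 : act 4 n1263 = n2436 := d22_9 (iv D2436) (iv D1203) (iv D581) (iv F587) F588 (iv F1067) F1066 (iv F2097) (iv F2295)
def n2438 : Q := act 4 n1203
theorem D2438 : act 4 n1203 = n2438 := rfl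
theorem F4330 : act 1 n2438 = n1205 := d8_1 D2438 (iv D1205) D1203
theorem F4332 : act 6 n2438 = n1212 := d19_2 (iv F2214) D2438 (iv D1212)
theorem F4333 : act 5 n2438 = n1924 := d21_0 F3317 (iv D1213) (iv F2214) D2438
def n2439 : Q := act 5 n1203
theorem D2439 : act 5 n1203 = n2439 := rfl
theorem F4334 : act 1 n2439 = n1206 := d9_1 D2439 (iv D1206) D1203
theorem F4335 : act 2 n2439 = n1925 := d13_1 D2439 F3319 (iv F2213)
theorem F4336 : act 4 n2439 = n1924 := d18_1 D2439 (iv F4333) (iv D2438)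
def n2441 : Q := act 4 n1204
theorem D2441 : act 4 n1204 = n2441 := rfl
def n2442 : Q := act 5 n1204
theorem D2442 : act 5 n1204 = n2442 := rfl
theorem F4337 : act 3 n2442 = n1490 := d16_1 D2442 (iv F2644) (iv F2645) (iv D1206) D1204
def n2444 : Q := act 3 n1205
theorem D2444 : act 3 n1205 = n2444 := rfl
def n2451 : Q := act 3 n1210
theorem D2451 : act 3 n1210 = n2451 := rfl
theorem F4348 : act 0 n2451 = n1211 := d2_1 D2451 (iv D1211) D1210
theorem F4349 : act 1 n2451 = n1268 := d7_1 D2451 (iv D1268) (iv F2223)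
def n2453 : Q := act 2 n1211
theorem D2453 : act 2 n1211 = n2453 := rfl
def n2457 : Q := act 3 n1212
theorem D2457 : act 3 n1212 = n2457 := rfl
theorem F4357 : act 0 n2457 = n1262 := d2_1 D2457 (iv D1262) (iv F2226)
theorem F4358 : act 1 n2457 = n1218 := d7_1 D2457 (iv D1218) (iv F2227)
def n2458 : Q := act 5 n1212
theorem D2458 : act 5 n1212 = n2458 := rfl
theorem F4361 : act 2 n2458 = n2196 := d13_1 D2458 (iv D2196) (iv F2228)
theorem F4363 : act 6 n2458 = n2439 := d20_2 F4332 D2458 (iv D2439) F2214 D1213 (iv F3317) (iv F4333)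
def n2460 : Q := act 1 n1214
theorem D2460 : act 1 n1214 = n2460 := rfl
def n2464 : Q := act 3 n1215
theorem D2464 : act 3 n1215 = n2464 := rfl
theorem F4368 : act 4 n2464 = n1218 := d15_2 D1215 D2464 (iv D1218) (iv D587) D586
def n2470 : Q := act 2 n1218
theorem D2470 : act 2 n1218 = n2470 := rfl
def n2471 : Q := act 5 n1218
theorem D2471 : act 5 n1218 = n2471 := rfl
def n2472 : Q := act 6 n1218
theorem D2472 : act 6 n1218 = n2472 := rfl
def n2473 : Q := act 3 n1219
theorem D2473 : act 3 n1219 = n2473 := rfl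
theorem F4375 : act 6 n2473 = n1505 := d17_2 (iv F2233) D2473 (iv D1505) D1506 (iv F2645)
def n2477 : Q := act 3 n1221
theorem D2477 : act 3 n1221 = n2477 := rfl
theorem F4377 : act 5 n1455 = n2477 := d24_1 D1455 (iv D2477) F2234 (iv D590) (iv D283) (iv D137) F164 (iv D69) (iv D30) D29 (iv F76) D79 D159 D329 D693
theorem F4378 : act 2 n2477 = n1457 := d13_1 F4377 (iv D1457) (iv F2581)
def n2480 : Q := act 2 n1223
theorem D2480 : act 2 n1223 = n2480 := rfl
theorem F4385 : act 6 n2480 = n1328 := d14_2 (iv F2240) D2480 (iv D1328)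
def n2482 : Q := act 5 n1223
theorem D2482 : act 5 n1223 = n2482 := rfl
def n2483 : Q := act 2 n1224
theorem D2483 : act 2 n1224 = n2483 := rfl
theorem F4394 : act 0 n2483 = n1226 := d1_1 D2483 (iv D1226) (iv F2241)
def n2484 : Q := act 4 n1224
theorem D2484 : act 4 n1224 = n2484 := rfl
theorem F4395 : act 0 n2484 = n1227 := d3_1 D2484 (iv D1227) (iv F2241)
theorem F4397 : act 3 n2484 = n1303 := d15_1 D2484 (iv D1303) (iv D626) F1141 D1224
def n2486 : Q := act 6 n1224
theorem D2486 : act 6 n1224 = n2486 := rfl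
theorem F4401 : act 1 n2486 = n1320 := d10_1 D2486 (iv D1320) (iv F2242)
def n2487 : Q := act 3 n1225
theorem D2487 : act 3 n1225 = n2487 := rfl
theorem F4402 : act 0 n2487 = n1232 := d2_1 D2487 (iv D1232) (iv F2243)
theorem F4403 : act 1 n2487 = n1321 := d7_1 D2487 (iv D1321) (iv F2244)
def n2488 : Q := act 1 n1226
theorem D2488 : act 1 n1226 = n2488 := rfl
theorem F4404 : act 2 n2488 = n1234 := d6_2 D1226 D2488 (iv D1234) (iv D595) (iv F1142)
def n2489 : Q := act 3 n1226
theorem D2489 : act 3 n1226 = n2489 := rfl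
def n2490 : Q := act 4 n1226
theorem D2490 : act 4 n1226 = n2490 := rfl
def n2491 : Q := act 5 n1226
theorem D2491 : act 5 n1226 = n2491 := rfl
def n2492 : Q := act 6 n1226
theorem D2492 : act 6 n1226 = n2492 := rfl
def n2493 : Q := act 3 n1227
theorem D2493 : act 3 n1227 = n2493 := rfl
theorem F4408 : act 0 n2493 = n1303 := d2_1 D2493 (iv F4397) F4395
theorem F4410 : act 4 n2493 = n1230 := d15_2 D1227 D2493 (iv D1230) (iv D593) D592
def n2499 : Q := act 2 n1230
theorem D2499 : act 2 n1230 = n2499 := rfl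
theorem F4422 : act 0 n2499 = n1302 := d1_1 D2499 (iv D1302) (iv F2251)
def n2503 : Q := act 2 n1232
theorem D2503 : act 2 n1232 = n2503 := rfl
def n2507 : Q := act 0 n1234
theorem D2507 : act 0 n1234 = n2507 := rfl
def n2508 : Q := act 4 n1234
theorem D2508 : act 4 n1234 = n2508 := rfl
theorem F4433 : act 1 n2508 = n1235 := d8_1 D2508 (iv D1235) D1234
def n2509 : Q := act 5 n1234
theorem D2509 : act 5 n1234 = n2509 := rfl
theorem F4434 : act 1 n2509 = n1236 := d9_1 D2509 (iv D1236) D1234
def n2510 : Q := act 6 n1234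
theorem D2510 : act 6 n1234 = n2510 := rfl
theorem F4435 : act 1 n2510 = n1237 := d10_1 D2510 (iv D1237) D1234
def n2511 : Q := act 3 n1235
theorem D2511 : act 3 n1235 = n2511 := rfl
def n2512 : Q := act 5 n1235
theorem D2512 : act 5 n1235 = n2512 := rfl
theorem F4436 : act 2 n2512 = n1239 := d13_1 D2512 (iv D1239) (iv F2264)
theorem F4437 : act 4 n2512 = n1236 := d18_1 D2512 (iv D1236) D1235
def n2513 : Q := act 6 n1235
theorem D2513 : act 6 n1235 = n2513 := rfl
theorem F4438 : act 2 n2513 = n1240 := d14_1 D2513 (iv D1240) (iv F2264)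
theorem F4439 : act 4 n2513 = n1237 := d19_1 D2513 (iv D1237) D1235
def n2515 : Q := act 6 n1236
theorem D2515 : act 6 n1236 = n2515 := rfl
theorem F4441 : act 5 n2515 = n2513 := d21_2 D1236 D2515 (iv D2513) (iv D1235)
def n2516 : Q := act 3 n1237
theorem D2516 : act 3 n1237 = n2516 := rfl
def n2517 : Q := act 5 n1237
theorem D2517 : act 5 n1237 = n2517 := rfl
theorem F4444 : act 6 n2517 = n2512 := d20_2 D1237 D2517 (iv D2512) D2513 (iv F4441) (iv D2515) (iv D1236)
def n2518 : Q := act 2 n1238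
theorem D2518 : act 2 n1238 = n2518 := rfl
theorem F4445 : act 4 n2518 = n1244 := d12_2 (iv F2267) D2518 (iv D1244)
theorem F4446 : act 1 n2507 = n2518 := d22_7 (iv F1204) (iv F2242) D2483 F4394 D2488 F4404 D2507 (iv D2518) F2267
def n2520 : Q := act 6 n1238
theorem D2520 : act 6 n1238 = n2520 := rfl
def n2521 : Q := act 3 n1239
theorem D2521 : act 3 n1239 = n2521 := rfl
def n2522 : Q := act 3 n1240
theorem D2522 : act 3 n1240 = n2522 := rfl
def n2523 : Q := act 2 n1241
theorem D2523 : act 2 n1241 = n2523 := rfl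
theorem F4449 : act 5 n2523 = n1248 := d13_2 (iv F2270) D2523 (iv D1248)
def n2524 : Q := act 4 n1241
theorem D2524 : act 4 n1241 = n2524 := rfl
theorem F4450 : act 5 n2524 = n1249 := d18_2 (iv F2270) D2524 (iv D1249)
def n2525 : Q := act 6 n1241
theorem D2525 : act 6 n1241 = n2525 := rfl
def n2528 : Q := act 1 n1244
theorem D2528 : act 1 n1244 = n2528 := rfl
theorem F4451 : act 4 n2528 = n2507 := d8_2 F4445 D2528 F4446
theorem F4452 : act 0 n2508 = n2528 := d22_0 (iv D2528) (iv D1244) (iv F1204) (iv F2242) D2483 F4394 D2488 F4404 D2508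
def n2529 : Q := act 3 n1244
theorem D2529 : act 3 n1244 = n2529 := rfl
theorem F4453 : act 2 n2529 = n2529 := d23_2 D1244 D2529 (iv D2529) (iv D1244) (iv D599) F572 (iv F324) (iv F603) D632 F1204
def n2530 : Q := act 5 n1244
theorem D2530 : act 5 n1244 = n2530 := rfl
theorem F4454 : act 2 n2530 = n1245 := d13_1 D2530 (iv D1245) D1244
def n2531 : Q := act 6 n1244
theorem D2531 : act 6 n1244 = n2531 := rfl
theorem F4455 : act 2 n2531 = n1246 := d14_1 D2531 (iv D1246) D1244
def n2532 : Q := act 3 n1245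
theorem D2532 : act 3 n1245 = n2532 := rfl
def n2535 : Q := act 2 n1247
theorem D2535 : act 2 n1247 = n2535 := rfl
def n2536 : Q := act 4 n1247
theorem D2536 : act 4 n1247 = n2536 := rfl
theorem F4460 : act 3 n2536 = n1249 := d15_1 D2536 (iv D1249) (iv D601) (iv F1149) D1247
def n2538 : Q := act 1 n1248
theorem D2538 : act 1 n1248 = n2538 := rfl
def n2539 : Q := act 3 n1248
theorem D2539 : act 3 n1248 = n2539 := rfl
def n2540 : Q := act 4 n1248
theorem D2540 : act 4 n1248 = n2540 := rfl
def n2541 : Q := act 6 n1248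
theorem D2541 : act 6 n1248 = n2541 := rfl
theorem F4464 : act 2 n2541 = n1250 := d14_1 D2541 (iv D1250) D1248
theorem F4465 : act 5 n2541 = n1423 := d24_1 D2541 (iv D1423) F1256 (iv D324) (iv F346) (iv D168) (iv F202) (iv F310) (iv D133) D132 D270 F549 D287 D601 D1248
def n2542 : Q := act 6 n1249
theorem D2542 : act 6 n1249 = n2542 := rfl
theorem F4467 : act 5 n2542 = n2525 := d21_2 F4450 D2542 (iv D2525) D2524
def n2544 : Q := act 5 n1250
theorem D2544 : act 5 n1250 = n2544 := rfl
theorem F4469 : act 0 n2544 = n1481 := d4_1 D2544 (iv F2619) F2395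
theorem F4470 : act 2 n2544 = n1423 := d13_1 D2544 (iv F4465) F4464
theorem F4472 : act 6 n2544 = n2524 := d20_2 D1250 D2544 F4450 D2542 F4467 (iv D2525) F2270
def n2545 : Q := act 2 n1251
theorem D2545 : act 2 n1251 = n2545 := rfl
def n2547 : Q := act 5 n1251
theorem D2547 : act 5 n1251 = n2547 := rfl
theorem F4475 : act 6 n2427 = n2547 := d24_0 (iv D2547) (iv D1251) F1151 (iv D290) (iv D140) (iv D70) F69 (iv D31) D30 D68 D134 D277 D579 D1199 D2427
theorem F4476 : act 2 n2547 = n2429 := d14_1 F4475 (iv D2429) D2427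
theorem F4477 : act 5 n2429 = n2545 := d13_2 D2547 F4476 (iv D2545)
def n2551 : Q := act 6 n1252
theorem D2551 : act 6 n1252 = n2551 := rfl
theorem F4482 : act 2 n2551 = n1254 := d14_1 D2551 (iv D1254) D1252
def n2554 : Q := act 6 n1255
theorem D2554 : act 6 n1255 = n2554 := rfl
theorem F4489 : act 1 n2554 = n1258 := d10_1 D2554 (iv D1258) D1255
theorem F4490 : act 2 n2554 = n2276 := d14_1 D2554 (iv D2276) (iv F2280)
theorem F4491 : act 5 n2554 = n2436 := d21_2 (iv F2281) D2554 F4325 (iv F2224)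
def n2556 : Q := act 4 n1256
theorem D2556 : act 4 n1256 = n2556 := rfl
def n2558 : Q := act 6 n1256
theorem D2558 : act 6 n1256 = n2558 := rfl
theorem F4497 : act 3 n2558 = n1540 := d17_1 D2558 (iv F2697) F2698 (iv D1258) D1256
def n2559 : Q := act 3 n1257
theorem D2559 : act 3 n1257 = n2559 := rfl
def n2560 : Q := act 2 n1259
theorem D2560 : act 2 n1259 = n2560 := rfl
theorem F4499 : act 0 n2560 = n2480 := d1_1 D2560 (iv D2480) (iv F2288)
theorem F4500 : act 6 n2560 = n1260 := d14_2 (iv F2290) D2560 (iv D1260)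
def n2562 : Q := act 5 n1259
theorem D2562 : act 5 n1259 = n2562 := rfl
def n2563 : Q := act 1 n1260
theorem D2563 : act 1 n1260 = n2563 := rfl
theorem F4510 : act 2 n2563 = n1261 := d6_2 D1260 D2563 (iv F2403) (iv D1127) (iv F1162)
theorem F4511 : act 4 n1260 = n2563 := d12_0 F4510 (iv D1261) D1260
def n2564 : Q := act 3 n1260
theorem D2564 : act 3 n1260 = n2564 := rfl
def n2565 : Q := act 2 n1262
theorem D2565 : act 2 n1262 = n2565 := rfl
def n2569 : Q := act 3 n1263
theorem D2569 : act 3 n1263 = n2569 := rfl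
def n2570 : Q := act 5 n1263
theorem D2570 : act 5 n1263 = n2570 := rfl
theorem F4517 : act 1 n2570 = n1271 := d9_1 D2570 (iv D1271) (iv F2294)
theorem F4518 : act 2 n2570 = n1913 := d13_1 D2570 F3297 (iv F2295)
theorem F4519 : act 4 n2570 = n2554 := d18_1 D2570 F4491 (iv F4327)
def n2571 : Q := act 1 n1264
theorem D2571 : act 1 n1264 = n2571 := rfl
theorem F4521 : act 3 n2571 = n2460 := d7_2 (iv F2297) D2571 (iv D2460)
def n2575 : Q := act 3 n1265
theorem D2575 : act 3 n1265 = n2575 := rfl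
theorem F4529 : act 4 n2575 = n1268 := d15_2 D1265 D2575 (iv D1268) (iv D610) D609
def n2581 : Q := act 2 n1268
theorem D2581 : act 2 n1268 = n2581 := rfl
def n2584 : Q := act 3 n1269
theorem D2584 : act 3 n1269 = n2584 := rfl
theorem F4545 : act 5 n2584 = n1552 := d16_2 (iv F2305) D2584 (iv D1552) D1553 F2698
def n2585 : Q := act 2 n1270
theorem D2585 : act 2 n1270 = n2585 := rfl
def n2586 : Q := act 4 n1270
theorem D2586 : act 4 n1270 = n2586 := rfl
def n2587 : Q := act 5 n1270
theorem D2587 : act 5 n1270 = n2587 := rfl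
def n2588 : Q := act 3 n1271
theorem D2588 : act 3 n1271 = n2588 := rfl
theorem F4550 : act 2 n2588 = n1435 := d24_3 D611 D1271 D2588 (iv D1435) (iv D685) (iv D325) F334 (iv D131) (iv D66) (iv D29) F31 D31 D71 D141 D291
theorem F4551 : act 6 n1433 = n2588 := d14_0 F4550 (iv D1435) (iv F2532)
def n2589 : Q := act 2 n1272
theorem D2589 : act 2 n1272 = n2589 := rfl
theorem F4552 : act 0 n2589 = n2432 := d1_1 D2589 F4315 (iv F2311)
def n2590 : Q := act 2 n1273
theorem D2590 : act 2 n1273 = n2590 := rfl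
def n2593 : Q := act 1 n1274
theorem D2593 : act 1 n1274 = n2593 := rfl
theorem F4567 : act 2 n2593 = n1280 := d6_2 D1274 D2593 (iv D1280) (iv D616) (iv F1177)
def n2594 : Q := act 3 n1274
theorem D2594 : act 3 n1274 = n2594 := rfl
def n2595 : Q := act 4 n1274
theorem D2595 : act 4 n1274 = n2595 := rfl
theorem F4568 : act 2 n2595 = n1275 := d12_1 D2595 (iv D1275) D1274
def n2596 : Q := act 5 n1274
theorem D2596 : act 5 n1274 = n2596 := rfl
theorem F4569 : act 2 n2596 = n1276 := d13_1 D2596 (iv D1276) D1274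
def n2597 : Q := act 6 n1274
theorem D2597 : act 6 n1274 = n2597 := rfl
theorem F4570 : act 2 n2597 = n1277 := d14_1 D2597 (iv D1277) D1274
def n2598 : Q := act 5 n1275
theorem D2598 : act 5 n1275 = n2598 := rfl
theorem F4571 : act 1 n2598 = n1285 := d9_1 D2598 (iv D1285) (iv F2318)
theorem F4572 : act 4 n2598 = n1276 := d18_1 D2598 (iv D1276) D1275
def n2599 : Q := act 6 n1275
theorem D2599 : act 6 n1275 = n2599 := rfl
theorem F4573 : act 1 n2599 = n1286 := d10_1 D2599 (iv D1286) (iv F2318)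
theorem F4574 : act 4 n2599 = n1277 := d19_1 D2599 (iv D1277) D1275
def n2600 : Q := act 6 n1276
theorem D2600 : act 6 n1276 = n2600 := rfl
theorem F4575 : act 1 n2600 = n1287 := d10_1 D2600 (iv D1287) (iv F2319)
theorem F4576 : act 5 n2600 = n2599 := d21_2 D1276 D2600 (iv D2599) (iv D1275)
def n2601 : Q := act 3 n1277
theorem D2601 : act 3 n1277 = n2601 := rfl
theorem F4578 : act 6 n2601 = n1278 := d17_2 D1277 D2601 (iv D1278) (iv D615) D614
def n2602 : Q := act 5 n1277
theorem D2602 : act 5 n1277 = n2602 := rfl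
theorem F4579 : act 1 n2602 = n1289 := d9_1 D2602 (iv D1289) (iv F2320)
theorem F4580 : act 4 n2602 = n2600 := d18_1 D2602 F4576 F4574
theorem F4581 : act 6 n2602 = n2598 := d20_2 D1277 D2602 (iv D2598) D2599 (iv F4576) (iv D2600) (iv D1276)
def n2603 : Q := act 2 n1278
theorem D2603 : act 2 n1278 = n2603 := rfl
def n2605 : Q := act 5 n1278
theorem D2605 : act 5 n1278 = n2605 := rfl
theorem F4583 : act 1 n2605 = n1296 := d9_1 D2605 (iv D1296) (iv F2321)
def n2606 : Q := act 3 n1279
theorem D2606 : act 3 n1279 = n2606 := rfl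
theorem F4585 : act 1 n2606 = n1297 := d7_1 D2606 (iv D1297) (iv F2323)
def n2607 : Q := act 0 n1280
theorem D2607 : act 0 n1280 = n2607 := rfl
theorem F4586 : act 3 n2607 = n2389 := d2_2 (iv F2326) D2607 (iv D2389)
def n2608 : Q := act 4 n1280
theorem D2608 : act 4 n1280 = n2608 := rfl
theorem F4587 : act 1 n2608 = n1281 := d8_1 D2608 (iv D1281) D1280
def n2609 : Q := act 5 n1280
theorem D2609 : act 5 n1280 = n2609 := rfl
theorem F4588 : act 1 n2609 = n1282 := d9_1 D2609 (iv D1282) D1280
def n2610 : Q := act 6 n1280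
theorem D2610 : act 6 n1280 = n2610 := rfl
theorem F4589 : act 1 n2610 = n1283 := d10_1 D2610 (iv D1283) D1280
def n2611 : Q := act 3 n1281
theorem D2611 : act 3 n1281 = n2611 := rfl
theorem F4590 : act 0 n2611 = n2393 := d2_1 D2611 (iv D2393) (iv F2327)
theorem F4591 : act 4 n2611 = n2393 := d15_2 D1281 D2611 (iv D2393) (iv D1183) (iv F1180)
def n2612 : Q := act 5 n1281
theorem D2612 : act 5 n1281 = n2612 := rfl
theorem F4592 : act 0 n2612 = n2394 := d4_1 D2612 (iv D2394) (iv F2327)
theorem F4593 : act 2 n2612 = n1285 := d13_1 D2612 (iv D1285) (iv F2328)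
theorem F4594 : act 4 n2612 = n1282 := d18_1 D2612 (iv D1282) D1281
def n2613 : Q := act 6 n1281
theorem D2613 : act 6 n1281 = n2613 := rfl
theorem F4595 : act 0 n2613 = n2395 := d5_1 D2613 (iv D2395) (iv F2327)
theorem F4596 : act 2 n2613 = n1286 := d14_1 D2613 (iv D1286) (iv F2328)
theorem F4597 : act 4 n2613 = n1283 := d19_1 D2613 (iv D1283) D1281
def n2614 : Q := act 3 n1282
theorem D2614 : act 3 n1282 = n2614 := rfl
theorem F4598 : act 0 n2614 = n2396 := d2_1 D2614 (iv D2396) (iv F2329)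
theorem F4599 : act 5 n2614 = n2396 := d16_2 D1282 D2614 (iv D2396) (iv D1184) (iv F1180)
def n2615 : Q := act 6 n1282
theorem D2615 : act 6 n1282 = n2615 := rfl
theorem F4600 : act 0 n2615 = n2397 := d5_1 D2615 (iv D2397) (iv F2329)
theorem F4601 : act 2 n2615 = n1287 := d14_1 D2615 (iv D1287) (iv F2330)
theorem F4602 : act 5 n2615 = n2613 := d21_2 D1282 D2615 (iv D2613) (iv D1281)
def n2616 : Q := act 3 n1283
theorem D2616 : act 3 n1283 = n2616 := rfl
def n2617 : Q := act 5 n1283
theorem D2617 : act 5 n1283 = n2617 := rfl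
theorem F4606 : act 2 n2617 = n1289 := d13_1 D2617 (iv D1289) (iv F2332)
theorem F4607 : act 4 n2617 = n2615 := d18_1 D2617 F4602 F4597
theorem F4608 : act 6 n2617 = n2612 := d20_2 D1283 D2617 (iv D2612) D2613 (iv F4602) (iv D2615) (iv D1282)
def n2618 : Q := act 2 n1284
theorem D2618 : act 2 n1284 = n2618 := rfl
theorem F4609 : act 0 n2618 = n2400 := d1_1 D2618 (iv D2400) (iv F2333)
theorem F4610 : act 4 n2618 = n1290 := d12_2 (iv F2334) D2618 (iv D1290)
theorem F4611 : act 1 n2607 = n2618 := d22_7 F1184 (iv F2187) D2381 F4261 D2593 F4567 D2607 (iv D2618) F2334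
theorem F4612 : act 3 n2618 = n2400 := d7_2 (iv F4586) F4611 (iv F4285)
theorem F4613 : act 2 n2393 = n2393 := d23_6 D2618 F4612 (iv D2400) (iv D1186) (iv F2199) D2393 (iv D2393) F2199 D1186 (iv F2333)
theorem F4614 : act 2 n2611 = n2611 := d23_0 (iv D2611) F2328 D1284 D2618 F4612 (iv D2400) (iv D1186) (iv F2199) D2393 (iv F4590)
def n2619 : Q := act 5 n1284
theorem D2619 : act 5 n1284 = n2619 := rfl
theorem F4615 : act 0 n2619 = n2401 := d4_1 D2619 (iv D2401) (iv F2333)
theorem F4616 : act 4 n2619 = n1291 := d18_1 D2619 (iv D1291) (iv F2334)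
def n2620 : Q := act 6 n1284
theorem D2620 : act 6 n1284 = n2620 := rfl
theorem F4617 : act 0 n2620 = n2402 := d5_1 D2620 (iv D2402) (iv F2333)
theorem F4618 : act 4 n2620 = n1292 := d19_1 D2620 (iv D1292) (iv F2334)
def n2621 : Q := act 3 n1285
theorem D2621 : act 3 n1285 = n2621 := rfl
theorem F4619 : act 0 n2621 = n2403 := d2_1 D2621 (iv D2403) (iv F2335)
def n2622 : Q := act 3 n1286
theorem D2622 : act 3 n1286 = n2622 := rfl
theorem F4620 : act 0 n2622 = n2404 := d2_1 D2622 (iv D2404) (iv F2337)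
def n2623 : Q := act 3 n1287
theorem D2623 : act 3 n1287 = n2623 := rfl
theorem F4621 : act 0 n2623 = n2405 := d2_1 D2623 (iv D2405) (iv F2339)
def n2624 : Q := act 2 n1288
theorem D2624 : act 2 n1288 = n2624 := rfl
theorem F4623 : act 6 n2624 = n1294 := d14_2 (iv F2342) D2624 (iv D1294)
theorem F4624 : act 5 n1533 = n2624 := d21_0 F4623 F2677 (iv D1534) D1533
theorem F4625 : act 4 n2624 = n1525 := d21_4 F2671 D1534 (iv F2677) (iv F4623)
def n2625 : Q := act 4 n1288
theorem D2625 : act 4 n1288 = n2625 := rfl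
theorem F4628 : act 6 n2625 = n1295 := d19_2 (iv F2342) D2625 (iv D1295)
theorem F4629 : act 5 n2625 = n1532 := d21_0 F2675 (iv D1296) (iv F2342) D2625
def n2626 : Q := act 5 n1288
theorem D2626 : act 5 n1288 = n2626 := rfl
theorem F4632 : act 4 n2626 = n1532 := d18_1 D2626 (iv F4629) (iv D2625)
def n2627 : Q := act 3 n1289
theorem D2627 : act 3 n1289 = n2627 := rfl
theorem F4633 : act 0 n2627 = n2409 := d2_1 D2627 (iv D2409) (iv F2343)
def n2628 : Q := act 1 n1290
theorem D2628 : act 1 n1290 = n2628 := rfl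
theorem F4634 : act 0 n2628 = n2608 := d0_1 D2628 F4587 F2327 (iv F4272) F4291 (iv D2410) (iv F2346)
theorem F4635 : act 4 n2628 = n2607 := d8_2 F4610 D2628 F4611
def n2629 : Q := act 3 n1290
theorem D2629 : act 3 n1290 = n2629 := rfl
theorem F4636 : act 0 n2629 = n2411 := d2_1 D2629 (iv D2411) (iv F2346)
theorem F4637 : act 2 n2629 = n2629 := d11_1 D2629 (iv D2629) (iv D1290) (iv D620) F592 F320 (iv F558) D576 D1192 D2411 F4292 (iv D2411) (iv D1192) (iv D576) F558 (iv F320) (iv F592) D620 D1290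
theorem F4638 : act 4 n2629 = n2411 := d15_2 F4610 D2629 (iv D2411) (iv F4284) (iv F4612)
def n2630 : Q := act 5 n1290
theorem D2630 : act 5 n1290 = n2630 := rfl
theorem F4639 : act 0 n2630 = n2412 := d4_1 D2630 (iv D2412) (iv F2346)
theorem F4640 : act 2 n2630 = n1291 := d13_1 D2630 (iv D1291) D1290
def n2631 : Q := act 6 n1290
theorem D2631 : act 6 n1290 = n2631 := rfl
theorem F4641 : act 0 n2631 = n2413 := d5_1 D2631 (iv D2413) (iv F2346)
theorem F4642 : act 2 n2631 = n1292 := d14_1 D2631 (iv D1292) D1290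
def n2632 : Q := act 6 n1291
theorem D2632 : act 6 n1291 = n2632 := rfl
def n2633 : Q := act 3 n1292
theorem D2633 : act 3 n1292 = n2633 := rfl
theorem F4646 : act 6 n2633 = n1293 := d17_2 D1292 D2633 (iv D1293) (iv D621) D620
def n2634 : Q := act 5 n1292
theorem D2634 : act 5 n1292 = n2634 := rfl
theorem F4647 : act 0 n2634 = n2416 := d4_1 D2634 (iv D2416) (iv F2348)
def n2635 : Q := act 2 n1293
theorem D2635 : act 2 n1293 = n2635 := rfl
theorem F4650 : act 0 n2635 = n2417 := d1_1 D2635 (iv D2417) (iv F2349)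
def n2637 : Q := act 5 n1293
theorem D2637 : act 5 n1293 = n2637 := rfl
theorem F4654 : act 3 n2637 = n1353 := d16_1 D2637 (iv D1353) (iv D647) (iv F1188) D1293
def n2638 : Q := act 1 n1294
theorem D2638 : act 1 n1294 = n2638 := rfl
def n2639 : Q := act 3 n1294
theorem D2639 : act 3 n1294 = n2639 := rfl
theorem F4655 : act 0 n2639 = n2421 := d2_1 D2639 (iv D2421) (iv F2350)
def n2640 : Q := act 4 n1294
theorem D2640 : act 4 n1294 = n2640 := rfl
theorem F4656 : act 0 n2640 = n2422 := d3_1 D2640 (iv D2422) (iv F2350)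
theorem F4658 : act 6 n2640 = n1525 := d19_2 F4623 D2640 (iv F4625)
def n2641 : Q := act 5 n1295
theorem D2641 : act 5 n1295 = n2641 := rfl
theorem F4659 : act 0 n2641 = n2424 := d4_1 D2641 (iv D2424) (iv F2351)
def n2642 : Q := act 3 n1296
theorem D2642 : act 3 n1296 = n2642 := rfl
theorem F4663 : act 5 n2642 = n1297 := d16_2 D1296 D2642 (iv D1297) (iv D623) D622
def n2643 : Q := act 2 n1297
theorem D2643 : act 2 n1297 = n2643 := rfl
def n2645 : Q := act 6 n1297
theorem D2645 : act 6 n1297 = n2645 := rfl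
theorem F4667 : act 0 n2645 = n2429 := d5_1 D2645 (iv D2429) (iv F2353)
theorem F4668 : act 3 n2645 = n1350 := d17_1 D2645 (iv D1350) (iv D646) (iv F1193) D1297
def n2646 : Q := act 1 n1298
theorem D2646 : act 1 n1298 = n2646 := rfl
theorem F4669 : act 6 n2646 = n2430 := d10_2 (iv F2355) D2646 (iv D2430)
def n2652 : Q := act 1 n1302
theorem D2652 : act 1 n1302 = n2652 := rfl
theorem F4676 : act 2 n2652 = n1308 := d6_2 D1302 D2652 (iv D1308) (iv D628) (iv F1197)
def n2653 : Q := act 3 n1302
theorem D2653 : act 3 n1302 = n2653 := rfl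
def n2654 : Q := act 4 n1302
theorem D2654 : act 4 n1302 = n2654 := rfl
theorem F4677 : act 2 n2654 = n1303 := d12_1 D2654 (iv D1303) D1302
def n2655 : Q := act 5 n1302
theorem D2655 : act 5 n1302 = n2655 := rfl
def n2656 : Q := act 6 n1302
theorem D2656 : act 6 n1302 = n2656 := rfl
def n2658 : Q := act 6 n1303
theorem D2658 : act 6 n1303 = n2658 := rfl
theorem F4682 : act 1 n2658 = n1314 := d10_1 D2658 (iv D1314) (iv F2361)
def n2666 : Q := act 0 n1308
theorem D2666 : act 0 n1308 = n2666 := rfl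
theorem F4695 : act 3 n2666 = n2507 := d2_2 (iv F2369) D2666 (iv D2507)
def n2667 : Q := act 4 n1308
theorem D2667 : act 4 n1308 = n2667 := rfl
theorem F4696 : act 1 n2667 = n1309 := d8_1 D2667 (iv D1309) D1308
def n2668 : Q := act 5 n1308
theorem D2668 : act 5 n1308 = n2668 := rfl
def n2669 : Q := act 6 n1308
theorem D2669 : act 6 n1308 = n2669 := rfl
def n2670 : Q := act 3 n1309
theorem D2670 : act 3 n1309 = n2670 := rfl
theorem F4699 : act 0 n2670 = n2511 := d2_1 D2670 (iv D2511) (iv F2370)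
def n2671 : Q := act 5 n1309
theorem D2671 : act 5 n1309 = n2671 := rfl
theorem F4701 : act 0 n2671 = n2512 := d4_1 D2671 (iv D2512) (iv F2370)
theorem F4702 : act 2 n2671 = n1313 := d13_1 D2671 (iv D1313) (iv F2371)
def n2672 : Q := act 6 n1309
theorem D2672 : act 6 n1309 = n2672 := rfl
theorem F4704 : act 0 n2672 = n2513 := d5_1 D2672 (iv D2513) (iv F2370)
theorem F4705 : act 2 n2672 = n1314 := d14_1 D2672 (iv D1314) (iv F2371)
def n2674 : Q := act 6 n1310
theorem D2674 : act 6 n1310 = n2674 := rfl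
theorem F4709 : act 0 n2674 = n2515 := d5_1 D2674 (iv D2515) (iv F2372)
theorem F4711 : act 5 n2674 = n2672 := d21_2 D1310 D2674 (iv D2672) (iv D1309)
def n2675 : Q := act 3 n1311
theorem D2675 : act 3 n1311 = n2675 := rfl
theorem F4712 : act 0 n2675 = n2516 := d2_1 D2675 (iv D2516) (iv F2374)
def n2677 : Q := act 2 n1312
theorem D2677 : act 2 n1312 = n2677 := rfl
theorem F4719 : act 4 n2677 = n1318 := d12_2 (iv F2377) D2677 (iv D1318)
theorem F4720 : act 1 n2666 = n2677 := d22_7 F1204 (iv F2252) D2499 F4422 D2652 F4676 D2666 (iv D2677) F2377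
def n2678 : Q := act 5 n1312
theorem D2678 : act 5 n1312 = n2678 := rfl
def n2679 : Q := act 6 n1312
theorem D2679 : act 6 n1312 = n2679 := rfl
def n2680 : Q := act 3 n1313
theorem D2680 : act 3 n1313 = n2680 := rfl
def n2681 : Q := act 3 n1314
theorem D2681 : act 3 n1314 = n2681 := rfl
def n2682 : Q := act 2 n1315
theorem D2682 : act 2 n1315 = n2682 := rfl
theorem F4731 : act 5 n2682 = n1322 := d13_2 (iv F2383) D2682 (iv D1322)
theorem F4732 : act 4 n1475 = n2682 := d21_4 F4731 F2617 (iv D1483) (iv F2614)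
theorem F4733 : act 6 n2682 = n1482 := d21_3 D1483 (iv F2617) (iv F4731) (iv D1482)
def n2683 : Q := act 4 n1315
theorem D2683 : act 4 n1315 = n2683 := rfl
theorem F4735 : act 2 n2683 = n1475 := d12_1 D2683 F4732 (iv D2682)
theorem F4737 : act 6 n1481 = n2683 := d21_3 F2383 D1324 F2619 (iv D2683)
def n2687 : Q := act 1 n1318
theorem D2687 : act 1 n1318 = n2687 := rfl
theorem F4743 : act 0 n2687 = n2667 := d0_1 D2687 F4696 F2370 (iv F4433) F4452 (iv D2528) (iv F2389)
theorem F4744 : act 4 n2687 = n2666 := d8_2 F4719 D2687 F4720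
def n2688 : Q := act 3 n1318
theorem D2688 : act 3 n1318 = n2688 := rfl
theorem F4745 : act 0 n2688 = n2529 := d2_1 D2688 (iv D2529) (iv F2389)
theorem F4746 : act 2 n2688 = n2688 := d11_1 D2688 (iv D2688) (iv D1318) (iv D632) F603 F324 (iv F572) D599 D1244 D2529 F4453 (iv D2529) (iv D1244) (iv D599) F572 (iv F324) (iv F603) D632 D1318
def n2689 : Q := act 5 n1318
theorem D2689 : act 5 n1318 = n2689 := rfl
theorem F4748 : act 0 n2689 = n2530 := d4_1 D2689 (iv D2530) (iv F2389)
theorem F4749 : act 2 n2689 = n1319 := d13_1 D2689 (iv D1319) D1318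
def n2690 : Q := act 6 n1318
theorem D2690 : act 6 n1318 = n2690 := rfl
theorem F4750 : act 0 n2690 = n2531 := d5_1 D2690 (iv D2531) (iv F2389)
theorem F4751 : act 2 n2690 = n1320 := d14_1 D2690 (iv D1320) D1318
def n2691 : Q := act 3 n1319
theorem D2691 : act 3 n1319 = n2691 := rfl
theorem F4752 : act 0 n2691 = n2532 := d2_1 D2691 (iv D2532) (iv F2390)
theorem F4753 : act 5 n2691 = n1321 := d16_2 D1319 D2691 (iv D1321) (iv D633) D632
def n2694 : Q := act 2 n1321
theorem D2694 : act 2 n1321 = n2694 := rfl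
theorem F4759 : act 0 n2694 = n2535 := d1_1 D2694 (iv D2535) (iv F2392)
def n2696 : Q := act 6 n1321
theorem D2696 : act 6 n1321 = n2696 := rfl
theorem F4763 : act 3 n2696 = n1395 := d17_1 D2696 (iv D1395) (iv D666) (iv F1208) D1321
def n2697 : Q := act 1 n1322
theorem D2697 : act 1 n1322 = n2697 := rfl
def n2698 : Q := act 3 n1322
theorem D2698 : act 3 n1322 = n2698 := rfl
def n2699 : Q := act 4 n1322
theorem D2699 : act 4 n1322 = n2699 := rfl
theorem F4767 : act 5 n2699 = n1475 := d18_2 F4731 D2699 F4732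
def n2701 : Q := act 3 n1324
theorem D2701 : act 3 n1324 = n2701 := rfl
theorem F4772 : act 6 n2701 = n1325 := d17_2 D1324 D2701 (iv D1325) (iv D635) D634
def n2702 : Q := act 2 n1325
theorem D2702 : act 2 n1325 = n2702 := rfl
theorem F4773 : act 0 n2702 = n2545 := d1_1 D2702 (iv D2545) (iv F2396)
theorem F4774 : act 5 n2645 = n2702 := d4_0 F4773 (iv F4477) (iv F4667)
def n2704 : Q := act 5 n1325
theorem D2704 : act 5 n1325 = n2704 := rfl
theorem F4778 : act 2 n2704 = n2645 := d13_1 D2704 F4774 (iv D2702)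
theorem F4779 : act 3 n2704 = n1391 := d16_1 D2704 (iv D1391) (iv D665) (iv F1213) D1325
theorem F4780 : act 6 n2643 = n2704 := d24_0 (iv D2704) (iv D1325) F1211 (iv D305) (iv D147) (iv D73) F74 (iv D33) D32 D72 D142 D297 D623 D1297 D2643
def n2705 : Q := act 1 n1326
theorem D2705 : act 1 n1326 = n2705 := rfl
def n2707 : Q := act 6 n1326
theorem D2707 : act 6 n1326 = n2707 := rfl
theorem F4784 : act 2 n2707 = n1327 := d14_1 D2707 (iv D1327) D1326
def n2708 : Q := act 3 n1328
theorem D2708 : act 3 n1328 = n2708 := rfl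
theorem F4785 : act 0 n2708 = n2564 := d2_1 D2708 (iv D2564) (iv F2401)
def n2710 : Q := act 2 n1330
theorem D2710 : act 2 n1330 = n2710 := rfl
theorem F4790 : act 0 n2710 = n1331 := d1_1 D2710 (iv D1331) (iv F2408)
def n2711 : Q := act 4 n1330
theorem D2711 : act 4 n1330 = n2711 := rfl
theorem F4791 : act 0 n2711 = n1332 := d3_1 D2711 (iv D1332) (iv F2408)
theorem F4793 : act 3 n2711 = n2296 := d15_1 D2711 (iv D2296) (iv D1138) F1219 D1330
def n2712 : Q := act 5 n1330
theorem D2712 : act 5 n1330 = n2712 := rfl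
theorem F4794 : act 0 n2712 = n1333 := d4_1 D2712 (iv D1333) (iv F2408)
theorem F4796 : act 3 n2712 = n2382 := d16_1 D2712 (iv D2382) (iv D1178) (iv F1217) D1330
def n2713 : Q := act 6 n1330
theorem D2713 : act 6 n1330 = n2713 := rfl
theorem F4797 : act 0 n2713 = n1334 := d5_1 D2713 (iv D1334) (iv F2408)
def n2714 : Q := act 1 n1331
theorem D2714 : act 1 n1331 = n2714 := rfl
theorem F4799 : act 2 n2714 = n1337 := d6_2 D1331 D2714 (iv D1337) (iv D642) (iv F1220)
def n2715 : Q := act 3 n1331
theorem D2715 : act 3 n1331 = n2715 := rfl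
def n2716 : Q := act 4 n1331
theorem D2716 : act 4 n1331 = n2716 := rfl
theorem F4801 : act 2 n2716 = n1332 := d12_1 D2716 (iv D1332) D1331
def n2717 : Q := act 5 n1331
theorem D2717 : act 5 n1331 = n2717 := rfl
theorem F4802 : act 2 n2717 = n1333 := d13_1 D2717 (iv D1333) D1331
def n2718 : Q := act 6 n1331
theorem D2718 : act 6 n1331 = n2718 := rfl
theorem F4803 : act 2 n2718 = n1334 := d14_1 D2718 (iv D1334) D1331
def n2719 : Q := act 3 n1332
theorem D2719 : act 3 n1332 = n2719 := rfl
theorem F4804 : act 0 n2719 = n2296 := d2_1 D2719 (iv F4793) F4791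
theorem F4805 : act 1 n2719 = n1342 := d7_1 D2719 (iv D1342) (iv F2410)
theorem F4806 : act 4 n2719 = n1335 := d15_2 D1332 D2719 (iv D1335) (iv D640) D639
def n2720 : Q := act 5 n1332
theorem D2720 : act 5 n1332 = n2720 := rfl
theorem F4807 : act 1 n2720 = n1343 := d9_1 D2720 (iv D1343) (iv F2410)
theorem F4808 : act 4 n2720 = n1333 := d18_1 D2720 (iv D1333) D1332
def n2721 : Q := act 6 n1332
theorem D2721 : act 6 n1332 = n2721 := rfl
theorem F4810 : act 4 n2721 = n1334 := d19_1 D2721 (iv D1334) D1332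
def n2722 : Q := act 6 n1333
theorem D2722 : act 6 n1333 = n2722 := rfl
theorem F4812 : act 5 n2722 = n2721 := d21_2 D1333 D2722 (iv D2721) (iv D1332)
def n2723 : Q := act 3 n1334
theorem D2723 : act 3 n1334 = n2723 := rfl
theorem F4814 : act 6 n2723 = n1336 := d17_2 D1334 D2723 (iv D1336) (iv D641) D639
def n2724 : Q := act 5 n1334
theorem D2724 : act 5 n1334 = n2724 := rfl
theorem F4817 : act 6 n2724 = n2720 := d20_2 D1334 D2724 (iv D2720) D2721 (iv F4812) (iv D2722) (iv D1333)
def n2725 : Q := act 2 n1335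
theorem D2725 : act 2 n1335 = n2725 := rfl
def n2726 : Q := act 5 n1335
theorem D2726 : act 5 n1335 = n2726 := rfl
theorem F4819 : act 0 n2726 = n2297 := d4_1 D2726 (iv D2297) (iv F2414)
theorem F4820 : act 1 n2726 = n1349 := d9_1 D2726 (iv D1349) (iv F2415)
theorem F4821 : act 3 n2726 = n2367 := d16_1 D2726 (iv D2367) (iv D1172) (iv F1223) D1335
def n2727 : Q := act 6 n1335
theorem D2727 : act 6 n1335 = n2727 := rfl
theorem F4822 : act 0 n2727 = n2298 := d5_1 D2727 (iv D2298) (iv F2414)
theorem F4823 : act 1 n2727 = n1350 := d10_1 D2727 (iv D1350) (iv F2415)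
def n2729 : Q := act 4 n1336
theorem D2729 : act 4 n1336 = n2729 := rfl
def n2730 : Q := act 5 n1336
theorem D2730 : act 5 n1336 = n2730 := rfl
theorem F4825 : act 1 n2730 = n1353 := d9_1 D2730 (iv D1353) (iv F2416)
def n2731 : Q := act 0 n1337
theorem D2731 : act 0 n1337 = n2731 := rfl
def n2732 : Q := act 3 n1337
theorem D2732 : act 3 n1337 = n2732 := rfl
theorem F4826 : act 1 n2732 = n1338 := d7_1 D2732 (iv D1338) D1337
def n2736 : Q := act 4 n1338
theorem D2736 : act 4 n1338 = n2736 := rfl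
theorem F4830 : act 0 n2736 = n1468 := d3_1 D2736 (iv D1468) (iv F2417)
theorem F4831 : act 2 n2736 = n1418 := d12_1 D2736 (iv D1418) (iv F2418)
def n2737 : Q := act 5 n1338
theorem D2737 : act 5 n1338 = n2737 := rfl
theorem F4833 : act 2 n2737 = n1419 := d13_1 D2737 (iv D1419) (iv F2418)
def n2738 : Q := act 6 n1338
theorem D2738 : act 6 n1338 = n2738 := rfl
theorem F4834 : act 0 n2738 = n1470 := d5_1 D2738 (iv D1470) (iv F2417)
theorem F4835 : act 2 n2738 = n1420 := d14_1 D2738 (iv D1420) (iv F2418)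
def n2739 : Q := act 3 n1339
theorem D2739 : act 3 n1339 = n2739 := rfl
def n2740 : Q := act 5 n1339
theorem D2740 : act 5 n1339 = n2740 := rfl
theorem F4836 : act 2 n2740 = n1343 := d13_1 D2740 (iv D1343) (iv F2419)
def n2746 : Q := act 2 n1342
theorem D2746 : act 2 n1342 = n2746 := rfl
theorem F4845 : act 4 n2746 = n1348 := d12_2 (iv F2422) D2746 (iv D1348)
theorem F4846 : act 1 n2731 = n2746 := d22_7 (iv F2121) (iv F2409) D2710 F4790 D2714 F4799 D2731 (iv D2746) F2422
def n2747 : Q := act 5 n1342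
theorem D2747 : act 5 n1342 = n2747 := rfl
theorem F4847 : act 4 n2747 = n1349 := d18_1 D2747 (iv D1349) (iv F2422)
def n2748 : Q := act 6 n1342
theorem D2748 : act 6 n1342 = n2748 := rfl
theorem F4848 : act 4 n2748 = n1350 := d19_1 D2748 (iv D1350) (iv F2422)
def n2749 : Q := act 3 n1343
theorem D2749 : act 3 n1343 = n2749 := rfl
theorem F4849 : act 4 n2749 = n2621 := d15_2 (iv F2423) D2749 (iv D2621) F2336 (iv F1225)
def n2753 : Q := act 4 n1346
theorem D2753 : act 4 n1346 = n2753 := rfl
theorem F4855 : act 6 n2753 = n1352 := d19_2 (iv F2426) D2753 (iv D1352)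
theorem F4856 : act 5 n2753 = n2348 := d21_0 F4201 (iv D1353) (iv F2426) D2753
def n2754 : Q := act 5 n1346
theorem D2754 : act 5 n1346 = n2754 := rfl
theorem F4858 : act 4 n2754 = n2348 := d18_1 D2754 (iv F4856) (iv D2753)
def n2756 : Q := act 1 n1348
theorem D2756 : act 1 n1348 = n2756 := rfl
theorem F4859 : act 4 n2756 = n2731 := d8_2 F4845 D2756 F4846
def n2757 : Q := act 3 n1348
theorem D2757 : act 3 n1348 = n2757 := rfl
def n2758 : Q := act 5 n1348
theorem D2758 : act 5 n1348 = n2758 := rfl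
theorem F4861 : act 2 n2758 = n1349 := d13_1 D2758 (iv D1349) D1348
def n2759 : Q := act 6 n1348
theorem D2759 : act 6 n1348 = n2759 := rfl
theorem F4862 : act 2 n2759 = n1350 := d14_1 D2759 (iv D1350) D1348
def n2760 : Q := act 6 n1349
theorem D2760 : act 6 n1349 = n2760 := rfl
def n2761 : Q := act 5 n1350
theorem D2761 : act 5 n1350 = n2761 := rfl
def n2763 : Q := act 3 n1351
theorem D2763 : act 3 n1351 = n2763 := rfl
def n2765 : Q := act 5 n1352
theorem D2765 : act 5 n1352 = n2765 := rfl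
theorem F4869 : act 6 n2765 = n2754 := d20_2 F4855 D2765 (iv D2754) F2426 D1353 (iv F4201) (iv F4856)
def n2766 : Q := act 0 n1354
theorem D2766 : act 0 n1354 = n2766 := rfl
theorem F4870 : act 6 n2766 = n1358 := d5_2 (iv F2430) D2766 (iv D1358)
theorem F4871 : act 1 n2766 = n2318 := d22_4 F1529 (iv F3030) F3031 D2766 F4148 F2125 (iv F1532) (iv F3039) F3040
def n2769 : Q := act 5 n1354
theorem D2769 : act 5 n1354 = n2769 := rfl
theorem F4877 : act 1 n2769 = n1357 := d9_1 D2769 (iv D1357) D1354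
def n2770 : Q := act 2 n1355
theorem D2770 : act 2 n1355 = n2770 := rfl
def n2783 : Q := act 6 n1361
theorem D2783 : act 6 n1361 = n2783 := rfl
theorem F4895 : act 1 n2783 = n1369 := d10_1 D2783 (iv D1369) (iv F2439)
theorem F4898 : act 3 n2769 = n2783 := d7_0 F4895 (iv F2446) (iv F4877)
def n2785 : Q := act 3 n1362
theorem D2785 : act 3 n1362 = n2785 := rfl
theorem F4900 : act 2 n2785 = n1431 := d11_1 D2785 (iv D1431) (iv D683) (iv D325) F334 D269 D557 D1150 D2322 F4156 (iv D1499) (iv D714) (iv D337) (iv D163) F185 D151 D311 D652 D1362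
def n2786 : Q := act 4 n1362
theorem D2786 : act 4 n1362 = n2786 := rfl
theorem F4901 : act 2 n2786 = n1363 := d12_1 D2786 (iv D1363) D1362
def n2787 : Q := act 5 n1362
theorem D2787 : act 5 n1362 = n2787 := rfl
def n2788 : Q := act 6 n1362
theorem D2788 : act 6 n1362 = n2788 := rfl
theorem F4903 : act 2 n2788 = n1365 := d14_1 D2788 (iv D1365) D1362
def n2791 : Q := act 6 n1363
theorem D2791 : act 6 n1363 = n2791 := rfl
def n2794 : Q := act 5 n1365
theorem D2794 : act 5 n1365 = n2794 := rfl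
def n2803 : Q := act 2 n1372
theorem D2803 : act 2 n1372 = n2803 := rfl
theorem F4916 : act 0 n2803 = n1373 := d1_1 D2803 (iv D1373) (iv F2450)
def n2807 : Q := act 1 n1373
theorem D2807 : act 1 n1373 = n2807 := rfl
theorem F4925 : act 2 n2807 = n1379 := d6_2 D1373 D2807 (iv D1379) (iv D661) (iv F1237)
def n2824 : Q := act 0 n1379
theorem D2824 : act 0 n1379 = n2824 := rfl
def n2825 : Q := act 3 n1379
theorem D2825 : act 3 n1379 = n2825 := rfl
theorem F4951 : act 1 n2825 = n1380 := d7_1 D2825 (iv D1380) D1379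
def n2829 : Q := act 4 n1380
theorem D2829 : act 4 n1380 = n2829 := rfl
theorem F4955 : act 0 n2829 = n1519 := d3_1 D2829 (iv D1519) (iv F2459)
theorem F4956 : act 2 n2829 = n1440 := d12_1 D2829 (iv D1440) (iv F2460)
def n2830 : Q := act 5 n1380
theorem D2830 : act 5 n1380 = n2830 := rfl
theorem F4958 : act 2 n2830 = n1441 := d13_1 D2830 (iv D1441) (iv F2460)
def n2831 : Q := act 6 n1380
theorem D2831 : act 6 n1380 = n2831 := rfl
def n2832 : Q := act 3 n1381
theorem D2832 : act 3 n1381 = n2832 := rfl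
def n2834 : Q := act 6 n1381
theorem D2834 : act 6 n1381 = n2834 := rfl
theorem F4963 : act 2 n2834 = n1386 := d14_1 D2834 (iv D1386) (iv F2461)
def n2836 : Q := act 6 n1382
theorem D2836 : act 6 n1382 = n2836 := rfl
theorem F4966 : act 5 n2836 = n2834 := d21_2 D1382 D2836 (iv D2834) (iv D1381)
def n2837 : Q := act 3 n1383
theorem D2837 : act 3 n1383 = n2837 := rfl
def n2839 : Q := act 2 n1384
theorem D2839 : act 2 n1384 = n2839 := rfl
theorem F4970 : act 4 n2839 = n1390 := d12_2 (iv F2464) D2839 (iv D1390)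
theorem F4971 : act 1 n2824 = n2839 := d22_7 (iv F2153) (iv F2451) D2803 F4916 D2807 F4925 D2824 (iv D2839) F2464
def n2843 : Q := act 3 n1386
theorem D2843 : act 3 n1386 = n2843 := rfl
theorem F4974 : act 4 n2843 = n2681 := d15_2 (iv F2466) D2843 (iv D2681) F2381 (iv F1242)
def n2844 : Q := act 2 n1387
theorem D2844 : act 2 n1387 = n2844 := rfl
theorem F4976 : act 5 n2844 = n1393 := d13_2 (iv F2467) D2844 (iv D1393)
theorem F4977 : act 4 n2308 = n2844 := d21_4 F4976 F4141 (iv D2315) (iv F4130)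
theorem F4978 : act 6 n2844 = n2314 := d21_3 D2315 (iv F4141) (iv F4976) (iv D2314)
def n2845 : Q := act 4 n1387
theorem D2845 : act 4 n1387 = n2845 := rfl
theorem F4980 : act 2 n2845 = n2308 := d12_1 D2845 F4977 (iv D2844)
theorem F4981 : act 5 n2845 = n1394 := d18_2 (iv F2467) D2845 (iv D1394)
theorem F4982 : act 6 n2313 = n2845 := d21_3 F2467 D1395 F4143 (iv D2845)
def n2846 : Q := act 6 n1387
theorem D2846 : act 6 n1387 = n2846 := rfl
theorem F4985 : act 4 n2846 = n2313 := d19_1 D2846 F4982 (iv D2845)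
def n2849 : Q := act 1 n1390
theorem D2849 : act 1 n1390 = n2849 := rfl
def n2850 : Q := act 3 n1390
theorem D2850 : act 3 n1390 = n2850 := rfl
def n2852 : Q := act 6 n1390
theorem D2852 : act 6 n1390 = n2852 := rfl
theorem F4990 : act 2 n2852 = n1392 := d14_1 D2852 (iv D1392) D1390
def n2857 : Q := act 4 n1393
theorem D2857 : act 4 n1393 = n2857 := rfl
theorem F4996 : act 5 n2857 = n2308 := d18_2 F4976 D2857 F4977
def n2859 : Q := act 0 n1396
theorem D2859 : act 0 n1396 = n2859 := rfl
theorem F4999 : act 5 n2859 = n1400 := d4_2 (iv F2472) D2859 (iv D1400)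
theorem F5000 : act 1 n2859 = n2353 := d22_4 F1479 (iv F2927) F2928 D2859 F4210 F2157 (iv F1482) (iv F2935) F2936
def n2860 : Q := act 3 n1396
theorem D2860 : act 3 n1396 = n2860 := rfl
def n2861 : Q := act 4 n1396
theorem D2861 : act 4 n1396 = n2861 := rfl
theorem F5005 : act 5 n2861 = n1402 := d18_2 (iv F2472) D2861 (iv D1402)
def n2862 : Q := act 6 n1396
theorem D2862 : act 6 n1396 = n2862 := rfl
theorem F5006 : act 1 n2862 = n1399 := d10_1 D2862 (iv D1399) D1396
def n2863 : Q := act 2 n1397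
theorem D2863 : act 2 n1397 = n2863 := rfl
def n2864 : Q := act 4 n1397
theorem D2864 : act 4 n1397 = n2864 := rfl
def n2865 : Q := act 5 n1397
theorem D2865 : act 5 n1397 = n2865 := rfl
theorem F5008 : act 3 n2865 = n1406 := d16_1 D2865 (iv D1406) (iv D671) (iv F1243) D1397
def n2866 : Q := act 6 n1397
theorem D2866 : act 6 n1397 = n2866 := rfl
theorem F5009 : act 3 n2866 = n1398 := d17_1 D2866 (iv F2487) F2488 (iv D1399) D1397
def n2867 : Q := act 3 n1400
theorem D2867 : act 3 n1400 = n2867 := rfl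
theorem F5010 : act 0 n2867 = n1401 := d2_1 D2867 (iv D1401) D1400
theorem F5011 : act 1 n2867 = n2361 := d7_1 D2867 (iv D2361) (iv F2476)
def n2868 : Q := act 6 n1400
theorem D2868 : act 6 n1400 = n2868 := rfl
theorem F5012 : act 0 n2868 = n1403 := d5_1 D2868 (iv D1403) D1400
theorem F5013 : act 1 n2868 = n2362 := d10_1 D2868 (iv D2362) (iv F2476)
theorem F5014 : act 4 n2868 = n2356 := d19_1 D2868 (iv D2356) F2477
def n2869 : Q := act 2 n1401
theorem D2869 : act 2 n1401 = n2869 := rfl
def n2870 : Q := act 4 n1401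
theorem D2870 : act 4 n1401 = n2870 := rfl
theorem F5015 : act 1 n2870 = n1405 := d8_1 D2870 (iv D1405) (iv F2478)
def n2871 : Q := act 5 n1401
theorem D2871 : act 5 n1401 = n2871 := rfl
theorem F5016 : act 1 n2871 = n1406 := d9_1 D2871 (iv D1406) (iv F2478)
def n2872 : Q := act 6 n1401
theorem D2872 : act 6 n1401 = n2872 := rfl
def n2873 : Q := act 3 n1402
theorem D2873 : act 3 n1402 = n2873 := rfl
theorem F5018 : act 0 n2873 = n2355 := d2_1 D2873 (iv D2355) (iv F2479)
def n2874 : Q := act 6 n1402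
theorem D2874 : act 6 n1402 = n2874 := rfl
theorem F5020 : act 0 n2874 = n2356 := d5_1 D2874 (iv D2356) (iv F2479)
theorem F5022 : act 4 n2874 = n1403 := d19_1 D2874 (iv D1403) D1402
theorem F5023 : act 5 n2874 = n2862 := d21_2 F5005 D2874 (iv D2862) D2861
def n2875 : Q := act 3 n1403
theorem D2875 : act 3 n1403 = n2875 := rfl
theorem F5024 : act 1 n2875 = n1410 := d7_1 D2875 (iv D1410) (iv F2481)
def n2876 : Q := act 5 n1403
theorem D2876 : act 5 n1403 = n2876 := rfl
theorem F5025 : act 1 n2876 = n1411 := d9_1 D2876 (iv D1411) (iv F2481)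
theorem F5028 : act 3 n2862 = n2876 := d7_0 F5025 F2488 (iv F5006)
def n2877 : Q := act 1 n1404
theorem D2877 : act 1 n1404 = n2877 := rfl
def n2878 : Q := act 3 n1404
theorem D2878 : act 3 n1404 = n2878 := rfl
theorem F5029 : act 0 n2878 = n1546 := d2_1 D2878 (iv F4218) F4217
theorem F5030 : act 2 n2878 = n1453 := d11_1 D2878 (iv D1453) (iv D693) (iv D329) F340 D273 D565 D1167 D2357 F4218 (iv D1546) (iv D737) (iv D347) (iv D167) F188 D155 D319 D671 D1404
def n2879 : Q := act 4 n1404
theorem D2879 : act 4 n1404 = n2879 := rfl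
theorem F5031 : act 2 n2879 = n1405 := d12_1 D2879 (iv D1405) D1404
def n2880 : Q := act 5 n1404
theorem D2880 : act 5 n1404 = n2880 := rfl
theorem F5032 : act 2 n2880 = n1406 := d13_1 D2880 (iv D1406) D1404
def n2881 : Q := act 6 n1404
theorem D2881 : act 6 n1404 = n2881 := rfl
def n2882 : Q := act 3 n1405
theorem D2882 : act 3 n1405 = n2882 := rfl
theorem F5034 : act 4 n2882 = n1408 := d15_2 D1405 D2882 (iv D1408) (iv D672) D671
def n2883 : Q := act 5 n1405
theorem D2883 : act 5 n1405 = n2883 := rfl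
theorem F5035 : act 4 n2883 = n1406 := d18_1 D2883 (iv D1406) D1405
def n2885 : Q := act 6 n1406
theorem D2885 : act 6 n1406 = n2885 := rfl
def n2888 : Q := act 2 n1408
theorem D2888 : act 2 n1408 = n2888 := rfl
def n2890 : Q := act 6 n1408
theorem D2890 : act 6 n1408 = n2890 := rfl
def n2893 : Q := act 4 n1410
theorem D2893 : act 4 n1410 = n2893 := rfl
def n2895 : Q := act 2 n1413
theorem D2895 : act 2 n1413 = n2895 := rfl
def n2896 : Q := act 3 n1414
theorem D2896 : act 3 n1414 = n2896 := rfl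
theorem F5045 : act 0 n2896 = n1415 := d2_1 D2896 (iv D1415) D1414
theorem F5046 : act 1 n2896 = n1560 := d7_1 D2896 (iv D1560) (iv F2492)
def n2897 : Q := act 6 n1414
theorem D2897 : act 6 n1414 = n2897 := rfl
theorem F5047 : act 0 n2897 = n1417 := d5_1 D2897 (iv D1417) D1414
theorem F5048 : act 1 n2897 = n1424 := d10_1 D2897 F2514 (iv F2492)
theorem F5049 : act 2 n2897 = n2897 := d14_1 D2897 (iv D2897) F2493
theorem F5050 : act 4 n2897 = n1555 := d19_1 D2897 (iv D1555) F2494
theorem F5051 : act 5 n2897 = n1417 := d21_2 F2499 D2897 (iv D1417) D1416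
def n2898 : Q := act 2 n1415
theorem D2898 : act 2 n1415 = n2898 := rfl
def n2899 : Q := act 4 n1415
theorem D2899 : act 4 n1415 = n2899 := rfl
theorem F5052 : act 1 n2899 = n1418 := d8_1 D2899 (iv D1418) (iv F2495)
def n2900 : Q := act 5 n1415
theorem D2900 : act 5 n1415 = n2900 := rfl
theorem F5053 : act 1 n2900 = n1419 := d9_1 D2900 (iv D1419) (iv F2495)
def n2901 : Q := act 6 n1415
theorem D2901 : act 6 n1415 = n2901 := rfl
theorem F5054 : act 1 n2901 = n1420 := d10_1 D2901 (iv D1420) (iv F2495)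
def n2902 : Q := act 3 n1416
theorem D2902 : act 3 n1416 = n2902 := rfl
theorem F5055 : act 0 n2902 = n1554 := d2_1 D2902 (iv D1554) (iv F2496)
theorem F5056 : act 1 n2902 = n1421 := d7_1 D2902 (iv D1421) (iv F2497)
def n2903 : Q := act 6 n1416
theorem D2903 : act 6 n1416 = n2903 := rfl
theorem F5057 : act 0 n2903 = n1555 := d5_1 D2903 (iv D1555) (iv F2496)
theorem F5058 : act 1 n2903 = n1422 := d10_1 D2903 (iv D1422) (iv F2497)
theorem F5059 : act 2 n2903 = n2903 := d14_1 D2903 (iv D2903) F2498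
theorem F5060 : act 4 n2903 = n1417 := d19_1 D2903 (iv D1417) D1416
theorem F5061 : act 5 n2903 = n1555 := d20_1 D2903 (iv D1555) F1352 D1417 (iv F5051) (iv D2897) (iv F2499)
def n2904 : Q := act 3 n1417
theorem D2904 : act 3 n1417 = n2904 := rfl
theorem F5062 : act 1 n2904 = n1423 := d7_1 D2904 (iv D1423) (iv F2500)
def n2905 : Q := act 3 n1418
theorem D2905 : act 3 n1418 = n2905 := rfl
theorem F5063 : act 0 n2905 = n1471 := d2_1 D2905 (iv D1471) (iv F2502)
theorem F5064 : act 4 n2905 = n1421 := d15_2 D1418 D2905 (iv D1421) (iv D678) D677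
def n2906 : Q := act 5 n1418
theorem D2906 : act 5 n1418 = n2906 := rfl
theorem F5065 : act 0 n2906 = n1472 := d4_1 D2906 (iv D1472) (iv F2502)
theorem F5066 : act 4 n2906 = n1419 := d18_1 D2906 (iv D1419) D1418
def n2907 : Q := act 6 n1418
theorem D2907 : act 6 n1418 = n2907 := rfl
theorem F5067 : act 0 n2907 = n1473 := d5_1 D2907 (iv D1473) (iv F2502)
theorem F5068 : act 4 n2907 = n1420 := d19_1 D2907 (iv D1420) D1418
def n2908 : Q := act 6 n1419
theorem D2908 : act 6 n1419 = n2908 := rfl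
theorem F5069 : act 0 n2908 = n1474 := d5_1 D2908 (iv D1474) (iv F2503)
theorem F5070 : act 5 n2908 = n2907 := d21_2 D1419 D2908 (iv D2907) (iv D1418)
def n2909 : Q := act 3 n1420
theorem D2909 : act 3 n1420 = n2909 := rfl
theorem F5072 : act 6 n2909 = n1423 := d17_2 D1420 D2909 (iv D1423) (iv D679) D677
theorem F5075 : act 4 n2909 = n2523 := d21_4 F4449 D2541 F4465 (iv F5072)
def n2910 : Q := act 5 n1420
theorem D2910 : act 5 n1420 = n2910 := rfl
theorem F5076 : act 0 n2910 = n1476 := d4_1 D2910 (iv D1476) (iv F2504)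
theorem F5078 : act 6 n2910 = n2906 := d20_2 D1420 D2910 (iv D2906) D2907 (iv F5070) (iv D2908) (iv D1419)
def n2911 : Q := act 2 n1421
theorem D2911 : act 2 n1421 = n2911 := rfl
theorem F5079 : act 0 n2911 = n1477 := d1_1 D2911 (iv D1477) (iv F2505)
def n2912 : Q := act 5 n1421
theorem D2912 : act 5 n1421 = n2912 := rfl
theorem F5080 : act 0 n2912 = n1478 := d4_1 D2912 (iv D1478) (iv F2505)
def n2913 : Q := act 6 n1421
theorem D2913 : act 6 n1421 = n2913 := rfl
theorem F5081 : act 0 n2913 = n1479 := d5_1 D2913 (iv D1479) (iv F2505)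
def n2914 : Q := act 3 n1422
theorem D2914 : act 3 n1422 = n2914 := rfl
theorem F5082 : act 0 n2914 = n1480 := d2_1 D2914 (iv D1480) (iv F2506)
def n2915 : Q := act 4 n1423
theorem D2915 : act 4 n1423 = n2915 := rfl
def n2916 : Q := act 3 n1424
theorem D2916 : act 3 n1424 = n2916 := rfl
theorem F5086 : act 0 n2916 = n1484 := d2_1 D2916 (iv D1484) (iv F2511)
def n2917 : Q := act 2 n1425
theorem D2917 : act 2 n1425 = n2917 := rfl
theorem F5087 : act 0 n2917 = n1485 := d1_1 D2917 (iv D1485) (iv F2515)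
def n2918 : Q := act 4 n1425
theorem D2918 : act 4 n1425 = n2918 := rfl
theorem F5088 : act 0 n2918 = n1486 := d3_1 D2918 (iv D1486) (iv F2515)
theorem F5089 : act 1 n2918 = n2918 := d8_1 D2918 (iv D2918) F2516
theorem F5090 : act 3 n2918 = n1427 := d15_1 D2918 (iv D1427) (iv D681) (iv F1259) D1425
def n2919 : Q := act 5 n1425
theorem D2919 : act 5 n1425 = n2919 := rfl
theorem F5091 : act 0 n2919 = n1487 := d4_1 D2919 (iv D1487) (iv F2515)
theorem F5093 : act 3 n2919 = n1457 := d16_1 D2919 (iv D1457) F1297 (iv F1260) D1425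
def n2920 : Q := act 1 n1426
theorem D2920 : act 1 n1426 = n2920 := rfl
theorem F5094 : act 2 n2920 = n2920 := d6_2 D1426 D2920 (iv D2920) (iv D1426) F1262
theorem F5095 : act 6 n2920 = n1430 := d10_2 (iv F2518) D2920 (iv D1430)
def n2921 : Q := act 3 n1426
theorem D2921 : act 3 n1426 = n2921 := rfl
theorem F5096 : act 0 n2921 = n1489 := d2_1 D2921 (iv D1489) (iv F2517)
def n2922 : Q := act 4 n1426
theorem D2922 : act 4 n1426 = n2922 := rfl
theorem F5098 : act 2 n2922 = n1427 := d12_1 D2922 (iv D1427) D1426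
theorem F5099 : act 6 n2922 = n1432 := d19_2 (iv F2518) D2922 (iv D1432)
theorem F5100 : act 5 n2922 = n2588 := d21_0 (iv F4551) (iv D1433) (iv F2518) D2922
theorem F5101 : act 3 n2587 = n2922 := d16_5 F5100 (iv D2588) (iv D1271) D1270 D2587
def n2923 : Q := act 5 n1426
theorem D2923 : act 5 n1426 = n2923 := rfl
theorem F5104 : act 4 n2923 = n2588 := d18_1 D2923 (iv F5100) (iv D2922)
theorem F5105 : act 3 n2923 = n1541 := d24_2 (iv F2518) D2923 F2685 (iv D734) F653 (iv D167) F188 F178 (iv D43) (iv F93) F91 D85 (iv F335) D325 D683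
def n2924 : Q := act 3 n1428
theorem D2924 : act 3 n1428 = n2924 := rfl
theorem F5106 : act 0 n2924 = n1492 := d2_1 D2924 (iv D1492) (iv F2522)
theorem F5107 : act 1 n2924 = n2924 := d7_1 D2924 (iv D2924) F2523
theorem F5108 : act 5 n2924 = n1429 := d16_2 D1428 D2924 (iv D1429) (iv D682) D681
def n2925 : Q := act 2 n1429
theorem D2925 : act 2 n1429 = n2925 := rfl
theorem F5110 : act 6 n2925 = n2917 := d14_2 (iv F2526) D2925 (iv D2917)
def n2926 : Q := act 4 n1429
theorem D2926 : act 4 n1429 = n2926 := rfl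
theorem F5111 : act 0 n2926 = n1494 := d3_1 D2926 (iv D1494) (iv F2524)
theorem F5112 : act 1 n2926 = n2926 := d8_1 D2926 (iv D2926) F2525
theorem F5113 : act 3 n2926 = n1456 := d15_1 D2926 F2584 F1297 (iv F1266) D1429
theorem F5114 : act 6 n2926 = n2918 := d19_2 (iv F2526) D2926 (iv D2918)
def n2927 : Q := act 0 n1430
theorem D2927 : act 0 n1430 = n2927 := rfl
theorem F5115 : act 1 n2927 = n1454 := d0_2 D1430 D2927 F2578 (iv F2632) (iv D1495) (iv D713) (iv F1268)
theorem F5116 : act 2 n2927 = n2927 := d1_2 F2527 D2927 (iv D2927)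
theorem F5117 : act 4 n1452 = n2927 := d22_9 (iv D2927) (iv D1430) (iv D683) F630 (iv F343) D347 (iv F1291) D1452 F2576
def n2928 : Q := act 3 n1430
theorem D2928 : act 3 n1430 = n2928 := rfl
theorem F5118 : act 1 n2928 = n1431 := d7_1 D2928 (iv D1431) D1430
def n2929 : Q := act 4 n1430
theorem D2929 : act 4 n1430 = n2929 := rfl
theorem F5119 : act 0 n2929 = n1452 := d3_1 D2929 F5117 (iv D2927)
theorem F5120 : act 1 n2929 = n1432 := d8_1 D2929 (iv D1432) D1430
theorem F5121 : act 2 n2929 = n2929 := d12_1 D2929 (iv D2929) F2527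
def n2930 : Q := act 5 n1430
theorem D2930 : act 5 n1430 = n2930 := rfl
theorem F5122 : act 1 n2930 = n1433 := d9_1 D2930 (iv D1433) D1430
def n2931 : Q := act 4 n1431
theorem D2931 : act 4 n1431 = n2931 := rfl
theorem F5124 : act 0 n2931 = n1500 := d3_1 D2931 (iv D1500) (iv F2528)
def n2932 : Q := act 5 n1431
theorem D2932 : act 5 n1431 = n2932 := rfl
def n2933 : Q := act 6 n1431
theorem D2933 : act 6 n1431 = n2933 := rfl
theorem F5126 : act 0 n2933 = n1502 := d5_1 D2933 (iv D1502) (iv F2528)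
def n2934 : Q := act 3 n1432
theorem D2934 : act 3 n1432 = n2934 := rfl
theorem F5127 : act 0 n2934 = n1503 := d2_1 D2934 (iv D1503) (iv F2529)
def n2935 : Q := act 5 n1432
theorem D2935 : act 5 n1432 = n2935 := rfl
theorem F5131 : act 6 n2935 = n2923 := d20_2 F5099 D2935 (iv D2923) F2518 D1433 F4551 (iv F5100)
def n2936 : Q := act 3 n1433
theorem D2936 : act 3 n1433 = n2936 := rfl
theorem F5133 : act 6 n2936 = n2559 := d17_2 (iv F4551) D2936 (iv D2559) (iv F2310) D2588
def n2937 : Q := act 3 n1434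
theorem D2937 : act 3 n1434 = n2937 := rfl
theorem F5134 : act 0 n2937 = n1507 := d2_1 D2937 (iv D1507) (iv F2533)
theorem F5135 : act 1 n2937 = n2937 := d7_1 D2937 (iv D2937) F2534
theorem F5136 : act 4 n2937 = n1451 := d15_2 (iv F2535) D2937 (iv D1451) F1289 (iv F1273)
def n2938 : Q := act 3 n1435
theorem D2938 : act 3 n1435 = n2938 := rfl
theorem F5137 : act 0 n2938 = n1508 := d2_1 D2938 (iv D1508) (iv F2537)
theorem F5139 : act 6 n2938 = n1447 := d17_2 D1435 D2938 (iv D1447) F1283 (iv F1273)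
def n2939 : Q := act 3 n1436
theorem D2939 : act 3 n1436 = n2939 := rfl
theorem F5140 : act 0 n2939 = n1437 := d2_1 D2939 (iv D1437) D1436
theorem F5141 : act 1 n2939 = n1568 := d7_1 D2939 (iv D1568) (iv F2541)
def n2940 : Q := act 5 n1436
theorem D2940 : act 5 n1436 = n2940 := rfl
theorem F5142 : act 0 n2940 = n1439 := d4_1 D2940 (iv D1439) D1436
theorem F5143 : act 1 n2940 = n1446 := d9_1 D2940 F2563 (iv F2541)
theorem F5144 : act 2 n2940 = n2940 := d13_1 D2940 (iv D2940) F2542
theorem F5145 : act 4 n2940 = n1563 := d18_1 D2940 (iv D1563) F2543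
theorem F5146 : act 6 n2940 = n1439 := d21_1 D2940 (iv D1439) (iv F1360) F2543
def n2941 : Q := act 2 n1437
theorem D2941 : act 2 n1437 = n2941 := rfl
def n2942 : Q := act 4 n1437
theorem D2942 : act 4 n1437 = n2942 := rfl
theorem F5147 : act 1 n2942 = n1440 := d8_1 D2942 (iv D1440) (iv F2544)
def n2943 : Q := act 5 n1437
theorem D2943 : act 5 n1437 = n2943 := rfl
theorem F5148 : act 1 n2943 = n1441 := d9_1 D2943 (iv D1441) (iv F2544)
def n2944 : Q := act 6 n1437
theorem D2944 : act 6 n1437 = n2944 := rfl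
def n2945 : Q := act 3 n1438
theorem D2945 : act 3 n1438 = n2945 := rfl
theorem F5150 : act 0 n2945 = n1562 := d2_1 D2945 (iv D1562) (iv F2545)
theorem F5151 : act 1 n2945 = n1443 := d7_1 D2945 (iv D1443) (iv F2546)
def n2946 : Q := act 5 n1438
theorem D2946 : act 5 n1438 = n2946 := rfl
theorem F5152 : act 0 n2946 = n1563 := d4_1 D2946 (iv D1563) (iv F2545)
theorem F5153 : act 1 n2946 = n1444 := d9_1 D2946 (iv D1444) (iv F2546)
theorem F5154 : act 2 n2946 = n2946 := d13_1 D2946 (iv D2946) F2547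
theorem F5155 : act 4 n2946 = n1439 := d18_1 D2946 (iv D1439) D1438
theorem F5156 : act 6 n2946 = n1563 := d20_2 (iv F2548) D2946 (iv D1563) F1360 D1439 (iv F5146) (iv D2940)
def n2947 : Q := act 3 n1439
theorem D2947 : act 3 n1439 = n2947 := rfl
theorem F5157 : act 1 n2947 = n1445 := d7_1 D2947 (iv D1445) (iv F2549)
def n2948 : Q := act 3 n1440
theorem D2948 : act 3 n1440 = n2948 := rfl
theorem F5158 : act 0 n2948 = n1522 := d2_1 D2948 (iv D1522) (iv F2551)
theorem F5159 : act 4 n2948 = n1443 := d15_2 D1440 D2948 (iv D1443) (iv D688) D687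
def n2949 : Q := act 5 n1440
theorem D2949 : act 5 n1440 = n2949 := rfl
theorem F5161 : act 4 n2949 = n1441 := d18_1 D2949 (iv D1441) D1440
def n2950 : Q := act 6 n1440
theorem D2950 : act 6 n1440 = n2950 := rfl
theorem F5162 : act 0 n2950 = n1524 := d5_1 D2950 (iv D1524) (iv F2551)
theorem F5163 : act 4 n2950 = n1442 := d19_1 D2950 (iv D1442) D1440
def n2951 : Q := act 3 n1441
theorem D2951 : act 3 n1441 = n2951 := rfl
theorem F5164 : act 0 n2951 = n1525 := d2_1 D2951 (iv D1525) (iv F2552)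
theorem F5165 : act 5 n2951 = n1445 := d16_2 D1441 D2951 (iv D1445) (iv D689) D687
theorem F5166 : act 2 n2407 = n2951 := d13_3 F5165 (iv F4309) F4311
theorem F5167 : act 4 n2406 = n2951 := d21_4 F5165 F4304 (iv D2423) (iv F4288)
theorem F5168 : act 6 n2951 = n2422 := d21_3 D2423 (iv F4304) (iv F5165) (iv D2422)
def n2952 : Q := act 6 n1441
theorem D2952 : act 6 n1441 = n2952 := rfl
theorem F5170 : act 5 n2952 = n2950 := d21_2 D1441 D2952 (iv D2950) (iv D1440)
def n2953 : Q := act 5 n1442
theorem D2953 : act 5 n1442 = n2953 := rfl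
theorem F5171 : act 0 n2953 = n1527 := d4_1 D2953 (iv D1527) (iv F2553)
def n2954 : Q := act 2 n1443
theorem D2954 : act 2 n1443 = n2954 := rfl
theorem F5174 : act 0 n2954 = n1528 := d1_1 D2954 (iv D1528) (iv F2554)
def n2955 : Q := act 5 n1443
theorem D2955 : act 5 n1443 = n2955 := rfl
theorem F5175 : act 0 n2955 = n1529 := d4_1 D2955 (iv D1529) (iv F2554)
def n2956 : Q := act 6 n1443
theorem D2956 : act 6 n1443 = n2956 := rfl
theorem F5176 : act 0 n2956 = n1530 := d5_1 D2956 (iv D1530) (iv F2554)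
def n2957 : Q := act 3 n1444
theorem D2957 : act 3 n1444 = n2957 := rfl
theorem F5177 : act 0 n2957 = n1531 := d2_1 D2957 (iv D1531) (iv F2555)
def n2958 : Q := act 4 n1445
theorem D2958 : act 4 n1445 = n2958 := rfl
theorem F5178 : act 0 n2958 = n1533 := d3_1 D2958 (iv D1533) (iv F2559)
theorem F5179 : act 2 n2958 = n2408 := d12_1 D2958 (iv F4310) F4309
theorem F5180 : act 5 n2958 = n2406 := d18_2 F5165 D2958 F5167
def n2959 : Q := act 3 n1446
theorem D2959 : act 3 n1446 = n2959 := rfl
theorem F5181 : act 0 n2959 = n1535 := d2_1 D2959 (iv D1535) (iv F2560)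
def n2960 : Q := act 2 n1447
theorem D2960 : act 2 n1447 = n2960 := rfl
theorem F5182 : act 0 n2960 = n1536 := d1_1 D2960 (iv D1536) (iv F2564)
def n2961 : Q := act 4 n1447
theorem D2961 : act 4 n1447 = n2961 := rfl
theorem F5183 : act 0 n2961 = n1537 := d3_1 D2961 (iv D1537) (iv F2564)
theorem F5184 : act 1 n2961 = n2961 := d8_1 D2961 (iv D2961) F2565
theorem F5185 : act 3 n2961 = n1449 := d15_1 D2961 (iv D1449) (iv D691) (iv F1282) D1447
theorem F5186 : act 5 n2961 = n2937 := d18_2 F2575 D2961 F5136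
def n2962 : Q := act 1 n1448
theorem D2962 : act 1 n1448 = n2962 := rfl
theorem F5187 : act 2 n2962 = n2962 := d6_2 D1448 D2962 (iv D2962) (iv D1448) F1285
theorem F5188 : act 5 n2962 = n1452 := d9_2 (iv F2567) D2962 (iv D1452)
def n2963 : Q := act 3 n1448
theorem D2963 : act 3 n1448 = n2963 := rfl
theorem F5189 : act 0 n2963 = n1539 := d2_1 D2963 (iv D1539) (iv F2566)
def n2964 : Q := act 4 n1448
theorem D2964 : act 4 n1448 = n2964 := rfl
theorem F5192 : act 5 n2964 = n1454 := d18_2 (iv F2567) D2964 (iv D1454)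
theorem F5193 : act 6 n2477 = n2964 := d21_3 F2567 D1455 F4377 (iv D2964)
def n2965 : Q := act 6 n1448
theorem D2965 : act 6 n1448 = n2965 := rfl
theorem F5197 : act 4 n2965 = n2477 := d19_1 D2965 F5193 (iv D2964)
theorem F5198 : act 3 n1491 = n2965 := d15_5 F5197 (iv D2477) F2235 F2645 F2643
def n2966 : Q := act 3 n1450
theorem D2966 : act 3 n1450 = n2966 := rfl
theorem F5199 : act 0 n2966 = n1542 := d2_1 D2966 (iv D1542) (iv F2571)
theorem F5200 : act 1 n2966 = n2966 := d7_1 D2966 (iv D2966) F2572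
theorem F5201 : act 6 n2966 = n1451 := d17_2 D1450 D2966 (iv D1451) (iv D692) D691
def n2967 : Q := act 2 n1451
theorem D2967 : act 2 n1451 = n2967 := rfl
theorem F5202 : act 0 n2967 = n1543 := d1_1 D2967 (iv D1543) (iv F2573)
theorem F5203 : act 5 n2967 = n2960 := d13_2 (iv F2575) D2967 (iv D2960)
def n2968 : Q := act 3 n1452
theorem D2968 : act 3 n1452 = n2968 := rfl
theorem F5204 : act 1 n2968 = n1453 := d7_1 D2968 (iv D1453) D1452
def n2969 : Q := act 6 n1452
theorem D2969 : act 6 n1452 = n2969 := rfl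
theorem F5205 : act 1 n2969 = n1455 := d10_1 D2969 (iv D1455) D1452
theorem F5206 : act 2 n2969 = n2969 := d14_1 D2969 (iv D2969) F2576
def n2970 : Q := act 4 n1453
theorem D2970 : act 4 n1453 = n2970 := rfl
theorem F5207 : act 0 n2970 = n1547 := d3_1 D2970 (iv D1547) (iv F2577)
def n2971 : Q := act 5 n1453
theorem D2971 : act 5 n1453 = n2971 := rfl
theorem F5208 : act 0 n2971 = n1548 := d4_1 D2971 (iv D1548) (iv F2577)
def n2972 : Q := act 6 n1453
theorem D2972 : act 6 n1453 = n2972 := rfl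
def n2973 : Q := act 3 n1454
theorem D2973 : act 3 n1454 = n2973 := rfl
theorem F5210 : act 0 n2973 = n1550 := d2_1 D2973 (iv D1550) (iv F2578)
def n2974 : Q := act 6 n1454
theorem D2974 : act 6 n1454 = n2974 := rfl
theorem F5211 : act 0 n2974 = n1551 := d5_1 D2974 (iv D1551) (iv F2578)
theorem F5212 : act 2 n2974 = n1456 := d14_1 D2974 (iv D1456) (iv F2579)
theorem F5213 : act 4 n2974 = n1455 := d19_1 D2974 (iv D1455) D1454
theorem F5214 : act 5 n2974 = n2965 := d20_1 D2974 (iv D2965) F2567 D1455 F4377 F5193 F5192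
def n2975 : Q := act 3 n1455
theorem D2975 : act 3 n1455 = n2975 := rfl
theorem F5216 : act 5 n2975 = n2444 := d16_2 (iv F4377) D2975 (iv D2444) (iv F2236) D2477
def n2976 : Q := act 2 n1458
theorem D2976 : act 2 n1458 = n2976 := rfl
theorem F5217 : act 0 n2976 = n1460 := d1_1 D2976 (iv D1460) (iv F2590)
def n2977 : Q := act 4 n1458
theorem D2977 : act 4 n1458 = n2977 := rfl
theorem F5218 : act 0 n2977 = n1461 := d3_1 D2977 (iv D1461) (iv F2590)
theorem F5220 : act 3 n2977 = n1571 := d15_1 D2977 (iv D1571) (iv D750) F1299 D1458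
def n2978 : Q := act 5 n1458
theorem D2978 : act 5 n1458 = n2978 := rfl
theorem F5221 : act 0 n2978 = n1462 := d4_1 D2978 (iv D1462) (iv F2590)
def n2979 : Q := act 6 n1458
theorem D2979 : act 6 n1458 = n2979 := rfl
theorem F5223 : act 0 n2979 = n1463 := d5_1 D2979 (iv D1463) (iv F2590)
theorem F5224 : act 1 n2979 = n1588 := d10_1 D2979 (iv D1588) (iv F2591)
def n2980 : Q := act 3 n1459
theorem D2980 : act 3 n1459 = n2980 := rfl
def n2981 : Q := act 1 n1460
theorem D2981 : act 1 n1460 = n2981 := rfl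
theorem F5227 : act 2 n2981 = n1467 := d6_2 D1460 D2981 (iv D1467) (iv D700) (iv F1300)
def n2983 : Q := act 4 n1460
theorem D2983 : act 4 n1460 = n2983 := rfl
theorem F5228 : act 2 n2983 = n1461 := d12_1 D2983 (iv D1461) D1460
def n2984 : Q := act 5 n1460
theorem D2984 : act 5 n1460 = n2984 := rfl
theorem F5229 : act 2 n2984 = n1462 := d13_1 D2984 (iv D1462) D1460
def n2985 : Q := act 6 n1460
theorem D2985 : act 6 n1460 = n2985 := rfl
theorem F5230 : act 2 n2985 = n1463 := d14_1 D2985 (iv D1463) D1460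
def n2986 : Q := act 3 n1461
theorem D2986 : act 3 n1461 = n2986 := rfl
theorem F5231 : act 0 n2986 = n1571 := d2_1 D2986 (iv F5220) F5218
theorem F5232 : act 1 n2986 = n1471 := d7_1 D2986 (iv D1471) (iv F2596)
theorem F5233 : act 4 n2986 = n1464 := d15_2 D1461 D2986 (iv D1464) (iv D698) D697
def n2987 : Q := act 5 n1461
theorem D2987 : act 5 n1461 = n2987 := rfl
theorem F5234 : act 1 n2987 = n1472 := d9_1 D2987 (iv D1472) (iv F2596)
theorem F5235 : act 4 n2987 = n1462 := d18_1 D2987 (iv D1462) D1461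
def n2988 : Q := act 6 n1461
theorem D2988 : act 6 n1461 = n2988 := rfl
theorem F5236 : act 1 n2988 = n1473 := d10_1 D2988 (iv D1473) (iv F2596)
theorem F5237 : act 4 n2988 = n1463 := d19_1 D2988 (iv D1463) D1461
def n2989 : Q := act 6 n1462
theorem D2989 : act 6 n1462 = n2989 := rfl
theorem F5238 : act 1 n2989 = n1474 := d10_1 D2989 (iv D1474) (iv F2597)
theorem F5239 : act 5 n2989 = n2988 := d21_2 D1462 D2989 (iv D2988) (iv D1461)
def n2990 : Q := act 3 n1463
theorem D2990 : act 3 n1463 = n2990 := rfl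
theorem F5241 : act 6 n2990 = n1466 := d17_2 D1463 D2990 (iv D1466) (iv D699) D697
def n2991 : Q := act 5 n1463
theorem D2991 : act 5 n1463 = n2991 := rfl
theorem F5242 : act 1 n2991 = n1476 := d9_1 D2991 (iv D1476) (iv F2598)
theorem F5244 : act 6 n2991 = n2987 := d20_2 D1463 D2991 (iv D2987) D2988 (iv F5239) (iv D2989) (iv D1462)
def n2992 : Q := act 2 n1464
theorem D2992 : act 2 n1464 = n2992 := rfl
theorem F5245 : act 0 n2992 = n1570 := d1_1 D2992 (iv D1570) (iv F2599)
def n2993 : Q := act 5 n1464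
theorem D2993 : act 5 n1464 = n2993 := rfl
theorem F5246 : act 0 n2993 = n1572 := d4_1 D2993 (iv D1572) (iv F2599)
theorem F5247 : act 1 n2993 = n1478 := d9_1 D2993 (iv D1478) (iv F2600)
theorem F5248 : act 3 n2993 = n2978 := d16_1 D2993 (iv D2978) (iv D1458) (iv F1304) D1464
def n2994 : Q := act 6 n1464
theorem D2994 : act 6 n1464 = n2994 := rfl
theorem F5249 : act 0 n2994 = n1573 := d5_1 D2994 (iv D1573) (iv F2599)
theorem F5250 : act 1 n2994 = n1479 := d10_1 D2994 (iv D1479) (iv F2600)
def n2995 : Q := act 3 n1465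
theorem D2995 : act 3 n1465 = n2995 := rfl
theorem F5251 : act 0 n2995 = n1574 := d2_1 D2995 (iv D1574) (iv F2601)
theorem F5252 : act 1 n2995 = n1480 := d7_1 D2995 (iv D1480) (iv F2602)
def n2997 : Q := act 4 n1466
theorem D2997 : act 4 n1466 = n2997 := rfl
def n2998 : Q := act 5 n1466
theorem D2998 : act 5 n1466 = n2998 := rfl
theorem F5254 : act 1 n2998 = n1483 := d9_1 D2998 (iv D1483) (iv F2606)
theorem F5255 : act 6 n2697 = n2998 := d10_0 F5254 (iv F2617) D2697
def n3000 : Q := act 4 n1467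
theorem D3000 : act 4 n1467 = n3000 := rfl
theorem F5256 : act 1 n3000 = n1468 := d8_1 D3000 (iv D1468) D1467
def n3002 : Q := act 6 n1467
theorem D3002 : act 6 n1467 = n3002 := rfl
theorem F5258 : act 1 n3002 = n1470 := d10_1 D3002 (iv D1470) D1467
def n3003 : Q := act 3 n1468
theorem D3003 : act 3 n1468 = n3003 := rfl
def n3004 : Q := act 5 n1468
theorem D3004 : act 5 n1468 = n3004 := rfl
theorem F5259 : act 2 n3004 = n1472 := d13_1 D3004 (iv D1472) (iv F2607)
def n3005 : Q := act 6 n1468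
theorem D3005 : act 6 n1468 = n3005 := rfl
theorem F5261 : act 2 n3005 = n1473 := d14_1 D3005 (iv D1473) (iv F2607)
theorem F5262 : act 4 n3005 = n1470 := d19_1 D3005 (iv D1470) D1468
def n3007 : Q := act 6 n1469
theorem D3007 : act 6 n1469 = n3007 := rfl
theorem F5263 : act 2 n3007 = n1474 := d14_1 D3007 (iv D1474) (iv F2608)
def n3008 : Q := act 3 n1470
theorem D3008 : act 3 n1470 = n3008 := rfl
def n3009 : Q := act 5 n1470
theorem D3009 : act 5 n1470 = n3009 := rfl
def n3010 : Q := act 2 n1471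
theorem D3010 : act 2 n1471 = n3010 := rfl
theorem F5268 : act 4 n3010 = n1477 := d12_2 (iv F2610) D3010 (iv D1477)
def n3011 : Q := act 5 n1471
theorem D3011 : act 5 n1471 = n3011 := rfl
theorem F5269 : act 4 n3011 = n1478 := d18_1 D3011 (iv D1478) (iv F2610)
def n3012 : Q := act 6 n1471
theorem D3012 : act 6 n1471 = n3012 := rfl
theorem F5270 : act 4 n3012 = n1479 := d19_1 D3012 (iv D1479) (iv F2610)
def n3013 : Q := act 3 n1472
theorem D3013 : act 3 n1472 = n3013 := rfl
def n3014 : Q := act 3 n1473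
theorem D3014 : act 3 n1473 = n3014 := rfl
def n3015 : Q := act 3 n1474
theorem D3015 : act 3 n1474 = n3015 := rfl
def n3016 : Q := act 3 n1476
theorem D3016 : act 3 n1476 = n3016 := rfl
def n3017 : Q := act 1 n1477
theorem D3017 : act 1 n1477 = n3017 := rfl
def n3018 : Q := act 3 n1477
theorem D3018 : act 3 n1477 = n3018 := rfl
def n3019 : Q := act 5 n1477
theorem D3019 : act 5 n1477 = n3019 := rfl
theorem F5271 : act 2 n3019 = n1478 := d13_1 D3019 (iv D1478) D1477
def n3020 : Q := act 6 n1477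
theorem D3020 : act 6 n1477 = n3020 := rfl
theorem F5272 : act 2 n3020 = n1479 := d14_1 D3020 (iv D1479) D1477
def n3021 : Q := act 6 n1478
theorem D3021 : act 6 n1478 = n3021 := rfl
theorem F5273 : act 5 n3021 = n3012 := d21_2 D1478 D3021 (iv D3012) F2610
def n3022 : Q := act 3 n1479
theorem D3022 : act 3 n1479 = n3022 := rfl
theorem F5274 : act 6 n3022 = n1480 := d17_2 D1479 D3022 (iv D1480) (iv D705) D704
def n3023 : Q := act 5 n1479
theorem D3023 : act 5 n1479 = n3023 := rfl
theorem F5275 : act 4 n3023 = n3021 := d18_1 D3023 F5273 F5270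
theorem F5276 : act 6 n3023 = n3011 := d20_2 D1479 D3023 (iv D3011) D3012 (iv F5273) (iv D3021) (iv D1478)
def n3024 : Q := act 2 n1480
theorem D3024 : act 2 n1480 = n3024 := rfl
def n3025 : Q := act 4 n1480
theorem D3025 : act 4 n1480 = n3025 := rfl
theorem F5277 : act 3 n3025 = n1482 := d15_1 D3025 (iv D1482) (iv D706) (iv F1307) D1480
def n3026 : Q := act 5 n1480
theorem D3026 : act 5 n1480 = n3026 := rfl
theorem F5278 : act 3 n3026 = n1591 := d16_1 D3026 (iv D1591) (iv D757) (iv F1308) D1480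
def n3028 : Q := act 3 n1481
theorem D3028 : act 3 n1481 = n3028 := rfl
def n3029 : Q := act 5 n1482
theorem D3029 : act 5 n1482 = n3029 := rfl
theorem F5281 : act 4 n3029 = n1483 := d18_1 D3029 (iv D1483) D1482
theorem F5282 : act 6 n3029 = n2699 := d20_2 F4733 D3029 F4767 F2614 D1483 (iv F2617) (iv F4731)
def n3030 : Q := act 3 n1483
theorem D3030 : act 3 n1483 = n3030 := rfl
theorem F5283 : act 5 n3030 = n1484 := d16_2 D1483 D3030 (iv D1484) (iv D707) D706
def n3031 : Q := act 2 n1484
theorem D3031 : act 2 n1484 = n3031 := rfl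
theorem F5284 : act 6 n3031 = n2691 := d24_4 D333 D707 D1484 D3031 F4753 (iv D1321) F1206 F608 (iv D154) (iv D76) (iv F83) (iv D38) D37 D80 D160
def n3032 : Q := act 4 n1484
theorem D3032 : act 4 n1484 = n3032 := rfl
theorem F5285 : act 3 n3032 = n1590 := d15_1 D3032 (iv D1590) (iv D757) (iv F1310) D1484
def n3033 : Q := act 6 n1484
theorem D3033 : act 6 n1484 = n3033 := rfl
theorem F5286 : act 2 n3033 = n2691 := d14_1 D3033 (iv F5284) (iv D3031)
theorem F5287 : act 3 n3033 = n1588 := d17_1 D3033 (iv D1588) (iv D756) (iv F1311) D1484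
theorem F5288 : act 3 n2672 = n2690 := d24_10 (iv D3033) (iv F5283) (iv D3030) F2618 (iv D1324) (iv F2383) (iv D1315) (iv F2373) D2674 F4711 F4751 (iv D1320) D1319 D2691 (iv F5286)
theorem F5289 : act 3 n2531 = n2513 := d2_2 F5288 F4750 (iv F4704)
theorem F5290 : act 6 n2688 = n2670 := d17_4 D2672 F5288 (iv D2690) D2688 (iv D2670)
theorem F5291 : act 6 n2511 = n2529 := d5_2 F5290 F4699 (iv F4745)
theorem F5292 : act 5 n2694 = n3033 := d13_0 F5286 F4753 D2694
def n3034 : Q := act 1 n1485
theorem D3034 : act 1 n1485 = n3034 := rfl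
def n3035 : Q := act 3 n1485
theorem D3035 : act 3 n1485 = n3035 := rfl
def n3036 : Q := act 4 n1485
theorem D3036 : act 4 n1485 = n3036 := rfl
theorem F5293 : act 2 n3036 = n1486 := d12_1 D3036 (iv D1486) D1485
def n3037 : Q := act 5 n1485
theorem D3037 : act 5 n1485 = n3037 := rfl
theorem F5294 : act 2 n3037 = n1487 := d13_1 D3037 (iv D1487) D1485
def n3038 : Q := act 5 n1486
theorem D3038 : act 5 n1486 = n3038 := rfl
theorem F5295 : act 4 n3038 = n1487 := d18_1 D3038 (iv D1487) D1486
theorem F5296 : act 6 n3038 = n1492 := d21_1 D3038 F2627 F1315 D1486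
def n3039 : Q := act 6 n1487
theorem D3039 : act 6 n1487 = n3039 := rfl
theorem F5298 : act 4 n3039 = n1492 := d19_1 D3039 (iv F5296) F5295
def n3040 : Q := act 0 n1488
theorem D3040 : act 0 n1488 = n3040 := rfl
theorem F5300 : act 6 n3040 = n1495 := d5_2 (iv F2622) D3040 (iv D1495)
theorem F5302 : act 4 n1545 = n3040 := d22_9 (iv D3040) (iv D1488) (iv D709) (iv F1261) F1262 D1426 F2517 D1488 (iv F2691)
def n3041 : Q := act 3 n1488
theorem D3041 : act 3 n1488 = n3041 := rfl
theorem F5303 : act 1 n3041 = n1489 := d7_1 D3041 (iv D1489) D1488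
def n3042 : Q := act 4 n1488
theorem D3042 : act 4 n1488 = n3042 := rfl
theorem F5305 : act 1 n3042 = n1490 := d8_1 D3042 (iv D1490) D1488
theorem F5307 : act 6 n3042 = n1497 := d19_2 (iv F2622) D3042 (iv D1497)
def n3043 : Q := act 5 n1488
theorem D3043 : act 5 n1488 = n3043 := rfl
theorem F5308 : act 1 n3043 = n1491 := d9_1 D3043 (iv D1491) D1488
def n3044 : Q := act 2 n1489
theorem D3044 : act 2 n1489 = n3044 := rfl
def n3045 : Q := act 4 n1489
theorem D3045 : act 4 n1489 = n3045 := rfl
def n3046 : Q := act 5 n1489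
theorem D3046 : act 5 n1489 = n3046 := rfl
theorem F5309 : act 3 n3046 = n2974 := d16_1 D3046 F5214 (iv F5198) (iv D1491) D1489
def n3047 : Q := act 6 n1489
theorem D3047 : act 6 n1489 = n3047 := rfl
theorem F5310 : act 3 n3047 = n1502 := d17_1 D3047 (iv D1502) (iv D714) (iv F1312) D1489
def n3048 : Q := act 2 n1492
theorem D3048 : act 2 n1492 = n3048 := rfl
theorem F5311 : act 5 n3048 = n1493 := d13_2 (iv F2627) D3048 (iv D1493)
def n3049 : Q := act 1 n1493
theorem D3049 : act 1 n1493 = n3049 := rfl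
theorem F5312 : act 2 n3049 = n3034 := d6_2 D1493 D3049 (iv D3034) (iv D1485) (iv F1314)
theorem F5313 : act 6 n3049 = n3034 := d10_2 (iv F2628) D3049 (iv D3034)
def n3050 : Q := act 3 n1493
theorem D3050 : act 3 n1493 = n3050 := rfl
def n3051 : Q := act 4 n1493
theorem D3051 : act 4 n1493 = n3051 := rfl
theorem F5315 : act 6 n3051 = n3036 := d19_2 (iv F2628) D3051 (iv D3036)
def n3052 : Q := act 3 n1495
theorem D3052 : act 3 n1495 = n3052 := rfl
theorem F5316 : act 0 n3052 = n1496 := d2_1 D3052 (iv D1496) D1495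
theorem F5317 : act 1 n3052 = n1550 := d7_1 D3052 (iv D1550) (iv F2632)
def n3053 : Q := act 5 n1495
theorem D3053 : act 5 n1495 = n3053 := rfl
def n3054 : Q := act 2 n1496
theorem D3054 : act 2 n1496 = n3054 := rfl
def n3055 : Q := act 4 n1496
theorem D3055 : act 4 n1496 = n3055 := rfl
theorem F5321 : act 1 n3055 = n1500 := d8_1 D3055 (iv D1500) (iv F2634)
def n3056 : Q := act 5 n1496
theorem D3056 : act 5 n1496 = n3056 := rfl
def n3057 : Q := act 6 n1496
theorem D3057 : act 6 n1496 = n3057 := rfl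
theorem F5323 : act 1 n3057 = n1502 := d10_1 D3057 (iv D1502) (iv F2634)
def n3058 : Q := act 3 n1497
theorem D3058 : act 3 n1497 = n3058 := rfl
theorem F5324 : act 0 n3058 = n1544 := d2_1 D3058 (iv D1544) (iv F2635)
theorem F5325 : act 1 n3058 = n1503 := d7_1 D3058 (iv D1503) (iv F2636)
def n3059 : Q := act 5 n1497
theorem D3059 : act 5 n1497 = n3059 := rfl
theorem F5326 : act 0 n3059 = n1538 := d4_1 D3059 F2682 (iv F2635)
theorem F5327 : act 1 n3059 = n1504 := d9_1 D3059 (iv D1504) (iv F2636)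
theorem F5329 : act 4 n3059 = n1498 := d18_1 D3059 (iv D1498) D1497
theorem F5330 : act 6 n3059 = n3043 := d21_1 D3059 (iv D3043) F2622 D1497
def n3060 : Q := act 3 n1498
theorem D3060 : act 3 n1498 = n3060 := rfl
def n3061 : Q := act 6 n1498
theorem D3061 : act 6 n1498 = n3061 := rfl
theorem F5332 : act 1 n3061 = n1506 := d10_1 D3061 (iv D1506) (iv F2638)
theorem F5333 : act 4 n3061 = n3043 := d19_1 D3061 (iv F5330) F5329
theorem F5334 : act 5 n3061 = n3042 := d20_1 D3061 F5307 D3059 F5330 (iv D3043) F2622 D1498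
theorem F5335 : act 3 n2439 = n3061 := d7_0 F5332 (iv F2645) (iv F4334)
def n3062 : Q := act 1 n1499
theorem D3062 : act 1 n1499 = n3062 := rfl
def n3063 : Q := act 4 n1499
theorem D3063 : act 4 n1499 = n3063 := rfl
theorem F5336 : act 2 n3063 = n1500 := d12_1 D3063 (iv D1500) D1499
def n3065 : Q := act 6 n1499
theorem D3065 : act 6 n1499 = n3065 := rfl
theorem F5338 : act 2 n3065 = n1502 := d14_1 D3065 (iv D1502) D1499
def n3066 : Q := act 3 n1500
theorem D3066 : act 3 n1500 = n3066 := rfl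
theorem F5339 : act 4 n3066 = n1503 := d15_2 D1500 D3066 (iv D1503) (iv D715) D714
def n3067 : Q := act 5 n1500
theorem D3067 : act 5 n1500 = n3067 := rfl
theorem F5340 : act 4 n3067 = n1501 := d18_1 D3067 (iv D1501) D1500
def n3068 : Q := act 6 n1500
theorem D3068 : act 6 n1500 = n3068 := rfl
theorem F5341 : act 4 n3068 = n1502 := d19_1 D3068 (iv D1502) D1500
def n3069 : Q := act 3 n1501
theorem D3069 : act 3 n1501 = n3069 := rfl
theorem F5342 : act 5 n3069 = n1505 := d16_2 D1501 D3069 (iv D1505) (iv D716) D714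
def n3070 : Q := act 6 n1501
theorem D3070 : act 6 n1501 = n3070 := rfl
theorem F5343 : act 5 n3070 = n3068 := d21_2 D1501 D3070 (iv D3068) (iv D1500)
def n3071 : Q := act 5 n1502
theorem D3071 : act 5 n1502 = n3071 := rfl
theorem F5345 : act 6 n3071 = n3067 := d20_2 D1502 D3071 (iv D3067) D3068 (iv F5343) (iv D3070) (iv D1501)
def n3072 : Q := act 2 n1503
theorem D3072 : act 2 n1503 = n3072 := rfl
def n3073 : Q := act 5 n1503
theorem D3073 : act 5 n1503 = n3073 := rfl
def n3074 : Q := act 6 n1503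
theorem D3074 : act 6 n1503 = n3074 := rfl
def n3075 : Q := act 3 n1504
theorem D3075 : act 3 n1504 = n3075 := rfl
theorem F5346 : act 6 n3075 = n2963 := d17_2 (iv F2641) D3075 (iv D2963) D2965 (iv F5198)
def n3078 : Q := act 2 n1507
theorem D3078 : act 2 n1507 = n3078 := rfl
theorem F5347 : act 4 n3078 = n1543 := d12_2 (iv F2646) D3078 (iv D1543)
def n3079 : Q := act 6 n1507
theorem D3079 : act 6 n1507 = n3079 := rfl
theorem F5348 : act 3 n3079 = n3038 := d17_1 D3079 F5296 (iv D1492) (iv F1319) D1507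
theorem F5349 : act 4 n3079 = n1542 := d19_1 D3079 F2687 (iv F2646)
theorem F5350 : act 5 n3079 = n1508 := d21_2 F2680 D3079 F2647 D1537
def n3080 : Q := act 2 n1508
theorem D3080 : act 2 n1508 = n3080 := rfl
theorem F5351 : act 6 n3080 = n1536 := d14_2 (iv F2647) D3080 (iv D1536)
def n3081 : Q := act 4 n1508
theorem D3081 : act 4 n1508 = n3081 := rfl
theorem F5352 : act 1 n3081 = n3079 := d8_1 D3081 F5349 F2686
theorem F5353 : act 3 n3081 = n3039 := d15_1 D3081 F5298 (iv D1492) (iv F1320) D1508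
theorem F5354 : act 5 n3081 = n1542 := d18_2 F5350 D3081 (iv F5349)
theorem F5355 : act 6 n3081 = n1537 := d19_2 (iv F2647) D3081 (iv D1537)
def n3082 : Q := act 2 n1509
theorem D3082 : act 2 n1509 = n3082 := rfl
theorem F5356 : act 0 n3082 = n1511 := d1_1 D3082 (iv D1511) (iv F2648)
def n3083 : Q := act 4 n1509
theorem D3083 : act 4 n1509 = n3083 := rfl
theorem F5357 : act 0 n3083 = n1512 := d3_1 D3083 (iv D1512) (iv F2648)
theorem F5358 : act 1 n3083 = n1602 := d8_1 D3083 F2749 (iv F2649)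
theorem F5359 : act 3 n3083 = n1593 := d15_1 D3083 (iv D1593) (iv D758) F1323 D1509
def n3084 : Q := act 5 n1509
theorem D3084 : act 5 n1509 = n3084 := rfl
theorem F5360 : act 0 n3084 = n1513 := d4_1 D3084 (iv D1513) (iv F2648)
theorem F5361 : act 1 n3084 = n1609 := d9_1 D3084 (iv D1609) (iv F2649)
def n3085 : Q := act 6 n1509
theorem D3085 : act 6 n1509 = n3085 := rfl
theorem F5362 : act 0 n3085 = n1514 := d5_1 D3085 (iv D1514) (iv F2648)
theorem F5363 : act 1 n3085 = n1610 := d10_1 D3085 (iv D1610) (iv F2649)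
def n3086 : Q := act 3 n1510
theorem D3086 : act 3 n1510 = n3086 := rfl
theorem F5364 : act 0 n3086 = n1517 := d2_1 D3086 (iv D1517) (iv F2650)
theorem F5365 : act 1 n3086 = n1535 := d7_1 D3086 (iv D1535) (iv F2651)
def n3087 : Q := act 1 n1511
theorem D3087 : act 1 n1511 = n3087 := rfl
theorem F5366 : act 2 n3087 = n1518 := d6_2 D1511 D3087 (iv D1518) (iv D723) (iv F1324)
def n3088 : Q := act 3 n1511
theorem D3088 : act 3 n1511 = n3088 := rfl
def n3089 : Q := act 4 n1511
theorem D3089 : act 4 n1511 = n3089 := rfl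
theorem F5367 : act 2 n3089 = n1512 := d12_1 D3089 (iv D1512) D1511
def n3090 : Q := act 5 n1511
theorem D3090 : act 5 n1511 = n3090 := rfl
theorem F5368 : act 2 n3090 = n1513 := d13_1 D3090 (iv D1513) D1511
def n3091 : Q := act 6 n1511
theorem D3091 : act 6 n1511 = n3091 := rfl
theorem F5369 : act 2 n3091 = n1514 := d14_1 D3091 (iv D1514) D1511
def n3092 : Q := act 3 n1512
theorem D3092 : act 3 n1512 = n3092 := rfl
theorem F5370 : act 0 n3092 = n1593 := d2_1 D3092 (iv F5359) F5357
theorem F5371 : act 1 n3092 = n1522 := d7_1 D3092 (iv D1522) (iv F2654)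
theorem F5372 : act 4 n3092 = n1515 := d15_2 D1512 D3092 (iv D1515) (iv D721) D720
def n3093 : Q := act 5 n1512
theorem D3093 : act 5 n1512 = n3093 := rfl
theorem F5373 : act 1 n3093 = n1523 := d9_1 D3093 (iv D1523) (iv F2654)
theorem F5374 : act 4 n3093 = n1513 := d18_1 D3093 (iv D1513) D1512
def n3094 : Q := act 6 n1512
theorem D3094 : act 6 n1512 = n3094 := rfl
theorem F5375 : act 1 n3094 = n1524 := d10_1 D3094 (iv D1524) (iv F2654)
def n3095 : Q := act 3 n1513
theorem D3095 : act 3 n1513 = n3095 := rfl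
theorem F5377 : act 1 n3095 = n1525 := d7_1 D3095 (iv D1525) (iv F2655)
theorem F5378 : act 5 n3095 = n1517 := d16_2 D1513 D3095 (iv D1517) (iv D722) D720
def n3096 : Q := act 6 n1513
theorem D3096 : act 6 n1513 = n3096 := rfl
theorem F5379 : act 1 n3096 = n1526 := d10_1 D3096 (iv D1526) (iv F2655)
theorem F5380 : act 5 n3096 = n3094 := d21_2 D1513 D3096 (iv D3094) (iv D1512)
def n3097 : Q := act 5 n1514
theorem D3097 : act 5 n1514 = n3097 := rfl
theorem F5381 : act 1 n3097 = n1527 := d9_1 D3097 (iv D1527) (iv F2656)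
theorem F5383 : act 6 n3097 = n3093 := d20_2 D1514 D3097 (iv D3093) D3094 (iv F5380) (iv D3096) (iv D1513)
def n3098 : Q := act 2 n1515
theorem D3098 : act 2 n1515 = n3098 := rfl
theorem F5384 : act 0 n3098 = n1592 := d1_1 D3098 (iv D1592) (iv F2657)
def n3099 : Q := act 5 n1515
theorem D3099 : act 5 n1515 = n3099 := rfl
theorem F5385 : act 0 n3099 = n1594 := d4_1 D3099 (iv D1594) (iv F2657)
theorem F5386 : act 1 n3099 = n1529 := d9_1 D3099 (iv D1529) (iv F2658)
def n3100 : Q := act 6 n1515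
theorem D3100 : act 6 n1515 = n3100 := rfl
theorem F5387 : act 0 n3100 = n1595 := d5_1 D3100 (iv D1595) (iv F2657)
theorem F5388 : act 1 n3100 = n1530 := d10_1 D3100 (iv D1530) (iv F2658)
theorem F5389 : act 3 n3100 = n3085 := d17_1 D3100 (iv D3085) (iv D1509) (iv F1328) D1515
def n3101 : Q := act 3 n1516
theorem D3101 : act 3 n1516 = n3101 := rfl
theorem F5390 : act 0 n3101 = n1596 := d2_1 D3101 (iv D1596) (iv F2659)
theorem F5391 : act 1 n3101 = n1531 := d7_1 D3101 (iv D1531) (iv F2660)
def n3102 : Q := act 2 n1517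
theorem D3102 : act 2 n1517 = n3102 := rfl
def n3103 : Q := act 4 n1517
theorem D3103 : act 4 n1517 = n3103 := rfl
theorem F5392 : act 1 n3103 = n1533 := d8_1 D3103 (iv D1533) (iv F2664)
def n3104 : Q := act 6 n1517
theorem D3104 : act 6 n1517 = n3104 := rfl
theorem F5393 : act 1 n3104 = n1534 := d10_1 D3104 (iv D1534) (iv F2664)
theorem F5394 : act 5 n2638 = n3104 := d9_0 F5393 (iv F2677) D2638
def n3105 : Q := act 0 n1518
theorem D3105 : act 0 n1518 = n3105 := rfl
def n3106 : Q := act 4 n1518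
theorem D3106 : act 4 n1518 = n3106 := rfl
theorem F5395 : act 1 n3106 = n1519 := d8_1 D3106 (iv D1519) D1518
def n3107 : Q := act 5 n1518
theorem D3107 : act 5 n1518 = n3107 := rfl
def n3108 : Q := act 6 n1518
theorem D3108 : act 6 n1518 = n3108 := rfl
def n3109 : Q := act 3 n1519
theorem D3109 : act 3 n1519 = n3109 := rfl
def n3110 : Q := act 5 n1519
theorem D3110 : act 5 n1519 = n3110 := rfl
theorem F5398 : act 2 n3110 = n1523 := d13_1 D3110 (iv D1523) (iv F2665)
def n3111 : Q := act 6 n1519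
theorem D3111 : act 6 n1519 = n3111 := rfl
theorem F5400 : act 2 n3111 = n1524 := d14_1 D3111 (iv D1524) (iv F2665)
theorem F5401 : act 4 n3111 = n1521 := d19_1 D3111 (iv D1521) D1519
def n3113 : Q := act 6 n1520
theorem D3113 : act 6 n1520 = n3113 := rfl
theorem F5402 : act 2 n3113 = n1526 := d14_1 D3113 (iv D1526) (iv F2666)
theorem F5403 : act 5 n3113 = n3111 := d21_2 D1520 D3113 (iv D3111) (iv D1519)
theorem F5404 : act 3 n3111 = n2852 := d24_2 D3113 F5403 F4990 (iv D1392) D1391 (iv F4779) F4778 (iv D2645) (iv F4663) (iv D2642) (iv F2676) (iv D1534) (iv F2671) (iv D1525) (iv F2666)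
theorem F5405 : act 6 n2850 = n3109 := d17_4 D3111 F5404 (iv D2852) D2850 (iv D3109)
def n3116 : Q := act 2 n1522
theorem D3116 : act 2 n1522 = n3116 := rfl
theorem F5409 : act 4 n3116 = n1528 := d12_2 (iv F2668) D3116 (iv D1528)
def n3117 : Q := act 5 n1522
theorem D3117 : act 5 n1522 = n3117 := rfl
theorem F5410 : act 4 n3117 = n1529 := d18_1 D3117 (iv D1529) (iv F2668)
def n3118 : Q := act 6 n1522
theorem D3118 : act 6 n1522 = n3118 := rfl
theorem F5411 : act 4 n3118 = n1530 := d19_1 D3118 (iv D1530) (iv F2668)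
def n3119 : Q := act 3 n1523
theorem D3119 : act 3 n1523 = n3119 := rfl
def n3120 : Q := act 3 n1524
theorem D3120 : act 3 n1524 = n3120 := rfl
theorem F5412 : act 2 n3120 = n2522 := d23_4 (iv F4990) (iv F5404) F5400 D3120 (iv D2522) (iv F4438) (iv F5289) F4455 (iv F4199) F4198
def n3122 : Q := act 3 n1527
theorem D3122 : act 3 n1527 = n3122 := rfl
def n3123 : Q := act 1 n1528
theorem D3123 : act 1 n1528 = n3123 := rfl
def n3124 : Q := act 3 n1528
theorem D3124 : act 3 n1528 = n3124 := rfl
def n3125 : Q := act 5 n1528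
theorem D3125 : act 5 n1528 = n3125 := rfl
theorem F5413 : act 2 n3125 = n1529 := d13_1 D3125 (iv D1529) D1528
def n3126 : Q := act 6 n1528
theorem D3126 : act 6 n1528 = n3126 := rfl
theorem F5414 : act 2 n3126 = n1530 := d14_1 D3126 (iv D1530) D1528
def n3127 : Q := act 3 n1529
theorem D3127 : act 3 n1529 = n3127 := rfl
theorem F5415 : act 5 n3127 = n1531 := d16_2 D1529 D3127 (iv D1531) (iv D728) D727
def n3128 : Q := act 6 n1529
theorem D3128 : act 6 n1529 = n3128 := rfl
theorem F5416 : act 5 n3128 = n3118 := d21_2 D1529 D3128 (iv D3118) F2668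
def n3129 : Q := act 5 n1530
theorem D3129 : act 5 n1530 = n3129 := rfl
theorem F5417 : act 4 n3129 = n3128 := d18_1 D3129 F5416 F5411
theorem F5418 : act 6 n3129 = n3117 := d20_2 D1530 D3129 (iv D3117) D3118 (iv F5416) (iv D3128) (iv D1529)
def n3130 : Q := act 2 n1531
theorem D3130 : act 2 n1531 = n3130 := rfl
def n3131 : Q := act 4 n1531
theorem D3131 : act 4 n1531 = n3131 := rfl
theorem F5419 : act 3 n3131 = n1533 := d15_1 D3131 (iv D1533) (iv D729) (iv F1331) D1531
def n3132 : Q := act 6 n1531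
theorem D3132 : act 6 n1531 = n3132 := rfl
theorem F5420 : act 3 n3132 = n1613 := d17_1 D3132 (iv D1613) (iv D765) (iv F1332) D1531
def n3133 : Q := act 1 n1532
theorem D3133 : act 1 n1532 = n3133 := rfl
theorem F5421 : act 6 n3133 = n2605 := d10_2 (iv F2675) D3133 F4583
def n3134 : Q := act 3 n1532
theorem D3134 : act 3 n1532 = n3134 := rfl
def n3135 : Q := act 6 n1533
theorem D3135 : act 6 n1533 = n3135 := rfl
theorem F5423 : act 4 n3135 = n1534 := d19_1 D3135 (iv D1534) D1533
theorem F5424 : act 5 n3135 = n2640 := d20_1 D3135 F4658 F2671 D1534 (iv F2677) (iv F4623) (iv F4624)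
def n3136 : Q := act 3 n1534
theorem D3136 : act 3 n1534 = n3136 := rfl
theorem F5425 : act 6 n3136 = n1535 := d17_2 D1534 D3136 (iv D1535) (iv D730) D729
def n3138 : Q := act 4 n1535
theorem D3138 : act 4 n1535 = n3138 := rfl
theorem F5426 : act 3 n3138 = n1612 := d15_1 D3138 (iv D1612) (iv D765) (iv F1334) D1535
def n3139 : Q := act 5 n1535
theorem D3139 : act 5 n1535 = n3139 := rfl
theorem F5427 : act 3 n3139 = n1609 := d16_1 D3139 (iv D1609) (iv D764) (iv F1335) D1535
theorem F5428 : act 6 n2635 = n3139 := d24_0 (iv D3139) (iv D1535) F1333 (iv D346) (iv D166) (iv D82) F83 (iv D35) D34 D74 D148 D309 (iv F1188) D1293 D2635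
theorem F5429 : act 2 n3139 = n2633 := d14_1 F5428 F4646 D2635
def n3140 : Q := act 1 n1536
theorem D3140 : act 1 n1536 = n3140 := rfl
def n3141 : Q := act 3 n1536
theorem D3141 : act 3 n1536 = n3141 := rfl
def n3142 : Q := act 4 n1536
theorem D3142 : act 4 n1536 = n3142 := rfl
theorem F5431 : act 2 n3142 = n1537 := d12_1 D3142 (iv D1537) D1536
theorem F5432 : act 5 n3142 = n3078 := d18_2 F2688 D3142 F5347
def n3143 : Q := act 3 n1538
theorem D3143 : act 3 n1538 = n3143 := rfl
theorem F5433 : act 1 n3143 = n1539 := d7_1 D3143 (iv D1539) D1538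
def n3144 : Q := act 6 n1538
theorem D3144 : act 6 n1538 = n3144 := rfl
theorem F5436 : act 2 n3144 = n3061 := d14_1 D3144 (iv D3061) (iv F2681)
theorem F5437 : act 5 n3144 = n3040 := d21_2 (iv F2682) D3144 F5300 (iv F2633)
def n3145 : Q := act 2 n1539
theorem D3145 : act 2 n1539 = n3145 := rfl
def n3146 : Q := act 4 n1539
theorem D3146 : act 4 n1539 = n3146 := rfl
def n3147 : Q := act 5 n1539
theorem D3147 : act 5 n1539 = n3147 := rfl
theorem F5438 : act 3 n3147 = n1548 := d16_1 D3147 (iv D1548) (iv D737) (iv F1336) D1539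
def n3148 : Q := act 6 n1539
theorem D3148 : act 6 n1539 = n3148 := rfl
theorem F5439 : act 0 n3148 = n3075 := d5_1 D3148 F5346 F5189
theorem F5440 : act 3 n3148 = n2935 := d17_1 D3148 F5131 F5105 (iv D1541) D1539
def n3149 : Q := act 2 n1542
theorem D3149 : act 2 n1542 = n3149 := rfl
theorem F5441 : act 6 n3149 = n1543 := d14_2 (iv F2687) D3149 (iv D1543)
def n3150 : Q := act 1 n1543
theorem D3150 : act 1 n1543 = n3150 := rfl
theorem F5442 : act 2 n3150 = n3140 := d6_2 D1543 D3150 (iv D3140) (iv D1536) (iv F1340)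
theorem F5443 : act 5 n3150 = n3140 := d9_2 (iv F2688) D3150 (iv D3140)
def n3151 : Q := act 3 n1543
theorem D3151 : act 3 n1543 = n3151 := rfl
def n3152 : Q := act 2 n1544
theorem D3152 : act 2 n1544 = n3152 := rfl
def n3153 : Q := act 4 n1544
theorem D3153 : act 4 n1544 = n3153 := rfl
theorem F5444 : act 1 n3153 = n1547 := d8_1 D3153 (iv D1547) (iv F2689)
def n3154 : Q := act 5 n1544
theorem D3154 : act 5 n1544 = n3154 := rfl
theorem F5445 : act 1 n3154 = n1548 := d9_1 D3154 (iv D1548) (iv F2689)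
def n3155 : Q := act 6 n1544
theorem D3155 : act 6 n1544 = n3155 := rfl
theorem F5446 : act 1 n3155 = n1549 := d10_1 D3155 (iv D1549) (iv F2689)
def n3156 : Q := act 3 n1545
theorem D3156 : act 3 n1545 = n3156 := rfl
def n3157 : Q := act 5 n1545
theorem D3157 : act 5 n1545 = n3157 := rfl
theorem F5449 : act 1 n3157 = n1553 := d9_1 D3157 (iv D1553) (iv F2690)
theorem F5450 : act 2 n3157 = n3043 := d13_1 D3157 (iv D3043) (iv F2691)
theorem F5451 : act 4 n3157 = n3144 := d18_1 D3157 F5437 (iv F5302)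
theorem F5452 : act 6 n3157 = n3053 := d20_2 D1545 D3157 (iv D3053) (iv F5300) (iv F5437) (iv D3144) F2682
theorem F5453 : act 3 n2554 = n3157 := d7_0 F5449 F2698 (iv F4489)
def n3158 : Q := act 1 n1546
theorem D3158 : act 1 n1546 = n3158 := rfl
def n3159 : Q := act 4 n1546
theorem D3159 : act 4 n1546 = n3159 := rfl
theorem F5454 : act 2 n3159 = n1547 := d12_1 D3159 (iv D1547) D1546
def n3160 : Q := act 5 n1546
theorem D3160 : act 5 n1546 = n3160 := rfl
theorem F5455 : act 2 n3160 = n1548 := d13_1 D3160 (iv D1548) D1546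
def n3161 : Q := act 6 n1546
theorem D3161 : act 6 n1546 = n3161 := rfl
theorem F5456 : act 2 n3161 = n1549 := d14_1 D3161 (iv D1549) D1546
def n3162 : Q := act 3 n1547
theorem D3162 : act 3 n1547 = n3162 := rfl
theorem F5457 : act 4 n3162 = n1550 := d15_2 D1547 D3162 (iv D1550) (iv D738) D737
def n3163 : Q := act 5 n1547
theorem D3163 : act 5 n1547 = n3163 := rfl
theorem F5458 : act 4 n3163 = n1548 := d18_1 D3163 (iv D1548) D1547
def n3164 : Q := act 6 n1547
theorem D3164 : act 6 n1547 = n3164 := rfl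
theorem F5459 : act 4 n3164 = n1549 := d19_1 D3164 (iv D1549) D1547
def n3165 : Q := act 6 n1548
theorem D3165 : act 6 n1548 = n3165 := rfl
theorem F5460 : act 5 n3165 = n3164 := d21_2 D1548 D3165 (iv D3164) (iv D1547)
def n3166 : Q := act 3 n1549
theorem D3166 : act 3 n1549 = n3166 := rfl
theorem F5461 : act 6 n3166 = n1552 := d17_2 D1549 D3166 (iv D1552) (iv D739) D737
def n3167 : Q := act 5 n1549
theorem D3167 : act 5 n1549 = n3167 := rfl
theorem F5462 : act 4 n3167 = n3165 := d18_1 D3167 F5460 F5459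
theorem F5463 : act 6 n3167 = n3163 := d20_2 D1549 D3167 (iv D3163) D3164 (iv F5460) (iv D3165) (iv D1548)
def n3168 : Q := act 2 n1550
theorem D3168 : act 2 n1550 = n3168 := rfl
def n3169 : Q := act 5 n1550
theorem D3169 : act 5 n1550 = n3169 := rfl
def n3170 : Q := act 6 n1550
theorem D3170 : act 6 n1550 = n3170 := rfl
def n3171 : Q := act 3 n1551
theorem D3171 : act 3 n1551 = n3171 := rfl
theorem F5464 : act 0 n3171 = n3046 := d2_1 D3171 F5309 F5211
theorem F5465 : act 5 n3171 = n2921 := d16_2 (iv F2694) D3171 (iv D2921) D2923 F5105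
def n3172 : Q := act 2 n1552
theorem D3172 : act 2 n1552 = n3172 := rfl
def n3173 : Q := act 4 n1552
theorem D3173 : act 4 n1552 = n3173 := rfl
def n3174 : Q := act 2 n1554
theorem D3174 : act 2 n1554 = n3174 := rfl
def n3175 : Q := act 4 n1554
theorem D3175 : act 4 n1554 = n3175 := rfl
theorem F5466 : act 1 n3175 = n1557 := d8_1 D3175 (iv D1557) (iv F2699)
def n3176 : Q := act 5 n1554
theorem D3176 : act 5 n1554 = n3176 := rfl
theorem F5467 : act 1 n3176 = n1558 := d9_1 D3176 (iv D1558) (iv F2699)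
theorem F5468 : act 3 n3176 = n2900 := d16_1 D3176 (iv D2900) (iv D1415) (iv F1352) D1554
def n3177 : Q := act 6 n1554
theorem D3177 : act 6 n1554 = n3177 := rfl
theorem F5469 : act 1 n3177 = n1559 := d10_1 D3177 (iv D1559) (iv F2699)
def n3178 : Q := act 3 n1555
theorem D3178 : act 3 n1555 = n3178 := rfl
theorem F5470 : act 1 n3178 = n1561 := d7_1 D3178 (iv D1561) (iv F2700)
def n3179 : Q := act 1 n1556
theorem D3179 : act 1 n1556 = n3179 := rfl
theorem F5471 : act 3 n3179 = n1637 := d7_2 (iv F2703) D3179 (iv D1637)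
def n3180 : Q := act 4 n1556
theorem D3180 : act 4 n1556 = n3180 := rfl
theorem F5472 : act 0 n3180 = n1577 := d3_1 D3180 (iv D1577) (iv F2702)
theorem F5473 : act 2 n3180 = n1557 := d12_1 D3180 (iv D1557) D1556
def n3181 : Q := act 5 n1556
theorem D3181 : act 5 n1556 = n3181 := rfl
theorem F5474 : act 0 n3181 = n1578 := d4_1 D3181 (iv D1578) (iv F2702)
theorem F5475 : act 2 n3181 = n1558 := d13_1 D3181 (iv D1558) D1556
def n3182 : Q := act 6 n1556
theorem D3182 : act 6 n1556 = n3182 := rfl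
theorem F5476 : act 0 n3182 = n1579 := d5_1 D3182 (iv D1579) (iv F2702)
theorem F5477 : act 2 n3182 = n1559 := d14_1 D3182 (iv D1559) D1556
def n3183 : Q := act 3 n1557
theorem D3183 : act 3 n1557 = n3183 := rfl
theorem F5478 : act 0 n3183 = n1580 := d2_1 D3183 (iv D1580) (iv F2704)
theorem F5479 : act 4 n3183 = n1560 := d15_2 D1557 D3183 (iv D1560) (iv D744) D743
def n3184 : Q := act 5 n1557
theorem D3184 : act 5 n1557 = n3184 := rfl
theorem F5480 : act 0 n3184 = n1581 := d4_1 D3184 (iv D1581) (iv F2704)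
theorem F5481 : act 4 n3184 = n1558 := d18_1 D3184 (iv D1558) D1557
def n3185 : Q := act 6 n1557
theorem D3185 : act 6 n1557 = n3185 := rfl
theorem F5482 : act 0 n3185 = n1582 := d5_1 D3185 (iv D1582) (iv F2704)
theorem F5483 : act 4 n3185 = n1559 := d19_1 D3185 (iv D1559) D1557
def n3186 : Q := act 6 n1558
theorem D3186 : act 6 n1558 = n3186 := rfl
theorem F5484 : act 0 n3186 = n1583 := d5_1 D3186 (iv D1583) (iv F2705)
theorem F5485 : act 5 n3186 = n3185 := d21_2 D1558 D3186 (iv D3185) (iv D1557)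
def n3187 : Q := act 3 n1559
theorem D3187 : act 3 n1559 = n3187 := rfl
theorem F5486 : act 0 n3187 = n1584 := d2_1 D3187 (iv D1584) (iv F2707)
theorem F5487 : act 6 n3187 = n1561 := d17_2 D1559 D3187 (iv D1561) (iv D745) D743
def n3188 : Q := act 5 n1559
theorem D3188 : act 5 n1559 = n3188 := rfl
theorem F5488 : act 0 n3188 = n1585 := d4_1 D3188 (iv D1585) (iv F2707)
theorem F5489 : act 4 n3188 = n3186 := d18_1 D3188 F5485 F5483
theorem F5490 : act 6 n3188 = n3184 := d20_2 D1559 D3188 (iv D3184) D3185 (iv F5485) (iv D3186) (iv D1558)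
def n3189 : Q := act 2 n1560
theorem D3189 : act 2 n1560 = n3189 := rfl
def n3190 : Q := act 5 n1560
theorem D3190 : act 5 n1560 = n3190 := rfl
theorem F5493 : act 3 n3190 = n2912 := d16_1 D3190 (iv D2912) (iv D1421) (iv F1356) D1560
def n3191 : Q := act 6 n1560
theorem D3191 : act 6 n1560 = n3191 := rfl
theorem F5494 : act 0 n3191 = n1588 := d5_1 D3191 (iv D1588) (iv F2708)
def n3192 : Q := act 2 n1561
theorem D3192 : act 2 n1561 = n3192 := rfl
theorem F5495 : act 0 n3192 = n1589 := d1_1 D3192 (iv D1589) (iv F2709)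
def n3193 : Q := act 4 n1561
theorem D3193 : act 4 n1561 = n3193 := rfl
def n3194 : Q := act 5 n1561
theorem D3194 : act 5 n1561 = n3194 := rfl
theorem F5497 : act 0 n3194 = n1591 := d4_1 D3194 (iv D1591) (iv F2709)
theorem F5498 : act 6 n1682 = n3194 := d24_0 (iv D3194) (iv D1561) F1358 (iv D352) F346 (iv D156) F181 D131 F303 D177 D367 F694 D379 D798 D1682
theorem F5499 : act 2 n3194 = n1684 := d14_1 F5498 (iv D1684) D1682
theorem F5500 : act 5 n1684 = n3192 := d13_2 D3194 F5499 (iv D3192)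
def n3195 : Q := act 2 n1562
theorem D3195 : act 2 n1562 = n3195 := rfl
def n3196 : Q := act 4 n1562
theorem D3196 : act 4 n1562 = n3196 := rfl
theorem F5501 : act 1 n3196 = n1565 := d8_1 D3196 (iv D1565) (iv F2710)
def n3197 : Q := act 5 n1562
theorem D3197 : act 5 n1562 = n3197 := rfl
theorem F5502 : act 1 n3197 = n1566 := d9_1 D3197 (iv D1566) (iv F2710)
def n3198 : Q := act 6 n1562
theorem D3198 : act 6 n1562 = n3198 := rfl
theorem F5503 : act 1 n3198 = n1567 := d10_1 D3198 (iv D1567) (iv F2710)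
def n3199 : Q := act 3 n1563
theorem D3199 : act 3 n1563 = n3199 := rfl
theorem F5505 : act 1 n3199 = n1569 := d7_1 D3199 (iv D1569) (iv F2711)
def n3200 : Q := act 1 n1564
theorem D3200 : act 1 n1564 = n3200 := rfl
theorem F5506 : act 3 n3200 = n1668 := d7_2 (iv F2714) D3200 (iv D1668)
def n3201 : Q := act 4 n1564
theorem D3201 : act 4 n1564 = n3201 := rfl
theorem F5507 : act 0 n3201 = n1599 := d3_1 D3201 (iv D1599) (iv F2713)
theorem F5508 : act 2 n3201 = n1565 := d12_1 D3201 (iv D1565) D1564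
def n3202 : Q := act 5 n1564
theorem D3202 : act 5 n1564 = n3202 := rfl
theorem F5509 : act 0 n3202 = n1600 := d4_1 D3202 (iv D1600) (iv F2713)
theorem F5510 : act 2 n3202 = n1566 := d13_1 D3202 (iv D1566) D1564
def n3203 : Q := act 6 n1564
theorem D3203 : act 6 n1564 = n3203 := rfl
def n3204 : Q := act 3 n1565
theorem D3204 : act 3 n1565 = n3204 := rfl
theorem F5513 : act 0 n3204 = n1602 := d2_1 D3204 (iv D1602) (iv F2715)
def n3205 : Q := act 5 n1565
theorem D3205 : act 5 n1565 = n3205 := rfl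
theorem F5516 : act 4 n3205 = n1566 := d18_1 D3205 (iv D1566) D1565
def n3206 : Q := act 6 n1565
theorem D3206 : act 6 n1565 = n3206 := rfl
theorem F5518 : act 4 n3206 = n1567 := d19_1 D3206 (iv D1567) D1565
def n3207 : Q := act 3 n1566
theorem D3207 : act 3 n1566 = n3207 := rfl
theorem F5519 : act 0 n3207 = n1605 := d2_1 D3207 (iv D1605) (iv F2716)
theorem F5520 : act 5 n3207 = n1569 := d16_2 D1566 D3207 (iv D1569) (iv D749) D747
def n3208 : Q := act 6 n1566
theorem D3208 : act 6 n1566 = n3208 := rfl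
theorem F5521 : act 0 n3208 = n1606 := d5_1 D3208 (iv D1606) (iv F2716)
theorem F5522 : act 5 n3208 = n3206 := d21_2 D1566 D3208 (iv D3206) (iv D1565)
def n3210 : Q := act 2 n1568
theorem D3210 : act 2 n1568 = n3210 := rfl
def n3211 : Q := act 5 n1568
theorem D3211 : act 5 n1568 = n3211 := rfl
theorem F5527 : act 0 n3211 = n1609 := d4_1 D3211 (iv D1609) (iv F2719)
def n3212 : Q := act 6 n1568
theorem D3212 : act 6 n1568 = n3212 := rfl
theorem F5529 : act 3 n3212 = n2956 := d17_1 D3212 (iv D2956) (iv D1443) (iv F1364) D1568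
def n3213 : Q := act 2 n1569
theorem D3213 : act 2 n1569 = n3213 := rfl
theorem F5530 : act 0 n3213 = n1611 := d1_1 D3213 (iv D1611) (iv F2720)
theorem F5531 : act 6 n3213 = n1653 := d24_4 (iv F670) D749 D1569 D3213 (iv D1653) (iv D784) F700 (iv D180) (iv F361) (iv D176) F202 (iv F342) (iv D159) D158 D326
def n3214 : Q := act 4 n1569
theorem D3214 : act 4 n1569 = n3214 := rfl
theorem F5532 : act 0 n3214 = n1612 := d3_1 D3214 (iv D1612) (iv F2720)
def n3215 : Q := act 6 n1569
theorem D3215 : act 6 n1569 = n3215 := rfl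
theorem F5533 : act 0 n3215 = n1613 := d5_1 D3215 (iv D1613) (iv F2720)
theorem F5534 : act 2 n3215 = n1653 := d14_1 D3215 (iv F5531) (iv D3213)
theorem F5535 : act 5 n1651 = n3215 := d13_0 F5534 (iv D1653) D1651
def n3216 : Q := act 1 n1570
theorem D3216 : act 1 n1570 = n3216 := rfl
theorem F5536 : act 2 n3216 = n1575 := d6_2 D1570 D3216 (iv D1575) (iv D752) (iv F1367)
def n3217 : Q := act 3 n1570
theorem D3217 : act 3 n1570 = n3217 := rfl
def n3218 : Q := act 4 n1570
theorem D3218 : act 4 n1570 = n3218 := rfl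
theorem F5537 : act 2 n3218 = n1571 := d12_1 D3218 (iv D1571) D1570
def n3219 : Q := act 5 n1570
theorem D3219 : act 5 n1570 = n3219 := rfl
theorem F5538 : act 2 n3219 = n1572 := d13_1 D3219 (iv D1572) D1570
def n3220 : Q := act 6 n1570
theorem D3220 : act 6 n1570 = n3220 := rfl
theorem F5539 : act 2 n3220 = n1573 := d14_1 D3220 (iv D1573) D1570
def n3221 : Q := act 5 n1571
theorem D3221 : act 5 n1571 = n3221 := rfl
theorem F5540 : act 1 n3221 = n1581 := d9_1 D3221 (iv D1581) (iv F2721)
theorem F5541 : act 4 n3221 = n1572 := d18_1 D3221 (iv D1572) D1571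
def n3222 : Q := act 6 n1571
theorem D3222 : act 6 n1571 = n3222 := rfl
theorem F5542 : act 1 n3222 = n1582 := d10_1 D3222 (iv D1582) (iv F2721)
theorem F5543 : act 4 n3222 = n1573 := d19_1 D3222 (iv D1573) D1571
def n3223 : Q := act 6 n1572
theorem D3223 : act 6 n1572 = n3223 := rfl
theorem F5544 : act 1 n3223 = n1583 := d10_1 D3223 (iv D1583) (iv F2722)
theorem F5545 : act 5 n3223 = n3222 := d21_2 D1572 D3223 (iv D3222) (iv D1571)
def n3224 : Q := act 3 n1573
theorem D3224 : act 3 n1573 = n3224 := rfl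
theorem F5546 : act 1 n3224 = n1584 := d7_1 D3224 (iv D1584) (iv F2724)
theorem F5547 : act 6 n3224 = n1574 := d17_2 D1573 D3224 (iv D1574) (iv D751) D750
def n3225 : Q := act 5 n1573
theorem D3225 : act 5 n1573 = n3225 := rfl
theorem F5548 : act 1 n3225 = n1585 := d9_1 D3225 (iv D1585) (iv F2724)
theorem F5549 : act 4 n3225 = n3223 := d18_1 D3225 F5545 F5543
theorem F5550 : act 6 n3225 = n3221 := d20_2 D1573 D3225 (iv D3221) D3222 (iv F5545) (iv D3223) (iv D1572)
def n3226 : Q := act 2 n1574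
theorem D3226 : act 2 n1574 = n3226 := rfl
def n3227 : Q := act 4 n1574
theorem D3227 : act 4 n1574 = n3227 := rfl
def n3228 : Q := act 5 n1574
theorem D3228 : act 5 n1574 = n3228 := rfl
theorem F5552 : act 1 n3228 = n1591 := d9_1 D3228 (iv D1591) (iv F2725)
def n3229 : Q := act 0 n1575
theorem D3229 : act 0 n1575 = n3229 := rfl
def n3230 : Q := act 3 n1575
theorem D3230 : act 3 n1575 = n3230 := rfl
theorem F5553 : act 1 n3230 = n1576 := d7_1 D3230 (iv D1576) D1575
def n3231 : Q := act 4 n1575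
theorem D3231 : act 4 n1575 = n3231 := rfl
theorem F5554 : act 1 n3231 = n1577 := d8_1 D3231 (iv D1577) D1575
def n3232 : Q := act 5 n1575
theorem D3232 : act 5 n1575 = n3232 := rfl
theorem F5555 : act 1 n3232 = n1578 := d9_1 D3232 (iv D1578) D1575
def n3233 : Q := act 6 n1575
theorem D3233 : act 6 n1575 = n3233 := rfl
theorem F5556 : act 1 n3233 = n1579 := d10_1 D3233 (iv D1579) D1575
def n3234 : Q := act 4 n1576
theorem D3234 : act 4 n1576 = n3234 := rfl
theorem F5557 : act 0 n3234 = n1638 := d3_1 D3234 (iv D1638) (iv F2726)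
theorem F5558 : act 2 n3234 = n1616 := d12_1 D3234 (iv D1616) (iv F2727)
def n3235 : Q := act 5 n1576
theorem D3235 : act 5 n1576 = n3235 := rfl
theorem F5559 : act 0 n3235 = n1639 := d4_1 D3235 (iv D1639) (iv F2726)
theorem F5560 : act 2 n3235 = n1617 := d13_1 D3235 (iv D1617) (iv F2727)
def n3236 : Q := act 6 n1576
theorem D3236 : act 6 n1576 = n3236 := rfl
theorem F5561 : act 0 n3236 = n1640 := d5_1 D3236 (iv D1640) (iv F2726)
theorem F5562 : act 2 n3236 = n1618 := d14_1 D3236 (iv D1618) (iv F2727)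
def n3237 : Q := act 3 n1577
theorem D3237 : act 3 n1577 = n3237 := rfl
def n3238 : Q := act 5 n1577
theorem D3238 : act 5 n1577 = n3238 := rfl
theorem F5563 : act 2 n3238 = n1581 := d13_1 D3238 (iv D1581) (iv F2728)
theorem F5564 : act 4 n3238 = n1578 := d18_1 D3238 (iv D1578) D1577
def n3239 : Q := act 6 n1577
theorem D3239 : act 6 n1577 = n3239 := rfl
theorem F5565 : act 2 n3239 = n1582 := d14_1 D3239 (iv D1582) (iv F2728)
theorem F5566 : act 4 n3239 = n1579 := d19_1 D3239 (iv D1579) D1577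
def n3240 : Q := act 3 n1578
theorem D3240 : act 3 n1578 = n3240 := rfl
def n3241 : Q := act 6 n1578
theorem D3241 : act 6 n1578 = n3241 := rfl
theorem F5567 : act 2 n3241 = n1583 := d14_1 D3241 (iv D1583) (iv F2729)
theorem F5568 : act 5 n3241 = n3239 := d21_2 D1578 D3241 (iv D3239) (iv D1577)
def n3242 : Q := act 3 n1579
theorem D3242 : act 3 n1579 = n3242 := rfl
def n3243 : Q := act 5 n1579
theorem D3243 : act 5 n1579 = n3243 := rfl
theorem F5569 : act 2 n3243 = n1585 := d13_1 D3243 (iv D1585) (iv F2730)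
theorem F5570 : act 4 n3243 = n3241 := d18_1 D3243 F5568 F5566
theorem F5571 : act 6 n3243 = n3238 := d20_2 D1579 D3243 (iv D3238) D3239 (iv F5568) (iv D3241) (iv D1578)
def n3244 : Q := act 2 n1580
theorem D3244 : act 2 n1580 = n3244 := rfl
theorem F5572 : act 4 n3244 = n1586 := d12_2 (iv F2731) D3244 (iv D1586)
def n3245 : Q := act 5 n1580
theorem D3245 : act 5 n1580 = n3245 := rfl
theorem F5573 : act 4 n3245 = n1587 := d18_1 D3245 (iv D1587) (iv F2731)
def n3247 : Q := act 3 n1581
theorem D3247 : act 3 n1581 = n3247 := rfl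
theorem F5575 : act 4 n3247 = n3013 := d15_2 (iv F2732) D3247 (iv D3013) F2611 (iv F1370)
def n3248 : Q := act 3 n1582
theorem D3248 : act 3 n1582 = n3248 := rfl
def n3249 : Q := act 3 n1583
theorem D3249 : act 3 n1583 = n3249 := rfl
theorem F5576 : act 6 n3249 = n3015 := d17_2 D1583 D3249 (iv D3015) (iv D1474) (iv F1370)
def n3250 : Q := act 2 n1584
theorem D3250 : act 2 n1584 = n3250 := rfl
theorem F5577 : act 6 n3250 = n1589 := d14_2 (iv F2735) D3250 (iv D1589)
def n3252 : Q := act 5 n1584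
theorem D3252 : act 5 n1584 = n3252 := rfl
def n3253 : Q := act 3 n1585
theorem D3253 : act 3 n1585 = n3253 := rfl
def n3254 : Q := act 1 n1586
theorem D3254 : act 1 n1586 = n3254 := rfl
def n3255 : Q := act 3 n1586
theorem D3255 : act 3 n1586 = n3255 := rfl
def n3256 : Q := act 5 n1586
theorem D3256 : act 5 n1586 = n3256 := rfl
theorem F5579 : act 2 n3256 = n1587 := d13_1 D3256 (iv D1587) D1586
def n3257 : Q := act 6 n1586
theorem D3257 : act 6 n1586 = n3257 := rfl
theorem F5580 : act 2 n3257 = n1588 := d14_1 D3257 (iv D1588) D1586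
def n3260 : Q := act 1 n1589
theorem D3260 : act 1 n1589 = n3260 := rfl
def n3261 : Q := act 3 n1589
theorem D3261 : act 3 n1589 = n3261 := rfl
def n3263 : Q := act 5 n1589
theorem D3263 : act 5 n1589 = n3263 := rfl
theorem F5585 : act 0 n3263 = n1684 := d4_1 D3263 F5500 F5495
theorem F5586 : act 2 n3263 = n1591 := d13_1 D3263 (iv D1591) D1589
theorem F5587 : act 6 n1627 = n3263 := d5_0 F5585 (iv D1684) (iv F2772)
def n3264 : Q := act 5 n1590
theorem D3264 : act 5 n1590 = n3264 := rfl
theorem F5588 : act 4 n3264 = n1591 := d18_1 D3264 (iv D1591) D1590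
theorem F5589 : act 6 n3264 = n3252 := d21_1 D3264 (iv D3252) F2735 D1590
def n3265 : Q := act 6 n1591
theorem D3265 : act 6 n1591 = n3265 := rfl
theorem F5591 : act 2 n3265 = n1627 := d14_1 D3265 F5587 F5586
theorem F5592 : act 4 n3265 = n3252 := d19_1 D3265 (iv F5589) F5588
def n3266 : Q := act 1 n1592
theorem D3266 : act 1 n1592 = n3266 := rfl
theorem F5594 : act 2 n3266 = n1597 := d6_2 D1592 D3266 (iv D1597) (iv D760) (iv F1371)
def n3267 : Q := act 3 n1592
theorem D3267 : act 3 n1592 = n3267 := rfl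
def n3268 : Q := act 4 n1592
theorem D3268 : act 4 n1592 = n3268 := rfl
theorem F5595 : act 2 n3268 = n1593 := d12_1 D3268 (iv D1593) D1592
def n3269 : Q := act 5 n1592
theorem D3269 : act 5 n1592 = n3269 := rfl
theorem F5596 : act 2 n3269 = n1594 := d13_1 D3269 (iv D1594) D1592
def n3270 : Q := act 6 n1592
theorem D3270 : act 6 n1592 = n3270 := rfl
theorem F5597 : act 2 n3270 = n1595 := d14_1 D3270 (iv D1595) D1592
def n3271 : Q := act 5 n1593
theorem D3271 : act 5 n1593 = n3271 := rfl
theorem F5598 : act 1 n3271 = n1603 := d9_1 D3271 (iv D1603) (iv F2739)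
theorem F5599 : act 4 n3271 = n1594 := d18_1 D3271 (iv D1594) D1593
def n3272 : Q := act 6 n1593
theorem D3272 : act 6 n1593 = n3272 := rfl
theorem F5601 : act 4 n3272 = n1595 := d19_1 D3272 (iv D1595) D1593
def n3273 : Q := act 3 n1594
theorem D3273 : act 3 n1594 = n3273 := rfl
theorem F5602 : act 1 n3273 = n1605 := d7_1 D3273 (iv D1605) (iv F2740)
theorem F5603 : act 5 n3273 = n1596 := d16_2 D1594 D3273 (iv D1596) (iv D759) D758
def n3274 : Q := act 6 n1594
theorem D3274 : act 6 n1594 = n3274 := rfl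
theorem F5604 : act 1 n3274 = n1606 := d10_1 D3274 (iv D1606) (iv F2740)
theorem F5605 : act 5 n3274 = n3272 := d21_2 D1594 D3274 (iv D3272) (iv D1593)
def n3275 : Q := act 5 n1595
theorem D3275 : act 5 n1595 = n3275 := rfl
theorem F5606 : act 1 n3275 = n1607 := d9_1 D3275 (iv D1607) (iv F2741)
theorem F5607 : act 4 n3275 = n3274 := d18_1 D3275 F5605 F5601
theorem F5608 : act 6 n3275 = n3271 := d20_2 D1595 D3275 (iv D3271) D3272 (iv F5605) (iv D3274) (iv D1594)
def n3276 : Q := act 2 n1596
theorem D3276 : act 2 n1596 = n3276 := rfl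
def n3277 : Q := act 4 n1596
theorem D3277 : act 4 n1596 = n3277 := rfl
theorem F5609 : act 1 n3277 = n1612 := d8_1 D3277 (iv D1612) (iv F2743)
def n3278 : Q := act 6 n1596
theorem D3278 : act 6 n1596 = n3278 := rfl
theorem F5610 : act 1 n3278 = n1613 := d10_1 D3278 (iv D1613) (iv F2743)
def n3279 : Q := act 0 n1597
theorem D3279 : act 0 n1597 = n3279 := rfl
def n3280 : Q := act 3 n1597
theorem D3280 : act 3 n1597 = n3280 := rfl
theorem F5611 : act 1 n3280 = n1598 := d7_1 D3280 (iv D1598) D1597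
def n3281 : Q := act 4 n1597
theorem D3281 : act 4 n1597 = n3281 := rfl
theorem F5612 : act 1 n3281 = n1599 := d8_1 D3281 (iv D1599) D1597
def n3282 : Q := act 5 n1597
theorem D3282 : act 5 n1597 = n3282 := rfl
theorem F5613 : act 1 n3282 = n1600 := d9_1 D3282 (iv D1600) D1597
def n3283 : Q := act 6 n1597
theorem D3283 : act 6 n1597 = n3283 := rfl
theorem F5614 : act 1 n3283 = n1601 := d10_1 D3283 (iv D1601) D1597
def n3284 : Q := act 4 n1598
theorem D3284 : act 4 n1598 = n3284 := rfl
theorem F5615 : act 0 n3284 = n1669 := d3_1 D3284 (iv D1669) (iv F2744)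
theorem F5616 : act 2 n3284 = n1623 := d12_1 D3284 (iv D1623) (iv F2745)
def n3285 : Q := act 5 n1598
theorem D3285 : act 5 n1598 = n3285 := rfl
theorem F5617 : act 0 n3285 = n1670 := d4_1 D3285 (iv D1670) (iv F2744)
theorem F5618 : act 2 n3285 = n1624 := d13_1 D3285 (iv D1624) (iv F2745)
def n3286 : Q := act 6 n1598
theorem D3286 : act 6 n1598 = n3286 := rfl
theorem F5620 : act 2 n3286 = n1625 := d14_1 D3286 (iv D1625) (iv F2745)
def n3287 : Q := act 3 n1599
theorem D3287 : act 3 n1599 = n3287 := rfl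
def n3288 : Q := act 5 n1599
theorem D3288 : act 5 n1599 = n3288 := rfl
theorem F5621 : act 2 n3288 = n1603 := d13_1 D3288 (iv D1603) (iv F2746)
theorem F5622 : act 4 n3288 = n1600 := d18_1 D3288 (iv D1600) D1599
def n3289 : Q := act 6 n1599
theorem D3289 : act 6 n1599 = n3289 := rfl
theorem F5623 : act 2 n3289 = n1604 := d14_1 D3289 (iv D1604) (iv F2746)
theorem F5624 : act 4 n3289 = n1601 := d19_1 D3289 (iv D1601) D1599
def n3290 : Q := act 3 n1600
theorem D3290 : act 3 n1600 = n3290 := rfl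
def n3291 : Q := act 6 n1600
theorem D3291 : act 6 n1600 = n3291 := rfl
theorem F5625 : act 2 n3291 = n1606 := d14_1 D3291 (iv D1606) (iv F2747)
theorem F5626 : act 5 n3291 = n3289 := d21_2 D1600 D3291 (iv D3289) (iv D1599)
def n3292 : Q := act 3 n1601
theorem D3292 : act 3 n1601 = n3292 := rfl
def n3293 : Q := act 5 n1601
theorem D3293 : act 5 n1601 = n3293 := rfl
theorem F5627 : act 2 n3293 = n1607 := d13_1 D3293 (iv D1607) (iv F2748)
theorem F5628 : act 4 n3293 = n3291 := d18_1 D3293 F5626 F5624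
theorem F5629 : act 6 n3293 = n3288 := d20_2 D1601 D3293 (iv D3288) D3289 (iv F5626) (iv D3291) (iv D1600)
def n3294 : Q := act 2 n1602
theorem D3294 : act 2 n1602 = n3294 := rfl
theorem F5630 : act 4 n3294 = n1608 := d12_2 (iv F2749) D3294 (iv D1608)
def n3295 : Q := act 5 n1602
theorem D3295 : act 5 n1602 = n3295 := rfl
theorem F5631 : act 4 n3295 = n1609 := d18_1 D3295 (iv D1609) (iv F2749)
def n3296 : Q := act 6 n1602
theorem D3296 : act 6 n1602 = n3296 := rfl
theorem F5632 : act 4 n3296 = n1610 := d19_1 D3296 (iv D1610) (iv F2749)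
def n3297 : Q := act 3 n1603
theorem D3297 : act 3 n1603 = n3297 := rfl
def n3298 : Q := act 3 n1604
theorem D3298 : act 3 n1604 = n3298 := rfl
theorem F5633 : act 4 n3298 = n3120 := d15_2 (iv F2751) D3298 (iv D3120) F2670 (iv F1374)
def n3299 : Q := act 2 n1605
theorem D3299 : act 2 n1605 = n3299 := rfl
theorem F5634 : act 5 n3299 = n1611 := d13_2 (iv F2752) D3299 (iv D1611)
def n3300 : Q := act 4 n1605
theorem D3300 : act 4 n1605 = n3300 := rfl
theorem F5635 : act 5 n3300 = n1612 := d18_2 (iv F2752) D3300 (iv D1612)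
def n3301 : Q := act 6 n1605
theorem D3301 : act 6 n1605 = n3301 := rfl
def n3302 : Q := act 3 n1606
theorem D3302 : act 3 n1606 = n3302 := rfl
def n3303 : Q := act 3 n1607
theorem D3303 : act 3 n1607 = n3303 := rfl
theorem F5636 : act 5 n3303 = n3122 := d16_2 D1607 D3303 (iv D3122) (iv D1527) (iv F1374)
def n3304 : Q := act 1 n1608
theorem D3304 : act 1 n1608 = n3304 := rfl
def n3305 : Q := act 3 n1608
theorem D3305 : act 3 n1608 = n3305 := rfl
def n3306 : Q := act 5 n1608
theorem D3306 : act 5 n1608 = n3306 := rfl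
theorem F5637 : act 2 n3306 = n1609 := d13_1 D3306 (iv D1609) D1608
def n3307 : Q := act 6 n1608
theorem D3307 : act 6 n1608 = n3307 := rfl
theorem F5638 : act 2 n3307 = n1610 := d14_1 D3307 (iv D1610) D1608
def n3308 : Q := act 6 n1609
theorem D3308 : act 6 n1609 = n3308 := rfl
theorem F5639 : act 5 n3308 = n3296 := d21_2 D1609 D3308 (iv D3296) F2749
def n3309 : Q := act 5 n1610
theorem D3309 : act 5 n1610 = n3309 := rfl
theorem F5640 : act 4 n3309 = n3308 := d18_1 D3309 F5639 F5632
theorem F5641 : act 6 n3309 = n3295 := d20_2 D1610 D3309 (iv D3295) D3296 (iv F5639) (iv D3308) (iv D1609)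
def n3310 : Q := act 1 n1611
theorem D3310 : act 1 n1611 = n3310 := rfl
def n3312 : Q := act 4 n1611
theorem D3312 : act 4 n1611 = n3312 := rfl
theorem F5642 : act 2 n3312 = n1612 := d12_1 D3312 (iv D1612) D1611
def n3313 : Q := act 6 n1611
theorem D3313 : act 6 n1611 = n3313 := rfl
theorem F5643 : act 0 n3313 = n1653 := d5_1 D3313 (iv F5531) F5530
theorem F5644 : act 2 n3313 = n1613 := d14_1 D3313 (iv D1613) D1611
theorem F5645 : act 5 n3313 = n1620 := d24_1 D3313 (iv D1620) F1381 (iv D366) F361 (iv D90) F94 (iv F190) (iv D83) D82 D164 (iv F355) D363 D765 D1611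
def n3314 : Q := act 6 n1612
theorem D3314 : act 6 n1612 = n3314 := rfl
theorem F5646 : act 4 n3314 = n1613 := d19_1 D3314 (iv D1613) D1612
theorem F5647 : act 5 n3314 = n3301 := d21_2 F5635 D3314 (iv D3301) D3300
def n3315 : Q := act 5 n1613
theorem D3315 : act 5 n1613 = n3315 := rfl
theorem F5648 : act 0 n3315 = n1651 := d4_1 D3315 F5535 F5533
theorem F5649 : act 2 n3315 = n1620 := d13_1 D3315 (iv F5645) F5644
theorem F5650 : act 4 n3315 = n3301 := d18_1 D3315 (iv F5647) F5646
theorem F5651 : act 6 n3315 = n3300 := d20_2 D1613 D3315 F5635 D3314 F5647 (iv D3301) F2752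
def n3316 : Q := act 2 n1614
theorem D3316 : act 2 n1614 = n3316 := rfl
def n3317 : Q := act 4 n1614
theorem D3317 : act 4 n1614 = n3317 := rfl
theorem F5652 : act 1 n3317 = n1616 := d8_1 D3317 (iv D1616) (iv F2757)
def n3318 : Q := act 5 n1614
theorem D3318 : act 5 n1614 = n3318 := rfl
theorem F5653 : act 1 n3318 = n1617 := d9_1 D3318 (iv D1617) (iv F2757)
theorem F5654 : act 3 n3318 = n1632 := d16_1 D3318 (iv D1632) (iv D775) (iv F1375) D1614
def n3319 : Q := act 6 n1614
theorem D3319 : act 6 n1614 = n3319 := rfl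
theorem F5655 : act 1 n3319 = n1618 := d10_1 D3319 (iv D1618) (iv F2757)
def n3320 : Q := act 3 n1615
theorem D3320 : act 3 n1615 = n3320 := rfl
theorem F5656 : act 1 n3320 = n1620 := d7_1 D3320 (iv D1620) (iv F2758)
def n3321 : Q := act 3 n1616
theorem D3321 : act 3 n1616 = n3321 := rfl
theorem F5657 : act 0 n3321 = n1641 := d2_1 D3321 (iv D1641) (iv F2759)
theorem F5658 : act 4 n3321 = n1619 := d15_2 D1616 D3321 (iv D1619) (iv D768) D767
def n3322 : Q := act 5 n1616
theorem D3322 : act 5 n1616 = n3322 := rfl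
theorem F5659 : act 0 n3322 = n1642 := d4_1 D3322 (iv D1642) (iv F2759)
theorem F5660 : act 4 n3322 = n1617 := d18_1 D3322 (iv D1617) D1616
def n3323 : Q := act 6 n1616
theorem D3323 : act 6 n1616 = n3323 := rfl
theorem F5661 : act 0 n3323 = n1643 := d5_1 D3323 (iv D1643) (iv F2759)
theorem F5662 : act 4 n3323 = n1618 := d19_1 D3323 (iv D1618) D1616
def n3324 : Q := act 6 n1617
theorem D3324 : act 6 n1617 = n3324 := rfl
theorem F5663 : act 0 n3324 = n1644 := d5_1 D3324 (iv D1644) (iv F2760)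
theorem F5664 : act 5 n3324 = n3323 := d21_2 D1617 D3324 (iv D3323) (iv D1616)
def n3325 : Q := act 3 n1618
theorem D3325 : act 3 n1618 = n3325 := rfl
theorem F5665 : act 0 n3325 = n1645 := d2_1 D3325 (iv D1645) (iv F2762)
theorem F5666 : act 6 n3325 = n1620 := d17_2 D1618 D3325 (iv D1620) (iv D769) D767
theorem F5667 : act 2 n3300 = n3325 := d14_3 F5666 (iv F5649) F5651
theorem F5668 : act 5 n3312 = n3325 := d21_0 F5666 (iv F5645) (iv D3313) D3312
theorem F5669 : act 4 n3325 = n3299 := d21_4 F5634 D3313 F5645 (iv F5666)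
def n3326 : Q := act 5 n1618
theorem D3326 : act 5 n1618 = n3326 := rfl
theorem F5670 : act 0 n3326 = n1646 := d4_1 D3326 (iv D1646) (iv F2762)
theorem F5671 : act 4 n3326 = n3324 := d18_1 D3326 F5664 F5662
theorem F5672 : act 6 n3326 = n3322 := d20_2 D1618 D3326 (iv D3322) D3323 (iv F5664) (iv D3324) (iv D1617)
def n3327 : Q := act 2 n1619
theorem D3327 : act 2 n1619 = n3327 := rfl
theorem F5673 : act 0 n3327 = n1647 := d1_1 D3327 (iv D1647) (iv F2763)
def n3328 : Q := act 5 n1619
theorem D3328 : act 5 n1619 = n3328 := rfl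
theorem F5674 : act 0 n3328 = n1648 := d4_1 D3328 (iv D1648) (iv F2763)
theorem F5675 : act 3 n3328 = n1648 := d16_1 D3328 (iv D1648) (iv D782) (iv F1379) D1619
def n3329 : Q := act 6 n1619
theorem D3329 : act 6 n1619 = n3329 := rfl
theorem F5676 : act 0 n3329 = n1649 := d5_1 D3329 (iv D1649) (iv F2763)
def n3330 : Q := act 4 n1620
theorem D3330 : act 4 n1620 = n3330 := rfl
theorem F5677 : act 0 n3330 = n1652 := d3_1 D3330 (iv D1652) (iv F2764)
theorem F5678 : act 2 n3330 = n3301 := d12_1 D3330 (iv F5650) F5649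
theorem F5679 : act 6 n3330 = n3299 := d19_2 F5666 D3330 (iv F5669)
def n3331 : Q := act 2 n1621
theorem D3331 : act 2 n1621 = n3331 := rfl
def n3332 : Q := act 4 n1621
theorem D3332 : act 4 n1621 = n3332 := rfl
theorem F5680 : act 1 n3332 = n1623 := d8_1 D3332 (iv D1623) (iv F2765)
def n3333 : Q := act 5 n1621
theorem D3333 : act 5 n1621 = n3333 := rfl
theorem F5681 : act 1 n3333 = n1624 := d9_1 D3333 (iv D1624) (iv F2765)
def n3334 : Q := act 6 n1621
theorem D3334 : act 6 n1621 = n3334 := rfl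
theorem F5682 : act 1 n3334 = n1625 := d10_1 D3334 (iv D1625) (iv F2765)
theorem F5683 : act 3 n3334 = n1664 := d17_1 D3334 (iv D1664) (iv D789) (iv F1382) D1621
def n3335 : Q := act 3 n1622
theorem D3335 : act 3 n1622 = n3335 := rfl
theorem F5684 : act 1 n3335 = n1627 := d7_1 D3335 (iv D1627) (iv F2766)
def n3336 : Q := act 3 n1623
theorem D3336 : act 3 n1623 = n3336 := rfl
theorem F5685 : act 0 n3336 = n1672 := d2_1 D3336 (iv D1672) (iv F2767)
theorem F5686 : act 4 n3336 = n1626 := d15_2 D1623 D3336 (iv D1626) (iv D772) D771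
def n3337 : Q := act 5 n1623
theorem D3337 : act 5 n1623 = n3337 := rfl
theorem F5687 : act 0 n3337 = n1673 := d4_1 D3337 (iv D1673) (iv F2767)
theorem F5688 : act 4 n3337 = n1624 := d18_1 D3337 (iv D1624) D1623
def n3338 : Q := act 6 n1623
theorem D3338 : act 6 n1623 = n3338 := rfl
theorem F5689 : act 0 n3338 = n1674 := d5_1 D3338 (iv D1674) (iv F2767)
theorem F5690 : act 4 n3338 = n1625 := d19_1 D3338 (iv D1625) D1623
def n3339 : Q := act 3 n1624
theorem D3339 : act 3 n1624 = n3339 := rfl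
def n3340 : Q := act 6 n1624
theorem D3340 : act 6 n1624 = n3340 := rfl
theorem F5696 : act 0 n3340 = n1676 := d5_1 D3340 (iv D1676) (iv F2768)
theorem F5697 : act 5 n3340 = n3338 := d21_2 D1624 D3340 (iv D3338) (iv D1623)
def n3341 : Q := act 5 n1625
theorem D3341 : act 5 n1625 = n3341 := rfl
theorem F5699 : act 4 n3341 = n3340 := d18_1 D3341 F5697 F5690
theorem F5700 : act 6 n3341 = n3337 := d20_2 D1625 D3341 (iv D3337) D3338 (iv F5697) (iv D3340) (iv D1624)
def n3342 : Q := act 2 n1626
theorem D3342 : act 2 n1626 = n3342 := rfl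
theorem F5701 : act 0 n3342 = n1678 := d1_1 D3342 (iv D1678) (iv F2771)
def n3343 : Q := act 5 n1626
theorem D3343 : act 5 n1626 = n3343 := rfl
def n3344 : Q := act 6 n1626
theorem D3344 : act 6 n1626 = n3344 := rfl
theorem F5703 : act 0 n3344 = n1680 := d5_1 D3344 (iv D1680) (iv F2771)
theorem F5704 : act 3 n3344 = n1680 := d17_1 D3344 (iv D1680) (iv D796) (iv F1386) D1626
def n3346 : Q := act 2 n1628
theorem D3346 : act 2 n1628 = n3346 := rfl
theorem F5708 : act 0 n3346 = n1630 := d1_1 D3346 (iv D1630) (iv F2773)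
def n3347 : Q := act 4 n1628
theorem D3347 : act 4 n1628 = n3347 := rfl
theorem F5709 : act 0 n3347 = n1631 := d3_1 D3347 (iv D1631) (iv F2773)
theorem F5710 : act 1 n3347 = n3321 := d8_1 D3347 F5658 (iv F2774)
theorem F5711 : act 3 n3347 = n3317 := d15_1 D3347 (iv D3317) (iv D1614) F1390 D1628
def n3348 : Q := act 5 n1628
theorem D3348 : act 5 n1628 = n3348 := rfl
theorem F5712 : act 0 n3348 = n1632 := d4_1 D3348 (iv D1632) (iv F2773)
theorem F5713 : act 1 n3348 = n3328 := d9_1 D3348 (iv D3328) (iv F2774)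
def n3349 : Q := act 6 n1628
theorem D3349 : act 6 n1628 = n3349 := rfl
theorem F5714 : act 0 n3349 = n1633 := d5_1 D3349 (iv D1633) (iv F2773)
theorem F5715 : act 1 n3349 = n3329 := d10_1 D3349 (iv D3329) (iv F2774)
def n3350 : Q := act 3 n1629
theorem D3350 : act 3 n1629 = n3350 := rfl
theorem F5716 : act 0 n3350 = n1636 := d2_1 D3350 (iv D1636) (iv F2775)
theorem F5717 : act 1 n3350 = n1654 := d7_1 D3350 (iv D1654) (iv F2776)
def n3351 : Q := act 1 n1630
theorem D3351 : act 1 n1630 = n3351 := rfl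
theorem F5718 : act 2 n3351 = n1637 := d6_2 D1630 D3351 (iv D1637) (iv D778) (iv F1391)
def n3352 : Q := act 3 n1630
theorem D3352 : act 3 n1630 = n3352 := rfl
theorem F5719 : act 2 n3352 = n3352 := d23_2 D1630 D3352 (iv D3352) (iv D1630) (iv D775) (iv F729) (iv F2009) F1439 D1628 F2773
def n3353 : Q := act 4 n1630
theorem D3353 : act 4 n1630 = n3353 := rfl
theorem F5720 : act 2 n3353 = n1631 := d12_1 D3353 (iv D1631) D1630
def n3354 : Q := act 5 n1630
theorem D3354 : act 5 n1630 = n3354 := rfl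
theorem F5721 : act 2 n3354 = n1632 := d13_1 D3354 (iv D1632) D1630
def n3355 : Q := act 6 n1630
theorem D3355 : act 6 n1630 = n3355 := rfl
theorem F5722 : act 2 n3355 = n1633 := d14_1 D3355 (iv D1633) D1630
def n3356 : Q := act 3 n1631
theorem D3356 : act 3 n1631 = n3356 := rfl
theorem F5723 : act 0 n3356 = n3317 := d2_1 D3356 (iv F5711) F5709
theorem F5724 : act 1 n3356 = n1641 := d7_1 D3356 (iv D1641) (iv F2779)
theorem F5725 : act 4 n3356 = n1634 := d15_2 D1631 D3356 (iv D1634) (iv D776) D775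
def n3357 : Q := act 5 n1631
theorem D3357 : act 5 n1631 = n3357 := rfl
theorem F5726 : act 1 n3357 = n1642 := d9_1 D3357 (iv D1642) (iv F2779)
theorem F5727 : act 4 n3357 = n1632 := d18_1 D3357 (iv D1632) D1631
def n3358 : Q := act 6 n1631
theorem D3358 : act 6 n1631 = n3358 := rfl
theorem F5728 : act 1 n3358 = n1643 := d10_1 D3358 (iv D1643) (iv F2779)
theorem F5729 : act 4 n3358 = n1633 := d19_1 D3358 (iv D1633) D1631
def n3359 : Q := act 6 n1632
theorem D3359 : act 6 n1632 = n3359 := rfl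
theorem F5730 : act 1 n3359 = n1644 := d10_1 D3359 (iv D1644) (iv F2780)
theorem F5731 : act 5 n3359 = n3358 := d21_2 D1632 D3359 (iv D3358) (iv D1631)
def n3360 : Q := act 3 n1633
theorem D3360 : act 3 n1633 = n3360 := rfl
theorem F5732 : act 1 n3360 = n1645 := d7_1 D3360 (iv D1645) (iv F2781)
theorem F5733 : act 6 n3360 = n1636 := d17_2 D1633 D3360 (iv D1636) (iv D777) D775
def n3361 : Q := act 5 n1633
theorem D3361 : act 5 n1633 = n3361 := rfl
theorem F5734 : act 1 n3361 = n1646 := d9_1 D3361 (iv D1646) (iv F2781)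
theorem F5735 : act 4 n3361 = n3359 := d18_1 D3361 F5731 F5729
theorem F5736 : act 6 n3361 = n3357 := d20_2 D1633 D3361 (iv D3357) D3358 (iv F5731) (iv D3359) (iv D1632)
def n3362 : Q := act 2 n1634
theorem D3362 : act 2 n1634 = n3362 := rfl
theorem F5737 : act 0 n3362 = n3316 := d1_1 D3362 (iv D3316) (iv F2782)
def n3363 : Q := act 5 n1634
theorem D3363 : act 5 n1634 = n3363 := rfl
theorem F5738 : act 0 n3363 = n3318 := d4_1 D3363 (iv D3318) (iv F2782)
theorem F5739 : act 1 n3363 = n1648 := d9_1 D3363 (iv D1648) (iv F2783)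
theorem F5740 : act 3 n3363 = n3348 := d16_1 D3363 (iv D3348) (iv D1628) (iv F1394) D1634
def n3364 : Q := act 6 n1634
theorem D3364 : act 6 n1634 = n3364 := rfl
theorem F5741 : act 0 n3364 = n3319 := d5_1 D3364 (iv D3319) (iv F2782)
theorem F5742 : act 1 n3364 = n1649 := d10_1 D3364 (iv D1649) (iv F2783)
def n3365 : Q := act 3 n1635
theorem D3365 : act 3 n1635 = n3365 := rfl
theorem F5743 : act 0 n3365 = n3320 := d2_1 D3365 (iv D3320) (iv F2784)
theorem F5744 : act 1 n3365 = n1650 := d7_1 D3365 (iv D1650) (iv F2785)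
def n3366 : Q := act 2 n1636
theorem D3366 : act 2 n1636 = n3366 := rfl
def n3367 : Q := act 4 n1636
theorem D3367 : act 4 n1636 = n3367 := rfl
theorem F5745 : act 1 n3367 = n1652 := d8_1 D3367 (iv D1652) (iv F2788)
def n3368 : Q := act 5 n1636
theorem D3368 : act 5 n1636 = n3368 := rfl
theorem F5746 : act 1 n3368 = n1653 := d9_1 D3368 (iv D1653) (iv F2788)
def n3369 : Q := act 0 n1637
theorem D3369 : act 0 n1637 = n3369 := rfl
def n3370 : Q := act 4 n1637
theorem D3370 : act 4 n1637 = n3370 := rfl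
theorem F5747 : act 1 n3370 = n1638 := d8_1 D3370 (iv D1638) D1637
def n3371 : Q := act 5 n1637
theorem D3371 : act 5 n1637 = n3371 := rfl
theorem F5748 : act 1 n3371 = n1639 := d9_1 D3371 (iv D1639) D1637
def n3372 : Q := act 6 n1637
theorem D3372 : act 6 n1637 = n3372 := rfl
theorem F5749 : act 1 n3372 = n1640 := d10_1 D3372 (iv D1640) D1637
def n3373 : Q := act 3 n1638
theorem D3373 : act 3 n1638 = n3373 := rfl
def n3374 : Q := act 5 n1638
theorem D3374 : act 5 n1638 = n3374 := rfl
theorem F5750 : act 2 n3374 = n1642 := d13_1 D3374 (iv D1642) (iv F2789)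
theorem F5751 : act 4 n3374 = n1639 := d18_1 D3374 (iv D1639) D1638
def n3375 : Q := act 6 n1638
theorem D3375 : act 6 n1638 = n3375 := rfl
theorem F5752 : act 2 n3375 = n1643 := d14_1 D3375 (iv D1643) (iv F2789)
theorem F5753 : act 4 n3375 = n1640 := d19_1 D3375 (iv D1640) D1638
def n3376 : Q := act 3 n1639
theorem D3376 : act 3 n1639 = n3376 := rfl
def n3377 : Q := act 6 n1639
theorem D3377 : act 6 n1639 = n3377 := rfl
theorem F5754 : act 2 n3377 = n1644 := d14_1 D3377 (iv D1644) (iv F2790)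
theorem F5755 : act 5 n3377 = n3375 := d21_2 D1639 D3377 (iv D3375) (iv D1638)
def n3378 : Q := act 3 n1640
theorem D3378 : act 3 n1640 = n3378 := rfl
def n3379 : Q := act 5 n1640
theorem D3379 : act 5 n1640 = n3379 := rfl
theorem F5756 : act 2 n3379 = n1646 := d13_1 D3379 (iv D1646) (iv F2791)
theorem F5757 : act 4 n3379 = n3377 := d18_1 D3379 F5755 F5753
theorem F5758 : act 6 n3379 = n3374 := d20_2 D1640 D3379 (iv D3374) D3375 (iv F5755) (iv D3377) (iv D1639)
def n3380 : Q := act 2 n1641
theorem D3380 : act 2 n1641 = n3380 := rfl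
theorem F5759 : act 4 n3380 = n1647 := d12_2 (iv F2792) D3380 (iv D1647)
theorem F5760 : act 1 n3369 = n3380 := d22_7 (iv F2763) (iv F2774) D3346 F5708 D3351 F5718 D3369 (iv D3380) F2792
def n3381 : Q := act 5 n1641
theorem D3381 : act 5 n1641 = n3381 := rfl
theorem F5761 : act 4 n3381 = n1648 := d18_1 D3381 (iv D1648) (iv F2792)
def n3382 : Q := act 6 n1641
theorem D3382 : act 6 n1641 = n3382 := rfl
theorem F5762 : act 4 n3382 = n1649 := d19_1 D3382 (iv D1649) (iv F2792)
def n3383 : Q := act 3 n1642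
theorem D3383 : act 3 n1642 = n3383 := rfl
def n3384 : Q := act 3 n1643
theorem D3384 : act 3 n1643 = n3384 := rfl
def n3385 : Q := act 3 n1644
theorem D3385 : act 3 n1644 = n3385 := rfl
def n3386 : Q := act 2 n1645
theorem D3386 : act 2 n1645 = n3386 := rfl
theorem F5764 : act 6 n3386 = n1651 := d14_2 (iv F2796) D3386 (iv D1651)
theorem F5765 : act 5 n3214 = n3386 := d21_0 F5764 F5535 (iv D3215) D3214
theorem F5766 : act 4 n3386 = n3207 := d21_4 F5520 D3215 (iv F5535) (iv F5764)
def n3387 : Q := act 4 n1645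
theorem D3387 : act 4 n1645 = n3387 := rfl
theorem F5768 : act 2 n3387 = n3207 := d12_1 D3387 (iv F5766) (iv D3386)
theorem F5769 : act 6 n3387 = n1652 := d19_2 (iv F2796) D3387 (iv D1652)
theorem F5770 : act 5 n3387 = n3213 := d21_0 F5531 (iv D1653) (iv F2796) D3387
def n3388 : Q := act 5 n1645
theorem D3388 : act 5 n1645 = n3388 := rfl
theorem F5771 : act 0 n3388 = n3312 := d4_1 D3388 F5668 F5665
theorem F5772 : act 2 n3388 = n3214 := d13_1 D3388 F5765 (iv D3386)
def n3389 : Q := act 3 n1646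
theorem D3389 : act 3 n1646 = n3389 := rfl
def n3390 : Q := act 1 n1647
theorem D3390 : act 1 n1647 = n3390 := rfl
theorem F5774 : act 4 n3390 = n3369 := d8_2 F5759 D3390 F5760
theorem F5775 : act 0 n3370 = n3390 := d22_0 (iv D3390) (iv D1647) (iv F2763) (iv F2774) D3346 F5708 D3351 F5718 D3370
def n3391 : Q := act 3 n1647
theorem D3391 : act 3 n1647 = n3391 := rfl
def n3392 : Q := act 5 n1647
theorem D3392 : act 5 n1647 = n3392 := rfl
theorem F5776 : act 2 n3392 = n1648 := d13_1 D3392 (iv D1648) D1647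
def n3393 : Q := act 6 n1647
theorem D3393 : act 6 n1647 = n3393 := rfl
theorem F5777 : act 2 n3393 = n1649 := d14_1 D3393 (iv D1649) D1647
def n3394 : Q := act 6 n1648
theorem D3394 : act 6 n1648 = n3394 := rfl
theorem F5778 : act 5 n3394 = n3382 := d21_2 D1648 D3394 (iv D3382) F2792
def n3395 : Q := act 3 n1649
theorem D3395 : act 3 n1649 = n3395 := rfl
theorem F5779 : act 6 n3395 = n1650 := d17_2 D1649 D3395 (iv D1650) (iv D783) D782
def n3396 : Q := act 5 n1649
theorem D3396 : act 5 n1649 = n3396 := rfl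
theorem F5781 : act 6 n3396 = n3381 := d20_2 D1649 D3396 (iv D3381) D3382 (iv F5778) (iv D3394) (iv D1648)
def n3397 : Q := act 2 n1650
theorem D3397 : act 2 n1650 = n3397 := rfl
def n3398 : Q := act 4 n1650
theorem D3398 : act 4 n1650 = n3398 := rfl
theorem F5782 : act 3 n3398 = n1652 := d15_1 D3398 (iv D1652) (iv D784) (iv F1397) D1650
def n3399 : Q := act 5 n1650
theorem D3399 : act 5 n1650 = n3399 := rfl
theorem F5783 : act 3 n3399 = n3313 := d16_1 D3399 F5645 (iv D1620) (iv F1398) D1650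
def n3400 : Q := act 1 n1651
theorem D3400 : act 1 n1651 = n3400 := rfl
def n3402 : Q := act 4 n1651
theorem D3402 : act 4 n1651 = n3402 := rfl
theorem F5784 : act 0 n3402 = n3301 := d3_1 D3402 (iv F5650) F5648
theorem F5785 : act 2 n3402 = n1652 := d12_1 D3402 (iv D1652) D1651
theorem F5786 : act 6 n3402 = n3207 := d19_2 F5764 D3402 (iv F5766)
def n3403 : Q := act 5 n1652
theorem D3403 : act 5 n1652 = n3403 := rfl
theorem F5787 : act 4 n3403 = n1653 := d18_1 D3403 (iv D1653) D1652
theorem F5788 : act 6 n3403 = n3388 := d20_2 F5769 D3403 (iv D3388) F2796 D1653 (iv F5531) (iv F5770)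
def n3404 : Q := act 3 n1653
theorem D3404 : act 3 n1653 = n3404 := rfl
theorem F5789 : act 0 n3404 = n3399 := d2_1 D3404 F5783 F5643
theorem F5790 : act 5 n3404 = n1654 := d16_2 D1653 D3404 (iv D1654) (iv D785) D784
def n3405 : Q := act 2 n1654
theorem D3405 : act 2 n1654 = n3405 := rfl
theorem F5791 : act 0 n3405 = n3397 := d1_1 D3405 (iv D3397) (iv F2799)
theorem F5792 : act 6 n3405 = n3127 := d24_4 D373 D785 D1654 D3405 F5415 (iv D1531) F1330 F651 (iv D175) (iv D87) (iv F96) (iv D44) D43 D90 D178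
def n3406 : Q := act 4 n1654
theorem D3406 : act 4 n1654 = n3406 := rfl
theorem F5793 : act 0 n3406 = n3398 := d3_1 D3406 (iv D3398) (iv F2799)
theorem F5794 : act 3 n3406 = n3330 := d15_1 D3406 (iv D3330) (iv D1620) (iv F1401) D1654
def n3407 : Q := act 6 n1654
theorem D3407 : act 6 n1654 = n3407 := rfl
theorem F5795 : act 0 n3407 = n3395 := d5_1 D3407 F5779 (iv F2799)
theorem F5796 : act 2 n3407 = n3127 := d14_1 D3407 (iv F5792) (iv D3405)
theorem F5797 : act 3 n3407 = n3329 := d17_1 D3407 (iv D3329) (iv D1619) (iv F1402) D1654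
theorem F5798 : act 5 n3130 = n3407 := d13_0 F5796 F5415 D3130
def n3410 : Q := act 5 n1655
theorem D3410 : act 5 n1655 = n3410 := rfl
theorem F5801 : act 2 n3410 = n1656 := d13_1 D3410 (iv D1656) D1655
def n3414 : Q := act 2 n1659
theorem D3414 : act 2 n1659 = n3414 := rfl
theorem F5807 : act 0 n3414 = n1661 := d1_1 D3414 (iv D1661) (iv F2808)
def n3415 : Q := act 4 n1659
theorem D3415 : act 4 n1659 = n3415 := rfl
theorem F5808 : act 0 n3415 = n1662 := d3_1 D3415 (iv D1662) (iv F2808)
theorem F5810 : act 3 n3415 = n3332 := d15_1 D3415 (iv D3332) (iv D1621) F1407 D1659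
def n3416 : Q := act 5 n1659
theorem D3416 : act 5 n1659 = n3416 := rfl
def n3418 : Q := act 3 n1660
theorem D3418 : act 3 n1660 = n3418 := rfl
theorem F5815 : act 0 n3418 = n1667 := d2_1 D3418 (iv D1667) (iv F2810)
theorem F5816 : act 1 n3418 = n1685 := d7_1 D3418 (iv D1685) (iv F2811)
def n3419 : Q := act 1 n1661
theorem D3419 : act 1 n1661 = n3419 := rfl
theorem F5817 : act 2 n3419 = n1668 := d6_2 D1661 D3419 (iv D1668) (iv D792) (iv F1408)
def n3420 : Q := act 3 n1661
theorem D3420 : act 3 n1661 = n3420 := rfl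
def n3421 : Q := act 4 n1661
theorem D3421 : act 4 n1661 = n3421 := rfl
theorem F5818 : act 2 n3421 = n1662 := d12_1 D3421 (iv D1662) D1661
def n3422 : Q := act 5 n1661
theorem D3422 : act 5 n1661 = n3422 := rfl
theorem F5819 : act 2 n3422 = n1663 := d13_1 D3422 (iv D1663) D1661
def n3423 : Q := act 6 n1661
theorem D3423 : act 6 n1661 = n3423 := rfl
theorem F5820 : act 2 n3423 = n1664 := d14_1 D3423 (iv D1664) D1661
def n3424 : Q := act 3 n1662
theorem D3424 : act 3 n1662 = n3424 := rfl
theorem F5821 : act 0 n3424 = n3332 := d2_1 D3424 (iv F5810) F5808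
theorem F5823 : act 4 n3424 = n1665 := d15_2 D1662 D3424 (iv D1665) (iv D790) D789
def n3425 : Q := act 5 n1662
theorem D3425 : act 5 n1662 = n3425 := rfl
theorem F5824 : act 1 n3425 = n1673 := d9_1 D3425 (iv D1673) (iv F2814)
theorem F5825 : act 4 n3425 = n1663 := d18_1 D3425 (iv D1663) D1662
def n3426 : Q := act 6 n1662
theorem D3426 : act 6 n1662 = n3426 := rfl
theorem F5826 : act 1 n3426 = n1674 := d10_1 D3426 (iv D1674) (iv F2814)
theorem F5827 : act 4 n3426 = n1664 := d19_1 D3426 (iv D1664) D1662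
def n3427 : Q := act 3 n1663
theorem D3427 : act 3 n1663 = n3427 := rfl
theorem F5829 : act 5 n3427 = n1667 := d16_2 D1663 D3427 (iv D1667) (iv D791) D789
def n3428 : Q := act 6 n1663
theorem D3428 : act 6 n1663 = n3428 := rfl
theorem F5830 : act 1 n3428 = n1676 := d10_1 D3428 (iv D1676) (iv F2815)
theorem F5831 : act 5 n3428 = n3426 := d21_2 D1663 D3428 (iv D3426) (iv D1662)
def n3429 : Q := act 5 n1664
theorem D3429 : act 5 n1664 = n3429 := rfl
def n3430 : Q := act 2 n1665
theorem D3430 : act 2 n1665 = n3430 := rfl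
theorem F5835 : act 0 n3430 = n3331 := d1_1 D3430 (iv D3331) (iv F2817)
def n3431 : Q := act 5 n1665
theorem D3431 : act 5 n1665 = n3431 := rfl
theorem F5836 : act 0 n3431 = n3333 := d4_1 D3431 (iv D3333) (iv F2817)
def n3432 : Q := act 6 n1665
theorem D3432 : act 6 n1665 = n3432 := rfl
theorem F5838 : act 0 n3432 = n3334 := d5_1 D3432 (iv D3334) (iv F2817)
theorem F5839 : act 1 n3432 = n1680 := d10_1 D3432 (iv D1680) (iv F2818)
def n3433 : Q := act 3 n1666
theorem D3433 : act 3 n1666 = n3433 := rfl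
theorem F5841 : act 0 n3433 = n3335 := d2_1 D3433 (iv D3335) (iv F2819)
theorem F5842 : act 1 n3433 = n1681 := d7_1 D3433 (iv D1681) (iv F2820)
def n3434 : Q := act 2 n1667
theorem D3434 : act 2 n1667 = n3434 := rfl
def n3435 : Q := act 4 n1667
theorem D3435 : act 4 n1667 = n3435 := rfl
def n3436 : Q := act 6 n1667
theorem D3436 : act 6 n1667 = n3436 := rfl
theorem F5844 : act 1 n3436 = n1684 := d10_1 D3436 (iv D1684) (iv F2823)
def n3437 : Q := act 0 n1668
theorem D3437 : act 0 n1668 = n3437 := rfl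
def n3438 : Q := act 4 n1668
theorem D3438 : act 4 n1668 = n3438 := rfl
theorem F5845 : act 1 n3438 = n1669 := d8_1 D3438 (iv D1669) D1668
def n3439 : Q := act 5 n1668
theorem D3439 : act 5 n1668 = n3439 := rfl
theorem F5846 : act 1 n3439 = n1670 := d9_1 D3439 (iv D1670) D1668
def n3440 : Q := act 6 n1668
theorem D3440 : act 6 n1668 = n3440 := rfl
def n3441 : Q := act 3 n1669
theorem D3441 : act 3 n1669 = n3441 := rfl
def n3442 : Q := act 5 n1669
theorem D3442 : act 5 n1669 = n3442 := rfl
theorem F5848 : act 2 n3442 = n1673 := d13_1 D3442 (iv D1673) (iv F2824)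
theorem F5849 : act 4 n3442 = n1670 := d18_1 D3442 (iv D1670) D1669
def n3443 : Q := act 6 n1669
theorem D3443 : act 6 n1669 = n3443 := rfl
theorem F5850 : act 2 n3443 = n1674 := d14_1 D3443 (iv D1674) (iv F2824)
def n3444 : Q := act 3 n1670
theorem D3444 : act 3 n1670 = n3444 := rfl
def n3445 : Q := act 6 n1670
theorem D3445 : act 6 n1670 = n3445 := rfl
theorem F5852 : act 2 n3445 = n1676 := d14_1 D3445 (iv D1676) (iv F2825)
def n3448 : Q := act 2 n1672
theorem D3448 : act 2 n1672 = n3448 := rfl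
theorem F5857 : act 4 n3448 = n1678 := d12_2 (iv F2827) D3448 (iv D1678)
theorem F5858 : act 1 n3437 = n3448 := d22_7 (iv F2771) (iv F2809) D3414 F5807 D3419 F5817 D3437 (iv D3448) F2827
def n3449 : Q := act 5 n1672
theorem D3449 : act 5 n1672 = n3449 := rfl
def n3450 : Q := act 6 n1672
theorem D3450 : act 6 n1672 = n3450 := rfl
def n3451 : Q := act 3 n1673
theorem D3451 : act 3 n1673 = n3451 := rfl
def n3452 : Q := act 3 n1674
theorem D3452 : act 3 n1674 = n3452 := rfl
def n3453 : Q := act 2 n1675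
theorem D3453 : act 2 n1675 = n3453 := rfl
theorem F5862 : act 5 n3453 = n1682 := d13_2 (iv F2830) D3453 (iv D1682)
theorem F5863 : act 4 n3187 = n3453 := d21_4 F5862 F5498 (iv D3194) (iv F5487)
theorem F5864 : act 6 n3453 = n3193 := d21_3 D3194 (iv F5498) (iv F5862) (iv D3193)
def n3454 : Q := act 4 n1675
theorem D3454 : act 4 n1675 = n3454 := rfl
theorem F5867 : act 5 n3454 = n1683 := d18_2 (iv F2830) D3454 (iv D1683)
def n3455 : Q := act 6 n1675
theorem D3455 : act 6 n1675 = n3455 := rfl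
def n3456 : Q := act 3 n1676
theorem D3456 : act 3 n1676 = n3456 := rfl
def n3457 : Q := act 3 n1677
theorem D3457 : act 3 n1677 = n3457 := rfl
def n3458 : Q := act 1 n1678
theorem D3458 : act 1 n1678 = n3458 := rfl
theorem F5872 : act 4 n3458 = n3437 := d8_2 F5857 D3458 F5858
theorem F5873 : act 0 n3438 = n3458 := d22_0 (iv D3458) (iv D1678) (iv F2771) (iv F2809) D3414 F5807 D3419 F5817 D3438
def n3459 : Q := act 3 n1678
theorem D3459 : act 3 n1678 = n3459 := rfl
def n3461 : Q := act 6 n1678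
theorem D3461 : act 6 n1678 = n3461 := rfl
theorem F5875 : act 2 n3461 = n1680 := d14_1 D3461 (iv D1680) D1678
def n3464 : Q := act 5 n1680
theorem D3464 : act 5 n1680 = n3464 := rfl
def n3465 : Q := act 2 n1681
theorem D3465 : act 2 n1681 = n3465 := rfl
def n3466 : Q := act 4 n1681
theorem D3466 : act 4 n1681 = n3466 := rfl
def n3467 : Q := act 6 n1681
theorem D3467 : act 6 n1681 = n3467 := rfl
theorem F5881 : act 3 n3467 = n3263 := d17_1 D3467 (iv F5587) (iv D1627) (iv F1415) D1681
def n3468 : Q := act 1 n1682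
theorem D3468 : act 1 n1682 = n3468 := rfl
def n3470 : Q := act 4 n1682
theorem D3470 : act 4 n1682 = n3470 := rfl
theorem F5884 : act 5 n3470 = n3187 := d18_2 F5862 D3470 F5863
def n3473 : Q := act 2 n1685
theorem D3473 : act 2 n1685 = n3473 := rfl
theorem F5889 : act 0 n3473 = n3465 := d1_1 D3473 (iv D3465) (iv F2834)
def n3475 : Q := act 5 n1685
theorem D3475 : act 5 n1685 = n3475 := rfl
theorem F5893 : act 3 n3475 = n3343 := d16_1 D3475 (iv D3343) (iv D1626) (iv F1419) D1685
theorem F5894 : act 6 n3024 = n3475 := d24_0 (iv D3475) (iv D1685) F1417 (iv D381) (iv D183) (iv D91) F96 (iv D41) D40 D86 D170 D359 (iv F1308) D1480 D3024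
theorem F5895 : act 2 n3475 = n3022 := d14_1 F5894 F5274 D3024
theorem F5896 : act 5 n3022 = n3473 := d13_2 D3475 F5895 (iv D3473)
def n3480 : Q := act 2 n1690
theorem D3480 : act 2 n1690 = n3480 := rfl
def n3481 : Q := act 6 n1690
theorem D3481 : act 6 n1690 = n3481 := rfl
theorem F5906 : act 1 n3481 = n1693 := d10_1 D3481 (iv D1693) (iv F2844)
theorem F5907 : act 5 n3481 = n3481 := d21_2 F2871 D3481 (iv D3481) (iv F2870)
def n3482 : Q := act 3 n1691
theorem D3482 : act 3 n1691 = n3482 := rfl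
def n3483 : Q := act 1 n1692
theorem D3483 : act 1 n1692 = n3483 := rfl
def n3484 : Q := act 6 n1692
theorem D3484 : act 6 n1692 = n3484 := rfl
theorem F5910 : act 0 n3484 = n3484 := d5_1 D3484 (iv D3484) F2847
theorem F5911 : act 2 n3484 = n1693 := d14_1 D3484 (iv D1693) D1692
theorem F5912 : act 5 n3484 = n3484 := d21_2 F2882 D3484 (iv D3484) (iv F2881)
def n3489 : Q := act 2 n1695
theorem D3489 : act 2 n1695 = n3489 := rfl
def n3490 : Q := act 4 n1695
theorem D3490 : act 4 n1695 = n3490 := rfl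
def n3491 : Q := act 5 n1695
theorem D3491 : act 5 n1695 = n3491 := rfl
def n3492 : Q := act 6 n1695
theorem D3492 : act 6 n1695 = n3492 := rfl
def n3493 : Q := act 3 n1696
theorem D3493 : act 3 n1696 = n3493 := rfl
theorem F5923 : act 1 n3493 = n1702 := d7_1 D3493 (iv D1702) (iv F2853)
def n3494 : Q := act 1 n1697
theorem D3494 : act 1 n1697 = n3494 := rfl
def n3495 : Q := act 4 n1697
theorem D3495 : act 4 n1697 = n3495 := rfl
theorem F5926 : act 2 n3495 = n1698 := d12_1 D3495 (iv D1698) D1697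
theorem F5927 : act 5 n3495 = n1942 := d21_0 F3351 D2207 (iv F3890) D3495
def n3496 : Q := act 5 n1697
theorem D3496 : act 5 n1697 = n3496 := rfl
theorem F5929 : act 2 n3496 = n1699 := d13_1 D3496 (iv D1699) D1697
theorem F5930 : act 4 n3496 = n1942 := d18_1 D3496 (iv F5927) (iv D3495)
theorem F5931 : act 6 n3496 = n2201 := d21_3 D2207 (iv F3890) D3496 F3877
def n3497 : Q := act 3 n1698
theorem D3497 : act 3 n1698 = n3497 := rfl
theorem F5933 : act 4 n3497 = n1701 := d15_2 D1698 D3497 (iv D1701) (iv D808) D807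
def n3498 : Q := act 5 n1698
theorem D3498 : act 5 n1698 = n3498 := rfl
theorem F5936 : act 4 n3498 = n1699 := d18_1 D3498 (iv D1699) D1698
theorem F5937 : act 6 n3498 = n2206 := d21_1 D3498 (iv F3892) (iv D1700) D1698
def n3501 : Q := act 6 n1699
theorem D3501 : act 6 n1699 = n3501 := rfl
theorem F5943 : act 2 n3501 = n2201 := d14_1 D3501 (iv F5931) F5929
theorem F5944 : act 4 n3501 = n2206 := d19_1 D3501 (iv F5937) F5936
def n3502 : Q := act 2 n1701
theorem D3502 : act 2 n1701 = n3502 := rfl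
def n3503 : Q := act 5 n1701
theorem D3503 : act 5 n1701 = n3503 := rfl
def n3508 : Q := act 3 n1703
theorem D3508 : act 3 n1703 = n3508 := rfl
theorem F5956 : act 0 n3508 = n1706 := d2_1 D3508 (iv D1706) (iv F2863)
theorem F5957 : act 1 n3508 = n1707 := d7_1 D3508 (iv D1707) (iv F2864)
theorem F5958 : act 6 n3508 = n1706 := d17_2 D1703 D3508 (iv D1706) (iv D813) (iv F2009)
def n3509 : Q := act 2 n1704
theorem D3509 : act 2 n1704 = n3509 := rfl
def n3510 : Q := act 6 n1704
theorem D3510 : act 6 n1704 = n3510 := rfl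
theorem F5962 : act 0 n3510 = n3481 := d5_1 D3510 (iv D3481) (iv F2868)
theorem F5963 : act 1 n3510 = n1709 := d10_1 D3510 (iv D1709) (iv F2869)
theorem F5964 : act 4 n3510 = n3481 := d19_1 D3510 (iv D3481) (iv F2870)
theorem F5965 : act 5 n3510 = n3510 := d20_1 D3510 (iv D3510) F2871 D3481 F5907 (iv D3481) (iv F2871)
def n3511 : Q := act 3 n1705
theorem D3511 : act 3 n1705 = n3511 := rfl
theorem F5967 : act 1 n3511 = n1710 := d7_1 D3511 (iv D1710) (iv F2873)
def n3513 : Q := act 4 n1706
theorem D3513 : act 4 n1706 = n3513 := rfl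
theorem F5968 : act 1 n3513 = n1712 := d8_1 D3513 (iv D1712) (iv F2877)
def n3514 : Q := act 5 n1706
theorem D3514 : act 5 n1706 = n3514 := rfl
theorem F5969 : act 1 n3514 = n1713 := d9_1 D3514 (iv D1713) (iv F2877)
theorem F5970 : act 6 n2266 = n3514 := d10_0 F5969 (iv F2890) D2266
def n3515 : Q := act 1 n1708
theorem D3515 : act 1 n1708 = n3515 := rfl
theorem F5971 : act 4 n3515 = n3483 := d8_2 (iv F2881) D3515 (iv D3483)
def n3516 : Q := act 3 n1708
theorem D3516 : act 3 n1708 = n3516 := rfl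
def n3517 : Q := act 6 n1708
theorem D3517 : act 6 n1708 = n3517 := rfl
theorem F5976 : act 0 n3517 = n3517 := d5_1 D3517 (iv D3517) F2880
theorem F5977 : act 2 n3517 = n1709 := d14_1 D3517 (iv D1709) D1708
theorem F5978 : act 4 n3517 = n3484 := d19_1 D3517 (iv D3484) (iv F2881)
theorem F5979 : act 5 n3517 = n3517 := d20_1 D3517 (iv D3517) F2882 D3484 F5912 (iv D3484) (iv F2882)
def n3518 : Q := act 3 n1709
theorem D3518 : act 3 n1709 = n3518 := rfl
def n3519 : Q := act 2 n1710
theorem D3519 : act 2 n1710 = n3519 := rfl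
def n3520 : Q := act 4 n1710
theorem D3520 : act 4 n1710 = n3520 := rfl
theorem F5984 : act 3 n3520 = n1712 := d15_1 D3520 (iv D1712) (iv D820) (iv F1456) D1710
def n3523 : Q := act 5 n1712
theorem D3523 : act 5 n1712 = n3523 := rfl
theorem F5991 : act 2 n3523 = n2269 := d13_1 D3523 F4028 F3997
theorem F5992 : act 4 n3523 = n1713 := d18_1 D3523 (iv D1713) D1712
theorem F5993 : act 6 n3523 = n2268 := d20_2 F3991 D3523 F4024 F2879 D1713 (iv F2890) (iv F3989)
def n3524 : Q := act 1 n1714
theorem D3524 : act 1 n1714 = n3524 := rfl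
def n3525 : Q := act 3 n1714
theorem D3525 : act 3 n1714 = n3525 := rfl
def n3526 : Q := act 4 n1714
theorem D3526 : act 4 n1714 = n3526 := rfl
theorem F5997 : act 2 n3526 = n1715 := d12_1 D3526 (iv D1715) D1714
def n3527 : Q := act 5 n1714
theorem D3527 : act 5 n1714 = n3527 := rfl
def n3528 : Q := act 0 n1717
theorem D3528 : act 0 n1717 = n3528 := rfl
theorem F6000 : act 2 n3528 = n2868 := d1_2 (iv F2900) D3528 F5012
theorem F6001 : act 6 n3528 = n1724 := d5_2 (iv F2901) D3528 (iv D1724)
theorem F6002 : act 1 n3528 = n2132 := d22_4 F2166 (iv F2481) (iv F2900) D3528 F3727 F1914 (iv F2169) (iv F4224) F4225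
theorem F6003 : act 4 n2127 = n3528 := d22_9 (iv D3528) (iv D1717) (iv D823) F739 F740 (iv F1246) (iv F2166) (iv F4215) F4216
def n3529 : Q := act 3 n1717
theorem D3529 : act 3 n1717 = n3529 := rfl
theorem F6004 : act 1 n3529 = n1718 := d7_1 D3529 (iv D1718) D1717
def n3530 : Q := act 4 n1717
theorem D3530 : act 4 n1717 = n3530 := rfl
theorem F6008 : act 6 n3530 = n1726 := d19_2 (iv F2901) D3530 (iv D1726)
theorem F6009 : act 5 n3530 = n2011 := d21_0 (iv F3496) (iv D1727) (iv F2901) D3530
theorem F6010 : act 3 n2009 = n3530 := d16_5 F6009 (iv D2011) (iv D979) D978 D2009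
def n3531 : Q := act 5 n1717
theorem D3531 : act 5 n1717 = n3531 := rfl
theorem F6012 : act 2 n3531 = n2876 := d13_1 D3531 (iv D2876) (iv F2900)
theorem F6013 : act 4 n3531 = n2011 := d18_1 D3531 (iv F6009) (iv D3530)
def n3532 : Q := act 2 n1718
theorem D3532 : act 2 n1718 = n3532 := rfl
def n3533 : Q := act 4 n1718
theorem D3533 : act 4 n1718 = n3533 := rfl
theorem F6016 : act 3 n3533 = n2017 := d15_1 D3533 F3506 F2907 (iv D1719) D1718
def n3534 : Q := act 5 n1718
theorem D3534 : act 5 n1718 = n3534 := rfl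
theorem F6018 : act 3 n3534 = n2132 := d16_1 D3534 F3729 (iv F3718) (iv D1720) D1718
def n3535 : Q := act 6 n1718
theorem D3535 : act 6 n1718 = n3535 := rfl
theorem F6020 : act 3 n3535 = n1731 := d17_1 D3535 (iv D1731) (iv D828) (iv F1466) D1718
def n3536 : Q := act 2 n1721
theorem D3536 : act 2 n1721 = n3536 := rfl
theorem F6022 : act 5 n3536 = n1722 := d13_2 (iv F2913) D3536 (iv D1722)
def n3538 : Q := act 3 n1722
theorem D3538 : act 3 n1722 = n3538 := rfl
def n3540 : Q := act 3 n1724
theorem D3540 : act 3 n1724 = n3540 := rfl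
theorem F6029 : act 0 n3540 = n1725 := d2_1 D3540 (iv D1725) D1724
theorem F6030 : act 1 n3540 = n1730 := d7_1 D3540 F2942 (iv F2921)
theorem F6031 : act 5 n1725 = n3540 := d9_0 F6030 (iv D1730) (iv F2923)
def n3541 : Q := act 5 n1724
theorem D3541 : act 5 n1724 = n3541 := rfl
theorem F6035 : act 3 n3541 = n1727 := d16_1 D3541 (iv D1727) D1725 F6031 (iv D3540)
theorem F6036 : act 4 n3541 = n2123 := d18_1 D3541 F3713 F2922
def n3542 : Q := act 2 n1725
theorem D3542 : act 2 n1725 = n3542 := rfl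
def n3543 : Q := act 4 n1725
theorem D3543 : act 4 n1725 = n3543 := rfl
def n3544 : Q := act 6 n1725
theorem D3544 : act 6 n1725 = n3544 := rfl
theorem F6038 : act 1 n3544 = n1731 := d10_1 D3544 (iv D1731) (iv F2923)
def n3545 : Q := act 3 n1726
theorem D3545 : act 3 n1726 = n3545 := rfl
theorem F6039 : act 0 n3545 = n2126 := d2_1 D3545 (iv D2126) (iv F2924)
def n3546 : Q := act 5 n1726
theorem D3546 : act 5 n1726 = n3546 := rfl
theorem F6041 : act 0 n3546 = n2123 := d4_1 D3546 F3713 (iv F2924)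
theorem F6042 : act 1 n3546 = n1733 := d9_1 D3546 (iv D1733) (iv F2925)
theorem F6045 : act 6 n3546 = n3531 := d20_2 F6008 D3546 (iv D3531) F2901 D1727 F3496 (iv F6009)
def n3547 : Q := act 1 n1728
theorem D3547 : act 1 n1728 = n3547 := rfl
def n3548 : Q := act 4 n1728
theorem D3548 : act 4 n1728 = n3548 := rfl
theorem F6047 : act 2 n3548 = n1729 := d12_1 D3548 (iv D1729) D1728
def n3549 : Q := act 5 n1728
theorem D3549 : act 5 n1728 = n3549 := rfl
theorem F6049 : act 2 n3549 = n1730 := d13_1 D3549 (iv D1730) D1728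
def n3550 : Q := act 6 n1728
theorem D3550 : act 6 n1728 = n3550 := rfl
theorem F6051 : act 2 n3550 = n1731 := d14_1 D3550 (iv D1731) D1728
theorem F6052 : act 3 n3550 = n2166 := d17_1 D3550 F4008 (iv D2260) (iv F4056) F3033
theorem F6053 : act 2 n2174 = n3535 := d23_8 (iv F6051) F6052 (iv D2166) (iv D1067) F1006 D518 D1072 D2174 F6020 F2932
theorem F6054 : act 6 n3532 = n2174 := d14_0 F6053 (iv D3535) D3532
def n3552 : Q := act 5 n1729
theorem D3552 : act 5 n1729 = n3552 := rfl
theorem F6058 : act 4 n3552 = n1730 := d18_1 D3552 (iv D1730) D1729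
theorem F6059 : act 3 n2129 = n3552 := d15_5 F6058 F2942 (iv D1044) D1043 D2129
def n3554 : Q := act 6 n1730
theorem D3554 : act 6 n1730 = n3554 := rfl
def n3555 : Q := act 5 n1731
theorem D3555 : act 5 n1731 = n3555 := rfl
def n3557 : Q := act 5 n1732
theorem D3557 : act 5 n1732 = n3557 := rfl
def n3559 : Q := act 3 n1733
theorem D3559 : act 3 n1733 = n3559 := rfl
theorem F6071 : act 0 n3559 = n3559 := d2_1 D3559 (iv D3559) F2934
theorem F6072 : act 4 n3559 = n2124 := d15_2 (iv F2936) D3559 (iv D2124) F2940 (iv D1734)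
theorem F6073 : act 6 n3559 = n2124 := d17_2 (iv F2937) D3559 (iv D2124) D2125 (iv F3718)
def n3560 : Q := act 2 n1736
theorem D3560 : act 2 n1736 = n3560 := rfl
theorem F6075 : act 6 n3560 = n1818 := d14_2 (iv F2949) D3560 (iv D1818)
theorem F6076 : act 3 n3560 = n1895 := d23_1 D3560 (iv D1895) (iv D915) F836 (iv F472) (iv F924) D986 F1811 D1736 F2947
def n3563 : Q := act 5 n1737
theorem D3563 : act 5 n1737 = n3563 := rfl
theorem F6082 : act 1 n3563 = n3503 := d9_1 D3563 (iv D3503) (iv F2951)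
def n3565 : Q := act 3 n1738
theorem D3565 : act 3 n1738 = n3565 := rfl
theorem F6086 : act 1 n3565 = n1763 := d7_1 D3565 (iv D1763) (iv F2953)
def n3566 : Q := act 1 n1739
theorem D3566 : act 1 n1739 = n3566 := rfl
theorem F6087 : act 2 n3566 = n1746 := d6_2 D1739 D3566 (iv D1746) (iv D837) (iv F1492)
def n3567 : Q := act 3 n1739
theorem D3567 : act 3 n1739 = n3567 := rfl
def n3568 : Q := act 4 n1739
theorem D3568 : act 4 n1739 = n3568 := rfl
def n3569 : Q := act 5 n1739
theorem D3569 : act 5 n1739 = n3569 := rfl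
def n3570 : Q := act 6 n1739
theorem D3570 : act 6 n1739 = n3570 := rfl
def n3577 : Q := act 2 n1743
theorem D3577 : act 2 n1743 = n3577 := rfl
theorem F6105 : act 0 n3577 = n3489 := d1_1 D3577 (iv D3489) (iv F2960)
def n3581 : Q := act 2 n1745
theorem D3581 : act 2 n1745 = n3581 := rfl
def n3582 : Q := act 4 n1745
theorem D3582 : act 4 n1745 = n3582 := rfl
theorem F6114 : act 1 n3582 = n1761 := d8_1 D3582 (iv D1761) (iv F2967)
def n3583 : Q := act 6 n1745
theorem D3583 : act 6 n1745 = n3583 := rfl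
theorem F6115 : act 1 n3583 = n1762 := d10_1 D3583 (iv D1762) (iv F2967)
theorem F6116 : act 5 n2169 = n3583 := d9_0 F6115 (iv F2996) D2169
def n3584 : Q := act 0 n1746
theorem D3584 : act 0 n1746 = n3584 := rfl
def n3585 : Q := act 4 n1746
theorem D3585 : act 4 n1746 = n3585 := rfl
theorem F6117 : act 1 n3585 = n1747 := d8_1 D3585 (iv D1747) D1746
def n3588 : Q := act 3 n1747
theorem D3588 : act 3 n1747 = n3588 := rfl
theorem F6121 : act 2 n3588 = n3588 := d23_2 (iv F2969) D3588 (iv D3588) F2969 D1750 (iv F4092) F4093 F4092 (iv D1750) F1500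
def n3589 : Q := act 5 n1747
theorem D3589 : act 5 n1747 = n3589 := rfl
theorem F6124 : act 4 n3589 = n1748 := d18_1 D3589 (iv D1748) D1747
def n3590 : Q := act 6 n1747
theorem D3590 : act 6 n1747 = n3590 := rfl
theorem F6125 : act 0 n3590 = n3590 := d5_1 D3590 (iv D3590) F2968
theorem F6126 : act 2 n3590 = n1752 := d14_1 D3590 (iv D1752) (iv F2969)
theorem F6127 : act 4 n3590 = n1749 := d19_1 D3590 (iv D1749) D1747
def n3591 : Q := act 3 n1748
theorem D3591 : act 3 n1748 = n3591 := rfl
def n3592 : Q := act 6 n1748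
theorem D3592 : act 6 n1748 = n3592 := rfl
theorem F6130 : act 2 n3592 = n1754 := d14_1 D3592 (iv D1754) (iv F2971)
theorem F6131 : act 5 n3592 = n3590 := d21_2 D1748 D3592 (iv D3590) (iv D1747)
theorem F6132 : act 3 n3590 = n1992 := d24_2 D3592 F6131 F3452 (iv D969) D968 (iv F3077) (iv D1793) F2021 (iv F3466) (iv F3467) (iv F2995) (iv D1762) (iv F2981) (iv D1753) (iv F2971)
theorem F6133 : act 6 n1990 = n3588 := d17_4 D3590 F6132 (iv D1992) D1990 (iv D3588)
def n3594 : Q := act 5 n1749
theorem D3594 : act 5 n1749 = n3594 := rfl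
theorem F6137 : act 4 n3594 = n3592 := d18_1 D3594 F6131 F6127
theorem F6138 : act 6 n3594 = n3589 := d20_2 D1749 D3594 (iv D3589) D3590 (iv F6131) (iv D3592) (iv D1748)
theorem F6139 : act 3 n3594 = n3526 := d24_2 D1749 D3594 F5997 (iv F3051) (iv F4103) F4102 (iv D2279) F2092 (iv F1524) (iv D849) (iv F1510) (iv D844) (iv D401) D399 D837
def n3595 : Q := act 5 n1750
theorem D3595 : act 5 n1750 = n3595 := rfl
theorem F6143 : act 6 n3595 = n2286 := d20_2 F4084 D3595 F4080 (iv D1758) D1757 (iv F4069) D2287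
def n3597 : Q := act 3 n1752
theorem D3597 : act 3 n1752 = n3597 := rfl
theorem F6146 : act 2 n3597 = n2046 := d23_2 F6126 D3597 (iv D2046) (iv F3558) F3564 F3562 F1836 (iv F3452) (iv F6132) F6125
def n3598 : Q := act 3 n1754
theorem D3598 : act 3 n1754 = n3598 := rfl
def n3599 : Q := act 3 n1755
theorem D3599 : act 3 n1755 = n3599 := rfl
def n3601 : Q := act 3 n1756
theorem D3601 : act 3 n1756 = n3601 := rfl
def n3602 : Q := act 3 n1757
theorem D3602 : act 3 n1757 = n3602 := rfl
theorem F6153 : act 5 n3602 = n1759 := d16_2 D1757 D3602 (iv D1759) (iv D842) D841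
theorem F6154 : act 6 n3519 = n3602 := d24_0 F6153 (iv D1759) F1505 F761 (iv D387) (iv D185) F213 (iv D93) D92 D184 D382 D805 (iv F1457) D1710 D3519
theorem F6156 : act 3 n2066 = n3519 := d17_5 F6154 (iv D3602) (iv F4069) F2099 D2066
theorem F6157 : act 2 n3525 = n2071 := d23_8 (iv F3610) F6156 (iv D3519) (iv D1710) F1455 D822 D1714 D3525 (iv D2071) F1858
theorem F6158 : act 6 n2077 = n3525 := d14_0 F6157 F3620 D2077
def n3604 : Q := act 4 n1759
theorem D3604 : act 4 n1759 = n3604 := rfl
theorem F6163 : act 3 n3604 = n1761 := d15_1 D3604 (iv D1761) (iv D843) (iv F1506) D1759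
def n3606 : Q := act 1 n1760
theorem D3606 : act 1 n1760 = n3606 := rfl
theorem F6166 : act 6 n3606 = n2153 := d10_2 (iv F2992) D3606 F3771
def n3607 : Q := act 3 n1760
theorem D3607 : act 3 n1760 = n3607 := rfl
theorem F6167 : act 0 n3607 = n3607 := d2_1 D3607 (iv D3607) F2991
def n3608 : Q := act 6 n1761
theorem D3608 : act 6 n1761 = n3608 := rfl
theorem F6169 : act 2 n3608 = n2172 := d14_1 D3608 F3821 F3802
theorem F6171 : act 5 n3608 = n2171 := d20_1 D3608 F3818 F2981 D1762 (iv F2996) (iv F3794) (iv F3795)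
def n3610 : Q := act 2 n1763
theorem D3610 : act 2 n1763 = n3610 := rfl
def n3612 : Q := act 5 n1763
theorem D3612 : act 5 n1763 = n3612 := rfl
def n3613 : Q := act 0 n1766
theorem D3613 : act 0 n1766 = n3613 := rfl
theorem F6182 : act 4 n2099 = n3613 := d22_9 (iv D3613) (iv D1766) (iv D846) F762 F763 (iv F1229) (iv F2134) (iv F4153) F4154
def n3614 : Q := act 3 n1766
theorem D3614 : act 3 n1766 = n3614 := rfl
theorem F6183 : act 1 n3614 = n1767 := d7_1 D3614 (iv D1767) D1766
def n3615 : Q := act 4 n1766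
theorem D3615 : act 4 n1766 = n3615 := rfl
theorem F6184 : act 0 n3615 = n2099 := d3_1 D3615 F6182 (iv D3613)
theorem F6185 : act 1 n3615 = n1768 := d8_1 D3615 (iv D1768) D1766
theorem F6187 : act 5 n3615 = n1774 := d18_2 (iv F3008) D3615 (iv D1774)
def n3616 : Q := act 6 n1766
theorem D3616 : act 6 n1766 = n3616 := rfl
theorem F6189 : act 2 n3616 = n2783 := d14_1 D3616 (iv D2783) (iv F3007)
def n3617 : Q := act 2 n1767
theorem D3617 : act 2 n1767 = n3617 := rfl
def n3618 : Q := act 4 n1767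
theorem D3618 : act 4 n1767 = n3618 := rfl
def n3619 : Q := act 5 n1767
theorem D3619 : act 5 n1767 = n3619 := rfl
theorem F6193 : act 3 n3619 = n1778 := d16_1 D3619 (iv D1778) (iv D851) (iv F1516) D1767
def n3620 : Q := act 6 n1767
theorem D3620 : act 6 n1767 = n3620 := rfl
theorem F6195 : act 3 n3620 = n2105 := d17_1 D3620 F3682 F3668 (iv D1769) D1767
def n3621 : Q := act 3 n1772
theorem D3621 : act 3 n1772 = n3621 := rfl
theorem F6196 : act 0 n3621 = n1773 := d2_1 D3621 (iv D1773) D1772
theorem F6197 : act 1 n3621 = n2104 := d7_1 D3621 (iv D2104) (iv F3024)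
def n3622 : Q := act 6 n1772
theorem D3622 : act 6 n1772 = n3622 := rfl
theorem F6199 : act 1 n3622 = n2096 := d10_1 D3622 F3662 (iv F3024)
def n3623 : Q := act 2 n1773
theorem D3623 : act 2 n1773 = n3623 := rfl
def n3624 : Q := act 4 n1773
theorem D3624 : act 4 n1773 = n3624 := rfl
theorem F6202 : act 1 n3624 = n1777 := d8_1 D3624 (iv D1777) (iv F3026)
def n3625 : Q := act 5 n1773
theorem D3625 : act 5 n1773 = n3625 := rfl
theorem F6203 : act 1 n3625 = n1778 := d9_1 D3625 (iv D1778) (iv F3026)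
def n3626 : Q := act 6 n1773
theorem D3626 : act 6 n1773 = n3626 := rfl
theorem F6204 : act 1 n3626 = n1779 := d10_1 D3626 (iv D1779) (iv F3026)
theorem F6205 : act 5 n2256 = n3626 := d9_0 F6204 F4058 D2256
def n3627 : Q := act 3 n1774
theorem D3627 : act 3 n1774 = n3627 := rfl
theorem F6206 : act 0 n3627 = n2098 := d2_1 D3627 (iv D2098) (iv F3027)
theorem F6207 : act 1 n3627 = n1780 := d7_1 D3627 (iv D1780) (iv F3028)
def n3628 : Q := act 6 n1774
theorem D3628 : act 6 n1774 = n3628 := rfl
theorem F6212 : act 5 n3628 = n3616 := d21_2 F6187 D3628 (iv D3616) D3615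
def n3629 : Q := act 3 n1775
theorem D3629 : act 3 n1775 = n3629 := rfl
def n3630 : Q := act 5 n1775
theorem D3630 : act 5 n1775 = n3630 := rfl
theorem F6214 : act 1 n3630 = n1783 := d9_1 D3630 (iv D1783) (iv F3030)
theorem F6217 : act 6 n3630 = n3615 := d20_2 D1775 D3630 F6187 D3628 F6212 (iv D3616) F3008
theorem F6218 : act 3 n2050 = n3630 := d7_0 F6214 F3047 (iv F3581)
def n3631 : Q := act 1 n1776
theorem D3631 : act 1 n1776 = n3631 := rfl
theorem F6219 : act 3 n3631 = n3547 := d7_2 (iv F3033) D3631 (iv D3547)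
theorem F6220 : act 6 n3631 = n2230 := d10_2 (iv F4056) D3631 F3951
def n3632 : Q := act 3 n1777
theorem D3632 : act 3 n1777 = n3632 := rfl
theorem F6222 : act 4 n3632 = n1780 := d15_2 D1777 D3632 (iv D1780) (iv D852) D851
theorem F6223 : act 2 n3632 = n2023 := d24_3 D2259 (iv F4061) D3632 (iv D2023) D2022 F3522 F1913 (iv D506) (iv F986) (iv D503) (iv F984) (iv F1049) (iv D538) D537 D1113
theorem F6224 : act 6 n2021 = n3632 := d14_0 F6223 (iv D2023) D2021
def n3633 : Q := act 6 n1777
theorem D3633 : act 6 n1777 = n3633 := rfl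
theorem F6227 : act 4 n3633 = n1779 := d19_1 D3633 (iv D1779) D1777
def n3634 : Q := act 3 n1779
theorem D3634 : act 3 n1779 = n3634 := rfl
theorem F6230 : act 6 n3634 = n1782 := d17_2 D1779 D3634 (iv D1782) (iv D853) D851
def n3635 : Q := act 2 n1780
theorem D3635 : act 2 n1780 = n3635 := rfl
theorem F6232 : act 4 n3635 = n2023 := d12_2 F6222 D3635 (iv F6223)
theorem F6233 : act 6 n2016 = n3635 := d19_0 F6232 (iv D2023) (iv F3504)
def n3636 : Q := act 5 n1780
theorem D3636 : act 5 n1780 = n3636 := rfl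
def n3637 : Q := act 6 n1780
theorem D3637 : act 6 n1780 = n3637 := rfl
theorem F6236 : act 2 n3637 = n2016 := d14_1 D3637 F6233 (iv D3635)
theorem F6237 : act 4 n3637 = n2021 := d19_1 D3637 F6224 F6222
def n3638 : Q := act 3 n1781
theorem D3638 : act 3 n1781 = n3638 := rfl
theorem F6239 : act 5 n3638 = n2095 := d16_2 (iv F3041) D3638 (iv D2095) D2097 F3668
def n3639 : Q := act 2 n1782
theorem D3639 : act 2 n1782 = n3639 := rfl
theorem F6242 : act 3 n3639 = n1991 := d23_1 D3639 F3450 (iv F3077) (iv D1793) (iv D866) F781 (iv F775) (iv F1530) D1782 F3042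
def n3640 : Q := act 4 n1782
theorem D3640 : act 4 n1782 = n3640 := rfl
def n3645 : Q := act 6 n1786
theorem D3645 : act 6 n1786 = n3645 := rfl
theorem F6255 : act 0 n3645 = n2083 := d5_1 D3645 (iv D2083) (iv F3055)
theorem F6256 : act 1 n3645 = n1791 := d10_1 D3645 (iv D1791) (iv F3056)
def n3646 : Q := act 3 n1787
theorem D3646 : act 3 n1787 = n3646 := rfl
def n3653 : Q := act 6 n1789
theorem D3653 : act 6 n1789 = n3653 := rfl
def n3654 : Q := act 3 n1791
theorem D3654 : act 3 n1791 = n3654 := rfl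
theorem F6276 : act 6 n3654 = n1792 := d17_2 D1791 D3654 (iv D1792) (iv D865) D864
def n3655 : Q := act 2 n1792
theorem D3655 : act 2 n1792 = n3655 := rfl
def n3656 : Q := act 4 n1792
theorem D3656 : act 4 n1792 = n3656 := rfl
def n3657 : Q := act 5 n1792
theorem D3657 : act 5 n1792 = n3657 := rfl
theorem F6281 : act 3 n3657 = n1835 := d16_1 D3657 (iv D1835) (iv D890) (iv F1559) D1792
def n3661 : Q := act 2 n1796
theorem D3661 : act 2 n1796 = n3661 := rfl
theorem F6292 : act 6 n3661 = n3612 := d24_4 D411 D867 D1796 D3661 (iv D3612) (iv D1763) F1510 (iv D404) (iv D192) (iv D96) (iv F112) (iv D49) D48 D98 D194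
def n3663 : Q := act 6 n1796
theorem D3663 : act 6 n1796 = n3663 := rfl
theorem F6296 : act 2 n3663 = n3612 := d14_1 D3663 (iv F6292) (iv D3661)
theorem F6297 : act 3 n3663 = n1832 := d17_1 D3663 (iv D1832) (iv D889) (iv F1564) D1796
theorem F6298 : act 5 n3610 = n3663 := d13_0 F6296 (iv D3612) D3610
def n3664 : Q := act 1 n1797
theorem D3664 : act 1 n1797 = n3664 := rfl
theorem F6300 : act 6 n3664 = n3524 := d10_2 (iv F3080) D3664 (iv D3524)
def n3666 : Q := act 1 n1798
theorem D3666 : act 1 n1798 = n3666 := rfl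
theorem F6302 : act 2 n3666 = n2646 := d6_2 D1798 D3666 (iv D2646) (iv D1298) (iv F1569)
theorem F6303 : act 6 n3666 = n2173 := d10_2 (iv F3082) D3666 (iv D2173)
def n3667 : Q := act 3 n1798
theorem D3667 : act 3 n1798 = n3667 := rfl
def n3668 : Q := act 2 n1799
theorem D3668 : act 2 n1799 = n3668 := rfl
theorem F6305 : act 0 n3668 = n1800 := d1_1 D3668 (iv D1800) (iv F3083)
theorem F6306 : act 5 n3668 = n1800 := d13_2 (iv F3085) D3668 (iv D1800)
def n3669 : Q := act 4 n1799
theorem D3669 : act 4 n1799 = n3669 := rfl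
theorem F6308 : act 1 n3669 = n1810 := d8_1 D3669 F3105 (iv F3084)
theorem F6310 : act 5 n3669 = n1801 := d18_2 (iv F3085) D3669 (iv D1801)
def n3670 : Q := act 6 n1799
theorem D3670 : act 6 n1799 = n3670 := rfl
theorem F6312 : act 1 n3670 = n1812 := d10_1 D3670 (iv D1812) (iv F3084)
theorem F6313 : act 3 n3670 = n2231 := d17_1 D3670 (iv D2231) (iv D1099) (iv F1572) D1799
def n3671 : Q := act 1 n1800
theorem D3671 : act 1 n1800 = n3671 := rfl
theorem F6314 : act 2 n3671 = n1805 := d6_2 D1800 D3671 (iv D1805) (iv D874) (iv F1575)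
def n3673 : Q := act 4 n1800
theorem D3673 : act 4 n1800 = n3673 := rfl
theorem F6315 : act 2 n3673 = n1801 := d12_1 D3673 (iv D1801) D1800
def n3674 : Q := act 6 n1800
theorem D3674 : act 6 n1800 = n3674 := rfl
theorem F6316 : act 2 n3674 = n1802 := d14_1 D3674 (iv D1802) D1800
def n3676 : Q := act 6 n1801
theorem D3676 : act 6 n1801 = n3676 := rfl
theorem F6321 : act 4 n3676 = n1802 := d19_1 D3676 (iv D1802) D1801
theorem F6322 : act 5 n3676 = n3670 := d21_2 F6310 D3676 (iv D3670) D3669
def n3679 : Q := act 5 n1803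
theorem D3679 : act 5 n1803 = n3679 := rfl
def n3680 : Q := act 6 n1803
theorem D3680 : act 6 n1803 = n3680 := rfl
theorem F6331 : act 1 n3680 = n1816 := d10_1 D3680 (iv D1816) (iv F3089)
theorem F6332 : act 3 n3680 = n2216 := d17_1 D3680 (iv D2216) (iv D1093) (iv F1579) D1803
def n3681 : Q := act 3 n1804
theorem D3681 : act 3 n1804 = n3681 := rfl
theorem F6335 : act 4 n3681 = n2111 := d15_2 (iv F3093) D3681 (iv D2111) (iv F2048) (iv F2050)
def n3682 : Q := act 0 n1805
theorem D3682 : act 0 n1805 = n3682 := rfl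
theorem F6336 : act 3 n3682 = n3584 := d2_2 (iv F3095) D3682 (iv D3584)
def n3683 : Q := act 4 n1805
theorem D3683 : act 4 n1805 = n3683 := rfl
theorem F6337 : act 1 n3683 = n1806 := d8_1 D3683 (iv D1806) D1805
def n3684 : Q := act 5 n1805
theorem D3684 : act 5 n1805 = n3684 := rfl
theorem F6338 : act 1 n3684 = n1807 := d9_1 D3684 (iv D1807) D1805
theorem F6339 : act 0 n3683 = n3684 := d22_0 F6338 F3099 F1585 (iv F3084) D3668 F6305 D3671 F6314 D3683
theorem F6341 : act 5 n3682 = n3683 := d4_0 F6339 (iv D3684) D3682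
def n3685 : Q := act 6 n1805
theorem D3685 : act 6 n1805 = n3685 := rfl
theorem F6342 : act 1 n3685 = n1808 := d10_1 D3685 (iv D1808) D1805
def n3686 : Q := act 3 n1806
theorem D3686 : act 3 n1806 = n3686 := rfl
theorem F6344 : act 4 n3686 = n3588 := d15_2 D1806 D3686 (iv D3588) (iv D1747) (iv F1583)
theorem F6345 : act 2 n3686 = n3686 := d12_3 F6344 F6121 (iv F6344)
theorem F6346 : act 6 n1945 = n3686 := d19_0 F6344 (iv F6133) F3447
def n3687 : Q := act 5 n1806
theorem D3687 : act 5 n1806 = n3687 := rfl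
theorem F6348 : act 1 n3687 = n3682 := d9_1 D3687 F6341 F6337
theorem F6350 : act 4 n3687 = n1807 := d18_1 D3687 (iv D1807) D1806
def n3688 : Q := act 6 n1806
theorem D3688 : act 6 n1806 = n3688 := rfl
theorem F6351 : act 0 n3688 = n3688 := d5_1 D3688 (iv D3688) F3096
theorem F6352 : act 2 n3688 = n1811 := d14_1 D3688 (iv D1811) (iv F3097)
theorem F6353 : act 3 n3688 = n1947 := d17_1 D3688 (iv D1947) D1945 F6346 (iv D3686)
theorem F6354 : act 4 n3688 = n1808 := d19_1 D3688 (iv D1808) D1806
def n3689 : Q := act 3 n1807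
theorem D3689 : act 3 n1807 = n3689 := rfl
theorem F6356 : act 5 n3689 = n3591 := d16_2 D1807 D3689 (iv D3591) (iv D1748) (iv F1583)
theorem F6357 : act 6 n1930 = n3689 := d24_0 F6356 (iv D3591) F2971 D1754 F2983 D3597 F6146 (iv F3575) F3574 (iv D1988) (iv F3417) F3419 (iv D1973) D1972 (iv F3424)
def n3690 : Q := act 6 n1807
theorem D3690 : act 6 n1807 = n3690 := rfl
theorem F6359 : act 2 n3690 = n1812 := d14_1 D3690 (iv D1812) (iv F3099)
theorem F6360 : act 3 n3690 = n1932 := d17_1 D3690 (iv D1932) D1930 F6357 (iv D3689)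
theorem F6361 : act 5 n3690 = n3688 := d21_2 D1807 D3690 (iv D3688) (iv D1806)
def n3691 : Q := act 3 n1808
theorem D3691 : act 3 n1808 = n3691 := rfl
def n3692 : Q := act 5 n1808
theorem D3692 : act 5 n1808 = n3692 := rfl
theorem F6365 : act 2 n3692 = n1813 := d13_1 D3692 (iv D1813) (iv F3101)
theorem F6366 : act 4 n3692 = n3690 := d18_1 D3692 F6361 F6354
def n3693 : Q := act 2 n1809
theorem D3693 : act 2 n1809 = n3693 := rfl
theorem F6369 : act 4 n3693 = n1814 := d12_2 (iv F3103) D3693 (iv D1814)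
theorem F6370 : act 3 n3693 = n3693 := d23_1 D3693 (iv D3693) (iv D1809) (iv F3097) D3686 F6345 (iv D3686) F3097 D1809 F3102
def n3696 : Q := act 3 n1811
theorem D3696 : act 3 n1811 = n3696 := rfl
theorem F6377 : act 2 n3696 = n3696 := d23_2 F6352 D3696 (iv D3696) (iv F6352) F6353 F3361 F1722 (iv F3361) (iv F6353) F6351
def n3697 : Q := act 3 n1813
theorem D3697 : act 3 n1813 = n3697 := rfl
def n3699 : Q := act 3 n1814
theorem D3699 : act 3 n1814 = n3699 := rfl
theorem F6380 : act 4 n3699 = n3699 := d15_2 F6369 D3699 (iv D3699) (iv F6369) F6370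
theorem F6381 : act 2 n3699 = n3601 := d23_2 D1814 D3699 (iv D3601) (iv D1756) (iv D841) F755 (iv F395) (iv F793) D878 F1588
def n3700 : Q := act 5 n1814
theorem D3700 : act 5 n1814 = n3700 := rfl
theorem F6383 : act 2 n3700 = n1815 := d13_1 D3700 (iv D1815) D1814
def n3701 : Q := act 6 n1814
theorem D3701 : act 6 n1814 = n3701 := rfl
theorem F6385 : act 2 n3701 = n1816 := d14_1 D3701 (iv D1816) D1814
def n3702 : Q := act 3 n1815
theorem D3702 : act 3 n1815 = n3702 := rfl
theorem F6388 : act 5 n3702 = n1817 := d16_2 D1815 D3702 (iv D1817) (iv D879) D878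
theorem F6389 : act 6 n1871 = n3702 := d24_0 F6388 (iv D1817) F1590 F799 (iv D205) (iv D101) (iv F126) (iv D53) D52 D102 D206 D430 F828 D905 D1871
theorem F6390 : act 2 n3702 = n1869 := d14_1 F6389 F3206 D1871
def n3703 : Q := act 6 n1815
theorem D3703 : act 6 n1815 = n3703 := rfl
def n3704 : Q := act 5 n1816
theorem D3704 : act 5 n1816 = n3704 := rfl
def n3705 : Q := act 2 n1817
theorem D3705 : act 2 n1817 = n3705 := rfl
theorem F6397 : act 4 n3705 = n2121 := d12_2 (iv F3119) D3705 (iv D2121)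
theorem F6398 : act 5 n3705 = n1869 := d13_2 F6388 D3705 (iv F6390)
def n3706 : Q := act 6 n1817
theorem D3706 : act 6 n1817 = n3706 := rfl
theorem F6401 : act 3 n3706 = n1856 := d17_1 D3706 (iv D1856) (iv D898) (iv F1592) D1817
def n3708 : Q := act 3 n1818
theorem D3708 : act 3 n1818 = n3708 := rfl
theorem F6406 : act 6 n3708 = n2168 := d17_2 F6075 D3708 F3814 (iv F3655) (iv F6076)
theorem F6407 : act 2 n3708 = n2264 := d23_2 D1818 D3708 F4018 (iv F4023) (iv F4025) F2891 F2078 F1594 D882 F1600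
theorem F6408 : act 4 n2263 = n3708 := d12_0 F6407 (iv D2264) D2263
def n3724 : Q := act 5 n1825
theorem D3724 : act 5 n1825 = n3724 := rfl
theorem F6436 : act 2 n3724 = n1829 := d13_1 D3724 (iv D1829) (iv F3128)
def n3725 : Q := act 6 n1826
theorem D3725 : act 6 n1826 = n3725 := rfl
theorem F6440 : act 2 n3725 = n1832 := d14_1 D3725 (iv D1832) (iv F3731)
theorem F6441 : act 4 n3725 = n1832 := d19_1 D3725 (iv D1832) (iv F3130)
def n3727 : Q := act 2 n1828
theorem D3727 : act 2 n1828 = n3727 := rfl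
theorem F6444 : act 6 n3727 = n1833 := d14_2 (iv F3135) D3727 (iv D1833)
theorem F6445 : act 5 n1855 = n3727 := d21_0 F6444 F3180 (iv D1856) D1855
theorem F6446 : act 4 n3727 = n1848 := d21_4 F3164 D1856 (iv F3180) (iv F6444)
def n3728 : Q := act 4 n1828
theorem D3728 : act 4 n1828 = n3728 := rfl
theorem F6448 : act 2 n3728 = n1848 := d12_1 D3728 (iv F6446) (iv D3727)
theorem F6449 : act 6 n3728 = n1834 := d19_2 (iv F3135) D3728 (iv D1834)
theorem F6450 : act 5 n3728 = n1854 := d21_0 F3176 (iv D1835) (iv F3135) D3728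
def n3729 : Q := act 5 n1828
theorem D3729 : act 5 n1828 = n3729 := rfl
theorem F6452 : act 2 n3729 = n1855 := d13_1 D3729 F6445 (iv D3727)
theorem F6453 : act 4 n3729 = n1854 := d18_1 D3729 (iv F6450) (iv D3728)
def n3730 : Q := act 3 n1829
theorem D3730 : act 3 n1829 = n3730 := rfl
theorem F6455 : act 6 n3730 = n2157 := d17_2 (iv F3138) D3730 (iv D2157) (iv D1060) D1058
def n3731 : Q := act 6 n1831
theorem D3731 : act 6 n1831 = n3731 := rfl
theorem F6457 : act 5 n3731 = n3725 := d21_2 D1831 D3731 (iv D3725) F3130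
def n3732 : Q := act 5 n1832
theorem D3732 : act 5 n1832 = n3732 := rfl
theorem F6459 : act 2 n3732 = n3731 := d13_1 D3732 F6457 F6440
theorem F6460 : act 4 n3732 = n3731 := d18_1 D3732 F6457 F6441
theorem F6461 : act 6 n3732 = n2156 := d20_2 D1832 D3732 F3789 D3725 (iv F6457) (iv D3731) (iv D1831)
def n3735 : Q := act 4 n1833
theorem D3735 : act 4 n1833 = n3735 := rfl
theorem F6465 : act 6 n3735 = n1848 := d19_2 F6444 D3735 (iv F6446)
def n3736 : Q := act 5 n1834
theorem D3736 : act 5 n1834 = n3736 := rfl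
theorem F6468 : act 6 n3736 = n3729 := d20_2 F6449 D3736 (iv D3729) F3135 D1835 (iv F3176) (iv F6450)
def n3737 : Q := act 1 n1836
theorem D3737 : act 1 n1836 = n3737 := rfl
theorem F6469 : act 2 n3737 = n1841 := d6_2 D1836 D3737 (iv D1841) (iv D893) (iv F1613)
def n3738 : Q := act 3 n1836
theorem D3738 : act 3 n1836 = n3738 := rfl
def n3739 : Q := act 4 n1836
theorem D3739 : act 4 n1836 = n3739 := rfl
theorem F6470 : act 2 n3739 = n1837 := d12_1 D3739 (iv D1837) D1836
def n3745 : Q := act 6 n1838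
theorem D3745 : act 6 n1838 = n3745 := rfl
theorem F6479 : act 0 n3745 = n3631 := d5_1 D3745 F6220 F3950
theorem F6480 : act 1 n3745 = n1849 := d10_1 D3745 (iv D1849) (iv F3147)
def n3750 : Q := act 0 n1841
theorem D3750 : act 0 n1841 = n3750 := rfl
theorem F6488 : act 1 n3750 = n2246 := d22_7 F1045 (iv F2040) D2229 F3949 D3737 F6469 D3750 (iv D2246) F2059
theorem F6489 : act 4 n2256 = n3750 := d8_0 F6488 F3981 D2256
theorem F6490 : act 6 n3625 = n3750 := d10_0 F6488 (iv F4060) (iv F6203)
def n3751 : Q := act 4 n1841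
theorem D3751 : act 4 n1841 = n3751 := rfl
theorem F6491 : act 0 n3751 = n2256 := d3_1 D3751 F6489 (iv D3750)
def n3752 : Q := act 5 n1841
theorem D3752 : act 5 n1841 = n3752 := rfl
def n3753 : Q := act 6 n1841
theorem D3753 : act 6 n1841 = n3753 := rfl
theorem F6494 : act 0 n3753 = n3625 := d5_1 D3753 F6490 (iv D3750)
theorem F6495 : act 1 n3753 = n1844 := d10_1 D3753 (iv D1844) D1841
theorem F6496 : act 5 n3621 = n3753 := d9_0 F6495 F3677 (iv F6197)
def n3754 : Q := act 3 n1842
theorem D3754 : act 3 n1842 = n3754 := rfl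
theorem F6497 : act 0 n3754 = n3754 := d2_1 D3754 (iv D3754) F3151
def n3755 : Q := act 5 n1842
theorem D3755 : act 5 n1842 = n3755 := rfl
theorem F6499 : act 2 n3755 = n1846 := d13_1 D3755 (iv D1846) (iv F3152)
theorem F6500 : act 4 n3755 = n1843 := d18_1 D3755 (iv D1843) D1842
theorem F6501 : act 6 n3755 = n2104 := d21_1 D3755 (iv F3677) (iv D1844) D1842
def n3756 : Q := act 6 n1842
theorem D3756 : act 6 n1842 = n3756 := rfl
theorem F6503 : act 2 n3756 = n1847 := d14_1 D3756 (iv D1847) (iv F3152)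
theorem F6504 : act 4 n3756 = n1844 := d19_1 D3756 (iv D1844) D1842
def n3757 : Q := act 3 n1843
theorem D3757 : act 3 n1843 = n3757 := rfl
def n3758 : Q := act 6 n1843
theorem D3758 : act 6 n1843 = n3758 := rfl
theorem F6508 : act 4 n3758 = n2104 := d19_1 D3758 (iv F6501) F6500
theorem F6509 : act 5 n3758 = n3756 := d20_1 D3758 (iv D3756) D3755 F6501 (iv F3677) (iv D1844) D1843
theorem F6510 : act 3 n2101 = n3758 := d15_5 F6508 (iv D2104) (iv D1028) D1027 D2101
def n3759 : Q := act 3 n1844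
theorem D3759 : act 3 n1844 = n3759 := rfl
theorem F6512 : act 5 n3759 = n3620 := d16_2 (iv F3677) D3759 F6195 (iv D2105) D2104
def n3760 : Q := act 2 n1845
theorem D3760 : act 2 n1845 = n3760 := rfl
theorem F6514 : act 4 n3760 = n1851 := d12_2 (iv F3158) D3760 (iv D1851)
theorem F6515 : act 1 n2235 = n3760 := d22_7 F1621 (iv F2031) D2213 F3920 D2218 F3931 D2235 (iv D3760) F3158
theorem F6516 : act 3 n3760 = n2040 := d7_2 (iv F3957) F6515 F3554
theorem F6517 : act 2 n2039 = n3754 := d23_6 D3760 F6516 F3555 (iv D996) (iv F1825) D2039 (iv D3754) F3152 D1845 F3157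
def n3763 : Q := act 3 n1846
theorem D3763 : act 3 n1846 = n3763 := rfl
def n3764 : Q := act 3 n1847
theorem D3764 : act 3 n1847 = n3764 := rfl
theorem F6524 : act 4 n3764 = n3696 := d15_2 (iv F3162) D3764 (iv D3696) F3108 (iv F1620)
theorem F6525 : act 2 n3764 = n3764 := d12_3 F6524 F6377 (iv F6524)
def n3765 : Q := act 3 n1849
theorem D3765 : act 3 n1849 = n3765 := rfl
def n3766 : Q := act 3 n1850
theorem D3766 : act 3 n1850 = n3766 := rfl
theorem F6528 : act 5 n3766 = n3697 := d16_2 D1850 D3766 (iv D3697) (iv D1813) (iv F1620)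
def n3767 : Q := act 1 n1851
theorem D3767 : act 1 n1851 = n3767 := rfl
theorem F6529 : act 4 n3767 = n2235 := d8_2 F6514 D3767 F6515
theorem F6530 : act 0 n2236 = n3767 := d22_0 (iv D3767) (iv D1851) F1621 (iv F2031) D2213 F3920 D2218 F3931 D2236
def n3768 : Q := act 3 n1851
theorem D3768 : act 3 n1851 = n3768 := rfl
theorem F6532 : act 4 n3768 = n2042 := d15_2 F6514 D3768 (iv D2042) (iv F3556) (iv F6516)
theorem F6533 : act 2 n3768 = n2257 := d23_2 D1851 D3768 (iv D2257) (iv D1113) (iv D537) F523 (iv F410) (iv F816) D897 F1621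
theorem F6534 : act 6 n2239 = n3768 := d19_0 F6532 F3565 (iv F3962)
def n3769 : Q := act 5 n1851
theorem D3769 : act 5 n1851 = n3769 := rfl
theorem F6535 : act 0 n3769 = n3769 := d4_1 D3769 (iv D3769) F3170
theorem F6536 : act 2 n3769 = n1852 := d13_1 D3769 (iv D1852) D1851
theorem F6537 : act 3 n3532 = n3769 := d23_9 F6536 F3172 (iv D1711) (iv D820) F734 D393 D823 D1718 D3532 F6535
theorem F6538 : act 6 n3769 = n3667 := d17_2 (iv F6054) F6537 (iv D3667) F3082 D2174
def n3770 : Q := act 6 n1851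
theorem D3770 : act 6 n1851 = n3770 := rfl
theorem F6541 : act 3 n3770 = n2241 := d17_1 D3770 (iv D2241) D2239 F6534 (iv D3768)
def n3773 : Q := act 1 n1854
theorem D3773 : act 1 n1854 = n3773 := rfl
def n3774 : Q := act 6 n1855
theorem D3774 : act 6 n1855 = n3774 := rfl
theorem F6550 : act 2 n3774 = n3736 := d14_1 D3774 F6468 F6452
theorem F6552 : act 5 n3774 = n3735 := d20_1 D3774 F6465 F3164 D1856 (iv F3180) (iv F6444) (iv F6445)
def n3777 : Q := act 4 n1857
theorem D3777 : act 4 n1857 = n3777 := rfl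
theorem F6556 : act 2 n3777 = n1858 := d12_1 D3777 (iv D1858) D1857
def n3779 : Q := act 6 n1858
theorem D3779 : act 6 n1858 = n3779 := rfl
def n3794 : Q := act 2 n1874
theorem D3794 : act 2 n1874 = n3794 := rfl
theorem F6602 : act 0 n3794 = n1876 := d1_1 D3794 (iv D1876) (iv F3215)
def n3799 : Q := act 1 n1876
theorem D3799 : act 1 n1876 = n3799 := rfl
theorem F6613 : act 2 n3799 = n1881 := d6_2 D1876 D3799 (iv D1881) (iv D909) (iv F1642)
def n3805 : Q := act 6 n1877
theorem D3805 : act 6 n1877 = n3805 := rfl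
def n3807 : Q := act 6 n1878
theorem D3807 : act 6 n1878 = n3807 := rfl
theorem F6623 : act 1 n3807 = n1889 := d10_1 D3807 (iv D1889) (iv F3223)
theorem F6624 : act 5 n3807 = n3805 := d21_2 D1878 D3807 (iv D3805) (iv D1877)
def n3812 : Q := act 0 n1881
theorem D3812 : act 0 n1881 = n3812 := rfl
theorem F6630 : act 3 n3812 = n3750 := d2_2 (iv F3227) D3812 (iv D3750)
def n3816 : Q := act 3 n1882
theorem D3816 : act 3 n1882 = n3816 := rfl
theorem F6634 : act 0 n3816 = n3816 := d2_1 D3816 (iv D3816) F3228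
theorem F6635 : act 4 n3816 = n3754 := d15_2 D1882 D3816 (iv D3754) (iv D1842) (iv F1646)
theorem F6636 : act 2 n2239 = n3816 := d12_3 F6635 (iv F6517) (iv F3962)
theorem F6637 : act 6 n3816 = n2257 := d14_2 (iv F6534) F6636 (iv F6533)
def n3817 : Q := act 5 n1882
theorem D3817 : act 5 n1882 = n3817 := rfl
theorem F6640 : act 4 n3817 = n1883 := d18_1 D3817 (iv D1883) D1882
def n3818 : Q := act 6 n1882
theorem D3818 : act 6 n1882 = n3818 := rfl
theorem F6641 : act 0 n3818 = n3818 := d5_1 D3818 (iv D3818) F3228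
theorem F6642 : act 2 n3818 = n1887 := d14_1 D3818 (iv D1887) (iv F3229)
theorem F6643 : act 3 n3818 = n2259 := d17_1 D3818 (iv D2259) D2257 (iv F6637) (iv D3816)
theorem F6644 : act 4 n3818 = n1884 := d19_1 D3818 (iv D1884) D1882
def n3819 : Q := act 3 n1883
theorem D3819 : act 3 n1883 = n3819 := rfl
theorem F6646 : act 5 n3819 = n3757 := d16_2 D1883 D3819 (iv D3757) (iv D1843) (iv F1646)
def n3820 : Q := act 6 n1883
theorem D3820 : act 6 n1883 = n3820 := rfl
theorem F6649 : act 5 n3820 = n3818 := d21_2 D1883 D3820 (iv D3818) (iv D1882)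
def n3821 : Q := act 3 n1884
theorem D3821 : act 3 n1884 = n3821 := rfl
theorem F6651 : act 4 n3821 = n3619 := d15_2 F6644 D3821 F6193 (iv F4059) (iv F6643)
theorem F6652 : act 6 n3821 = n3759 := d17_2 D1884 D3821 (iv D3759) (iv D1844) (iv F1646)
theorem F6653 : act 5 n3618 = n3821 := d21_0 F6652 F6512 (iv D3620) D3618
theorem F6654 : act 2 n2162 = n3821 := d24_15 F6652 F6512 F6195 F3680 F1891 (iv D1025) (iv D495) (iv F971) (iv D494) F492 D247 F504 D513 D1063 D2162
def n3822 : Q := act 5 n1884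
theorem D3822 : act 5 n1884 = n3822 := rfl
theorem F6658 : act 6 n3822 = n3817 := d20_2 D1884 D3822 (iv D3817) D3818 (iv F6649) (iv D3820) (iv D1883)
def n3823 : Q := act 2 n1885
theorem D3823 : act 2 n1885 = n3823 := rfl
theorem F6660 : act 4 n3823 = n1891 := d12_2 (iv F3235) D3823 (iv D1891)
theorem F6661 : act 3 n3823 = n2246 := d23_1 D3823 (iv D2246) (iv D1107) (iv F2053) D2239 F6636 (iv D3816) F3229 D1885 F3234
theorem F6662 : act 1 n3812 = n3823 := d22_7 F1651 (iv F3216) D3794 F6602 D3799 F6613 D3812 (iv D3823) F3235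
def n3825 : Q := act 6 n1885
theorem D3825 : act 6 n1885 = n3825 := rfl
def n3827 : Q := act 3 n1887
theorem D3827 : act 3 n1887 = n3827 := rfl
theorem F6669 : act 4 n3827 = n3827 := d15_2 (iv F3239) D3827 (iv D3827) F3239 F1650
theorem F6670 : act 2 n3827 = n1941 := d23_2 F6642 D3827 (iv D1941) (iv F3328) (iv F6360) F6359 F3110 (iv F4005) (iv F6643) F6641
def n3828 : Q := act 2 n1888
theorem D3828 : act 2 n1888 = n3828 := rfl
theorem F6672 : act 5 n3828 = n1895 := d13_2 (iv F3241) D3828 (iv D1895)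
theorem F6673 : act 4 n2089 = n3828 := d21_4 F6672 F3655 (iv D2093) (iv F3647)
theorem F6674 : act 6 n3828 = n2092 := d21_3 D2093 (iv F3655) (iv F6672) (iv D2092)
def n3829 : Q := act 4 n1888
theorem D3829 : act 4 n1888 = n3829 := rfl
theorem F6677 : act 5 n3829 = n1896 := d18_2 (iv F3241) D3829 (iv D1896)
theorem F6678 : act 6 n2091 = n3829 := d21_3 F3241 D1897 F3657 (iv D3829)
def n3830 : Q := act 6 n1888
theorem D3830 : act 6 n1888 = n3830 := rfl
theorem F6680 : act 2 n3830 = n2092 := d14_1 D3830 (iv F6674) (iv D3828)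
theorem F6681 : act 4 n3830 = n2091 := d19_1 D3830 F6678 (iv D3829)
def n3831 : Q := act 3 n1889
theorem D3831 : act 3 n1889 = n3831 := rfl
def n3832 : Q := act 3 n1890
theorem D3832 : act 3 n1890 = n3832 := rfl
theorem F6684 : act 5 n3832 = n3832 := d16_2 D1890 D3832 (iv D3832) (iv D1890) F1650
def n3834 : Q := act 3 n1891
theorem D3834 : act 3 n1891 = n3834 := rfl
theorem F6688 : act 4 n3834 = n2257 := d15_2 F6660 D3834 (iv D2257) (iv F3981) (iv F6661)
theorem F6689 : act 2 n3834 = n2042 := d23_2 D1891 D3834 (iv D2042) F1827 F939 F477 (iv F425) (iv F833) D913 F1651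
theorem F6690 : act 6 n3754 = n3834 := d14_0 F6689 F3565 F6517
def n3835 : Q := act 5 n1891
theorem D3835 : act 5 n1891 = n3835 := rfl
theorem F6692 : act 2 n3835 = n1892 := d13_1 D3835 (iv D1892) D1891
def n3836 : Q := act 6 n1891
theorem D3836 : act 6 n1891 = n3836 := rfl
theorem F6694 : act 2 n3836 = n1893 := d14_1 D3836 (iv D1893) D1891
theorem F6695 : act 3 n3836 = n3756 := d17_1 D3836 (iv D3756) D3754 F6690 (iv D3834)
def n3837 : Q := act 3 n1892
theorem D3837 : act 3 n1892 = n3837 := rfl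
theorem F6697 : act 5 n3837 = n1894 := d16_2 D1892 D3837 (iv D1894) (iv D914) D913
theorem F6698 : act 2 n3837 = n3654 := d24_3 (iv D1893) D1892 D3837 F6276 D3657 F6281 (iv F3179) (iv D1856) (iv F3164) (iv D1848) (iv F3154) D3758 F6509 (iv F6695) F6694
theorem F6699 : act 6 n3655 = n3837 := d14_0 F6698 F6276 D3655
def n3838 : Q := act 6 n1892
theorem D3838 : act 6 n1892 = n3838 := rfl
theorem F6701 : act 5 n3838 = n3825 := d21_2 D1892 D3838 (iv D3825) F3235
def n3840 : Q := act 2 n1894
theorem D3840 : act 2 n1894 = n3840 := rfl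
theorem F6706 : act 5 n3840 = n3654 := d13_2 F6697 D3840 (iv F6698)
def n3841 : Q := act 4 n1894
theorem D3841 : act 4 n1894 = n3841 := rfl
def n3842 : Q := act 6 n1894
theorem D3842 : act 6 n1894 = n3842 := rfl
def n3843 : Q := act 1 n1895
theorem D3843 : act 1 n1895 = n3843 := rfl
def n3844 : Q := act 4 n1895
theorem D3844 : act 4 n1895 = n3844 := rfl
theorem F6712 : act 2 n3844 = n1896 := d12_1 D3844 (iv D1896) D1895
def n3845 : Q := act 6 n1896
theorem D3845 : act 6 n1896 = n3845 := rfl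
theorem F6716 : act 5 n3845 = n3830 := d20_1 D3845 (iv D3830) F3241 D1897 F3657 F6678 F6677
def n3848 : Q := act 1 n1899
theorem D3848 : act 1 n1899 = n3848 := rfl
theorem F6720 : act 2 n3848 = n1906 := d6_2 D1899 D3848 F3273 F1675 (iv F1661)
theorem F6721 : act 5 n3848 = n1902 := d9_2 (iv F3258) D3848 (iv D1902)
def n3849 : Q := act 3 n1899
theorem D3849 : act 3 n1899 = n3849 := rfl
theorem F6722 : act 0 n3849 = n1903 := d2_1 D3849 (iv D1903) (iv F3257)
def n3850 : Q := act 4 n1899
theorem D3850 : act 4 n1899 = n3850 := rfl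
theorem F6723 : act 0 n3850 = n1904 := d3_1 D3850 (iv D1904) (iv F3257)
theorem F6724 : act 2 n3850 = n1900 := d12_1 D3850 (iv D1900) D1899
theorem F6725 : act 5 n3850 = n1904 := d18_2 (iv F3258) D3850 (iv D1904)
theorem F6726 : act 6 n3848 = n3850 := d21_3 F3258 F3267 (iv F6721) (iv D3850)
def n3851 : Q := act 6 n1899
theorem D3851 : act 6 n1899 = n3851 := rfl
theorem F6727 : act 0 n3851 = n1902 := d5_1 D3851 (iv F3267) (iv F3257)
theorem F6728 : act 1 n3851 = n3850 := d10_1 D3851 (iv F6726) (iv D3848)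
theorem F6729 : act 2 n3851 = n1901 := d14_1 D3851 (iv D1901) D1899
theorem F6730 : act 4 n3851 = n3848 := d19_1 D3851 F6726 (iv D3850)
def n3852 : Q := act 3 n1902
theorem D3852 : act 3 n1902 = n3852 := rfl
theorem F6731 : act 1 n3852 = n1903 := d7_1 D3852 (iv D1903) D1902
def n3853 : Q := act 4 n1902
theorem D3853 : act 4 n1902 = n3853 := rfl
theorem F6732 : act 0 n3853 = n3848 := d3_1 D3853 (iv F6730) F6727
theorem F6733 : act 1 n3853 = n1904 := d8_1 D3853 (iv D1904) D1902
theorem F6734 : act 2 n3853 = n1905 := d12_1 D3853 F3270 (iv F3266)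
theorem F6735 : act 5 n3853 = n3851 := d18_2 F6721 D3853 F6730
theorem F6736 : act 6 n3853 = n1904 := d19_2 F3267 D3853 (iv D1904)
def n3854 : Q := act 2 n1903
theorem D3854 : act 2 n1903 = n3854 := rfl
def n3855 : Q := act 4 n1903
theorem D3855 : act 4 n1903 = n3855 := rfl
def n3856 : Q := act 5 n1903
theorem D3856 : act 5 n1903 = n3856 := rfl
def n3857 : Q := act 6 n1903
theorem D3857 : act 6 n1903 = n3857 := rfl
def n3858 : Q := act 3 n1904
theorem D3858 : act 3 n1904 = n3858 := rfl
def n3859 : Q := act 3 n1905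
theorem D3859 : act 3 n1905 = n3859 := rfl
theorem F6737 : act 1 n3859 = n1907 := d7_1 D3859 (iv D1907) (iv F3269)
theorem F6738 : act 4 n3859 = n3859 := d15_2 (iv F3270) D3859 (iv D3859) F3270 F1670
theorem F6739 : act 5 n3859 = n3859 := d16_2 (iv F3271) D3859 (iv D3859) F3271 F3265
def n3860 : Q := act 3 n1906
theorem D3860 : act 3 n1906 = n3860 := rfl
theorem F6740 : act 0 n3860 = n3859 := d2_1 D3860 (iv D3859) (iv F3272)
theorem F6741 : act 1 n3860 = n1908 := d7_1 D3860 (iv D1908) (iv F3273)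
theorem F6742 : act 4 n3860 = n3860 := d15_2 (iv F3274) D3860 (iv D3860) F3274 F3265
theorem F6743 : act 5 n3860 = n3860 := d16_2 D1906 D3860 (iv D3860) (iv D1906) F1670
theorem F6744 : act 6 n3860 = n3859 := d17_2 (iv F3275) D3860 (iv D3859) (iv D1905) (iv F3261)
def n3861 : Q := act 1 n1909
theorem D3861 : act 1 n1909 = n3861 := rfl
theorem F6745 : act 2 n3861 = n1944 := d6_2 D1909 D3861 (iv D1944) (iv D943) (iv F1686)
def n3862 : Q := act 3 n1909
theorem D3862 : act 3 n1909 = n3862 := rfl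
theorem F6746 : act 0 n3862 = n1915 := d2_1 D3862 (iv D1915) (iv F3285)
def n3863 : Q := act 4 n1909
theorem D3863 : act 4 n1909 = n3863 := rfl
theorem F6747 : act 0 n3863 = n1916 := d3_1 D3863 (iv D1916) (iv F3285)
theorem F6748 : act 2 n3863 = n1910 := d12_1 D3863 (iv D1910) D1909
def n3865 : Q := act 6 n1909
theorem D3865 : act 6 n1909 = n3865 := rfl
theorem F6751 : act 0 n3865 = n1918 := d5_1 D3865 (iv D1918) (iv F3285)
theorem F6752 : act 2 n3865 = n1912 := d14_1 D3865 (iv D1912) D1909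
def n3866 : Q := act 5 n1910
theorem D3866 : act 5 n1910 = n3866 := rfl
theorem F6754 : act 1 n3866 = n1938 := d9_1 D3866 (iv D1938) (iv F3287)
def n3867 : Q := act 6 n1910
theorem D3867 : act 6 n1910 = n3867 := rfl
theorem F6756 : act 0 n3867 = n1920 := d5_1 D3867 (iv D1920) (iv F3286)
theorem F6757 : act 1 n3867 = n1939 := d10_1 D3867 (iv D1939) (iv F3287)
def n3868 : Q := act 6 n1911
theorem D3868 : act 6 n1911 = n3868 := rfl
theorem F6762 : act 5 n3868 = n3867 := d21_2 D1911 D3868 (iv D3867) (iv D1910)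
def n3869 : Q := act 5 n1912
theorem D3869 : act 5 n1912 = n3869 := rfl
theorem F6763 : act 0 n3869 = n1923 := d4_1 D3869 (iv D1923) (iv F3292)
theorem F6764 : act 1 n3869 = n1949 := d9_1 D3869 (iv D1949) (iv F3293)
theorem F6766 : act 6 n3869 = n3866 := d20_2 D1912 D3869 (iv D3866) D3867 (iv F6762) (iv D3868) (iv D1911)
def n3870 : Q := act 0 n1914
theorem D3870 : act 0 n1914 = n3870 := rfl
theorem F6767 : act 2 n3870 = n1926 := d1_2 (iv F3298) D3870 (iv D1926)
theorem F6769 : act 4 n3861 = n3870 := d22_9 (iv D3870) (iv D1914) (iv D928) (iv F1685) F1686 D943 F1719 D1944 (iv F6745)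
def n3871 : Q := act 3 n1914
theorem D3871 : act 3 n1914 = n3871 := rfl
theorem F6770 : act 1 n3871 = n1915 := d7_1 D3871 (iv D1915) D1914
def n3872 : Q := act 4 n1914
theorem D3872 : act 4 n1914 = n3872 := rfl
theorem F6772 : act 1 n3872 = n1916 := d8_1 D3872 (iv D1916) D1914
theorem F6773 : act 2 n3872 = n1927 := d12_1 D3872 (iv D1927) (iv F3298)
def n3874 : Q := act 6 n1914
theorem D3874 : act 6 n1914 = n3874 := rfl
theorem F6776 : act 1 n3874 = n1918 := d10_1 D3874 (iv D1918) D1914
theorem F6777 : act 2 n3874 = n1929 := d14_1 D3874 (iv D1929) (iv F3298)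
def n3875 : Q := act 2 n1915
theorem D3875 : act 2 n1915 = n3875 := rfl
def n3876 : Q := act 4 n1915
theorem D3876 : act 4 n1915 = n3876 := rfl
def n3877 : Q := act 5 n1915
theorem D3877 : act 5 n1915 = n3877 := rfl
def n3878 : Q := act 6 n1915
theorem D3878 : act 6 n1915 = n3878 := rfl
def n3879 : Q := act 3 n1916
theorem D3879 : act 3 n1916 = n3879 := rfl
def n3881 : Q := act 6 n1916
theorem D3881 : act 6 n1916 = n3881 := rfl
theorem F6780 : act 2 n3881 = n1920 := d14_1 D3881 (iv D1920) (iv F3299)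
theorem F6781 : act 4 n3881 = n1918 := d19_1 D3881 (iv D1918) D1916
def n3883 : Q := act 6 n1917
theorem D3883 : act 6 n1917 = n3883 := rfl
theorem F6782 : act 2 n3883 = n1922 := d14_1 D3883 (iv D1922) (iv F3300)
theorem F6783 : act 5 n3883 = n3881 := d21_2 D1917 D3883 (iv D3881) (iv D1916)
def n3884 : Q := act 3 n1918
theorem D3884 : act 3 n1918 = n3884 := rfl
def n3885 : Q := act 5 n1918
theorem D3885 : act 5 n1918 = n3885 := rfl
theorem F6784 : act 2 n3885 = n1923 := d13_1 D3885 (iv D1923) (iv F3301)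
theorem F6785 : act 4 n3885 = n3883 := d18_1 D3885 F6783 F6781
theorem F6787 : act 3 n3885 = n3883 := d24_2 D1918 D3885 F6782 (iv D1922) (iv D930) (iv D447) F439 F429 D438 (iv F1665) (iv F1689) F1691 (iv D448) D447 D928
def n3887 : Q := act 3 n1920
theorem D3887 : act 3 n1920 = n3887 := rfl
theorem F6790 : act 1 n3887 = n1941 := d7_1 D3887 (iv D1941) (iv F3304)
def n3890 : Q := act 3 n1924
theorem D3890 : act 3 n1924 = n3890 := rfl
theorem F6797 : act 1 n3890 = n2477 := d7_1 D3890 (iv D2477) (iv F3316)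
theorem F6798 : act 2 n3890 = n3890 := d23_2 D1924 D3890 (iv D3890) (iv D1924) (iv D932) F871 (iv F1665) (iv F1689) D1913 F3295
theorem F6799 : act 5 n2969 = n3890 := d9_0 F6797 (iv F4377) (iv F5205)
def n3893 : Q := act 3 n1927
theorem D3893 : act 3 n1927 = n3893 := rfl
theorem F6802 : act 1 n3893 = n1930 := d7_1 D3893 (iv D1930) (iv F3320)
def n3895 : Q := act 6 n1927
theorem D3895 : act 6 n1927 = n3895 := rfl
theorem F6806 : act 4 n3895 = n1929 := d19_1 D3895 (iv D1929) D1927
def n3896 : Q := act 3 n1928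
theorem D3896 : act 3 n1928 = n3896 := rfl
theorem F6807 : act 1 n3896 = n1933 := d7_1 D3896 (iv D1933) (iv F3321)
def n3897 : Q := act 6 n1928
theorem D3897 : act 6 n1928 = n3897 := rfl
theorem F6809 : act 5 n3897 = n3895 := d21_2 D1928 D3897 (iv D3895) (iv D1927)
def n3900 : Q := act 5 n1930
theorem D3900 : act 5 n1930 = n3900 := rfl
def n3902 : Q := act 4 n1933
theorem D3902 : act 4 n1933 = n3902 := rfl
def n3903 : Q := act 6 n1933
theorem D3903 : act 6 n1933 = n3903 := rfl
def n3904 : Q := act 3 n1934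
theorem D3904 : act 3 n1934 = n3904 := rfl
theorem F6819 : act 5 n3904 = n1947 := d16_2 (iv F3333) D3904 (iv F6353) (iv F6361) F6360
def n3905 : Q := act 2 n1935
theorem D3905 : act 2 n1935 = n3905 := rfl
def n3906 : Q := act 4 n1935
theorem D3906 : act 4 n1935 = n3906 := rfl
theorem F6823 : act 3 n3906 = n3692 := d15_1 D3906 F6366 F6360 F3329 D1935
def n3907 : Q := act 5 n1935
theorem D3907 : act 5 n1935 = n3907 := rfl
def n3909 : Q := act 5 n1937
theorem D3909 : act 5 n1937 = n3909 := rfl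
theorem F6830 : act 6 n3909 = n3904 := d21_1 D3909 F6819 (iv D1947) (iv F3340)
theorem F6831 : act 3 n3903 = n3909 := d17_5 F6830 (iv D3904) (iv D1934) D1933 D3903
def n3910 : Q := act 6 n1937
theorem D3910 : act 6 n1937 = n3910 := rfl
theorem F6834 : act 2 n3910 = n1939 := d14_1 D3910 (iv D1939) D1937
def n3912 : Q := act 3 n1939
theorem D3912 : act 3 n1939 = n3912 := rfl
theorem F6840 : act 4 n3912 = n3912 := d15_2 (iv F3345) D3912 (iv D3912) F3345 F1722
theorem F6841 : act 5 n3912 = n3601 := d16_2 F3364 D3912 (iv D3601) (iv F4071) (iv F3363)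
theorem F6842 : act 6 n3912 = n1941 := d17_2 D1939 D3912 (iv D1941) (iv D939) D937
def n3914 : Q := act 6 n1940
theorem D3914 : act 6 n1940 = n3914 := rfl
theorem F6846 : act 4 n3914 = n2183 := d19_1 D3914 (iv D2183) (iv F3347)
def n3915 : Q := act 5 n1941
theorem D3915 : act 5 n1941 = n3915 := rfl
theorem F6848 : act 3 n3915 = n3495 := d16_1 D3915 F5927 (iv D1942) F1715 D1941
theorem F6850 : act 6 n3915 = n3601 := d21_1 D3915 (iv F6841) F6842 F3349
def n3916 : Q := act 2 n1943
theorem D3916 : act 2 n1943 = n3916 := rfl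
def n3917 : Q := act 4 n1943
theorem D3917 : act 4 n1943 = n3917 := rfl
theorem F6854 : act 3 n3917 = n3496 := d15_1 D3917 F5930 (iv D1942) (iv F1717) D1943
def n3918 : Q := act 6 n1943
theorem D3918 : act 6 n1943 = n3918 := rfl
theorem F6857 : act 3 n3918 = n3914 := d17_1 D3918 (iv D3914) (iv D1940) (iv F1718) D1943
def n3919 : Q := act 3 n1944
theorem D3919 : act 3 n1944 = n3919 := rfl
def n3921 : Q := act 6 n1944
theorem D3921 : act 6 n1944 = n3921 := rfl
theorem F6863 : act 0 n3921 = n3895 := d5_1 D3921 (iv D3895) F3355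
def n3926 : Q := act 2 n1950
theorem D3926 : act 2 n1950 = n3926 := rfl
theorem F6877 : act 3 n3926 = n2292 := d23_1 D3926 (iv D2292) (iv D1137) (iv F1724) (iv D946) F879 D456 D948 D1950 F3368
def n3929 : Q := act 6 n1950
theorem D3929 : act 6 n1950 = n3929 := rfl
theorem F6885 : act 1 n3929 = n3929 := d10_1 D3929 (iv D3929) F3369
theorem F6886 : act 3 n3929 = n3929 := d17_1 D3929 (iv D3929) (iv D1950) F1734 D1950
def n3976 : Q := act 5 n1972
theorem D3976 : act 5 n1972 = n3976 := rfl
theorem F6967 : act 2 n3976 = n3900 := d13_1 D3976 (iv D3900) F3424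
theorem F6968 : act 4 n3976 = n3900 := d18_1 D3976 (iv D3900) (iv F3402)
theorem F6969 : act 6 n3976 = n3591 := d21_1 D3976 (iv F6356) (iv F6357) (iv F3402)
def n3977 : Q := act 6 n1972
theorem D3977 : act 6 n1972 = n3977 := rfl
theorem F6970 : act 0 n3977 = n3977 := d5_1 D3977 (iv D3977) F3401
theorem F6971 : act 2 n3977 = n3689 := d14_1 D3977 (iv F6357) F3424
theorem F6972 : act 4 n3977 = n3689 := d19_1 D3977 (iv F6357) (iv F3402)
theorem F6973 : act 3 n3502 = n3977 := d23_9 F6971 (iv D3689) F3099 F1586 F981 (iv F725) (iv F1435) D1701 D3502 F6970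
def n3978 : Q := act 3 n1973
theorem D3978 : act 3 n1973 = n3978 := rfl
def n3979 : Q := act 3 n1974
theorem D3979 : act 3 n1974 = n3979 := rfl
theorem F6976 : act 6 n3979 = n3502 := d17_2 D1974 D3979 F6973 (iv D3977) (iv D1972)
def n3980 : Q := act 2 n1975
theorem D3980 : act 2 n1975 = n3980 := rfl
theorem F6979 : act 5 n3980 = n2255 := d13_2 (iv F3410) D3980 (iv F4073)
def n3981 : Q := act 4 n1975
theorem D3981 : act 4 n1975 = n3981 := rfl
theorem F6982 : act 5 n3981 = n3902 := d18_2 (iv F3410) D3981 (iv D3902)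
def n3984 : Q := act 2 n1977
theorem D3984 : act 2 n1977 = n3984 := rfl
theorem F6986 : act 6 n3984 = n3905 := d14_2 (iv F3415) D3984 (iv D3905)
def n3985 : Q := act 4 n1977
theorem D3985 : act 4 n1977 = n3985 := rfl
theorem F6988 : act 6 n3985 = n3906 := d19_2 (iv F3415) D3985 (iv D3906)
def n3987 : Q := act 3 n1978
theorem D3987 : act 3 n1978 = n3987 := rfl
def n3988 : Q := act 5 n1979
theorem D3988 : act 5 n1979 = n3988 := rfl
def n3989 : Q := act 6 n1979
theorem D3989 : act 6 n1979 = n3989 := rfl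
def n3996 : Q := act 5 n1983
theorem D3996 : act 5 n1983 = n3996 := rfl
theorem F7012 : act 6 n3996 = n1988 := d21_1 D3996 (iv F3574) F3575 F3572
def n4001 : Q := act 2 n1988
theorem D4001 : act 2 n1988 = n4001 := rfl
def n4003 : Q := act 3 n1989
theorem D4003 : act 3 n1989 = n4003 := rfl
theorem F7031 : act 1 n4003 = n1990 := d7_1 D4003 (iv D1990) D1989
theorem F7032 : act 4 n4003 = n3919 := d15_2 (iv F3444) D4003 (iv D3919) F3354 (iv F3397)
def n4005 : Q := act 6 n1989
theorem D4005 : act 6 n1989 = n4005 := rfl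
theorem F7037 : act 1 n4005 = n1992 := d10_1 D4005 (iv D1992) D1989
def n4006 : Q := act 5 n1990
theorem D4006 : act 5 n1990 = n4006 := rfl
theorem F7040 : act 2 n4006 = n4006 := d13_1 D4006 (iv D4006) F3448
def n4007 : Q := act 6 n1991
theorem D4007 : act 6 n1991 = n4007 := rfl
theorem F7044 : act 5 n4007 = n3989 := d21_2 D1991 D4007 (iv D3989) F3421
def n4008 : Q := act 5 n1992
theorem D4008 : act 5 n1992 = n4008 := rfl
theorem F7046 : act 2 n4008 = n1994 := d13_1 D4008 (iv D1994) (iv F3452)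
theorem F7048 : act 6 n4008 = n3988 := d20_2 D1992 D4008 (iv D3988) D3989 (iv F7044) (iv D4007) (iv D1991)
def n4010 : Q := act 3 n1994
theorem D4010 : act 3 n1994 = n4010 := rfl
theorem F7055 : act 5 n4010 = n2046 := d16_2 D1994 D4010 (iv D2046) (iv F1837) F1836
def n4027 : Q := act 5 n2003
theorem D4027 : act 5 n2003 = n4027 := rfl
theorem F7095 : act 2 n4027 = n2052 := d13_1 D4027 (iv D2052) (iv F3480)
def n4030 : Q := act 2 n2005
theorem D4030 : act 2 n2005 = n4030 := rfl
theorem F7100 : act 0 n4030 = n2007 := d1_1 D4030 (iv D2007) (iv F3484)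
def n4032 : Q := act 5 n2005
theorem D4032 : act 5 n2005 = n4032 := rfl
theorem F7105 : act 1 n4032 = n2022 := d9_1 D4032 (iv D2022) (iv F3485)
theorem F7106 : act 3 n2127 = n4032 := d7_0 F7105 F3522 (iv F3720)
def n4033 : Q := act 6 n2005
theorem D4033 : act 6 n2005 = n4033 := rfl
theorem F7108 : act 1 n4033 = n2023 := d10_1 D4033 (iv D2023) (iv F3485)
def n4034 : Q := act 3 n2006
theorem D4034 : act 3 n2006 = n4034 := rfl
theorem F7112 : act 5 n4034 = n2127 := d16_2 D2006 D4034 F7106 (iv D4032) (iv D2005)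
theorem F7113 : act 6 n4034 = n3541 := d17_2 (iv F3490) D4034 F6035 F3496 (iv D2011)
def n4035 : Q := act 1 n2007
theorem D4035 : act 1 n2007 = n4035 := rfl
theorem F7114 : act 2 n4035 = n2012 := d6_2 D2007 D4035 (iv D2012) (iv D980) (iv F1797)
def n4039 : Q := act 6 n2007
theorem D4039 : act 6 n2007 = n4039 := rfl
theorem F7117 : act 2 n4039 = n2010 := d14_1 D4039 (iv D2010) D2007
def n4040 : Q := act 5 n2008
theorem D4040 : act 5 n2008 = n4040 := rfl
theorem F7118 : act 1 n4040 = n2017 := d9_1 D4040 (iv D2017) (iv F3491)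
theorem F7119 : act 4 n4040 = n2009 := d18_1 D4040 (iv D2009) D2008
def n4041 : Q := act 6 n2008
theorem D4041 : act 6 n2008 = n4041 := rfl
theorem F7121 : act 4 n4041 = n2010 := d19_1 D4041 (iv D2010) D2008
def n4042 : Q := act 6 n2009
theorem D4042 : act 6 n2009 = n4042 := rfl
theorem F7123 : act 5 n4042 = n4041 := d21_2 D2009 D4042 (iv D4041) (iv D2008)
def n4043 : Q := act 5 n2010
theorem D4043 : act 5 n2010 = n4043 := rfl
theorem F7125 : act 4 n4043 = n4042 := d18_1 D4043 F7123 F7121
theorem F7126 : act 6 n4043 = n4040 := d20_2 D2010 D4043 (iv D4040) D4041 (iv F7123) (iv D4042) (iv D2009)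
def n4044 : Q := act 0 n2012
theorem D4044 : act 0 n2012 = n4044 := rfl
theorem F7127 : act 6 n4044 = n3627 := d5_2 F3909 D4044 F6206
theorem F7128 : act 1 n4044 = n3637 := d22_7 F1805 (iv F3485) D4030 F7100 D4035 F7114 D4044 F6236 F3504
def n4045 : Q := act 4 n2012
theorem D4045 : act 4 n2012 = n4045 := rfl
def n4047 : Q := act 3 n2013
theorem D4047 : act 3 n2013 = n4047 := rfl
theorem F7132 : act 6 n4047 = n3757 := d17_2 F3912 D4047 (iv D3757) D3758 (iv F6510)
def n4048 : Q := act 5 n2013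
theorem D4048 : act 5 n2013 = n4048 := rfl
theorem F7134 : act 2 n4048 = n2017 := d13_1 D4048 (iv D2017) (iv F3498)
theorem F7135 : act 4 n4048 = n2014 := d18_1 D4048 (iv D2014) D2013
def n4051 : Q := act 5 n2016
theorem D4051 : act 5 n2016 = n4051 := rfl
theorem F7144 : act 4 n4051 = n2022 := d18_1 D4051 (iv D2022) (iv F3504)
def n4052 : Q := act 3 n2018
theorem D4052 : act 3 n2018 = n4052 := rfl
def n4054 : Q := act 1 n2021
theorem D4054 : act 1 n2021 = n4054 := rfl
theorem F7149 : act 4 n4054 = n4044 := d8_2 F6237 D4054 F7128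
theorem F7150 : act 0 n4045 = n4054 := d22_0 (iv D4054) (iv D2021) F1805 (iv F3485) D4030 F7100 D4035 F7114 D4045
def n4055 : Q := act 3 n2021
theorem D4055 : act 3 n2021 = n4055 := rfl
def n4057 : Q := act 6 n2022
theorem D4057 : act 6 n2022 = n4057 := rfl
theorem F7157 : act 3 n4057 = n2131 := d17_1 D4057 (iv D2131) (iv D1043) D1045 (iv F3522)
theorem F7158 : act 5 n4057 = n3635 := d21_2 D2022 D4057 (iv F6233) F3504
def n4058 : Q := act 5 n2023
theorem D4058 : act 5 n2023 = n4058 := rfl
theorem F7160 : act 4 n4058 = n4057 := d18_1 D4058 F7158 F6232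
theorem F7161 : act 6 n4058 = n4051 := d20_2 D2023 D4058 (iv D4051) F6233 (iv F7158) (iv D4057) (iv D2022)
def n4080 : Q := act 3 n2036
theorem D4080 : act 3 n2036 = n4080 := rfl
theorem F7202 : act 1 n4080 = n2039 := d7_1 D4080 (iv D2039) (iv F3546)
def n4081 : Q := act 6 n2036
theorem D4081 : act 6 n2036 = n4081 := rfl
def n4082 : Q := act 3 n2037
theorem D4082 : act 3 n2037 = n4082 := rfl
theorem F7205 : act 0 n4082 = n4080 := d2_1 D4082 (iv D4080) F3548
theorem F7206 : act 1 n4082 = n2042 := d7_1 D4082 (iv D2042) (iv F3547)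
theorem F7207 : act 6 n4080 = n4082 := d10_0 F7206 F3565 (iv F7202)
def n4083 : Q := act 6 n2037
theorem D4083 : act 6 n2037 = n4083 := rfl
theorem F7210 : act 3 n4083 = n4081 := d17_1 D4083 (iv D4081) D4080 F7207 (iv D4082)
def n4086 : Q := act 2 n2044
theorem D4086 : act 2 n2044 = n4086 := rfl
def n4089 : Q := act 2 n2047
theorem D4089 : act 2 n2047 = n4089 := rfl
theorem F7220 : act 5 n4089 = n4001 := d13_2 (iv F3574) D4089 (iv D4001)
theorem F7221 : act 6 n4089 = n3597 := d14_2 (iv F3575) D4089 F6146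
theorem F7222 : act 3 n2287 = n4089 := d24_2 (iv F4069) D2287 (iv D4089) F3575 (iv F7055) (iv D4010) (iv F7046) F7048 (iv D3988) F3423 (iv D1937) D1939 (iv F3364) F3363 (iv F4070)
theorem F7223 : act 3 n4001 = n2065 := d16_3 D2287 F7222 F7220 (iv D2065) (iv F2099)
def n4090 : Q := act 3 n2048
theorem D4090 : act 3 n2048 = n4090 := rfl
theorem F7224 : act 0 n4090 = n2049 := d2_1 D4090 (iv D2049) D2048
def n4093 : Q := act 5 n2049
theorem D4093 : act 5 n2049 = n4093 := rfl
theorem F7228 : act 3 n4093 = n2059 := d16_1 D4093 (iv D2059) (iv D1005) (iv F1842) D2049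
def n4094 : Q := act 6 n2049
theorem D4094 : act 6 n2049 = n4094 := rfl
theorem F7229 : act 1 n4094 = n2053 := d10_1 D4094 (iv D2053) (iv F3580)
theorem F7230 : act 3 n4094 = n3615 := d17_1 D4094 (iv F6217) (iv F6218) (iv D2050) D2049
def n4096 : Q := act 5 n2051
theorem D4096 : act 5 n2051 = n4096 := rfl
theorem F7234 : act 4 n4096 = n2052 := d18_1 D4096 (iv D2052) D2051
def n4097 : Q := act 6 n2051
theorem D4097 : act 6 n2051 = n4097 := rfl
theorem F7236 : act 4 n4097 = n2053 := d19_1 D4097 (iv D2053) D2051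
theorem F7237 : act 3 n3618 = n4097 := d15_5 F7236 F3587 (iv D1768) D1767 D3618
def n4098 : Q := act 6 n2052
theorem D4098 : act 6 n2052 = n4098 := rfl
theorem F7239 : act 5 n4098 = n4097 := d21_2 D2052 D4098 (iv D4097) (iv D2051)
theorem F7240 : act 3 n3822 = n4098 := d16_5 F7239 (iv F7237) F6653 (iv D3821) D3822
theorem F7241 : act 3 n2070 = n3817 := d17_5 (iv F6658) F7240 (iv D4098) F3585 D2070
def n4099 : Q := act 5 n2053
theorem D4099 : act 5 n2053 = n4099 := rfl
theorem F7244 : act 4 n4099 = n4098 := d18_1 D4099 F7239 F7236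
theorem F7245 : act 6 n4099 = n4096 := d20_2 D2053 D4099 (iv D4096) D4097 (iv F7239) (iv D4098) (iv D2052)
def n4102 : Q := act 2 n2055
theorem D4102 : act 2 n2055 = n4102 := rfl
theorem F7249 : act 0 n4102 = n2057 := d1_1 D4102 (iv D2057) (iv F3589)
def n4103 : Q := act 4 n2055
theorem D4103 : act 4 n2055 = n4103 := rfl
theorem F7250 : act 0 n4103 = n2058 := d3_1 D4103 (iv D2058) (iv F3589)
theorem F7251 : act 1 n4103 = n2067 := d8_1 D4103 F3612 (iv F3590)
def n4104 : Q := act 5 n2055
theorem D4104 : act 5 n2055 = n4104 := rfl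
theorem F7253 : act 0 n4104 = n2059 := d4_1 D4104 (iv D2059) (iv F3589)
theorem F7254 : act 1 n4104 = n2074 := d9_1 D4104 (iv D2074) (iv F3590)
def n4106 : Q := act 3 n2056
theorem D4106 : act 3 n2056 = n4106 := rfl
theorem F7257 : act 0 n4106 = n2061 := d2_1 D4106 (iv D2061) (iv F3591)
theorem F7259 : act 5 n4106 = n3629 := d16_2 (iv F3595) D4106 (iv D3629) D3630 (iv F6218)
def n4112 : Q := act 5 n2058
theorem D4112 : act 5 n2058 = n4112 := rfl
theorem F7264 : act 1 n4112 = n2068 := d9_1 D4112 (iv D2068) (iv F3596)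
theorem F7265 : act 4 n4112 = n2059 := d18_1 D4112 (iv D2059) D2058
def n4114 : Q := act 6 n2059
theorem D4114 : act 6 n2059 = n4114 := rfl
theorem F7268 : act 1 n4114 = n2070 := d10_1 D4114 (iv D2070) (iv F3597)
def n4119 : Q := act 5 n2061
theorem D4119 : act 5 n2061 = n4119 := rfl
theorem F7276 : act 0 n4119 = n3629 := d4_1 D4119 (iv F7259) F7257
theorem F7277 : act 1 n4119 = n2079 := d9_1 D4119 (iv D2079) (iv F3599)
theorem F7278 : act 3 n3622 = n4119 := d7_0 F7277 F3664 (iv F6199)
def n4120 : Q := act 3 n2062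
theorem D4120 : act 3 n2062 = n4120 := rfl
theorem F7279 : act 0 n4120 = n3630 := d2_1 D4120 (iv F6218) (iv F3600)
theorem F7281 : act 5 n4120 = n3622 := d16_2 D2062 D4120 F7278 (iv D4119) (iv D2061)
theorem F7282 : act 6 n2099 = n4120 := d21_1 D2099 F7281 (iv D3622) (iv F3025)
def n4125 : Q := act 3 n2064
theorem D4125 : act 3 n2064 = n4125 := rfl
def n4128 : Q := act 6 n2065
theorem D4128 : act 6 n2065 = n4128 := rfl
theorem F7294 : act 2 n4128 = n2070 := d14_1 D4128 (iv D2070) (iv F3608)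
def n4130 : Q := act 2 n2067
theorem D4130 : act 2 n2067 = n4130 := rfl
theorem F7301 : act 4 n4130 = n2073 := d12_2 (iv F3612) D4130 (iv D2073)
def n4131 : Q := act 5 n2067
theorem D4131 : act 5 n2067 = n4131 := rfl
def n4132 : Q := act 6 n2067
theorem D4132 : act 6 n2067 = n4132 := rfl
theorem F7306 : act 4 n4132 = n2075 := d19_1 D4132 (iv D2075) (iv F3612)
def n4133 : Q := act 3 n2068
theorem D4133 : act 3 n2068 = n4133 := rfl
def n4134 : Q := act 3 n2069
theorem D4134 : act 3 n2069 = n4134 := rfl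
theorem F7309 : act 5 n4134 = n3816 := d16_2 F3618 D4134 (iv D3816) D3817 (iv F7241)
def n4135 : Q := act 4 n2071
theorem D4135 : act 4 n2071 = n4135 := rfl
theorem F7311 : act 6 n4135 = n2078 := d19_2 (iv F3620) D4135 (iv D2078)
def n4136 : Q := act 5 n2071
theorem D4136 : act 5 n2071 = n4136 := rfl
def n4137 : Q := act 3 n2072
theorem D4137 : act 3 n2072 = n4137 := rfl
theorem F7314 : act 4 n4137 = n3819 := d15_2 (iv F3622) D4137 (iv D3819) (iv F6640) (iv F7241)
def n4139 : Q := act 3 n2073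
theorem D4139 : act 3 n2073 = n4139 := rfl
theorem F7318 : act 2 n4139 = n4055 := d23_2 D2073 D4139 (iv D4055) (iv D2021) (iv D984) F921 (iv F487) (iv F952) D1011 F1859
def n4140 : Q := act 5 n2073
theorem D4140 : act 5 n2073 = n4140 := rfl
theorem F7320 : act 2 n4140 = n2074 := d13_1 D4140 (iv D2074) D2073
def n4141 : Q := act 6 n2073
theorem D4141 : act 6 n2073 = n4141 := rfl
theorem F7322 : act 2 n4141 = n2075 := d14_1 D4141 (iv D2075) D2073
def n4142 : Q := act 6 n2074
theorem D4142 : act 6 n2074 = n4142 := rfl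
theorem F7324 : act 5 n4142 = n4132 := d21_2 D2074 D4142 (iv D4132) F3612
def n4143 : Q := act 3 n2075
theorem D4143 : act 3 n2075 = n4143 := rfl
theorem F7326 : act 6 n4143 = n2076 := d17_2 D2075 D4143 (iv D2076) (iv D1012) D1011
def n4145 : Q := act 2 n2076
theorem D4145 : act 2 n2076 = n4145 := rfl
theorem F7331 : act 5 n4145 = n3639 := d13_2 (iv F3628) D4145 (iv D3639)
theorem F7332 : act 3 n4006 = n4145 := d16_5 F7331 F6242 (iv D1991) D1990 D4006
def n4146 : Q := act 4 n2076
theorem D4146 : act 4 n2076 = n4146 := rfl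
theorem F7334 : act 3 n4146 = n2078 := d15_1 D4146 (iv D2078) (iv D1013) (iv F1862) D2076
theorem F7335 : act 5 n4146 = n3640 := d18_2 (iv F3628) D4146 (iv D3640)
def n4149 : Q := act 4 n2077
theorem D4149 : act 4 n2077 = n4149 := rfl
theorem F7340 : act 2 n4149 = n2078 := d12_1 D4149 (iv D2078) D2077
def n4150 : Q := act 5 n2077
theorem D4150 : act 5 n2077 = n4150 := rfl
theorem F7342 : act 2 n4150 = n2079 := d13_1 D4150 (iv D2079) D2077
def n4151 : Q := act 5 n2078
theorem D4151 : act 5 n2078 = n4151 := rfl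
theorem F7344 : act 4 n4151 = n2079 := d18_1 D4151 (iv D2079) D2078
theorem F7345 : act 6 n4151 = n4136 := d21_1 D4151 (iv D4136) F3620 D2078
theorem F7346 : act 2 n3978 = n4151 := d24_15 F7345 (iv D4136) (iv D2071) (iv F3610) (iv D2066) D2065 (iv F7223) (iv D4001) (iv F7012) (iv D3996) (iv D1983) (iv F3407) (iv D1974) D1973 D3978
theorem F7347 : act 4 n4150 = n3978 := d12_0 F7346 F7344 (iv F7342)
theorem F7348 : act 5 n4149 = n3978 := d13_0 F7346 (iv D4151) (iv F7340)
theorem F7349 : act 3 n3976 = n4149 := d16_5 F7348 (iv D3978) (iv D1973) D1972 D3976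
theorem F7350 : act 3 n3981 = n4150 := d15_5 F7347 (iv D3978) F3405 D1975 D3981
def n4152 : Q := act 6 n2079
theorem D4152 : act 6 n2079 = n4152 := rfl
theorem F7352 : act 3 n4152 = n3755 := d17_1 D4152 F6501 (iv D2104) (iv F3662) (iv F3664)
theorem F7353 : act 4 n4152 = n4136 := d19_1 D4152 (iv F7345) F7344
theorem F7354 : act 5 n4152 = n4135 := d20_1 D4152 F7311 D4151 F7345 (iv D4136) F3620 D2079
def n4158 : Q := act 3 n2083
theorem D4158 : act 3 n2083 = n4158 := rfl
def n4162 : Q := act 5 n2084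
theorem D4162 : act 5 n2084 = n4162 := rfl
theorem F7371 : act 1 n4162 = n2093 := d9_1 D4162 (iv D2093) (iv F3638)
theorem F7372 : act 6 n3843 = n4162 := d10_0 F7371 (iv F3655) D3843
def n4166 : Q := act 6 n2086
theorem D4166 : act 6 n2086 = n4166 := rfl
theorem F7381 : act 2 n4166 = n2088 := d14_1 D4166 (iv D2088) (iv F3641)
theorem F7382 : act 5 n4166 = n3653 := d21_2 D2086 D4166 (iv D3653) F3065
def n4169 : Q := act 3 n2088
theorem D4169 : act 3 n2088 = n4169 := rfl
theorem F7390 : act 6 n4169 = n2158 := d17_2 D2088 D4169 (iv D2158) (iv D1061) (iv F1875)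
def n4173 : Q := act 5 n2092
theorem D4173 : act 5 n2092 = n4173 := rfl
theorem F7397 : act 2 n4173 = n3845 := d13_1 D4173 F6716 F6680
theorem F7399 : act 4 n4173 = n2093 := d18_1 D4173 (iv D2093) D2092
def n4176 : Q := act 4 n2095
theorem D4176 : act 4 n2095 = n4176 := rfl
theorem F7409 : act 2 n4176 = n2203 := d12_1 D4176 F3882 (iv F3910)
theorem F7410 : act 3 n4176 = n4151 := d15_1 D4176 F7344 F3664 (iv D2096) D2095
theorem F7411 : act 6 n4176 = n2198 := d19_2 (iv F3911) D4176 (iv D2198)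
def n4177 : Q := act 2 n2098
theorem D4177 : act 2 n2098 = n4177 := rfl
theorem F7412 : act 1 n4177 = n4039 := d6_1 D4177 F7117 F3493 (iv F3907) (iv F3669)
theorem F7413 : act 6 n4177 = n4035 := d14_2 (iv F3909) D4177 F7114
def n4178 : Q := act 4 n2098
theorem D4178 : act 4 n2098 = n4178 := rfl
theorem F7415 : act 6 n4178 = n4045 := d19_2 (iv F3909) D4178 (iv D4045)
def n4179 : Q := act 5 n2098
theorem D4179 : act 5 n2098 = n4179 := rfl
def n4180 : Q := act 3 n2099
theorem D4180 : act 3 n2099 = n4180 := rfl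
theorem F7417 : act 0 n4180 = n4094 := d2_1 D4180 F7230 F6184
def n4191 : Q := act 3 n2109
theorem D4191 : act 3 n2109 = n4191 := rfl
theorem F7437 : act 5 n4191 = n2111 := d16_2 D2109 D4191 (iv D2111) (iv D1033) D1032
def n4200 : Q := act 3 n2113
theorem D4200 : act 3 n2113 = n4200 := rfl
def n4201 : Q := act 5 n2113
theorem D4201 : act 5 n2113 = n4201 := rfl
theorem F7455 : act 2 n4201 = n2116 := d13_1 D4201 (iv D2116) (iv F3692)
theorem F7456 : act 4 n4201 = n2114 := d18_1 D4201 (iv D2114) D2113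
def n4202 : Q := act 6 n2113
theorem D4202 : act 6 n2113 = n4202 := rfl
def n4203 : Q := act 3 n2114
theorem D4203 : act 3 n2114 = n4203 := rfl
theorem F7461 : act 5 n4203 = n4203 := d16_2 D2114 D4203 (iv D4203) (iv D2114) F1898
def n4204 : Q := act 6 n2114
theorem D4204 : act 6 n2114 = n4204 := rfl
theorem F7464 : act 5 n4204 = n4202 := d21_2 D2114 D4204 (iv D4202) (iv D2113)
theorem F7465 : act 3 n4202 = n3701 := d24_2 D4204 F7464 F6385 (iv D1816) D1815 D3702 F6390 F3206 D1873 F3214 (iv F3711) (iv D2122) (iv F3702) (iv D2118) (iv F3694)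
theorem F7466 : act 6 n3699 = n4200 := d17_4 D4202 F7465 (iv D3701) D3699 (iv D4200)
theorem F7467 : act 2 n4200 = n3915 := d14_1 F7466 F6850 (iv F6381)
theorem F7468 : act 5 n4200 = n3827 := d24_1 F7466 (iv D3827) (iv F6642) (iv D3818) D3817 (iv F7241) (iv F7294) (iv D4128) (iv D2065) (iv F2099) (iv D1131) D1134 F4071 D3601 (iv F6381)
theorem E39 : n4201 = n3831 := ((c16_4 F7468 (iv D3827) (iv F3243) D3831 (iv D4201) D4200)).symm
theorem F7469 : act 2 n3831 = n2116 := (sb E39 F7455)
theorem F7470 : act 4 n3831 = n2114 := (sb E39 F7456)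
theorem F7471 : act 5 n3831 = n2113 := (sb E39 (iv D4201))
theorem F7472 : act 4 n4203 = n3832 := d15_2 F7470 D4203 (iv D3832) F3245 D3831
def n4206 : Q := act 5 n2115
theorem D4206 : act 5 n2115 = n4206 := rfl
theorem F7478 : act 6 n4206 = n3831 := d20_2 D2115 D4206 F7471 D4202 (iv F7464) (iv D4204) (iv D2114)
theorem F7479 : act 3 n4206 = n3830 := d24_2 D2115 D4206 F6680 (iv F6674) F6672 (iv F6076) (iv D3560) F2949 F1602 (iv D541) (iv F1047) F1049 (iv D502) D500 D1034
def n4207 : Q := act 3 n2117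
theorem D4207 : act 3 n2117 = n4207 := rfl
theorem F7481 : act 4 n4207 = n2250 := d15_2 (iv F3700) D4207 (iv D2250) F2063 (iv F1902)
theorem F7482 : act 6 n4207 = n3697 := d17_2 D2117 D4207 (iv D3697) F3114 (iv F3106)
def n4211 : Q := act 3 n2123
theorem D4211 : act 3 n2123 = n4211 := rfl
theorem F7490 : act 1 n4211 = n2124 := d7_1 D4211 (iv D2124) D2123
def n4212 : Q := act 6 n2123
theorem D4212 : act 6 n2123 = n4212 := rfl
theorem F7493 : act 4 n4212 = n4034 := d19_1 D4212 F7113 F6036
theorem F7494 : act 5 n4212 = n3528 := d20_1 D4212 F6001 D3541 (iv F7113) F7112 (iv D2127) (iv F3713)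
theorem F7495 : act 3 n3531 = n4212 := d15_5 F7493 (iv D4034) F3489 D2011 (iv F6013)
def n4213 : Q := act 2 n2124
theorem D4213 : act 2 n2124 = n4213 := rfl
def n4214 : Q := act 5 n2124
theorem D4214 : act 5 n2124 = n4214 := rfl
theorem F7498 : act 3 n4214 = n2130 := d16_1 D4214 (iv D2130) (iv D1043) (iv F1905) D2124
theorem F7499 : act 6 n4214 = n4214 := d21_1 D4214 (iv D4214) (iv F6073) F6072
def n4215 : Q := act 2 n2126
theorem D4215 : act 2 n2126 = n4215 := rfl
def n4216 : Q := act 4 n2126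
theorem D4216 : act 4 n2126 = n4216 := rfl
def n4217 : Q := act 5 n2126
theorem D4217 : act 5 n2126 = n4217 := rfl
theorem F7501 : act 1 n4217 = n2130 := d9_1 D4217 (iv D2130) (iv F3719)
def n4218 : Q := act 6 n2126
theorem D4218 : act 6 n2126 = n4218 := rfl
def n4219 : Q := act 1 n2128
theorem D4219 : act 1 n2128 = n4219 := rfl
def n4220 : Q := act 4 n2128
theorem D4220 : act 4 n2128 = n4220 := rfl
theorem F7505 : act 2 n4220 = n2129 := d12_1 D4220 (iv D2129) D2128
def n4221 : Q := act 5 n2128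
theorem D4221 : act 5 n2128 = n4221 := rfl
theorem F7506 : act 0 n4221 = n4221 := d4_1 D4221 (iv D4221) F3721
theorem F7507 : act 2 n4221 = n2130 := d13_1 D4221 (iv D2130) D2128
def n4222 : Q := act 6 n2128
theorem D4222 : act 6 n2128 = n4222 := rfl
theorem F7509 : act 2 n4222 = n2131 := d14_1 D4222 (iv D2131) D2128
def n4223 : Q := act 5 n2129
theorem D4223 : act 5 n2129 = n4223 := rfl
theorem F7511 : act 4 n4223 = n2130 := d18_1 D4223 (iv D2130) D2129
def n4224 : Q := act 6 n2129
theorem D4224 : act 6 n2129 = n4224 := rfl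
theorem F7513 : act 4 n4224 = n2131 := d19_1 D4224 (iv D2131) D2129
def n4225 : Q := act 6 n2130
theorem D4225 : act 6 n2130 = n4225 := rfl
theorem F7516 : act 5 n4225 = n4224 := d21_2 D2130 D4225 (iv D4224) (iv D2129)
def n4226 : Q := act 5 n2131
theorem D4226 : act 5 n2131 = n4226 := rfl
def n4227 : Q := act 1 n2133
theorem D4227 : act 1 n2133 = n4227 := rfl
theorem F7520 : act 2 n4227 = n2134 := d6_2 D2133 D4227 F3734 F3731 (iv F1921)
theorem F7521 : act 0 n2139 = n4227 := d22_0 (iv D4227) (iv D2133) F1920 F994 F504 F503 (iv F994) D1050 D2139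
theorem F7522 : act 4 n4227 = n2133 := d3_2 D2139 F7521 F3730
def n4228 : Q := act 3 n2133
theorem D4228 : act 3 n2133 = n4228 := rfl
theorem F7523 : act 0 n4228 = n2138 := d2_1 D4228 (iv D2138) (iv F3730)
def n4229 : Q := act 5 n2133
theorem D4229 : act 5 n2133 = n4229 := rfl
theorem F7525 : act 2 n4229 = n2135 := d13_1 D4229 (iv D2135) D2133
def n4230 : Q := act 6 n2133
theorem D4230 : act 6 n2133 = n4230 := rfl
theorem F7526 : act 0 n4230 = n2141 := d5_1 D4230 (iv D2141) (iv F3730)
theorem F7527 : act 2 n4230 = n2136 := d14_1 D4230 (iv D2136) D2133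
def n4231 : Q := act 5 n2134
theorem D4231 : act 5 n2134 = n4231 := rfl
theorem F7529 : act 1 n4231 = n2156 := d9_1 D4231 F3789 (iv F3734)
def n4232 : Q := act 6 n2134
theorem D4232 : act 6 n2134 = n4232 := rfl
theorem F7534 : act 4 n4232 = n2136 := d19_1 D4232 (iv D2136) D2134
def n4233 : Q := act 6 n2135
theorem D4233 : act 6 n2135 = n4233 := rfl
theorem F7536 : act 1 n4233 = n3731 := d10_1 D4233 (iv D3731) (iv F3737)
theorem F7537 : act 5 n4233 = n4232 := d21_2 D2135 D4233 (iv D4232) (iv D2134)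
def n4234 : Q := act 3 n2136
theorem D4234 : act 3 n2136 = n4234 := rfl
theorem F7539 : act 1 n4234 = n3663 := d7_1 D4234 F6297 (iv F3739)
def n4235 : Q := act 5 n2136
theorem D4235 : act 5 n2136 = n4235 := rfl
theorem F7541 : act 0 n4235 = n2147 := d4_1 D4235 (iv D2147) (iv F3738)
theorem F7542 : act 1 n4235 = n3732 := d9_1 D4235 (iv D3732) (iv F3739)
theorem F7543 : act 4 n4235 = n4233 := d18_1 D4235 F7537 F7534
theorem F7544 : act 6 n4235 = n4231 := d20_2 D2136 D4235 (iv D4231) D4232 (iv F7537) (iv D4233) (iv D2135)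
def n4239 : Q := act 2 n2138
theorem D4239 : act 2 n2138 = n4239 := rfl
def n4240 : Q := act 4 n2138
theorem D4240 : act 4 n2138 = n4240 := rfl
theorem F7552 : act 1 n4240 = n4240 := d8_1 D4240 (iv D4240) F3742
def n4241 : Q := act 5 n2138
theorem D4241 : act 5 n2138 = n4241 := rfl
theorem F7553 : act 1 n4241 = n4241 := d9_1 D4241 (iv D4241) F3742
def n4242 : Q := act 6 n2138
theorem D4242 : act 6 n2138 = n4242 := rfl
theorem F7554 : act 1 n4242 = n4242 := d10_1 D4242 (iv D4242) F3742
def n4243 : Q := act 3 n2139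
theorem D4243 : act 3 n2139 = n4243 := rfl
def n4244 : Q := act 5 n2139
theorem D4244 : act 5 n2139 = n4244 := rfl
theorem F7557 : act 2 n4244 = n2143 := d13_1 D4244 (iv D2143) (iv F3744)
def n4245 : Q := act 6 n2139
theorem D4245 : act 6 n2139 = n4245 := rfl
theorem F7559 : act 1 n4245 = n4245 := d10_1 D4245 (iv D4245) F3743
theorem F7561 : act 4 n4245 = n2141 := d19_1 D4245 (iv D2141) D2139
def n4247 : Q := act 6 n2140
theorem D4247 : act 6 n2140 = n4247 := rfl
theorem F7564 : act 2 n4247 = n2145 := d14_1 D4247 (iv D2145) (iv F3746)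
theorem F7565 : act 5 n4247 = n4245 := d21_2 D2140 D4247 (iv D4245) (iv D2139)
def n4248 : Q := act 3 n2141
theorem D4248 : act 3 n2141 = n4248 := rfl
def n4249 : Q := act 5 n2141
theorem D4249 : act 5 n2141 = n4249 := rfl
theorem F7568 : act 2 n4249 = n2147 := d13_1 D4249 (iv D2147) (iv F3748)
theorem F7569 : act 4 n4249 = n4247 := d18_1 D4249 F7565 F7561
theorem F7570 : act 6 n4249 = n4244 := d20_2 D2141 D4249 (iv D4244) D4245 (iv F7565) (iv D4247) (iv D2140)
def n4254 : Q := act 4 n2146
theorem D4254 : act 4 n2146 = n4254 := rfl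
theorem F7578 : act 6 n4254 = n2152 := d19_2 (iv F3760) D4254 (iv D2152)
theorem F7579 : act 5 n4254 = n3606 := d21_0 F6166 (iv D2153) (iv F3760) D4254
def n4255 : Q := act 5 n2146
theorem D4255 : act 5 n2146 = n4255 := rfl
theorem F7580 : act 1 n4255 = n2161 := d9_1 D4255 (iv D2161) (iv F3759)
theorem F7581 : act 4 n4255 = n3606 := d18_1 D4255 (iv F7579) (iv D4254)
def n4260 : Q := act 3 n2149
theorem D4260 : act 3 n2149 = n4260 := rfl
theorem F7589 : act 1 n4260 = n2165 := d7_1 D4260 (iv D2165) (iv F3767)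
def n4264 : Q := act 1 n2151
theorem D4264 : act 1 n2151 = n4264 := rfl
theorem F7598 : act 2 n4264 = n2169 := d6_2 D2151 D4264 (iv D2169) (iv D1068) (iv F1936)
def n4268 : Q := act 5 n2152
theorem D4268 : act 5 n2152 = n4268 := rfl
theorem F7602 : act 4 n4268 = n2153 := d18_1 D4268 (iv D2153) D2152
theorem F7603 : act 6 n4268 = n4255 := d20_2 F7578 D4268 (iv D4255) F3760 D2153 (iv F6166) (iv F7579)
def n4270 : Q := act 2 n2157
theorem D4270 : act 2 n2157 = n4270 := rfl
def n4271 : Q := act 4 n2157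
theorem D4271 : act 4 n2157 = n4271 := rfl
theorem F7608 : act 3 n4271 = n2160 := d15_1 D4271 (iv D2160) (iv D1062) (iv F1948) D2157
def n4272 : Q := act 5 n2157
theorem D4272 : act 5 n2157 = n4272 := rfl
def n4273 : Q := act 2 n2158
theorem D4273 : act 2 n2158 = n4273 := rfl
def n4274 : Q := act 4 n2158
theorem D4274 : act 4 n2158 = n4274 := rfl
def n4275 : Q := act 5 n2158
theorem D4275 : act 5 n2158 = n4275 := rfl
theorem F7613 : act 3 n4275 = n4272 := d16_1 D4275 (iv D4272) (iv D2157) (iv F1951) D2158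
def n4277 : Q := act 3 n2159
theorem D4277 : act 3 n2159 = n4277 := rfl
def n4278 : Q := act 3 n2161
theorem D4278 : act 3 n2161 = n4278 := rfl
theorem F7620 : act 5 n4278 = n2162 := d16_2 D2161 D4278 (iv D2162) (iv D1063) D1062
theorem F7621 : act 2 n3618 = n4278 := d13_3 F7620 F6654 (iv F6653)
theorem F7622 : act 4 n4278 = n3617 := d12_2 D3618 F7621 (iv D3617)
def n4279 : Q := act 4 n2162
theorem D4279 : act 4 n2162 = n4279 := rfl
theorem F7624 : act 2 n4279 = n3619 := d12_1 D4279 (iv F6651) (iv F6654)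
theorem F7625 : act 3 n4279 = n4274 := d15_1 D4279 (iv D4274) (iv D2158) (iv F1956) D2162
theorem F7626 : act 5 n4279 = n3617 := d18_2 F7620 D4279 (iv F7622)
def n4280 : Q := act 6 n2162
theorem D4280 : act 6 n2162 = n4280 := rfl
theorem F7628 : act 2 n4280 = n3759 := d14_1 D4280 (iv F6652) (iv F6654)
theorem F7629 : act 3 n4280 = n3732 := d17_1 D4280 F6461 (iv D2156) (iv F1957) D2162
def n4285 : Q := act 4 n2166
theorem D4285 : act 4 n2166 = n4285 := rfl
theorem F7637 : act 5 n4285 = n2265 := d21_0 (iv D2265) (iv F4007) (iv F4008) D4285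
def n4286 : Q := act 5 n2166
theorem D4286 : act 5 n2166 = n4286 := rfl
theorem F7639 : act 2 n4286 = n2168 := d13_1 D4286 (iv D2168) D2166
theorem F7641 : act 6 n4286 = n2264 := d21_3 (iv F4007) (iv F4008) D4286 (iv D2264)
theorem F7642 : act 3 n4286 = n3774 := d24_2 (iv F4008) D4286 F6550 F6468 (iv D3729) (iv D1828) (iv F3128) (iv D1825) (iv F2017) F3732 F3126 D1827 F3133 D2165 (iv F4009)
def n4295 : Q := act 3 n2171
theorem D4295 : act 3 n2171 = n4295 := rfl
theorem F7656 : act 6 n4295 = n3598 := d17_2 (iv F3818) D4295 (iv D3598) (iv D1754) D1753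
def n4296 : Q := act 0 n2173
theorem D4296 : act 0 n2173 = n4296 := rfl
theorem F7658 : act 4 n3666 = n4296 := d22_9 (iv D4296) (iv D2173) (iv D1072) F1014 (iv F1124) D1200 (iv F2354) D2646 (iv F6302)
def n4298 : Q := act 4 n2173
theorem D4298 : act 4 n2173 = n4298 := rfl
theorem F7660 : act 0 n4298 = n3666 := d3_1 D4298 F7658 (iv D4296)
theorem F7661 : act 1 n4298 = n2175 := d8_1 D4298 (iv D2175) D2173
theorem F7662 : act 6 n4298 = n4296 := d19_2 F6303 D4298 (iv F7658)
def n4300 : Q := act 4 n2174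
theorem D4300 : act 4 n2174 = n4300 := rfl
theorem F7665 : act 3 n4300 = n2243 := d15_1 D4300 (iv F3978) F4072 (iv D2175) D2174
def n4301 : Q := act 5 n2174
theorem D4301 : act 5 n2174 = n4301 := rfl
theorem F7667 : act 3 n4301 = n2291 := d24_2 F6054 D4301 (iv D2291) F2109 D2177 (iv F3917) F3916 F3919 F3002 (iv D1735) (iv F2935) F2937 (iv D1720) D1718 D3532
def n4302 : Q := act 5 n2175
theorem D4302 : act 5 n2175 = n4302 := rfl
theorem F7669 : act 2 n4302 = n2177 := d13_1 D4302 (iv D2177) (iv F3824)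
def n4309 : Q := act 6 n2182
theorem D4309 : act 6 n2182 = n4309 := rfl
theorem F7685 : act 3 n4309 = n2204 := d17_1 D4309 (iv D2204) F2000 D1135 (iv F3839)
theorem F7686 : act 5 n4309 = n3914 := d21_2 D2182 D4309 (iv D3914) F3347
def n4313 : Q := act 4 n2184
theorem D4313 : act 4 n2184 = n4313 := rfl
theorem F7697 : act 2 n4313 = n2185 := d12_1 D4313 (iv D2185) D2184
theorem F7699 : act 6 n3536 = n4313 := d21_3 F3843 (iv F2915) (iv F6022) (iv D4313)
def n4323 : Q := act 2 n2190
theorem D4323 : act 2 n2190 = n4323 := rfl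
theorem F7715 : act 0 n4323 = n2192 := d1_1 D4323 (iv D2192) (iv F3853)
def n4325 : Q := act 6 n2190
theorem D4325 : act 6 n2190 = n4325 := rfl
theorem F7722 : act 1 n4325 = n2204 := d10_1 D4325 (iv D2204) (iv F3854)
def n4326 : Q := act 1 n2192
theorem D4326 : act 1 n2192 = n4326 := rfl
theorem F7723 : act 2 n4326 = n2197 := d6_2 D2192 D4326 (iv D2197) (iv D1084) (iv F1980)
def n4336 : Q := act 0 n2197
theorem D4336 : act 0 n2197 = n4336 := rfl
def n4337 : Q := act 4 n2197
theorem D4337 : act 4 n2197 = n4337 := rfl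
theorem F7745 : act 1 n4337 = n2198 := d8_1 D4337 (iv D2198) D2197
def n4338 : Q := act 5 n2197
theorem D4338 : act 5 n2197 = n4338 := rfl
theorem F7746 : act 1 n4338 = n2199 := d9_1 D4338 (iv D2199) D2197
theorem F7747 : act 0 n4337 = n4338 := d22_0 F7746 F3873 F1988 (iv F3854) D4323 F7715 D4326 F7723 D4337
theorem F7748 : act 4 n4338 = n4336 := d3_2 D4337 F7747 (iv D4336)
theorem F7749 : act 5 n4336 = n4337 := d4_0 F7747 (iv D4338) D4336
def n4340 : Q := act 5 n2198
theorem D4340 : act 5 n2198 = n4340 := rfl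
theorem F7753 : act 1 n4340 = n4336 := d9_1 D4340 F7749 F7745
theorem F7754 : act 2 n4340 = n2202 := d13_1 D4340 (iv D2202) (iv F3871)
theorem F7755 : act 4 n4340 = n2199 := d18_1 D4340 (iv D2199) D2198
theorem F7756 : act 6 n4340 = n3638 := d21_1 D4340 F6239 F3911 D2198
theorem F7757 : act 3 n3637 = n4340 := d17_5 F7756 (iv D3638) (iv D1781) D1780 D3637
def n4341 : Q := act 3 n2199
theorem D4341 : act 3 n2199 = n4341 := rfl
theorem F7759 : act 4 n4341 = n4055 := d15_2 F7755 D4341 (iv D4055) (iv F6237) F7757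
def n4342 : Q := act 6 n2199
theorem D4342 : act 6 n2199 = n4342 := rfl
theorem F7762 : act 2 n4342 = n2204 := d14_1 D4342 (iv D2204) (iv F3873)
theorem F7763 : act 4 n4342 = n3638 := d19_1 D4342 (iv F7756) F7755
theorem F7764 : act 5 n4342 = n4176 := d20_1 D4342 F7411 D4340 F7756 F6239 F3911 D2199
theorem F7765 : act 3 n3640 = n4342 := d16_5 F7764 F7410 (iv D4151) (iv F7334) F7335
def n4343 : Q := act 5 n2201
theorem D4343 : act 5 n2201 = n4343 := rfl
theorem F7770 : act 6 n4343 = n3495 := d20_2 F5931 D4343 F5927 F3351 D2207 (iv F3890) D3496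
def n4344 : Q := act 3 n2203
theorem D4344 : act 3 n2203 = n4344 := rfl
theorem F7772 : act 4 n4344 = n3918 := d15_2 (iv F3882) D4344 F6857 F6846 F3841
theorem F7773 : act 5 n4344 = n3918 := d16_2 F3884 D4344 F6857 (iv F7686) F7685
theorem F7774 : act 6 n4344 = n3917 := d17_2 D2203 D4344 F6854 F5931 (iv D2201)
theorem F7775 : act 3 n4221 = n3916 := d24_14 D3918 (iv F7773) (iv D4344) (iv F7409) F7411 D4340 (iv F7757) F6236 F6233 (iv F7158) F7157 (iv F7509) (iv D4222) D4221 (iv D3916)
def n4347 : Q := act 3 n2206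
theorem D4347 : act 3 n2206 = n4347 := rfl
theorem F7779 : act 5 n4347 = n3599 := d16_2 F3892 D4347 (iv D3599) (iv D1755) (iv F2860)
theorem F7780 : act 2 n4347 = n4341 := d23_2 D2206 D4347 (iv D4341) F3873 F2000 F1065 F536 (iv F1023) D1088 F1990
theorem F7781 : act 4 n4139 = n4347 := d12_0 F7780 F7759 (iv F7318)
theorem F7782 : act 3 n3501 = n4130 := d15_3 F7781 (iv D4347) (iv F5944) F7301 D4139
def n4352 : Q := act 6 n2209
theorem D4352 : act 6 n2209 = n4352 := rfl
theorem F7797 : act 5 n4352 = n2273 := d21_2 F4033 D4352 (iv D2273) D2272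
def n4353 : Q := act 1 n2213
theorem D4353 : act 1 n2213 = n4353 := rfl
theorem F7798 : act 2 n4353 = n3767 := d6_2 D2213 D4353 (iv D3767) (iv D1851) (iv F2031)
def n4354 : Q := act 3 n2213
theorem D4354 : act 3 n2213 = n4354 := rfl
theorem F7799 : act 0 n4354 = n2219 := d2_1 D4354 (iv D2219) (iv F3920)
def n4355 : Q := act 4 n2213
theorem D4355 : act 4 n2213 = n4355 := rfl
theorem F7800 : act 0 n4355 = n2220 := d3_1 D4355 (iv D2220) (iv F3920)
theorem F7801 : act 2 n4355 = n2214 := d12_1 D4355 (iv D2214) D2213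
def n4362 : Q := act 2 n2217
theorem D4362 : act 2 n2217 = n4362 := rfl
theorem F7819 : act 0 n4362 = n2233 := d1_1 D4362 (iv D2233) (iv F3928)
def n4364 : Q := act 0 n2218
theorem D4364 : act 0 n2218 = n4364 := rfl
theorem F7825 : act 2 n4364 = n2235 := d1_2 (iv F3931) D4364 (iv D2235)
theorem F7827 : act 4 n4353 = n4364 := d22_9 (iv D4364) (iv D2218) (iv D1095) (iv F2030) F2031 D1851 F3170 D3767 (iv F7798)
def n4365 : Q := act 3 n2218
theorem D4365 : act 3 n2218 = n4365 := rfl
theorem F7828 : act 1 n4365 = n2219 := d7_1 D4365 (iv D2219) D2218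
def n4366 : Q := act 4 n2218
theorem D4366 : act 4 n2218 = n4366 := rfl
theorem F7829 : act 0 n4366 = n4353 := d3_1 D4366 F7827 (iv D4364)
theorem F7830 : act 1 n4366 = n2220 := d8_1 D4366 (iv D2220) D2218
theorem F7831 : act 2 n4366 = n2236 := d12_1 D4366 (iv D2236) (iv F3931)
def n4370 : Q := act 4 n2219
theorem D4370 : act 4 n2219 = n4370 := rfl
def n4373 : Q := act 3 n2220
theorem D4373 : act 3 n2220 = n4373 := rfl
def n4380 : Q := act 2 n2223
theorem D4380 : act 2 n2223 = n4380 := rfl
theorem F7845 : act 0 n4380 = n3739 := d1_1 D4380 F6470 (iv F3935)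
def n4381 : Q := act 5 n2223
theorem D4381 : act 5 n2223 = n4381 := rfl
theorem F7849 : act 4 n4381 = n2230 := d18_1 D4381 (iv D2230) (iv F3937)
def n4382 : Q := act 6 n2223
theorem D4382 : act 6 n2223 = n4382 := rfl
theorem F7852 : act 4 n4382 = n2231 := d19_1 D4382 (iv D2231) (iv F3937)
theorem F7853 : act 5 n4382 = n3631 := d21_2 (iv D4381) D4382 F6220 (iv F7849)
def n4390 : Q := act 1 n2229
theorem D4390 : act 1 n2229 = n4390 := rfl
theorem F7866 : act 2 n4390 = n2256 := d6_2 D2229 D4390 (iv D2256) (iv D1113) (iv F2040)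
def n4391 : Q := act 3 n2229
theorem D4391 : act 3 n2229 = n4391 := rfl
theorem F7867 : act 0 n4391 = n3738 := d2_1 D4391 (iv D3738) (iv F3949)
def n4393 : Q := act 6 n2229
theorem D4393 : act 6 n2229 = n4393 := rfl
theorem F7871 : act 2 n4393 = n2231 := d14_1 D4393 (iv D2231) D2229
def n4395 : Q := act 5 n2231
theorem D4395 : act 5 n2231 = n4395 := rfl
theorem F7879 : act 6 n4395 = n4381 := d20_2 D2231 D4395 (iv D4381) D4382 F7853 F6220 (iv D2230)
def n4399 : Q := act 1 n2233
theorem D4399 : act 1 n2233 = n4399 := rfl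
theorem F7887 : act 2 n4399 = n2266 := d6_2 D2233 D4399 (iv D2266) (iv D1117) (iv F2045)
def n4404 : Q := act 3 n2236
theorem D4404 : act 3 n2236 = n4404 := rfl
theorem F7891 : act 1 n4404 = n2239 := d7_1 D4404 (iv D2239) (iv F3958)
theorem F7892 : act 4 n4404 = n4080 := d15_2 D2236 D4404 (iv D4080) (iv D2036) (iv F2051)
def n4405 : Q := act 5 n2236
theorem D4405 : act 5 n2236 = n4405 := rfl
def n4406 : Q := act 6 n2236
theorem D4406 : act 6 n2236 = n4406 := rfl
def n4408 : Q := act 6 n2237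
theorem D4408 : act 6 n2237 = n4408 := rfl
theorem F7900 : act 5 n4408 = n4406 := d21_2 D2237 D4408 (iv D4406) (iv D2236)
def n4410 : Q := act 5 n2238
theorem D4410 : act 5 n2238 = n4410 := rfl
theorem F7903 : act 1 n4410 = n2245 := d9_1 D4410 (iv D2245) (iv F3960)
theorem F7905 : act 6 n4410 = n4405 := d20_2 D2238 D4410 (iv D4405) D4406 (iv F7900) (iv D4408) (iv D2237)
theorem F7906 : act 3 n4298 = n4410 := d7_0 F7903 F4072 (iv F7661)
def n4411 : Q := act 5 n2239
theorem D4411 : act 5 n2239 = n4411 := rfl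
theorem F7908 : act 2 n4411 = n4134 := d13_1 D4411 F7309 (iv F6636)
theorem F7910 : act 6 n4411 = n2242 := d21_1 D4411 F3970 F3565 (iv F3962)
def n4412 : Q := act 3 n2240
theorem D4412 : act 3 n2240 = n4412 := rfl
theorem F7912 : act 6 n4412 = n4301 := d17_2 F3979 D4412 F7667 F4098 (iv F4072)
def n4413 : Q := act 2 n2242
theorem D4413 : act 2 n2242 = n4413 := rfl
theorem F7914 : act 5 n4413 = n3834 := d13_2 (iv F3970) D4413 F6689
theorem F7915 : act 6 n4413 = n4134 := d14_2 F7910 D4413 (iv F7908)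
theorem F7916 : act 3 n4132 = n4413 := d17_5 F7915 (iv D4134) (iv D2069) D2067 D4132
theorem F7917 : act 3 n3835 = n4142 := d16_5 F7324 F7916 F7914 (iv D3834) D3835
def n4414 : Q := act 4 n2242
theorem D4414 : act 4 n2242 = n4414 := rfl
theorem F7919 : act 5 n4414 = n3768 := d18_2 (iv F3970) D4414 F6532
def n4417 : Q := act 5 n2244
theorem D4417 : act 5 n2244 = n4417 := rfl
theorem F7926 : act 3 n4417 = n4302 := d16_1 D4417 (iv D4302) (iv F4072) (iv D2245) D2244
theorem F7927 : act 3 n4166 = n4086 := d24_14 (iv F3975) D4417 F7926 F7669 F3829 F3054 (iv D869) (iv F1562) F1564 F809 D864 D1789 D3653 (iv F7382) (iv D4086)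
theorem E40 : n4169 = n3984 := ((c23_9 (iv F7381) F7927 (iv D4086) (iv D2044) F1829 F941 (iv F1758) D1977 D3984 (iv D4169) F3644)).symm
theorem E41 : n3905 = n2158 := ((F6986).symm.trans (sb E40 F7390))
theorem E42 : n4273 = n1935 := ((D4273).symm.trans (sb E41 (iv D3905)))
theorem F7930 : act 2 n1935 = n2158 := (sb E42 (iv D4273))
theorem F7931 : act 2 n4274 = n3906 := d12_3 (iv D3906) F7930 D4274
theorem F7932 : act 2 n4275 = n3907 := d13_3 (iv D3907) F7930 D4275
def n4419 : Q := act 3 n2248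
theorem D4419 : act 3 n2248 = n4419 := rfl
theorem F7936 : act 4 n4419 = n3697 := d15_2 (iv F3985) D4419 (iv D3697) F3113 F3110
theorem F7938 : act 2 n4419 = n3697 := d23_2 (iv F4063) D4419 (iv D3697) (iv F6365) (iv F6823) (iv F7931) (iv F7625) F7624 F6193 F3035
def n4423 : Q := act 5 n2250
theorem D4423 : act 5 n2250 = n4423 := rfl
theorem F7944 : act 6 n4423 = n3766 := d21_1 D4423 F6528 (iv F7482) F7481
def n4424 : Q := act 1 n2251
theorem D4424 : act 1 n2251 = n4424 := rfl
theorem F7945 : act 4 n4424 = n3508 := d8_2 F3990 D4424 F5957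
theorem F7946 : act 5 n4424 = n2266 := d9_2 (iv F3989) D4424 (iv D2266)
theorem F7947 : act 6 n4424 = n3513 := d10_2 (iv F3991) D4424 F5968
theorem F7948 : act 0 n3513 = n4424 := d3_3 F7945 F5956 D3513
def n4426 : Q := act 2 n2254
theorem D4426 : act 2 n2254 = n4426 := rfl
def n4427 : Q := act 4 n2254
theorem D4427 : act 4 n2254 = n4427 := rfl
def n4428 : Q := act 5 n2254
theorem D4428 : act 5 n2254 = n4428 := rfl
theorem F7954 : act 3 n4428 = n4423 := d16_1 D4428 (iv D4423) (iv D2250) (iv F2067) D2254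
theorem F7955 : act 6 n3763 = n4428 := d17_0 F7954 F7944 (iv D3766) F3169 D3763
def n4431 : Q := act 3 n2256
theorem D4431 : act 3 n2256 = n4431 := rfl
theorem F7962 : act 1 n4431 = n2257 := d7_1 D4431 (iv D2257) D2256
def n4432 : Q := act 6 n2256
theorem D4432 : act 6 n2256 = n4432 := rfl
theorem F7963 : act 1 n4432 = n2259 := d10_1 D4432 (iv D2259) D2256
theorem F7965 : act 5 n3624 = n4432 := d21_0 (iv D4432) F6205 (iv D3626) D3624
def n4433 : Q := act 5 n2257
theorem D4433 : act 5 n2257 = n4433 := rfl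
def n4435 : Q := act 3 n2262
theorem D4435 : act 3 n2262 = n4435 := rfl
theorem F7974 : act 5 n4435 = n3696 := d16_2 D2262 D4435 (iv D3696) (iv F3111) F3110
theorem F7975 : act 2 n4435 = n4435 := d23_2 (iv F4062) D4435 (iv D4435) F4062 D3632 F6223 F3517 (iv F6223) (iv D3632) F3034
def n4438 : Q := act 0 n2266
theorem D4438 : act 0 n2266 = n4438 := rfl
theorem F7980 : act 5 n4438 = n3513 := d4_2 F7946 D4438 F7948
theorem F7981 : act 1 n4438 = n3523 := d22_7 F2077 (iv F3929) D4362 F7819 D4399 F7887 D4438 F5991 F4027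
theorem F7982 : act 4 n3514 = n4438 := d8_0 F7981 F5992 (iv F5969)
def n4445 : Q := act 4 n2270
theorem D4445 : act 4 n2270 = n4445 := rfl
theorem F7998 : act 1 n4445 = n2272 := d8_1 D4445 (iv D2272) D2270
theorem F8000 : act 3 n3773 = n4445 := d7_0 F7998 (iv F4034) D3773
def n4448 : Q := act 4 n2271
theorem D4448 : act 4 n2271 = n4448 := rfl
theorem F8004 : act 3 n4448 = n3729 := d15_1 D4448 F6453 F4034 (iv D2272) D2271
theorem F8005 : act 5 n3730 = n4448 := d16_0 F8004 (iv D3729) (iv D1828) D1829 D3730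
theorem F8006 : act 6 n4272 = n2271 := d21_3 (iv F8005) F6455 D4272 D4448
def n4450 : Q := act 6 n2272
theorem D4450 : act 6 n2272 = n4450 := rfl
theorem F8013 : act 4 n4450 = n2273 := d19_1 D4450 (iv D2273) D2272
theorem F8014 : act 5 n4450 = n3560 := d20_1 D4450 F6075 F3121 D2273 (iv F7797) (iv D4352) (iv F4033)
def n4451 : Q := act 3 n2273
theorem D4451 : act 3 n2273 = n4451 := rfl
theorem F8016 : act 6 n4451 = n4275 := d17_2 D2273 D4451 F7613 F8006 (iv D2271)
def n4467 : Q := act 3 n2286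
theorem D4467 : act 3 n2286 = n4467 := rfl
theorem F8048 : act 4 n4467 = n4125 := d15_2 D2286 D4467 (iv D4125) (iv D2064) (iv F2099)
theorem F8049 : act 2 n4467 = n4047 := d23_2 (iv F4079) D4467 (iv D4047) F3498 D2016 (iv F6236) F7757 F7754 (iv F3880) F2100
def n4473 : Q := act 4 n2295
theorem D4473 : act 4 n2295 = n4473 := rfl
theorem F8060 : act 2 n4473 = n2296 := d12_1 D4473 (iv D2296) D2295
def n4474 : Q := act 5 n2295
theorem D4474 : act 5 n2295 = n4474 := rfl
theorem F8061 : act 2 n4474 = n2297 := d13_1 D4474 (iv D2297) D2295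
def n4475 : Q := act 6 n2295
theorem D4475 : act 6 n2295 = n4475 := rfl
theorem F8062 : act 2 n4475 = n2298 := d14_1 D4475 (iv D2298) D2295
def n4476 : Q := act 5 n2296
theorem D4476 : act 5 n2296 = n4476 := rfl
theorem F8063 : act 1 n4476 = n2305 := d9_1 D4476 (iv D2305) (iv F4109)
theorem F8064 : act 4 n4476 = n2297 := d18_1 D4476 (iv D2297) D2296
def n4477 : Q := act 6 n2296
theorem D4477 : act 6 n2296 = n4477 := rfl
theorem F8066 : act 4 n4477 = n2298 := d19_1 D4477 (iv D2298) D2296
def n4478 : Q := act 6 n2297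
theorem D4478 : act 6 n2297 = n4478 := rfl
theorem F8068 : act 5 n4478 = n4477 := d21_2 D2297 D4478 (iv D4477) (iv D2296)
def n4479 : Q := act 3 n2298
theorem D4479 : act 3 n2298 = n4479 := rfl
theorem F8070 : act 6 n4479 = n2299 := d17_2 D2298 D4479 (iv D2299) (iv D1139) D1138
def n4480 : Q := act 5 n2298
theorem D4480 : act 5 n2298 = n4480 := rfl
theorem F8073 : act 6 n4480 = n4476 := d20_2 D2298 D4480 (iv D4476) D4477 (iv F8068) (iv D4478) (iv D2297)
def n4488 : Q := act 3 n2301
theorem D4488 : act 3 n2301 = n4488 := rfl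
theorem F8081 : act 0 n4488 = n2739 := d2_1 D4488 (iv D2739) (iv F4115)
theorem F8082 : act 4 n4488 = n3003 := d15_2 D2301 D4488 (iv D3003) (iv D1468) (iv F2116)
def n4489 : Q := act 5 n2301
theorem D4489 : act 5 n2301 = n4489 := rfl
theorem F8084 : act 2 n4489 = n2305 := d13_1 D4489 (iv D2305) (iv F4116)
def n4493 : Q := act 3 n2303
theorem D4493 : act 3 n2303 = n4493 := rfl
theorem F8095 : act 6 n4493 = n3008 := d17_2 D2303 D4493 (iv D3008) (iv D1470) (iv F2116)
def n4497 : Q := act 6 n2304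
theorem D4497 : act 6 n2304 = n4497 := rfl
theorem F8105 : act 0 n4497 = n2748 := d5_1 D4497 (iv D2748) (iv F4121)
def n4498 : Q := act 3 n2305
theorem D4498 : act 3 n2305 = n4498 := rfl
theorem F8107 : act 0 n4498 = n2749 := d2_1 D4498 (iv D2749) (iv F4123)
theorem F8108 : act 4 n4498 = n2403 := d15_2 (iv F4124) D4498 (iv D2403) F2203 (iv F2119)
def n4499 : Q := act 3 n2306
theorem D4499 : act 3 n2306 = n4499 := rfl
def n4500 : Q := act 3 n2307
theorem D4500 : act 3 n2307 = n4500 := rfl
theorem F8111 : act 6 n4500 = n2405 := d17_2 D2307 D4500 (iv D2405) (iv D1189) (iv F2119)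
def n4501 : Q := act 3 n2309
theorem D4501 : act 3 n2309 = n4501 := rfl
def n4503 : Q := act 3 n2310
theorem D4503 : act 3 n2310 = n4503 := rfl
theorem F8115 : act 0 n4503 = n2757 := d2_1 D4503 (iv D2757) (iv F4134)
theorem F8116 : act 2 n4503 = n3391 := d23_2 D2310 D4503 (iv D3391) (iv D1647) (iv D782) F699 F364 (iv F613) D646 (iv F2121)
def n4504 : Q := act 5 n2310
theorem D4504 : act 5 n2310 = n4504 := rfl
def n4509 : Q := act 3 n2313
theorem D4509 : act 3 n2313 = n4509 := rfl
theorem F8127 : act 0 n4509 = n2763 := d2_1 D4509 (iv D2763) (iv F4138)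
def n4513 : Q := act 2 n2317
theorem D4513 : act 2 n2317 = n4513 := rfl
theorem F8137 : act 0 n4513 = n2770 := d1_1 D4513 (iv D2770) (iv F4146)
def n4515 : Q := act 5 n2317
theorem D4515 : act 5 n2317 = n4515 := rfl
theorem F8140 : act 3 n4515 = n2318 := d16_1 D4515 (iv F4169) (iv F4170) (iv D2319) D2317
def n4523 : Q := act 1 n2322
theorem D4523 : act 1 n2322 = n4523 := rfl
theorem F8153 : act 3 n4523 = n3062 := d7_2 (iv F4156) D4523 (iv D3062)
def n4556 : Q := act 3 n2336
theorem D4556 : act 3 n2336 = n4556 := rfl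
theorem F8202 : act 0 n4556 = n2832 := d2_1 D4556 (iv D2832) (iv F4177)
theorem F8203 : act 4 n4556 = n3109 := d15_2 D2336 D4556 (iv D3109) (iv D1519) (iv F2148)
def n4557 : Q := act 5 n2336
theorem D4557 : act 5 n2336 = n4557 := rfl
def n4558 : Q := act 6 n2336
theorem D4558 : act 6 n2336 = n4558 := rfl
theorem F8208 : act 2 n4558 = n2341 := d14_1 D4558 (iv D2341) (iv F4178)
theorem F8209 : act 4 n4558 = n2338 := d19_1 D4558 (iv D2338) D2336
def n4560 : Q := act 6 n2337
theorem D4560 : act 6 n2337 = n4560 := rfl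
theorem F8214 : act 5 n4560 = n4558 := d21_2 D2337 D4560 (iv D4558) (iv D2336)
theorem F8215 : act 3 n4558 = n3307 := d24_2 D4560 F8214 F5638 (iv D1610) D1609 (iv F5427) F5429 F4646 D2637 F4654 (iv F4204) (iv D2350) (iv F4190) (iv D2342) (iv F4180)
theorem F8216 : act 6 n3305 = n4556 := d17_4 D4558 F8215 (iv D3307) D3305 (iv D4556)
theorem F8217 : act 4 n2850 = n3305 := d19_3 F8216 F8203 (iv F5405)
theorem F8218 : act 3 n3294 = n2839 := d15_3 F8217 (iv D3305) (iv F5630) F4970 D2850
theorem F8219 : act 2 n4556 = n3287 := d23_0 (iv D3287) F2746 D1602 D3294 F8218 (iv D2839) (iv D1384) (iv F2461) D2832 (iv F8202)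
def n4561 : Q := act 3 n2338
theorem D4561 : act 3 n2338 = n4561 := rfl
def n4567 : Q := act 3 n2341
theorem D4567 : act 3 n2341 = n4567 := rfl
theorem F8235 : act 4 n4567 = n2522 := d15_2 (iv F4188) D4567 (iv D2522) F2269 (iv F2152)
theorem F8236 : act 2 n3298 = n4567 := d12_3 F8235 (iv F5412) (iv F5633)
def n4571 : Q := act 3 n2345
theorem D4571 : act 3 n2345 = n4571 := rfl
theorem F8242 : act 0 n4571 = n2850 := d2_1 D4571 (iv D2850) (iv F4196)
theorem F8243 : act 2 n4571 = n3459 := d23_2 D2345 D4571 (iv D3459) (iv D1678) (iv D796) F706 F365 (iv F619) D665 (iv F2153)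
def n4573 : Q := act 6 n2345
theorem D4573 : act 6 n2345 = n4573 := rfl
theorem F8246 : act 0 n4573 = n2852 := d5_1 D4573 (iv D2852) (iv F4196)
theorem F8247 : act 2 n4573 = n2347 := d14_1 D4573 (iv D2347) D2345
def n4576 : Q := act 1 n2348
theorem D4576 : act 1 n2348 = n4576 := rfl
theorem F8253 : act 6 n4576 = n2730 := d10_2 (iv F4201) D4576 F4825
def n4579 : Q := act 3 n2351
theorem D4579 : act 3 n2351 = n4579 := rfl
def n4580 : Q := act 6 n2351
theorem D4580 : act 6 n2351 = n4580 := rfl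
theorem F8262 : act 2 n4580 = n4212 := d14_1 D4580 (iv D4212) (iv F4206)
theorem F8263 : act 5 n4580 = n2868 := d21_2 (iv F4207) D4580 (iv D2868) (iv F2477)
def n4583 : Q := act 5 n2352
theorem D4583 : act 5 n2352 = n4583 := rfl
theorem F8267 : act 3 n4583 = n2359 := d16_1 D4583 (iv D2359) (iv D1167) (iv F2156) D2352
def n4584 : Q := act 6 n2352
theorem D4584 : act 6 n2352 = n4584 := rfl
theorem F8269 : act 3 n4584 = n2353 := d17_1 D4584 (iv F4231) F4232 (iv D2354) D2352
def n4585 : Q := act 2 n2355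
theorem D4585 : act 2 n2355 = n4585 := rfl
def n4586 : Q := act 4 n2355
theorem D4586 : act 4 n2355 = n4586 := rfl
theorem F8270 : act 1 n4586 = n2358 := d8_1 D4586 (iv D2358) (iv F4214)
def n4587 : Q := act 5 n2355
theorem D4587 : act 5 n2355 = n4587 := rfl
theorem F8271 : act 1 n4587 = n2359 := d9_1 D4587 (iv D2359) (iv F4214)
def n4588 : Q := act 6 n2355
theorem D4588 : act 6 n2355 = n4588 := rfl
def n4590 : Q := act 5 n2356
theorem D4590 : act 5 n2356 = n4590 := rfl
theorem F8274 : act 0 n4590 = n2862 := d4_1 D4590 (iv F5023) F5020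
theorem F8275 : act 1 n4590 = n2364 := d9_1 D4590 (iv D2364) (iv F4215)
theorem F8276 : act 2 n4590 = n4034 := d13_1 D4590 F7112 (iv F4216)
theorem F8278 : act 6 n4590 = n2859 := d20_2 D2356 D4590 F4999 D2868 (iv F8263) (iv D4580) F4207
theorem F8279 : act 3 n4590 = n4580 := d23_5 F8276 (iv D4034) F3488 D4034 (iv F8276) F8262 (iv F7495) F6012 (iv F5028) (iv F8274)
def n4591 : Q := act 1 n2357
theorem D4591 : act 1 n2357 = n4591 := rfl
theorem F8280 : act 3 n4591 = n3158 := d7_2 (iv F4218) D4591 (iv D3158)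
def n4592 : Q := act 4 n2357
theorem D4592 : act 4 n2357 = n4592 := rfl
theorem F8281 : act 0 n4592 = n2879 := d3_1 D4592 (iv D2879) (iv F4217)
theorem F8282 : act 2 n4592 = n2358 := d12_1 D4592 (iv D2358) D2357
def n4593 : Q := act 5 n2357
theorem D4593 : act 5 n2357 = n4593 := rfl
theorem F8284 : act 2 n4593 = n2359 := d13_1 D4593 (iv D2359) D2357
def n4594 : Q := act 6 n2357
theorem D4594 : act 6 n2357 = n4594 := rfl
def n4595 : Q := act 3 n2358
theorem D4595 : act 3 n2358 = n4595 := rfl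
theorem F8288 : act 4 n4595 = n2361 := d15_2 D2358 D4595 (iv D2361) (iv D1168) D1167
def n4596 : Q := act 5 n2358
theorem D4596 : act 5 n2358 = n4596 := rfl
theorem F8290 : act 4 n4596 = n2359 := d18_1 D4596 (iv D2359) D2358
def n4597 : Q := act 6 n2358
theorem D4597 : act 6 n2358 = n4597 := rfl
def n4598 : Q := act 6 n2359
theorem D4598 : act 6 n2359 = n4598 := rfl
theorem F8293 : act 0 n4598 = n2885 := d5_1 D4598 (iv D2885) (iv F4220)
def n4603 : Q := act 6 n2361
theorem D4603 : act 6 n2361 = n4603 := rfl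
theorem F8302 : act 0 n4603 = n2890 := d5_1 D4603 (iv D2890) (iv F4222)
def n4606 : Q := act 4 n2363
theorem D4606 : act 4 n2363 = n4606 := rfl
theorem F8306 : act 0 n4606 = n2893 := d3_1 D4606 (iv D2893) (iv F4227)
def n4607 : Q := act 1 n2365
theorem D4607 : act 1 n2365 = n4607 := rfl
theorem F8307 : act 2 n4607 = n2628 := d6_2 D2365 D4607 (iv D2628) (iv D1290) (iv F2177)
def n4608 : Q := act 3 n2365
theorem D4608 : act 3 n2365 = n4608 := rfl
theorem F8308 : act 0 n4608 = n2371 := d2_1 D4608 (iv D2371) (iv F4233)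
def n4609 : Q := act 4 n2365
theorem D4609 : act 4 n2365 = n4609 := rfl
theorem F8309 : act 0 n4609 = n2372 := d3_1 D4609 (iv D2372) (iv F4233)
theorem F8310 : act 2 n4609 = n2366 := d12_1 D4609 (iv D2366) D2365
def n4610 : Q := act 5 n2365
theorem D4610 : act 5 n2365 = n4610 := rfl
theorem F8311 : act 0 n4610 = n2373 := d4_1 D4610 (iv D2373) (iv F4233)
theorem F8312 : act 2 n4610 = n2367 := d13_1 D4610 (iv D2367) D2365
def n4611 : Q := act 6 n2365
theorem D4611 : act 6 n2365 = n4611 := rfl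
theorem F8313 : act 0 n4611 = n2374 := d5_1 D4611 (iv D2374) (iv F4233)
theorem F8314 : act 2 n4611 = n2368 := d14_1 D4611 (iv D2368) D2365
def n4612 : Q := act 5 n2366
theorem D4612 : act 5 n2366 = n4612 := rfl
theorem F8315 : act 0 n4612 = n2376 := d4_1 D4612 (iv D2376) (iv F4234)
theorem F8317 : act 4 n4612 = n2367 := d18_1 D4612 (iv D2367) D2366
def n4613 : Q := act 6 n2366
theorem D4613 : act 6 n2366 = n4613 := rfl
theorem F8318 : act 0 n4613 = n2377 := d5_1 D4613 (iv D2377) (iv F4234)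
theorem F8320 : act 4 n4613 = n2368 := d19_1 D4613 (iv D2368) D2366
def n4614 : Q := act 6 n2367
theorem D4614 : act 6 n2367 = n4614 := rfl
theorem F8321 : act 0 n4614 = n2378 := d5_1 D4614 (iv D2378) (iv F4237)
theorem F8323 : act 5 n4614 = n4613 := d21_2 D2367 D4614 (iv D4613) (iv D2366)
def n4616 : Q := act 5 n2368
theorem D4616 : act 5 n2368 = n4616 := rfl
theorem F8327 : act 0 n4616 = n2380 := d4_1 D4616 (iv D2380) (iv F4239)
theorem F8329 : act 4 n4616 = n4614 := d18_1 D4616 F8323 F8320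
theorem F8330 : act 6 n4616 = n4612 := d20_2 D2368 D4616 (iv D4612) D4613 (iv F8323) (iv D4614) (iv D2367)
def n4617 : Q := act 2 n2369
theorem D4617 : act 2 n2369 = n4617 := rfl
theorem F8331 : act 0 n4617 = n2385 := d1_1 D4617 (iv D2385) (iv F4241)
def n4620 : Q := act 0 n2370
theorem D4620 : act 0 n2370 = n4620 := rfl
theorem F8338 : act 2 n4620 = n2389 := d1_2 (iv F4243) D4620 (iv D2389)
def n4621 : Q := act 3 n2370
theorem D4621 : act 3 n2370 = n4621 := rfl
theorem F8339 : act 1 n4621 = n2371 := d7_1 D4621 (iv D2371) D2370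
def n4622 : Q := act 4 n2370
theorem D4622 : act 4 n2370 = n4622 := rfl
theorem F8340 : act 1 n4622 = n2372 := d8_1 D4622 (iv D2372) D2370
theorem F8341 : act 2 n4622 = n2390 := d12_1 D4622 (iv D2390) (iv F4243)
def n4623 : Q := act 5 n2370
theorem D4623 : act 5 n2370 = n4623 := rfl
theorem F8342 : act 1 n4623 = n2373 := d9_1 D4623 (iv D2373) D2370
theorem F8343 : act 2 n4623 = n2391 := d13_1 D4623 (iv D2391) (iv F4243)
def n4624 : Q := act 6 n2370
theorem D4624 : act 6 n2370 = n4624 := rfl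
theorem F8344 : act 1 n4624 = n2374 := d10_1 D4624 (iv D2374) D2370
theorem F8345 : act 2 n4624 = n2392 := d14_1 D4624 (iv D2392) (iv F4243)
def n4625 : Q := act 2 n2371
theorem D4625 : act 2 n2371 = n4625 := rfl
def n4626 : Q := act 4 n2371
theorem D4626 : act 4 n2371 = n4626 := rfl
def n4627 : Q := act 5 n2371
theorem D4627 : act 5 n2371 = n4627 := rfl
def n4628 : Q := act 6 n2371
theorem D4628 : act 6 n2371 = n4628 := rfl
def n4629 : Q := act 3 n2372
theorem D4629 : act 3 n2372 = n4629 := rfl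
def n4630 : Q := act 5 n2372
theorem D4630 : act 5 n2372 = n4630 := rfl
theorem F8346 : act 2 n4630 = n2376 := d13_1 D4630 (iv D2376) (iv F4244)
theorem F8347 : act 4 n4630 = n2373 := d18_1 D4630 (iv D2373) D2372
def n4631 : Q := act 6 n2372
theorem D4631 : act 6 n2372 = n4631 := rfl
theorem F8348 : act 2 n4631 = n2377 := d14_1 D4631 (iv D2377) (iv F4244)
theorem F8349 : act 4 n4631 = n2374 := d19_1 D4631 (iv D2374) D2372
def n4632 : Q := act 3 n2373
theorem D4632 : act 3 n2373 = n4632 := rfl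
def n4633 : Q := act 6 n2373
theorem D4633 : act 6 n2373 = n4633 := rfl
theorem F8350 : act 2 n4633 = n2378 := d14_1 D4633 (iv D2378) (iv F4245)
theorem F8351 : act 5 n4633 = n4631 := d21_2 D2373 D4633 (iv D4631) (iv D2372)
def n4634 : Q := act 3 n2374
theorem D4634 : act 3 n2374 = n4634 := rfl
def n4635 : Q := act 5 n2374
theorem D4635 : act 5 n2374 = n4635 := rfl
theorem F8352 : act 2 n4635 = n2380 := d13_1 D4635 (iv D2380) (iv F4246)
theorem F8353 : act 4 n4635 = n4633 := d18_1 D4635 F8351 F8349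
theorem F8354 : act 6 n4635 = n4630 := d20_2 D2374 D4635 (iv D4630) D4631 (iv F8351) (iv D4633) (iv D2373)
def n4636 : Q := act 2 n2375
theorem D4636 : act 2 n2375 = n4636 := rfl
theorem F8355 : act 0 n4636 = n2595 := d1_1 D4636 F4568 (iv F4247)
theorem F8356 : act 1 n4636 = n4620 := d6_1 D4636 F8338 F4285 (iv D2400) (iv F4248)
theorem F8357 : act 4 n4636 = n2381 := d12_2 (iv F4249) D4636 (iv D2381)
def n4637 : Q := act 5 n2375
theorem D4637 : act 5 n2375 = n4637 := rfl
theorem F8358 : act 0 n4637 = n2598 := d4_1 D4637 (iv D2598) (iv F4247)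
theorem F8359 : act 1 n4637 = n2401 := d9_1 D4637 (iv D2401) (iv F4248)
theorem F8360 : act 4 n4637 = n2382 := d18_1 D4637 (iv D2382) (iv F4249)
def n4638 : Q := act 6 n2375
theorem D4638 : act 6 n2375 = n4638 := rfl
theorem F8361 : act 0 n4638 = n2599 := d5_1 D4638 (iv D2599) (iv F4247)
theorem F8362 : act 1 n4638 = n2402 := d10_1 D4638 (iv D2402) (iv F4248)
theorem F8363 : act 4 n4638 = n2383 := d19_1 D4638 (iv D2383) (iv F4249)
def n4639 : Q := act 3 n2376
theorem D4639 : act 3 n2376 = n4639 := rfl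
theorem F8364 : act 1 n4639 = n2403 := d7_1 D4639 (iv D2403) (iv F4250)
def n4640 : Q := act 3 n2377
theorem D4640 : act 3 n2377 = n4640 := rfl
theorem F8365 : act 1 n4640 = n2404 := d7_1 D4640 (iv D2404) (iv F4252)
def n4641 : Q := act 3 n2378
theorem D4641 : act 3 n2378 = n4641 := rfl
theorem F8366 : act 1 n4641 = n2405 := d7_1 D4641 (iv D2405) (iv F4254)
def n4643 : Q := act 4 n2379
theorem D4643 : act 4 n2379 = n4643 := rfl
theorem F8368 : act 1 n4643 = n2407 := d8_1 D4643 (iv D2407) (iv F4256)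
def n4644 : Q := act 5 n2379
theorem D4644 : act 5 n2379 = n4644 := rfl
theorem F8370 : act 1 n4644 = n2408 := d9_1 D4644 (iv D2408) (iv F4256)
def n4645 : Q := act 3 n2380
theorem D4645 : act 3 n2380 = n4645 := rfl
theorem F8371 : act 1 n4645 = n2409 := d7_1 D4645 (iv D2409) (iv F4258)
def n4646 : Q := act 1 n2381
theorem D4646 : act 1 n2381 = n4646 := rfl
theorem F8372 : act 2 n4646 = n2410 := d6_2 D2381 D4646 (iv D2410) (iv D1192) (iv F2187)
theorem F8373 : act 4 n4646 = n4620 := d8_2 F8357 D4646 (iv F8356)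
theorem F8374 : act 0 n4622 = n4646 := d22_0 (iv D4646) (iv D2381) F2186 F1177 D616 F1179 D1182 (iv F4243) D4622
def n4647 : Q := act 3 n2381
theorem D4647 : act 3 n2381 = n4647 := rfl
theorem F8375 : act 0 n4647 = n2594 := d2_1 D4647 (iv D2594) (iv F4261)
def n4648 : Q := act 5 n2381
theorem D4648 : act 5 n2381 = n4648 := rfl
theorem F8376 : act 0 n4648 = n2596 := d4_1 D4648 (iv D2596) (iv F4261)
theorem F8377 : act 2 n4648 = n2382 := d13_1 D4648 (iv D2382) D2381
def n4649 : Q := act 6 n2381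
theorem D4649 : act 6 n2381 = n4649 := rfl
theorem F8378 : act 0 n4649 = n2597 := d5_1 D4649 (iv D2597) (iv F4261)
theorem F8379 : act 2 n4649 = n2383 := d14_1 D4649 (iv D2383) D2381
def n4650 : Q := act 6 n2382
theorem D4650 : act 6 n2382 = n4650 := rfl
theorem F8380 : act 0 n4650 = n2600 := d5_1 D4650 (iv D2600) (iv F4262)
theorem F8382 : act 5 n4650 = n4638 := d21_2 D2382 D4650 (iv D4638) F4249
def n4652 : Q := act 5 n2383
theorem D4652 : act 5 n2383 = n4652 := rfl
theorem F8386 : act 0 n4652 = n2602 := d4_1 D4652 (iv D2602) (iv F4264)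
theorem F8387 : act 1 n4652 = n2416 := d9_1 D4652 (iv D2416) (iv F4265)
theorem F8389 : act 6 n4652 = n4637 := d20_2 D2383 D4652 (iv D4637) D4638 (iv F8382) (iv D4650) (iv D2382)
def n4656 : Q := act 1 n2385
theorem D4656 : act 1 n2385 = n4656 := rfl
theorem F8397 : act 2 n4656 = n2420 := d6_2 D2385 D4656 (iv D2420) (iv D1196) (iv F2193)
def n4660 : Q := act 5 n2386
theorem D4660 : act 5 n2386 = n4660 := rfl
theorem F8400 : act 1 n4660 = n2424 := d9_1 D4660 (iv D2424) (iv F4268)
def n4662 : Q := act 6 n2387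
theorem D4662 : act 6 n2387 = n4662 := rfl
theorem F8406 : act 1 n4662 = n2426 := d10_1 D4662 (iv D2426) (iv F4269)
def n4666 : Q := act 5 n2389
theorem D4666 : act 5 n2389 = n4666 := rfl
theorem F8416 : act 0 n4666 = n2391 := d4_1 D4666 (iv D2391) D2389
def n4667 : Q := act 6 n2389
theorem D4667 : act 6 n2389 = n4667 := rfl
theorem F8417 : act 0 n4667 = n2392 := d5_1 D4667 (iv D2392) D2389
def n4668 : Q := act 3 n2390
theorem D4668 : act 3 n2390 = n4668 := rfl
theorem F8418 : act 1 n4668 = n2393 := d7_1 D4668 (iv D2393) (iv F4272)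
def n4669 : Q := act 5 n2390
theorem D4669 : act 5 n2390 = n4669 := rfl
theorem F8419 : act 1 n4669 = n2394 := d9_1 D4669 (iv D2394) (iv F4272)
theorem F8420 : act 4 n4669 = n2391 := d18_1 D4669 (iv D2391) D2390
def n4670 : Q := act 6 n2390
theorem D4670 : act 6 n2390 = n4670 := rfl
theorem F8421 : act 1 n4670 = n2395 := d10_1 D4670 (iv D2395) (iv F4272)
theorem F8422 : act 4 n4670 = n2392 := d19_1 D4670 (iv D2392) D2390
def n4671 : Q := act 3 n2391
theorem D4671 : act 3 n2391 = n4671 := rfl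
theorem F8423 : act 1 n4671 = n2396 := d7_1 D4671 (iv D2396) (iv F4273)
def n4672 : Q := act 6 n2391
theorem D4672 : act 6 n2391 = n4672 := rfl
theorem F8424 : act 1 n4672 = n2397 := d10_1 D4672 (iv D2397) (iv F4273)
theorem F8425 : act 5 n4672 = n4670 := d21_2 D2391 D4672 (iv D4670) (iv D2390)
def n4673 : Q := act 3 n2392
theorem D4673 : act 3 n2392 = n4673 := rfl
def n4674 : Q := act 5 n2392
theorem D4674 : act 5 n2392 = n4674 := rfl
theorem F8429 : act 6 n4674 = n4669 := d20_2 D2392 D4674 (iv D4669) D4670 (iv F8425) (iv D4672) (iv D2391)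
def n4675 : Q := act 5 n2393
theorem D4675 : act 5 n2393 = n4675 := rfl
def n4676 : Q := act 6 n2393
theorem D4676 : act 6 n2393 = n4676 := rfl
theorem F8431 : act 2 n4676 = n4676 := d14_1 D4676 (iv D4676) F4613
def n4677 : Q := act 3 n2394
theorem D4677 : act 3 n2394 = n4677 := rfl
def n4678 : Q := act 3 n2395
theorem D4678 : act 3 n2395 = n4678 := rfl
def n4679 : Q := act 2 n2396
theorem D4679 : act 2 n2396 = n4679 := rfl
def n4680 : Q := act 4 n2396
theorem D4680 : act 4 n2396 = n4680 := rfl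
def n4681 : Q := act 6 n2396
theorem D4681 : act 6 n2396 = n4681 := rfl
def n4682 : Q := act 3 n2397
theorem D4682 : act 3 n2397 = n4682 := rfl
def n4687 : Q := act 5 n2400
theorem D4687 : act 5 n2400 = n4687 := rfl
theorem F8433 : act 2 n4687 = n2401 := d13_1 D4687 (iv D2401) D2400
theorem F8434 : act 4 n4687 = n2412 := d18_1 D4687 (iv D2412) (iv F4284)
def n4688 : Q := act 6 n2400
theorem D4688 : act 6 n2400 = n4688 := rfl
theorem F8436 : act 2 n4688 = n2402 := d14_1 D4688 (iv D2402) D2400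
theorem F8437 : act 4 n4688 = n2413 := d19_1 D4688 (iv D2413) (iv F4284)
def n4689 : Q := act 3 n2401
theorem D4689 : act 3 n2401 = n4689 := rfl
theorem F8438 : act 5 n4689 = n2403 := d16_2 D2401 D4689 (iv D2403) (iv D1187) D1186
def n4690 : Q := act 3 n2402
theorem D4690 : act 3 n2402 = n4690 := rfl
theorem F8439 : act 6 n4690 = n2404 := d17_2 D2402 D4690 (iv D2404) (iv D1188) D1186
def n4691 : Q := act 2 n2403
theorem D4691 : act 2 n2403 = n4691 := rfl
def n4692 : Q := act 6 n2403
theorem D4692 : act 6 n2403 = n4692 := rfl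
def n4693 : Q := act 2 n2404
theorem D4693 : act 2 n2404 = n4693 := rfl
def n4694 : Q := act 4 n2404
theorem D4694 : act 4 n2404 = n4694 := rfl
theorem F8440 : act 3 n4694 = n2407 := d15_1 D4694 (iv D2407) (iv D1190) (iv F2204) D2404
def n4695 : Q := act 5 n2404
theorem D4695 : act 5 n2404 = n4695 := rfl
def n4696 : Q := act 2 n2405
theorem D4696 : act 2 n2405 = n4696 := rfl
def n4697 : Q := act 4 n2405
theorem D4697 : act 4 n2405 = n4697 := rfl
def n4698 : Q := act 5 n2405
theorem D4698 : act 5 n2405 = n4698 := rfl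
theorem F8441 : act 3 n4698 = n4695 := d16_1 D4698 (iv D4695) (iv D2404) (iv F2205) D2405
def n4699 : Q := act 1 n2406
theorem D4699 : act 1 n2406 = n4699 := rfl
theorem F8442 : act 6 n4699 = n2420 := d10_2 (iv F4288) D4699 (iv D2420)
def n4700 : Q := act 3 n2406
theorem D4700 : act 3 n2406 = n4700 := rfl
def n4701 : Q := act 3 n2408
theorem D4701 : act 3 n2408 = n4701 := rfl
theorem F8443 : act 5 n4701 = n2409 := d16_2 D2408 D4701 (iv D2409) (iv D1191) D1190
def n4702 : Q := act 2 n2409
theorem D4702 : act 2 n2409 = n4702 := rfl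
def n4703 : Q := act 4 n2409
theorem D4703 : act 4 n2409 = n4703 := rfl
theorem F8444 : act 3 n4703 = n4697 := d15_1 D4703 (iv D4697) (iv D2405) (iv F2207) D2409
def n4704 : Q := act 6 n2409
theorem D4704 : act 6 n2409 = n4704 := rfl
theorem F8445 : act 3 n4704 = n4692 := d17_1 D4704 (iv D4692) (iv D2403) (iv F2208) D2409
def n4705 : Q := act 3 n2410
theorem D4705 : act 3 n2410 = n4705 := rfl
theorem F8446 : act 0 n4705 = n4668 := d2_1 D4705 (iv D4668) F4291
theorem F8447 : act 1 n4705 = n2411 := d7_1 D4705 (iv D2411) D2410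
def n4706 : Q := act 5 n2410
theorem D4706 : act 5 n2410 = n4706 := rfl
def n4707 : Q := act 6 n2410
theorem D4707 : act 6 n2410 = n4707 := rfl
theorem F8451 : act 0 n4707 = n4670 := d5_1 D4707 (iv D4670) F4291
theorem F8452 : act 1 n4707 = n2413 := d10_1 D4707 (iv D2413) D2410
theorem F8453 : act 4 n4707 = n4667 := d19_1 D4707 (iv D4667) (iv F4290)
def n4708 : Q := act 5 n2411
theorem D4708 : act 5 n2411 = n4708 := rfl
def n4709 : Q := act 6 n2411
theorem D4709 : act 6 n2411 = n4709 := rfl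
theorem F8455 : act 2 n4709 = n4709 := d14_1 D4709 (iv D4709) F4292
def n4710 : Q := act 3 n2412
theorem D4710 : act 3 n2412 = n4710 := rfl
def n4712 : Q := act 3 n2413
theorem D4712 : act 3 n2413 = n4712 := rfl
def n4713 : Q := act 5 n2413
theorem D4713 : act 5 n2413 = n4713 := rfl
theorem F8458 : act 2 n4713 = n2416 := d13_1 D4713 (iv D2416) (iv F4294)
def n4715 : Q := act 2 n2415
theorem D4715 : act 2 n2415 = n4715 := rfl
theorem F8462 : act 6 n4715 = n2417 := d14_2 (iv F4296) D4715 (iv D2417)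
theorem F8463 : act 5 n4715 = n2959 := d24_1 (iv F8462) (iv D2959) F2561 (iv D692) (iv D328) (iv D158) F184 (iv D67) D66 D130 D266 D555 (iv F1120) D1195 D2417
theorem F8464 : act 3 n3211 = n4715 := d16_5 F8463 (iv D2959) F2563 D1568 D3211
def n4717 : Q := act 5 n2415
theorem D4717 : act 5 n2415 = n4717 := rfl
theorem F8467 : act 2 n4717 = n2959 := d13_1 D4717 (iv F8463) (iv D4715)
def n4718 : Q := act 3 n2416
theorem D4718 : act 3 n2416 = n4718 := rfl
def n4719 : Q := act 1 n2417
theorem D4719 : act 1 n2417 = n4719 := rfl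
def n4721 : Q := act 4 n2417
theorem D4721 : act 4 n2417 = n4721 := rfl
theorem F8468 : act 2 n4721 = n2418 := d12_1 D4721 (iv D2418) D2417
def n4722 : Q := act 5 n2417
theorem D4722 : act 5 n2417 = n4722 := rfl
def n4723 : Q := act 5 n2418
theorem D4723 : act 5 n2418 = n4723 := rfl
theorem F8471 : act 6 n4723 = n4717 := d21_1 D4723 (iv D4717) F4296 D2418
def n4725 : Q := act 0 n2420
theorem D4725 : act 0 n2420 = n4725 := rfl
theorem F8474 : act 1 n4725 = n4721 := d22_7 (iv F2349) (iv F4242) D4617 F8331 D4656 F8397 D4725 F8468 (iv D2418)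
theorem F8475 : act 4 n4719 = n4725 := d8_0 F8474 (iv D4721) D4719
def n4726 : Q := act 3 n2420
theorem D4726 : act 3 n2420 = n4726 := rfl
theorem F8476 : act 1 n4726 = n2421 := d7_1 D4726 (iv D2421) D2420
def n4727 : Q := act 4 n2420
theorem D4727 : act 4 n2420 = n4727 := rfl
theorem F8477 : act 0 n4727 = n4719 := d3_1 D4727 F8475 (iv D4725)
theorem F8478 : act 1 n4727 = n2422 := d8_1 D4727 (iv D2422) D2420
def n4728 : Q := act 5 n2420
theorem D4728 : act 5 n2420 = n4728 := rfl
theorem F8479 : act 1 n4728 = n2423 := d9_1 D4728 (iv D2423) D2420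
theorem F8480 : act 6 n2947 = n4728 := d10_0 F8479 (iv F4304) (iv F5157)
def n4729 : Q := act 2 n2421
theorem D4729 : act 2 n2421 = n4729 := rfl
theorem F8481 : act 3 n4729 = n2585 := d23_1 D4729 (iv D2585) (iv D1270) F1168 F589 (iv F594) D622 D1294 D2639 F4655
def n4730 : Q := act 4 n2421
theorem D4730 : act 4 n2421 = n4730 := rfl
def n4731 : Q := act 5 n2421
theorem D4731 : act 5 n2421 = n4731 := rfl
def n4732 : Q := act 6 n2421
theorem D4732 : act 6 n2421 = n4732 := rfl
def n4734 : Q := act 5 n2422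
theorem D4734 : act 5 n2422 = n4734 := rfl
theorem F8482 : act 0 n4734 = n3135 := d4_1 D4734 F5424 F4656
theorem F8483 : act 2 n4734 = n2424 := d13_1 D4734 (iv D2424) (iv F4301)
theorem F8484 : act 4 n4734 = n2423 := d18_1 D4734 (iv D2423) D2422
theorem F8485 : act 6 n4734 = n2958 := d20_2 F5168 D4734 F5180 F4288 D2423 (iv F4304) (iv F5165)
def n4735 : Q := act 3 n2423
theorem D4735 : act 3 n2423 = n4735 := rfl
theorem F8487 : act 6 n4735 = n2959 := d17_2 F4304 D4735 (iv D2959) (iv D1446) D1445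
theorem F8488 : act 2 n4723 = n4735 := d14_3 F8487 (iv F8467) (iv F8471)
theorem F8489 : act 5 n4721 = n4735 := d21_0 F8487 (iv F8463) F8462 D4721
theorem F8490 : act 4 n4735 = n4722 := d21_4 (iv D4722) (iv F8462) F8463 (iv F8487)
theorem F8491 : act 3 n4731 = n4721 := d16_5 F8489 (iv D4735) (iv D2423) D2421 D4731
theorem E43 : n4710 = n2394 := (c24_11 F4288 D2423 D4735 (iv F8488) F8471 (iv D4717) (iv D2415) (iv F4294) (iv D2413) D2412 D4710 F4275 (iv F2208) (iv D1191) D1190 D2406)
theorem E44 : n4677 = n2412 := ((D4677).symm.trans (sb E43 (iv D4710)))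
theorem F8492 : act 3 n2412 = n2394 := (sb E44 (iv D4677))
theorem F8493 : act 3 n2612 = n2630 := d2_2 F8492 (iv F4592) F4639
theorem F8495 : act 3 n4680 = n4687 := d15_5 F8434 F8492 F4276 D2396 D4680
theorem E45 : n4675 = n2411 := (c16_5 D2412 F8492 (iv D2394) D2393 D4675 (iv D2411))
theorem E46 : n4708 = n2393 := ((D4708).symm.trans (sb E45 (iv D4675)))
theorem F8496 : act 5 n2393 = n2411 := (sb E46 (iv D4708))
theorem F8497 : act 5 n2629 = n2611 := d4_2 F8496 (iv F4636) F4590
theorem F8498 : act 5 n4705 = n4668 := d9_2 F8496 (iv F8447) F8418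
def n4736 : Q := act 3 n2424
theorem D4736 : act 3 n2424 = n4736 := rfl
def n4740 : Q := act 3 n2426
theorem D4740 : act 3 n2426 = n4740 := rfl
theorem F8507 : act 0 n4740 = n3134 := d2_1 D4740 (iv D3134) (iv F4308)
def n4745 : Q := act 0 n2430
theorem D4745 : act 0 n2430 = n4745 := rfl
theorem F8513 : act 1 n4745 = n2589 := d22_4 F1966 D2173 (iv F4314) D4745 (iv D2589) F2311 F2209 (iv F3824) (iv D2175)
theorem F8514 : act 4 n2646 = n4745 := d22_9 (iv D4745) (iv D2430) (iv D1200) (iv F1194) (iv F1569) D1798 F3081 D3666 F6302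
def n4747 : Q := act 4 n2430
theorem D4747 : act 4 n2430 = n4747 := rfl
theorem F8516 : act 0 n4747 = n2646 := d3_1 D4747 F8514 (iv D4745)
theorem F8517 : act 1 n4747 = n2432 := d8_1 D4747 (iv D2432) D2430
theorem F8518 : act 2 n4747 = n4298 := d12_1 D4747 (iv D4298) (iv F4314)
theorem F8519 : act 6 n4747 = n4745 := d19_2 F4669 D4747 (iv F8514)
def n4753 : Q := act 3 n2432
theorem D4753 : act 3 n2432 = n4753 := rfl
def n4757 : Q := act 3 n2436
theorem D4757 : act 3 n2436 = n4757 := rfl
theorem F8531 : act 5 n4757 = n3156 := d16_2 F4491 D4757 (iv D3156) D3157 (iv F5453)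
def n4768 : Q := act 3 n2441
theorem D4768 : act 3 n2441 = n4768 := rfl
theorem F8545 : act 4 n4768 = n2444 := d15_2 D2441 D4768 (iv D2444) (iv D1205) D1204
def n4769 : Q := act 5 n2441
theorem D4769 : act 5 n2441 = n4769 := rfl
theorem F8546 : act 4 n4769 = n2442 := d18_1 D4769 (iv D2442) D2441
theorem F8547 : act 3 n3045 = n4769 := d15_5 F8546 F4337 (iv D1490) D1489 D3045
def n4771 : Q := act 6 n2442
theorem D4771 : act 6 n2442 = n4771 := rfl
theorem F8549 : act 3 n4771 = n3074 := d17_1 D4771 (iv D3074) (iv D1503) (iv F2624) (iv F4337)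
def n4773 : Q := act 2 n2444
theorem D4773 : act 2 n2444 = n4773 := rfl
def n4774 : Q := act 6 n2444
theorem D4774 : act 6 n2444 = n4774 := rfl
theorem F8553 : act 3 n4774 = n2472 := d17_1 D4774 (iv D2472) (iv D1218) (iv F2216) D2444
def n4787 : Q := act 2 n2451
theorem D4787 : act 2 n2451 = n4787 := rfl
theorem F8569 : act 0 n4787 = n2453 := d1_1 D4787 (iv D2453) (iv F4348)
def n4792 : Q := act 1 n2453
theorem D4792 : act 1 n2453 = n4792 := rfl
theorem F8579 : act 2 n4792 = n2460 := d6_2 D2453 D4792 (iv D2460) (iv D1214) (iv F2225)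
def n4803 : Q := act 2 n2457
theorem D4803 : act 2 n2457 = n4803 := rfl
theorem F8597 : act 0 n4803 = n2565 := d1_1 D4803 (iv D2565) (iv F4357)
def n4805 : Q := act 6 n2457
theorem D4805 : act 6 n2457 = n4805 := rfl
theorem F8601 : act 1 n4805 = n2472 := d10_1 D4805 (iv D2472) (iv F4358)
def n4806 : Q := act 3 n2458
theorem D4806 : act 3 n2458 = n4806 := rfl
theorem F8604 : act 6 n4806 = n3060 := d17_2 (iv F4363) D4806 (iv D3060) D3061 (iv F5335)
def n4810 : Q := act 0 n2460
theorem D4810 : act 0 n2460 = n4810 := rfl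
def n4821 : Q := act 2 n2464
theorem D4821 : act 2 n2464 = n4821 := rfl
theorem F8619 : act 4 n4821 = n2470 := d12_2 (iv F4368) D4821 (iv D2470)
theorem F8620 : act 1 n4810 = n4821 := d22_7 (iv F2301) (iv F4349) D4787 F8569 D4792 F8579 D4810 (iv D4821) F4368
def n4832 : Q := act 3 n2470
theorem D4832 : act 3 n2470 = n4832 := rfl
theorem F8627 : act 2 n4832 = n4832 := d23_2 D2470 D4832 (iv D4832) (iv D2470) (iv D1218) F1131 (iv F586) (iv F1166) D1268 F2301
def n4835 : Q := act 3 n2471
theorem D4835 : act 3 n2471 = n4835 := rfl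
theorem F8630 : act 5 n4835 = n2473 := d16_2 D2471 D4835 (iv D2473) (iv D1219) D1218
def n4849 : Q := act 3 n2480
theorem D4849 : act 3 n2480 = n4849 := rfl
def n4850 : Q := act 4 n2480
theorem D4850 : act 4 n2480 = n4850 := rfl
def n4852 : Q := act 1 n2483
theorem D4852 : act 1 n2483 = n4852 := rfl
theorem F8659 : act 2 n4852 = n2687 := d6_2 D2483 D4852 (iv D2687) (iv D1318) (iv F2242)
def n4853 : Q := act 3 n2483
theorem D4853 : act 3 n2483 = n4853 := rfl
theorem F8660 : act 0 n4853 = n2489 := d2_1 D4853 (iv D2489) (iv F4394)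
def n4854 : Q := act 4 n2483
theorem D4854 : act 4 n2483 = n4854 := rfl
theorem F8661 : act 0 n4854 = n2490 := d3_1 D4854 (iv D2490) (iv F4394)
def n4855 : Q := act 5 n2483
theorem D4855 : act 5 n2483 = n4855 := rfl
theorem F8663 : act 0 n4855 = n2491 := d4_1 D4855 (iv D2491) (iv F4394)
def n4856 : Q := act 6 n2483
theorem D4856 : act 6 n2483 = n4856 := rfl
theorem F8665 : act 0 n4856 = n2492 := d5_1 D4856 (iv D2492) (iv F4394)
def n4862 : Q := act 2 n2487
theorem D4862 : act 2 n2487 = n4862 := rfl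
theorem F8683 : act 0 n4862 = n2503 := d1_1 D4862 (iv D2503) (iv F4402)
def n4865 : Q := act 0 n2488
theorem D4865 : act 0 n2488 = n4865 := rfl
theorem F8690 : act 2 n4865 = n2507 := d1_2 (iv F4404) D4865 (iv D2507)
def n4866 : Q := act 3 n2488
theorem D4866 : act 3 n2488 = n4866 := rfl
theorem F8691 : act 1 n4866 = n2489 := d7_1 D4866 (iv D2489) D2488
def n4867 : Q := act 4 n2488
theorem D4867 : act 4 n2488 = n4867 := rfl
theorem F8692 : act 1 n4867 = n2490 := d8_1 D4867 (iv D2490) D2488
theorem F8693 : act 2 n4867 = n2508 := d12_1 D4867 (iv D2508) (iv F4404)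
def n4871 : Q := act 4 n2489
theorem D4871 : act 4 n2489 = n4871 := rfl
def n4872 : Q := act 5 n2489
theorem D4872 : act 5 n2489 = n4872 := rfl
def n4873 : Q := act 6 n2489
theorem D4873 : act 6 n2489 = n4873 := rfl
def n4881 : Q := act 2 n2493
theorem D4881 : act 2 n2493 = n4881 := rfl
theorem F8707 : act 0 n4881 = n2654 := d1_1 D4881 F4677 (iv F4408)
theorem F8709 : act 4 n4881 = n2499 := d12_2 (iv F4410) D4881 (iv D2499)
def n4891 : Q := act 1 n2499
theorem D4891 : act 1 n2499 = n4891 := rfl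
theorem F8724 : act 2 n4891 = n2528 := d6_2 D2499 D4891 (iv D2528) (iv D1244) (iv F2252)
theorem F8726 : act 0 n4867 = n4891 := d22_0 (iv D4891) (iv D2499) F2251 F1197 D628 F1199 D1234 (iv F4404) D4867
def n4892 : Q := act 3 n2499
theorem D4892 : act 3 n2499 = n4892 := rfl
theorem F8727 : act 0 n4892 = n2653 := d2_1 D4892 (iv D2653) (iv F4422)
def n4901 : Q := act 1 n2503
theorem D4901 : act 1 n2503 = n4901 := rfl
theorem F8749 : act 2 n4901 = n2538 := d6_2 D2503 D4901 (iv D2538) (iv D1248) (iv F2258)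
def n4913 : Q := act 3 n2508
theorem D4913 : act 3 n2508 = n4913 := rfl
theorem F8771 : act 1 n4913 = n2511 := d7_1 D4913 (iv D2511) (iv F4433)
def n4914 : Q := act 5 n2508
theorem D4914 : act 5 n2508 = n4914 := rfl
theorem F8773 : act 4 n4914 = n2509 := d18_1 D4914 (iv D2509) D2508
def n4915 : Q := act 6 n2508
theorem D4915 : act 6 n2508 = n4915 := rfl
theorem F8775 : act 4 n4915 = n2510 := d19_1 D4915 (iv D2510) D2508
def n4916 : Q := act 3 n2509
theorem D4916 : act 3 n2509 = n4916 := rfl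
def n4917 : Q := act 6 n2509
theorem D4917 : act 6 n2509 = n4917 := rfl
theorem F8777 : act 1 n4917 = n2515 := d10_1 D4917 (iv D2515) (iv F4434)
theorem F8778 : act 5 n4917 = n4915 := d21_2 D2509 D4917 (iv D4915) (iv D2508)
def n4918 : Q := act 3 n2510
theorem D4918 : act 3 n2510 = n4918 := rfl
theorem F8779 : act 1 n4918 = n2516 := d7_1 D4918 (iv D2516) (iv F4435)
def n4919 : Q := act 5 n2510
theorem D4919 : act 5 n2510 = n4919 := rfl
theorem F8780 : act 1 n4919 = n2517 := d9_1 D4919 (iv D2517) (iv F4435)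
theorem F8782 : act 6 n4919 = n4914 := d20_2 D2510 D4919 (iv D4914) D4915 (iv F8778) (iv D4917) (iv D2509)
def n4925 : Q := act 3 n2515
theorem D4925 : act 3 n2515 = n4925 := rfl
def n4933 : Q := act 3 n2520
theorem D4933 : act 3 n2520 = n4933 := rfl
theorem F8792 : act 6 n4933 = n2522 := d17_2 D2520 D4933 (iv D2522) (iv D1240) D1238
def n4934 : Q := act 2 n2521
theorem D4934 : act 2 n2521 = n4934 := rfl
def n4938 : Q := act 1 n2523
theorem D4938 : act 1 n2523 = n4938 := rfl
theorem F8794 : act 5 n4938 = n2538 := d9_2 (iv F4449) D4938 (iv D2538)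
def n4947 : Q := act 3 n2528
theorem D4947 : act 3 n2528 = n4947 := rfl
theorem F8799 : act 0 n4947 = n4913 := d2_1 D4947 (iv D4913) F4452
theorem F8800 : act 1 n4947 = n2529 := d7_1 D4947 (iv D2529) D2528
theorem F8801 : act 6 n4913 = n4947 := d10_0 F8800 (iv F5291) (iv F8771)
def n4954 : Q := act 2 n2532
theorem D4954 : act 2 n2532 = n4954 := rfl
theorem F8815 : act 0 n4954 = n3033 := d1_1 D4954 F5286 F4752
theorem F8817 : act 3 n3191 = n4954 := d2_0 F8815 F5287 (iv F5494)
theorem F8818 : act 6 n2916 = n4954 := d5_0 F8815 (iv D3033) (iv F5086)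
def n4959 : Q := act 1 n2535
theorem D4959 : act 1 n2535 = n4959 := rfl
def n4961 : Q := act 4 n2535
theorem D4961 : act 4 n2535 = n4961 := rfl
theorem F8822 : act 2 n4961 = n2536 := d12_1 D4961 (iv D2536) D2535
def n4965 : Q := act 0 n2538
theorem D4965 : act 0 n2538 = n4965 := rfl
theorem F8828 : act 1 n4965 = n4961 := d22_7 (iv F2392) (iv F4403) D4862 F8683 D4901 F8749 D4965 F8822 (iv D2536)
theorem F8829 : act 4 n4959 = n4965 := d8_0 F8828 (iv D4961) D4959
def n4966 : Q := act 3 n2538
theorem D4966 : act 3 n2538 = n4966 := rfl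
theorem F8830 : act 1 n4966 = n2539 := d7_1 D4966 (iv D2539) D2538
def n4968 : Q := act 6 n2538
theorem D4968 : act 6 n2538 = n4968 := rfl
theorem F8833 : act 1 n4968 = n2541 := d10_1 D4968 (iv D2541) D2538
theorem F8834 : act 5 n2904 = n4968 := d9_0 F8833 F4465 (iv F5062)
def n4971 : Q := act 6 n2539
theorem D4971 : act 6 n2539 = n4971 := rfl
def n4973 : Q := act 6 n2540
theorem D4973 : act 6 n2540 = n4973 := rfl
theorem F8837 : act 4 n4973 = n2541 := d19_1 D4973 (iv D2541) D2540
def n4974 : Q := act 3 n2541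
theorem D4974 : act 3 n2541 = n4974 := rfl
theorem F8840 : act 5 n4974 = n2916 := d16_2 (iv F4465) D4974 (iv D2916) (iv D1424) D1423
theorem F8843 : act 6 n4961 = n4974 := d24_0 F8840 (iv D2916) F2512 F1267 F666 (iv F665) (iv F1355) (iv F2514) (iv D1424) D1423 (iv F4470) F4472 F4450 (iv F4460) (iv F8822)
theorem F8844 : act 3 n4971 = n4961 := d17_5 F8843 (iv D4974) (iv D2541) D2539 D4971
def n4976 : Q := act 3 n2544
theorem D4976 : act 3 n2544 = n4976 := rfl
theorem F8845 : act 0 n4976 = n3028 := d2_1 D4976 (iv D3028) (iv F4469)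
def n4989 : Q := act 3 n2551
theorem D4989 : act 3 n2551 = n4989 := rfl
def n4999 : Q := act 3 n2556
theorem D4999 : act 3 n2556 = n4999 := rfl
theorem F8877 : act 4 n4999 = n2559 := d15_2 D2556 D4999 (iv D2559) (iv D1257) D1256
def n5001 : Q := act 6 n2556
theorem D5001 : act 6 n2556 = n5001 := rfl
theorem F8881 : act 4 n5001 = n2558 := d19_1 D5001 (iv D2558) D2556
theorem F8882 : act 3 n3146 = n5001 := d15_5 F8881 F4497 (iv D1540) D1539 D3146
def n5006 : Q := act 1 n2560
theorem D5006 : act 1 n2560 = n5006 := rfl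
theorem F8893 : act 6 n5006 = n2563 := d10_2 (iv F4500) D5006 (iv D2563)
theorem F8894 : act 0 n4850 = n5006 := d22_0 (iv D5006) (iv D2560) F2288 F2239 F2027 F2025 (iv F2239) D2480 D4850
theorem F8895 : act 4 n5006 = n2560 := d3_2 D4850 F8894 F4499
def n5007 : Q := act 3 n2560
theorem D5007 : act 3 n2560 = n5007 := rfl
theorem F8897 : act 0 n5007 = n4849 := d2_1 D5007 (iv D4849) (iv F4499)
def n5010 : Q := act 2 n2564
theorem D5010 : act 2 n2564 = n5010 := rfl
def n5014 : Q := act 1 n2565
theorem D5014 : act 1 n2565 = n5014 := rfl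
theorem F8904 : act 2 n5014 = n2571 := d6_2 D2565 D5014 (iv D2571) (iv D1264) (iv F2293)
def n5026 : Q := act 5 n2569
theorem D5026 : act 5 n2569 = n5026 := rfl
def n5027 : Q := act 3 n2570
theorem D5027 : act 3 n2570 = n5027 := rfl
theorem F8922 : act 1 n5027 = n2588 := d7_1 D5027 (iv D2588) (iv F4517)
theorem F8923 : act 2 n5027 = n5027 := d11_1 D5027 (iv D5027) F4518 (iv D1913) F1689 F1665 (iv F871) D932 D1924 D3890 F6798 (iv D3890) (iv D1924) (iv D932) F871 (iv F1665) (iv F1689) D1913 (iv F4518)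
theorem F8924 : act 6 n2930 = n5027 := d10_0 F8922 (iv F4551) (iv F5122)
def n5028 : Q := act 0 n2571
theorem D5028 : act 0 n2571 = n5028 := rfl
theorem F8925 : act 3 n5028 = n4810 := d2_2 (iv F4521) D5028 (iv D4810)
def n5039 : Q := act 2 n2575
theorem D5039 : act 2 n2575 = n5039 := rfl
theorem F8949 : act 4 n5039 = n2581 := d12_2 (iv F4529) D5039 (iv D2581)
theorem F8950 : act 1 n5028 = n5039 := d22_7 F2301 (iv F4358) D4803 F8597 D5014 F8904 D5028 (iv D5039) F4529
theorem F8951 : act 3 n5039 = n4821 := d7_2 (iv F8925) F8950 (iv F8620)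
def n5050 : Q := act 3 n2581
theorem D5050 : act 3 n2581 = n5050 := rfl
theorem F8971 : act 4 n5050 = n4832 := d15_2 F8949 D5050 (iv D4832) (iv F8619) (iv F8951)
def n5056 : Q := act 2 n2584
theorem D5056 : act 2 n2584 = n5056 := rfl
theorem F8984 : act 5 n5056 = n3172 := d13_2 (iv F4545) D5056 (iv D3172)
def n5057 : Q := act 4 n2584
theorem D5057 : act 4 n2584 = n5057 := rfl
theorem F8987 : act 5 n5057 = n3173 := d18_2 (iv F4545) D5057 (iv D3173)
def n5061 : Q := act 5 n2586
theorem D5061 : act 5 n2586 = n5061 := rfl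
theorem F8993 : act 4 n5061 = n2587 := d18_1 D5061 (iv D2587) D2586
def n5063 : Q := act 3 n2589
theorem D5063 : act 3 n2589 = n5063 := rfl
theorem F8998 : act 0 n5063 = n4753 := d2_1 D5063 (iv D4753) (iv F4552)
def n5065 : Q := act 3 n2590
theorem D5065 : act 3 n2590 = n5065 := rfl
def n5068 : Q := act 0 n2593
theorem D5068 : act 0 n2593 = n5068 := rfl
theorem F9010 : act 1 n5068 = n4609 := d0_2 D2593 D5068 F8309 (iv F8340) F8374 (iv D4646) F4261
theorem F9011 : act 2 n5068 = n2607 := d1_2 (iv F4567) D5068 (iv D2607)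
theorem F9012 : act 4 n4607 = n5068 := d22_9 (iv D5068) (iv D2593) (iv D1274) (iv F2186) F2187 D1192 (iv F2346) D2628 (iv F8307)
def n5069 : Q := act 3 n2593
theorem D5069 : act 3 n2593 = n5069 := rfl
theorem F9013 : act 1 n5069 = n2594 := d7_1 D5069 (iv D2594) D2593
def n5070 : Q := act 4 n2593
theorem D5070 : act 4 n2593 = n5070 := rfl
theorem F9014 : act 0 n5070 = n4607 := d3_1 D5070 F9012 (iv D5068)
theorem F9015 : act 1 n5070 = n2595 := d8_1 D5070 (iv D2595) D2593
theorem F9016 : act 2 n5070 = n2608 := d12_1 D5070 (iv D2608) (iv F4567)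
def n5071 : Q := act 5 n2593
theorem D5071 : act 5 n2593 = n5071 := rfl
theorem F9017 : act 1 n5071 = n2596 := d9_1 D5071 (iv D2596) D2593
theorem F9018 : act 2 n5071 = n2609 := d13_1 D5071 (iv D2609) (iv F4567)
def n5072 : Q := act 6 n2593
theorem D5072 : act 6 n2593 = n5072 := rfl
theorem F9019 : act 1 n5072 = n2597 := d10_1 D5072 (iv D2597) D2593
theorem F9020 : act 2 n5072 = n2610 := d14_1 D5072 (iv D2610) (iv F4567)
def n5073 : Q := act 2 n2594
theorem D5073 : act 2 n2594 = n5073 := rfl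
def n5074 : Q := act 4 n2594
theorem D5074 : act 4 n2594 = n5074 := rfl
def n5075 : Q := act 5 n2594
theorem D5075 : act 5 n2594 = n5075 := rfl
def n5076 : Q := act 6 n2594
theorem D5076 : act 6 n2594 = n5076 := rfl
def n5077 : Q := act 3 n2595
theorem D5077 : act 3 n2595 = n5077 := rfl
def n5078 : Q := act 5 n2595
theorem D5078 : act 5 n2595 = n5078 := rfl
theorem F9021 : act 2 n5078 = n2598 := d13_1 D5078 (iv D2598) (iv F4568)
theorem F9022 : act 4 n5078 = n2596 := d18_1 D5078 (iv D2596) D2595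
def n5079 : Q := act 6 n2595
theorem D5079 : act 6 n2595 = n5079 := rfl
theorem F9023 : act 2 n5079 = n2599 := d14_1 D5079 (iv D2599) (iv F4568)
theorem F9024 : act 4 n5079 = n2597 := d19_1 D5079 (iv D2597) D2595
def n5080 : Q := act 3 n2596
theorem D5080 : act 3 n2596 = n5080 := rfl
def n5081 : Q := act 6 n2596
theorem D5081 : act 6 n2596 = n5081 := rfl
theorem F9025 : act 2 n5081 = n2600 := d14_1 D5081 (iv D2600) (iv F4569)
theorem F9026 : act 5 n5081 = n5079 := d21_2 D2596 D5081 (iv D5079) (iv D2595)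
def n5082 : Q := act 3 n2597
theorem D5082 : act 3 n2597 = n5082 := rfl
def n5083 : Q := act 5 n2597
theorem D5083 : act 5 n2597 = n5083 := rfl
theorem F9027 : act 2 n5083 = n2602 := d13_1 D5083 (iv D2602) (iv F4570)
theorem F9028 : act 4 n5083 = n5081 := d18_1 D5083 F9026 F9024
theorem F9029 : act 6 n5083 = n5078 := d20_2 D2597 D5083 (iv D5078) D5079 (iv F9026) (iv D5081) (iv D2596)
def n5084 : Q := act 3 n2598
theorem D5084 : act 3 n2598 = n5084 := rfl
theorem F9030 : act 1 n5084 = n2621 := d7_1 D5084 (iv D2621) (iv F4571)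
def n5085 : Q := act 3 n2599
theorem D5085 : act 3 n2599 = n5085 := rfl
theorem F9031 : act 1 n5085 = n2622 := d7_1 D5085 (iv D2622) (iv F4573)
def n5086 : Q := act 3 n2600
theorem D5086 : act 3 n2600 = n5086 := rfl
def n5088 : Q := act 4 n2601
theorem D5088 : act 4 n2601 = n5088 := rfl
theorem F9036 : act 5 n5088 = n3133 := d21_0 F5421 (iv D2605) (iv F4578) D5088
def n5089 : Q := act 5 n2601
theorem D5089 : act 5 n2601 = n5089 := rfl
theorem F9038 : act 4 n5089 = n3133 := d18_1 D5089 (iv F9036) (iv D5088)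
def n5090 : Q := act 3 n2602
theorem D5090 : act 3 n2602 = n5090 := rfl
theorem F9039 : act 1 n5090 = n2627 := d7_1 D5090 (iv D2627) (iv F4579)
def n5091 : Q := act 1 n2603
theorem D5091 : act 1 n2603 = n5091 := rfl
theorem F9040 : act 2 n5091 = n2638 := d6_2 D2603 D5091 (iv D2638) (iv D1294) (iv F2321)
def n5094 : Q := act 5 n2603
theorem D5094 : act 5 n2603 = n5094 := rfl
theorem F9042 : act 2 n5094 = n2605 := d13_1 D5094 (iv D2605) D2603
def n5099 : Q := act 6 n2606
theorem D5099 : act 6 n2606 = n5099 := rfl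
theorem F9054 : act 1 n5099 = n2645 := d10_1 D5099 (iv D2645) (iv F4585)
theorem F9055 : act 3 n5099 = n2727 := d17_1 D5099 (iv D2727) (iv D1335) (iv F2325) D2606
def n5100 : Q := act 5 n2607
theorem D5100 : act 5 n2607 = n5100 := rfl
theorem F9056 : act 0 n5100 = n2609 := d4_1 D5100 (iv D2609) D2607
def n5101 : Q := act 6 n2607
theorem D5101 : act 6 n2607 = n5101 := rfl
theorem F9057 : act 0 n5101 = n2610 := d5_1 D5101 (iv D2610) D2607
def n5102 : Q := act 3 n2608
theorem D5102 : act 3 n2608 = n5102 := rfl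
theorem F9058 : act 1 n5102 = n2611 := d7_1 D5102 (iv D2611) (iv F4587)
theorem F9059 : act 4 n5102 = n4668 := d15_2 D2608 D5102 (iv D4668) (iv D2390) (iv F2326)
def n5103 : Q := act 5 n2608
theorem D5103 : act 5 n2608 = n5103 := rfl
theorem F9060 : act 1 n5103 = n2612 := d9_1 D5103 (iv D2612) (iv F4587)
theorem F9061 : act 4 n5103 = n2609 := d18_1 D5103 (iv D2609) D2608
def n5104 : Q := act 6 n2608
theorem D5104 : act 6 n2608 = n5104 := rfl
theorem F9062 : act 1 n5104 = n2613 := d10_1 D5104 (iv D2613) (iv F4587)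
theorem F9063 : act 4 n5104 = n2610 := d19_1 D5104 (iv D2610) D2608
def n5105 : Q := act 3 n2609
theorem D5105 : act 3 n2609 = n5105 := rfl
theorem F9064 : act 1 n5105 = n2614 := d7_1 D5105 (iv D2614) (iv F4588)
theorem F9065 : act 5 n5105 = n4671 := d16_2 D2609 D5105 (iv D4671) (iv D2391) (iv F2326)
def n5106 : Q := act 6 n2609
theorem D5106 : act 6 n2609 = n5106 := rfl
theorem F9066 : act 1 n5106 = n2615 := d10_1 D5106 (iv D2615) (iv F4588)
theorem F9067 : act 5 n5106 = n5104 := d21_2 D2609 D5106 (iv D5104) (iv D2608)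
def n5107 : Q := act 3 n2610
theorem D5107 : act 3 n2610 = n5107 := rfl
theorem F9068 : act 1 n5107 = n2616 := d7_1 D5107 (iv D2616) (iv F4589)
def n5108 : Q := act 5 n2610
theorem D5108 : act 5 n2610 = n5108 := rfl
theorem F9070 : act 1 n5108 = n2617 := d9_1 D5108 (iv D2617) (iv F4589)
theorem F9071 : act 4 n5108 = n5106 := d18_1 D5108 F9067 F9063
theorem F9072 : act 6 n5108 = n5103 := d20_2 D2610 D5108 (iv D5103) D5104 (iv F9067) (iv D5106) (iv D2609)
def n5109 : Q := act 6 n2611
theorem D5109 : act 6 n2611 = n5109 := rfl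
theorem F9073 : act 0 n5109 = n4676 := d5_1 D5109 (iv D4676) (iv F4590)
theorem F9076 : act 5 n5109 = n4709 := d21_2 F8497 D5109 (iv D4709) (iv F4638)
def n5110 : Q := act 3 n2613
theorem D5110 : act 3 n2613 = n5110 := rfl
def n5111 : Q := act 2 n2614
theorem D5111 : act 2 n2614 = n5111 := rfl
def n5112 : Q := act 4 n2614
theorem D5112 : act 4 n2614 = n5112 := rfl
theorem F9080 : act 0 n5112 = n4680 := d3_1 D5112 (iv D4680) (iv F4598)
theorem F9081 : act 5 n5112 = n4680 := d18_2 (iv F4599) D5112 (iv D4680)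
def n5113 : Q := act 6 n2614
theorem D5113 : act 6 n2614 = n5113 := rfl
theorem F9082 : act 0 n5113 = n4681 := d5_1 D5113 (iv D4681) (iv F4598)
def n5114 : Q := act 3 n2615
theorem D5114 : act 3 n2615 = n5114 := rfl
def n5115 : Q := act 2 n2616
theorem D5115 : act 2 n2616 = n5115 := rfl
def n5116 : Q := act 4 n2616
theorem D5116 : act 4 n2616 = n5116 := rfl
def n5119 : Q := act 5 n2618
theorem D5119 : act 5 n2618 = n5119 := rfl
theorem F9091 : act 1 n5119 = n5100 := d9_1 D5119 (iv D5100) F4611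
theorem F9093 : act 3 n5119 = n5112 := d16_1 D5119 F9081 F8495 (iv D4687) (iv F4612)
def n5121 : Q := act 3 n2619
theorem D5121 : act 3 n2619 = n5121 := rfl
theorem F9100 : act 5 n5121 = n2621 := d16_2 D2619 D5121 (iv D2621) (iv D1285) D1284
def n5122 : Q := act 3 n2620
theorem D5122 : act 3 n2620 = n5122 := rfl
theorem F9101 : act 0 n5122 = n4690 := d2_1 D5122 (iv D4690) (iv F4617)
theorem F9102 : act 6 n5122 = n2622 := d17_2 D2620 D5122 (iv D2622) (iv D1286) D1284
def n5123 : Q := act 2 n2621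
theorem D5123 : act 2 n2621 = n5123 := rfl
theorem F9103 : act 0 n5123 = n4691 := d1_1 D5123 (iv D4691) (iv F4619)
def n5124 : Q := act 6 n2621
theorem D5124 : act 6 n2621 = n5124 := rfl
theorem F9104 : act 0 n5124 = n4692 := d5_1 D5124 (iv D4692) (iv F4619)
def n5125 : Q := act 2 n2622
theorem D5125 : act 2 n2622 = n5125 := rfl
theorem F9105 : act 0 n5125 = n4693 := d1_1 D5125 (iv D4693) (iv F4620)
def n5126 : Q := act 4 n2622
theorem D5126 : act 4 n2622 = n5126 := rfl
theorem F9107 : act 3 n5126 = n2625 := d15_1 D5126 (iv D2625) (iv D1288) (iv F2338) D2622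
def n5127 : Q := act 5 n2622
theorem D5127 : act 5 n2622 = n5127 := rfl
theorem F9108 : act 0 n5127 = n4695 := d4_1 D5127 (iv D4695) (iv F4620)
def n5128 : Q := act 2 n2623
theorem D5128 : act 2 n2623 = n5128 := rfl
theorem F9109 : act 0 n5128 = n4696 := d1_1 D5128 (iv D4696) (iv F4621)
def n5129 : Q := act 4 n2623
theorem D5129 : act 4 n2623 = n5129 := rfl
theorem F9110 : act 0 n5129 = n4697 := d3_1 D5129 (iv D4697) (iv F4621)
def n5130 : Q := act 5 n2623
theorem D5130 : act 5 n2623 = n5130 := rfl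
theorem F9111 : act 0 n5130 = n4698 := d4_1 D5130 (iv D4698) (iv F4621)
theorem F9112 : act 3 n5130 = n5127 := d16_1 D5130 (iv D5127) (iv D2622) (iv F2340) D2623
def n5131 : Q := act 1 n2624
theorem D5131 : act 1 n2624 = n5131 := rfl
theorem F9113 : act 4 n5131 = n3095 := d8_2 (iv F4625) D5131 F5377
theorem F9114 : act 5 n5131 = n3103 := d9_2 F4624 D5131 F5392
theorem F9115 : act 6 n5131 = n2638 := d10_2 (iv F4623) D5131 (iv D2638)
def n5132 : Q := act 3 n2624
theorem D5132 : act 3 n2624 = n5132 := rfl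
theorem F9117 : act 4 n5132 = n3119 := d15_2 (iv F4625) D5132 (iv D3119) F2669 D1525
def n5133 : Q := act 3 n2626
theorem D5133 : act 3 n2626 = n5133 := rfl
theorem F9119 : act 5 n5133 = n2627 := d16_2 D2626 D5133 (iv D2627) (iv D1289) D1288
def n5134 : Q := act 2 n2627
theorem D5134 : act 2 n2627 = n5134 := rfl
theorem F9120 : act 0 n5134 = n4702 := d1_1 D5134 (iv D4702) (iv F4633)
def n5135 : Q := act 4 n2627
theorem D5135 : act 4 n2627 = n5135 := rfl
theorem F9121 : act 0 n5135 = n4703 := d3_1 D5135 (iv D4703) (iv F4633)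
theorem F9122 : act 3 n5135 = n5129 := d15_1 D5135 (iv D5129) (iv D2623) (iv F2344) D2627
def n5136 : Q := act 6 n2627
theorem D5136 : act 6 n2627 = n5136 := rfl
theorem F9123 : act 0 n5136 = n4704 := d5_1 D5136 (iv D4704) (iv F4633)
theorem F9124 : act 3 n5136 = n5124 := d17_1 D5136 (iv D5124) (iv D2621) (iv F2345) D2627
def n5137 : Q := act 3 n2628
theorem D5137 : act 3 n2628 = n5137 := rfl
theorem F9125 : act 0 n5137 = n5102 := d2_1 D5137 (iv D5102) (iv F4634)
theorem F9126 : act 1 n5137 = n2629 := d7_1 D5137 (iv D2629) D2628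
theorem F9127 : act 4 n5137 = n4705 := d15_2 (iv F4635) D5137 (iv D4705) F4290 (iv F4586)
theorem F9128 : act 5 n5102 = n5137 := d18_0 F9127 F8498 (iv F9059)
def n5138 : Q := act 5 n2628
theorem D5138 : act 5 n2628 = n5138 := rfl
theorem F9129 : act 0 n5138 = n5103 := d4_1 D5138 (iv D5103) (iv F4634)
theorem F9131 : act 3 n5138 = n5103 := d16_1 D5138 (iv D5103) D5102 F9128 (iv D5137)
theorem F9132 : act 4 n5138 = n5100 := d18_1 D5138 (iv D5100) (iv F4635)
def n5139 : Q := act 6 n2628
theorem D5139 : act 6 n2628 = n5139 := rfl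
theorem F9133 : act 0 n5139 = n5104 := d5_1 D5139 (iv D5104) (iv F4634)
theorem F9134 : act 1 n5139 = n2631 := d10_1 D5139 (iv D2631) D2628
def n5140 : Q := act 6 n2629
theorem D5140 : act 6 n2629 = n5140 := rfl
theorem F9137 : act 2 n5140 = n5140 := d14_1 D5140 (iv D5140) F4637
theorem F9138 : act 4 n5140 = n4709 := d19_1 D5140 (iv D4709) (iv F4638)
theorem F9139 : act 5 n5140 = n4676 := d20_1 D5140 (iv D4676) F8496 D4709 (iv F9076) (iv D5109) (iv F8497)
def n5142 : Q := act 3 n2631
theorem D5142 : act 3 n2631 = n5142 := rfl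
theorem F9143 : act 0 n5142 = n4712 := d2_1 D5142 (iv D4712) (iv F4641)
def n5144 : Q := act 3 n2632
theorem D5144 : act 3 n2632 = n5144 := rfl
def n5146 : Q := act 3 n2634
theorem D5146 : act 3 n2634 = n5146 := rfl
theorem F9151 : act 0 n5146 = n4718 := d2_1 D5146 (iv D4718) (iv F4647)
def n5147 : Q := act 1 n2635
theorem D5147 : act 1 n2635 = n5147 := rfl
def n5149 : Q := act 4 n2635
theorem D5149 : act 4 n2635 = n5149 := rfl
theorem F9153 : act 0 n5149 = n4721 := d3_1 D5149 (iv D4721) (iv F4650)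
theorem F9155 : act 5 n5149 = n3136 := d21_0 F5425 D3139 (iv F5428) D5149
def n5150 : Q := act 5 n2635
theorem D5150 : act 5 n2635 = n5150 := rfl
theorem F9159 : act 6 n5150 = n3138 := d21_3 D3139 (iv F5428) D5150 (iv D3138)
def n5153 : Q := act 0 n2638
theorem D5153 : act 0 n2638 = n5153 := rfl
theorem F9168 : act 1 n5153 = n5149 := d0_2 D2638 D5153 F9153 (iv F8474) (iv D4725) (iv D2420) (iv F2350)
theorem F9169 : act 4 n5147 = n5153 := d8_0 F9168 (iv D5149) D5147
def n5155 : Q := act 4 n2638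
theorem D5155 : act 4 n2638 = n5155 := rfl
theorem F9171 : act 0 n5155 = n5147 := d3_1 D5155 F9169 (iv D5153)
theorem F9173 : act 6 n5155 = n3095 := d19_2 F9115 D5155 (iv F9113)
def n5156 : Q := act 4 n2639
theorem D5156 : act 4 n2639 = n5156 := rfl
theorem F9174 : act 0 n5156 = n4730 := d3_1 D5156 (iv D4730) (iv F4655)
def n5158 : Q := act 6 n2639
theorem D5158 : act 6 n2639 = n5158 := rfl
theorem F9177 : act 0 n5158 = n4732 := d5_1 D5158 (iv D4732) (iv F4655)
def n5160 : Q := act 3 n2641
theorem D5160 : act 3 n2641 = n5160 := rfl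
theorem F9180 : act 0 n5160 = n4736 := d2_1 D5160 (iv D4736) (iv F4659)
def n5161 : Q := act 2 n2642
theorem D5161 : act 2 n2642 = n5161 := rfl
theorem F9182 : act 5 n5161 = n2643 := d13_2 (iv F4663) D5161 (iv D2643)
theorem F9183 : act 4 n2701 = n5161 := d21_4 F9182 F4780 (iv D2704) (iv F4772)
def n5162 : Q := act 4 n2642
theorem D5162 : act 4 n2642 = n5162 := rfl
theorem F9186 : act 2 n5162 = n2701 := d12_1 D5162 F9183 (iv D5161)
theorem F9188 : act 6 n2702 = n5162 := d21_3 F4663 D2645 F4774 (iv D5162)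
theorem F9189 : act 3 n2758 = n3004 := d24_6 (iv F9188) (iv F4774) F4668 (iv F4862) (iv D2759) D2758 F5259 (iv F2616) (iv D1476) D1475 (iv F4735) (iv F4737) (iv F2619) D2701 (iv F9186)
theorem F9190 : act 5 n3003 = n2757 := d16_4 D2758 F9189 (iv D3004) D3003 (iv D2757)
theorem E47 : n4691 = n3013 := ((c23_4 (iv F4861) F9189 F5259 D3013 (iv D4691) (iv D2403) (iv F4275) (iv F8492) F4293 (iv F4136) F4135)).symm
theorem F9191 : act 0 n3013 = n5123 := (sb E47 (iv F9103))
theorem F9192 : act 2 n3013 = n2403 := (sb E47 (iv D4691))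
theorem F9193 : act 3 n5123 = n2906 := d23_9 (iv F5259) (iv F9189) F4861 F2429 (iv F4640) (iv F8493) F4593 D2621 D5123 F5065
theorem F9194 : act 2 n4498 = n3247 := d12_3 F5575 F9192 (iv F8108)
def n5181 : Q := act 0 n2652
theorem D5181 : act 0 n2652 = n5181 := rfl
theorem F9219 : act 1 n5181 = n4854 := d0_2 D2652 D5181 F8661 (iv F8692) F8726 (iv D4891) F4422
theorem F9220 : act 2 n5181 = n2666 := d1_2 (iv F4676) D5181 (iv D2666)
theorem F9221 : act 4 n4852 = n5181 := d22_9 (iv D5181) (iv D2652) (iv D1302) (iv F2251) F2252 D1244 (iv F2389) D2687 (iv F8659)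
def n5182 : Q := act 3 n2652
theorem D5182 : act 3 n2652 = n5182 := rfl
theorem F9222 : act 1 n5182 = n2653 := d7_1 D5182 (iv D2653) D2652
def n5183 : Q := act 4 n2652
theorem D5183 : act 4 n2652 = n5183 := rfl
theorem F9224 : act 1 n5183 = n2654 := d8_1 D5183 (iv D2654) D2652
theorem F9225 : act 2 n5183 = n2667 := d12_1 D5183 (iv D2667) (iv F4676)
def n5190 : Q := act 3 n2654
theorem D5190 : act 3 n2654 = n5190 := rfl
def n5191 : Q := act 5 n2654
theorem D5191 : act 5 n2654 = n5191 := rfl
theorem F9231 : act 4 n5191 = n2655 := d18_1 D5191 (iv D2655) D2654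
def n5192 : Q := act 6 n2654
theorem D5192 : act 6 n2654 = n5192 := rfl
theorem F9233 : act 4 n5192 = n2656 := d19_1 D5192 (iv D2656) D2654
def n5213 : Q := act 5 n2666
theorem D5213 : act 5 n2666 = n5213 := rfl
def n5214 : Q := act 6 n2666
theorem D5214 : act 6 n2666 = n5214 := rfl
def n5215 : Q := act 3 n2667
theorem D5215 : act 3 n2667 = n5215 := rfl
theorem F9269 : act 1 n5215 = n2670 := d7_1 D5215 (iv D2670) (iv F4696)
theorem F9270 : act 4 n5215 = n4913 := d15_2 D2667 D5215 (iv D4913) (iv D2508) (iv F2369)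
def n5216 : Q := act 5 n2667
theorem D5216 : act 5 n2667 = n5216 := rfl
theorem F9272 : act 4 n5216 = n2668 := d18_1 D5216 (iv D2668) D2667
def n5217 : Q := act 6 n2667
theorem D5217 : act 6 n2667 = n5217 := rfl
theorem F9274 : act 4 n5217 = n2669 := d19_1 D5217 (iv D2669) D2667
def n5218 : Q := act 3 n2668
theorem D5218 : act 3 n2668 = n5218 := rfl
theorem F9276 : act 5 n5218 = n4916 := d16_2 D2668 D5218 (iv D4916) (iv D2509) (iv F2369)
def n5220 : Q := act 3 n2669
theorem D5220 : act 3 n2669 = n5220 := rfl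
theorem F9280 : act 6 n5220 = n4918 := d17_2 D2669 D5220 (iv D4918) (iv D2510) (iv F2369)
def n5223 : Q := act 3 n2671
theorem D5223 : act 3 n2671 = n5223 := rfl
def n5227 : Q := act 3 n2674
theorem D5227 : act 3 n2674 = n5227 := rfl
theorem F9294 : act 0 n5227 = n4925 := d2_1 D5227 (iv D4925) (iv F4709)
def n5230 : Q := act 5 n2675
theorem D5230 : act 5 n2675 = n5230 := rfl
def n5234 : Q := act 3 n2678
theorem D5234 : act 3 n2678 = n5234 := rfl
theorem F9311 : act 5 n5234 = n2680 := d16_2 D2678 D5234 (iv D2680) (iv D1313) D1312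
def n5235 : Q := act 3 n2679
theorem D5235 : act 3 n2679 = n5235 := rfl
theorem F9313 : act 6 n5235 = n2681 := d17_2 D2679 D5235 (iv D2681) (iv D1314) D1312
def n5236 : Q := act 2 n2680
theorem D5236 : act 2 n2680 = n5236 := rfl
def n5239 : Q := act 2 n2681
theorem D5239 : act 2 n2681 = n5239 := rfl
theorem F9319 : act 3 n5239 = n2950 := d23_9 (iv F5400) F5404 F4990 F2471 (iv F4751) (iv F5288) F4705 D2681 D5239 F5162
def n5250 : Q := act 3 n2687
theorem D5250 : act 3 n2687 = n5250 := rfl
theorem F9337 : act 0 n5250 = n5215 := d2_1 D5250 (iv D5215) (iv F4743)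
theorem F9338 : act 1 n5250 = n2688 := d7_1 D5250 (iv D2688) D2687
theorem F9339 : act 4 n5250 = n4947 := d15_2 (iv F4744) D5250 (iv D4947) F4451 (iv F4695)
theorem F9340 : act 6 n5215 = n5250 := d19_0 F9339 (iv F8801) (iv F9270)
def n5251 : Q := act 5 n2687
theorem D5251 : act 5 n2687 = n5251 := rfl
theorem F9342 : act 1 n5251 = n2689 := d9_1 D5251 (iv D2689) D2687
theorem F9343 : act 4 n5251 = n5213 := d18_1 D5251 (iv D5213) (iv F4744)
def n5252 : Q := act 6 n2687
theorem D5252 : act 6 n2687 = n5252 := rfl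
theorem F9345 : act 1 n5252 = n2690 := d10_1 D5252 (iv D2690) D2687
theorem F9347 : act 4 n5252 = n5214 := d19_1 D5252 (iv D5214) (iv F4744)
def n5260 : Q := act 1 n2694
theorem D5260 : act 1 n2694 = n5260 := rfl
def n5262 : Q := act 4 n2694
theorem D5262 : act 4 n2694 = n5262 := rfl
theorem F9365 : act 0 n5262 = n4961 := d3_1 D5262 (iv D4961) (iv F4759)
theorem F9367 : act 6 n3030 = n5262 := d21_3 F5292 (iv D3033) (iv F5283) (iv D5262)
def n5263 : Q := act 6 n2694
theorem D5263 : act 6 n2694 = n5263 := rfl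
theorem F9369 : act 2 n5263 = n2696 := d14_1 D5263 (iv D2696) D2694
theorem F9372 : act 3 n3256 = n4489 := d24_6 (iv D5263) F5292 F5287 (iv F5580) (iv D3257) D3256 F8084 (iv F4133) (iv D2309) D2308 (iv F4980) (iv F4982) (iv F4143) (iv F4763) (iv F9369)
theorem F9373 : act 5 n4488 = n3255 := d16_4 D3256 F9372 (iv D4489) D4488 (iv D3255)
theorem F9374 : act 4 n3255 = n2757 := d18_1 F9373 (iv F9190) (iv F8082)
theorem F9375 : act 3 n2746 = n3244 := d15_3 F9374 (iv D2757) (iv F4845) F5572 D3255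
theorem F9376 : act 2 n3237 = n4488 := d23_6 D2746 F9375 (iv D3244) (iv D1580) (iv F2728) D3237 (iv D4488) F4116 D2304 F4121
def n5266 : Q := act 0 n2697
theorem D5266 : act 0 n2697 = n5266 := rfl
theorem F9385 : act 1 n5266 = n5262 := d0_2 D2697 D5266 F9365 (iv F8828) (iv D4965) (iv D2538) (iv F2393)
theorem F9386 : act 4 n5260 = n5266 := d8_0 F9385 (iv D5262) D5260
def n5271 : Q := act 6 n2698
theorem D5271 : act 6 n2698 = n5271 := rfl
theorem F9394 : act 3 n5271 = n5262 := d17_1 D5271 (iv F9367) (iv D3030) (iv F2617) D2698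
def n5274 : Q := act 1 n2702
theorem D5274 : act 1 n2702 = n5274 := rfl
theorem F9398 : act 5 n5274 = n5099 := d9_2 F4774 D5274 F9054
def n5278 : Q := act 6 n2705
theorem D5278 : act 6 n2705 = n5278 := rfl
theorem F9405 : act 1 n5278 = n2707 := d10_1 D5278 (iv D2707) D2705
def n5283 : Q := act 3 n2707
theorem D5283 : act 3 n2707 = n5283 := rfl
def n5284 : Q := act 2 n2708
theorem D5284 : act 2 n2708 = n5284 := rfl
theorem F9412 : act 0 n5284 = n5010 := d1_1 D5284 (iv D5010) (iv F4785)
def n5293 : Q := act 6 n2710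
theorem D5293 : act 6 n2710 = n5293 := rfl
theorem F9428 : act 0 n5293 = n2718 := d5_1 D5293 (iv D2718) (iv F4790)
theorem F9429 : act 2 n5293 = n2713 := d14_1 D5293 (iv D2713) D2710
def n5294 : Q := act 5 n2711
theorem D5294 : act 5 n2711 = n5294 := rfl
theorem F9430 : act 0 n5294 = n2720 := d4_1 D5294 (iv D2720) (iv F4791)
def n5296 : Q := act 6 n2712
theorem D5296 : act 6 n2712 = n5296 := rfl
def n5302 : Q := act 6 n2714
theorem D5302 : act 6 n2714 = n5302 := rfl
theorem F9449 : act 1 n5302 = n2718 := d10_1 D5302 (iv D2718) D2714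
def n5307 : Q := act 5 n2716
theorem D5307 : act 5 n2716 = n5307 := rfl
theorem F9454 : act 2 n5307 = n2720 := d13_1 D5307 (iv D2720) (iv F4801)
theorem F9455 : act 4 n5307 = n2717 := d18_1 D5307 (iv D2717) D2716
def n5308 : Q := act 6 n2716
theorem D5308 : act 6 n2716 = n5308 := rfl
theorem F9457 : act 4 n5308 = n2718 := d19_1 D5308 (iv D2718) D2716
def n5311 : Q := act 3 n2718
theorem D5311 : act 3 n2718 = n5311 := rfl
def n5312 : Q := act 5 n2718
theorem D5312 : act 5 n2718 = n5312 := rfl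
def n5313 : Q := act 2 n2719
theorem D5313 : act 2 n2719 = n5313 := rfl
theorem F9465 : act 4 n5313 = n2725 := d12_2 (iv F4806) D5313 (iv D2725)
def n5314 : Q := act 5 n2719
theorem D5314 : act 5 n2719 = n5314 := rfl
theorem F9466 : act 0 n5314 = n4476 := d4_1 D5314 (iv D4476) (iv F4804)
theorem F9468 : act 4 n5314 = n2726 := d18_1 D5314 (iv D2726) (iv F4806)
def n5315 : Q := act 6 n2719
theorem D5315 : act 6 n2719 = n5315 := rfl
theorem F9470 : act 1 n5315 = n2748 := d10_1 D5315 (iv D2748) (iv F4805)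
theorem F9471 : act 4 n5315 = n2727 := d19_1 D5315 (iv D2727) (iv F4806)
def n5316 : Q := act 3 n2720
theorem D5316 : act 3 n2720 = n5316 := rfl
theorem F9472 : act 1 n5316 = n2749 := d7_1 D5316 (iv D2749) (iv F4807)
theorem F9473 : act 4 n5316 = n5084 := d15_2 (iv F4808) D5316 (iv D5084) F4572 (iv F2412)
def n5320 : Q := act 4 n2723
theorem D5320 : act 4 n2723 = n5320 := rfl
theorem F9479 : act 6 n5320 = n2729 := d19_2 (iv F4814) D5320 (iv D2729)
theorem F9480 : act 5 n5320 = n4576 := d21_0 F8253 (iv D2730) (iv F4814) D5320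
def n5321 : Q := act 5 n2723
theorem D5321 : act 5 n2723 = n5321 := rfl
theorem F9483 : act 4 n5321 = n4576 := d18_1 D5321 (iv F9480) (iv D5320)
def n5325 : Q := act 5 n2725
theorem D5325 : act 5 n2725 = n5325 := rfl
theorem F9490 : act 2 n5325 = n2726 := d13_1 D5325 (iv D2726) D2725
def n5326 : Q := act 6 n2725
theorem D5326 : act 6 n2725 = n5326 := rfl
theorem F9492 : act 2 n5326 = n2727 := d14_1 D5326 (iv D2727) D2725
def n5327 : Q := act 6 n2726
theorem D5327 : act 6 n2726 = n5327 := rfl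
def n5328 : Q := act 5 n2727
theorem D5328 : act 5 n2727 = n5328 := rfl
def n5333 : Q := act 5 n2729
theorem D5333 : act 5 n2729 = n5333 := rfl
theorem F9505 : act 6 n5333 = n5321 := d20_2 F9479 D5333 (iv D5321) F4814 D2730 (iv F8253) (iv F9480)
def n5334 : Q := act 3 n2731
theorem D5334 : act 3 n2731 = n5334 := rfl
theorem F9507 : act 1 n5334 = n3244 := d7_1 D5334 (iv F9375) (iv F4846)
theorem F9508 : act 4 n3254 = n5334 := d8_0 F9507 F5572 D3254
def n5337 : Q := act 2 n2732
theorem D5337 : act 2 n2732 = n5337 := rfl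
theorem F9511 : act 1 n5337 = n2898 := d6_1 D5337 (iv D2898) F2495 (iv F2418) (iv F4826)
def n5340 : Q := act 6 n2732
theorem D5340 : act 6 n2732 = n5340 := rfl
theorem F9515 : act 1 n5340 = n2738 := d10_1 D5340 (iv D2738) (iv F4826)
def n5348 : Q := act 3 n2736
theorem D5348 : act 3 n2736 = n5348 := rfl
theorem F9528 : act 0 n5348 = n3003 := d2_1 D5348 (iv D3003) (iv F4830)
theorem F9529 : act 4 n5348 = n2739 := d15_2 D2736 D5348 (iv D2739) (iv D1339) D1338
theorem F9530 : act 5 n4503 = n5348 := d4_0 F9528 F9190 (iv F8115)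
def n5349 : Q := act 5 n2736
theorem D5349 : act 5 n2736 = n5349 := rfl
theorem F9533 : act 3 n5349 = n4504 := d16_1 D5349 (iv D4504) D4503 F9530 (iv D5348)
def n5350 : Q := act 6 n2736
theorem D5350 : act 6 n2736 = n5350 := rfl
def n5352 : Q := act 6 n2737
theorem D5352 : act 6 n2737 = n5352 := rfl
theorem F9542 : act 5 n5352 = n5350 := d21_2 D2737 D5352 (iv D5350) (iv D2736)
def n5353 : Q := act 3 n2738
theorem D5353 : act 3 n2738 = n5353 := rfl
theorem F9543 : act 0 n5353 = n3008 := d2_1 D5353 (iv D3008) (iv F4834)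
def n5354 : Q := act 5 n2738
theorem D5354 : act 5 n2738 = n5354 := rfl
theorem F9546 : act 2 n5354 = n2910 := d13_1 D5354 (iv D2910) (iv F4835)
theorem F9548 : act 6 n5354 = n5349 := d20_2 D2738 D5354 (iv D5349) D5350 (iv F9542) (iv D5352) (iv D2737)
def n5355 : Q := act 2 n2739
theorem D5355 : act 2 n2739 = n5355 := rfl
theorem F9549 : act 0 n5355 = n3237 := d1_1 D5355 F9376 F8081
theorem F9550 : act 3 n5355 = n3180 := d23_7 D3244 (iv F9375) (iv D2746) (iv D1342) (iv F2419) D2739 D5355 F5473 D3183 F5478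
theorem F9551 : act 4 n3373 = n5355 := d15_0 F9550 (iv D3180) F2703 D1638 D3373
theorem F9552 : act 2 n5348 = n3373 := d12_3 F9551 (iv D5355) (iv F9529)
theorem F9553 : act 5 n3373 = n3391 := d13_2 F9530 F9552 (iv F8116)
theorem F9554 : act 3 n3380 = n3010 := d23_5 F9552 (iv D3373) F2789 D1641 D3380 (iv D3010) (iv D1471) (iv F2607) D3003 (iv F9528)
theorem F9555 : act 4 n3018 = n3391 := d15_4 (iv F5759) F9554 F5268 D3018 (iv D3391)
theorem F9556 : act 5 n5355 = n3018 := d18_0 F9555 (iv F9553) F9551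
theorem F9557 : act 3 n3392 = n3374 := d16_3 F9553 (iv D3391) D3392 (iv D3374) D3373
theorem F9558 : act 2 n3383 = n3383 := d23_4 (iv F5776) F9557 F5750 D3383 (iv D3383) (iv F5750) (iv F9557) F5776 (iv F5675) F5674
def n5356 : Q := act 5 n2739
theorem D5356 : act 5 n2739 = n5356 := rfl
theorem F9560 : act 2 n5356 = n3018 := d13_1 D5356 (iv F9556) (iv D5355)
theorem F9561 : act 4 n5356 = n4503 := d18_1 D5356 F9530 F9529
theorem F9562 : act 3 n3189 = n5356 := d23_1 D3189 F9560 (iv D3018) (iv D1477) (iv D704) F639 (iv F352) (iv F679) D756 (iv F2708)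
def n5358 : Q := act 3 n2740
theorem D5358 : act 3 n2740 = n5358 := rfl
theorem F9564 : act 5 n5358 = n3189 := d16_2 D2740 D5358 F9562 (iv D5356) (iv D2739)
theorem F9565 : act 2 n3190 = n5358 := d13_3 F9564 (iv D3189) D3190
def n5369 : Q := act 6 n2746
theorem D5369 : act 6 n2746 = n5369 := rfl
theorem F9570 : act 2 n5369 = n2748 := d14_1 D5369 (iv D2748) D2746
def n5370 : Q := act 3 n2747
theorem D5370 : act 3 n2747 = n5370 := rfl
theorem F9572 : act 4 n5370 = n5121 := d15_2 (iv F4847) D5370 (iv D5121) F4616 (iv F2429)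
def n5371 : Q := act 3 n2748
theorem D5371 : act 3 n2748 = n5371 := rfl
def n5372 : Q := act 2 n2749
theorem D5372 : act 2 n2749 = n5372 := rfl
theorem F9575 : act 0 n5372 = n3247 := d1_1 D5372 (iv F9194) F8107
theorem F9576 : act 4 n5372 = n5123 := d12_2 (iv F4849) D5372 (iv D5123)
theorem F9577 : act 3 n3184 = n5372 := d15_5 F9576 F9193 F5066 (iv F2706) (iv F5481)
def n5373 : Q := act 6 n2749
theorem D5373 : act 6 n2749 = n5373 := rfl
theorem F9578 : act 4 n5373 = n5124 := d19_1 D5373 (iv D5124) (iv F4849)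
def n5386 : Q := act 3 n2756
theorem D5386 : act 3 n2756 = n5386 := rfl
theorem F9591 : act 1 n5386 = n2757 := d7_1 D5386 (iv D2757) D2756
def n5389 : Q := act 2 n2757
theorem D5389 : act 2 n2757 = n5389 := rfl
theorem F9598 : act 0 n5389 = n3391 := d1_1 D5389 (iv F8116) F8115
theorem F9599 : act 3 n5389 = n3327 := d11_2 D2757 D5389 (iv D3327) (iv D1619) F1378 F690 (iv F1078) D1144 D2310 D4503 F8116 (iv D3391) (iv D1647) (iv D782) F699 F364 (iv F613) D646 D1348
def n5390 : Q := act 6 n2757
theorem D5390 : act 6 n2757 = n5390 := rfl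
def n5394 : Q := act 3 n2760
theorem D5394 : act 3 n2760 = n5394 := rfl
theorem F9605 : act 6 n5394 = n5144 := d17_2 D2760 D5394 (iv D5144) (iv D2632) (iv F2429)
def n5399 : Q := act 2 n2763
theorem D5399 : act 2 n2763 = n5399 := rfl
theorem F9614 : act 3 n5399 = n4513 := d23_1 D5399 (iv D4513) (iv D2317) (iv D1146) (iv D556) (iv F1081) D1145 D2313 D4509 F8127
def n5405 : Q := act 3 n2766
theorem D5405 : act 3 n2766 = n5405 := rfl
theorem F9618 : act 1 n5405 = n4515 := d7_1 D5405 F8140 (iv F4871)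
def n5411 : Q := act 3 n2770
theorem D5411 : act 3 n2770 = n5411 := rfl
theorem F9626 : act 0 n5411 = n5399 := d2_1 D5411 F9614 F8137
theorem F9627 : act 2 n5411 = n4509 := d11_1 D5411 (iv D4509) (iv D2313) (iv D1145) F1081 D556 D1146 D2317 D4513 (iv F9614) (iv D5399) (iv D2763) (iv D1351) (iv D647) F615 D310 D648 D1355 D2770
def n5446 : Q := act 4 n2785
theorem D5446 : act 4 n2785 = n5446 := rfl
theorem F9681 : act 2 n5446 = n2931 := d12_1 D5446 (iv D2931) (iv F4900)
def n5448 : Q := act 6 n2785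
theorem D5448 : act 6 n2785 = n5448 := rfl
theorem F9685 : act 2 n5448 = n2933 := d14_1 D5448 (iv D2933) (iv F4900)
def n5451 : Q := act 6 n2786
theorem D5451 : act 6 n2786 = n5451 := rfl
theorem F9688 : act 2 n5451 = n2791 := d14_1 D5451 (iv D2791) (iv F4901)
theorem F9689 : act 4 n5451 = n2788 := d19_1 D5451 (iv D2788) D2786
def n5452 : Q := act 3 n2787
theorem D5452 : act 3 n2787 = n5452 := rfl
def n5455 : Q := act 5 n2788
theorem D5455 : act 5 n2788 = n5455 := rfl
theorem F9692 : act 2 n5455 = n2794 := d13_1 D5455 (iv D2794) (iv F4903)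
def n5526 : Q := act 3 n2824
theorem D5526 : act 3 n2824 = n5526 := rfl
theorem F9804 : act 0 n5526 = n2825 := d2_1 D5526 (iv D2825) D2824
theorem F9805 : act 1 n5526 = n3294 := d7_1 D5526 F8218 (iv F4971)
theorem F9806 : act 4 n3304 = n5526 := d8_0 F9805 F5630 D3304
def n5529 : Q := act 2 n2825
theorem D5529 : act 2 n2825 = n5529 := rfl
theorem F9809 : act 1 n5529 = n2941 := d6_1 D5529 (iv D2941) F2544 (iv F2460) (iv F4951)
def n5530 : Q := act 4 n2825
theorem D5530 : act 4 n2825 = n5530 := rfl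
theorem F9810 : act 0 n5530 = n3304 := d3_1 D5530 F9806 F9804
theorem F9811 : act 1 n5530 = n2829 := d8_1 D5530 (iv D2829) (iv F4951)
def n5532 : Q := act 6 n2825
theorem D5532 : act 6 n2825 = n5532 := rfl
theorem F9813 : act 1 n5532 = n2831 := d10_1 D5532 (iv D2831) (iv F4951)
def n5540 : Q := act 3 n2829
theorem D5540 : act 3 n2829 = n5540 := rfl
theorem F9826 : act 0 n5540 = n3109 := d2_1 D5540 (iv D3109) (iv F4955)
theorem F9827 : act 4 n5540 = n2832 := d15_2 D2829 D5540 (iv D2832) (iv D1381) D1380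
theorem F9828 : act 6 n4571 = n5540 := d5_0 F9826 (iv F5405) (iv F8242)
def n5542 : Q := act 6 n2829
theorem D5542 : act 6 n2829 = n5542 := rfl
theorem F9832 : act 0 n5542 = n3111 := d5_1 D5542 (iv D3111) (iv F4955)
theorem F9833 : act 2 n5542 = n2950 := d14_1 D5542 (iv D2950) (iv F4956)
theorem F9834 : act 3 n5542 = n4573 := d17_1 D5542 (iv D4573) D4571 F9828 (iv D5540)
theorem F9835 : act 4 n5542 = n2831 := d19_1 D5542 (iv D2831) D2829
def n5544 : Q := act 6 n2830
theorem D5544 : act 6 n2830 = n5544 := rfl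
theorem F9840 : act 5 n5544 = n5542 := d21_2 D2830 D5544 (iv D5542) (iv D2829)
def n5546 : Q := act 5 n2831
theorem D5546 : act 5 n2831 = n5546 := rfl
theorem F9845 : act 4 n5546 = n5544 := d18_1 D5546 F9840 F9835
def n5547 : Q := act 2 n2832
theorem D5547 : act 2 n2832 = n5547 := rfl
theorem F9848 : act 3 n5547 = n3201 := d23_7 D3294 F8218 (iv D2839) (iv D1384) (iv F2461) D2832 D5547 F5508 D3204 F5513
theorem F9849 : act 4 n3441 = n5547 := d15_0 F9848 (iv D3201) F2714 D1669 D3441
theorem F9850 : act 2 n5540 = n3441 := d12_3 F9849 (iv D5547) (iv F9827)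
theorem F9851 : act 6 n3441 = n3459 := d14_2 F9828 F9850 (iv F8243)
theorem F9852 : act 3 n3448 = n3116 := d23_5 F9850 (iv D3441) F2824 D1672 D3448 (iv D3116) (iv D1522) (iv F2665) D3109 (iv F9826)
theorem F9853 : act 4 n3124 = n3459 := d15_4 (iv F5857) F9852 F5409 D3124 (iv D3459)
theorem F9854 : act 6 n5547 = n3124 := d19_0 F9853 (iv F9851) F9849
theorem F9855 : act 3 n3461 = n3443 := d17_3 F9851 (iv D3459) D3461 (iv D3443) D3441
theorem F9856 : act 2 n3452 = n3452 := d23_4 (iv F5875) F9855 F5850 D3452 (iv D3452) (iv F5850) (iv F9855) F5875 (iv F5704) F5703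
def n5548 : Q := act 5 n2832
theorem D5548 : act 5 n2832 = n5548 := rfl
def n5549 : Q := act 6 n2832
theorem D5549 : act 6 n2832 = n5549 := rfl
theorem F9857 : act 0 n5549 = n3305 := d5_1 D5549 F8216 F8202
theorem F9858 : act 2 n5549 = n3124 := d14_1 D5549 (iv F9854) (iv D5547)
theorem F9859 : act 4 n5549 = n4571 := d19_1 D5549 F9828 F9827
theorem F9860 : act 3 n3210 = n5549 := d23_1 D3210 F9858 (iv D3124) (iv D1528) (iv D727) F648 (iv F357) (iv F684) D764 (iv F2719)
def n5551 : Q := act 3 n2834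
theorem D5551 : act 3 n2834 = n5551 := rfl
theorem F9863 : act 2 n5551 = n3212 := d24_3 D2836 F4966 D5551 (iv D3212) D3211 F8464 (iv D4715) F4296 D2419 F4300 F4142 (iv D1395) (iv F2467) (iv D1387) (iv F2462)
def n5556 : Q := act 2 n2837
theorem D5556 : act 2 n2837 = n5556 := rfl
def n5561 : Q := act 6 n2839
theorem D5561 : act 6 n2839 = n5561 := rfl
theorem F9869 : act 4 n5561 = n2852 := d19_1 D5561 (iv D2852) (iv F4970)
def n5567 : Q := act 2 n2843
theorem D5567 : act 2 n2843 = n5567 := rfl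
theorem F9876 : act 4 n5567 = n5239 := d12_2 (iv F4974) D5567 (iv D5239)
theorem F9877 : act 3 n3206 = n5567 := d15_5 F9876 F9319 F5163 (iv F2718) (iv F5518)
def n5570 : Q := act 3 n2844
theorem D5570 : act 3 n2844 = n5570 := rfl
theorem F9883 : act 4 n5570 = n4499 := d15_2 F4977 D5570 (iv D4499) F4126 D2308
def n5578 : Q := act 3 n2849
theorem D5578 : act 3 n2849 = n5578 := rfl
theorem F9892 : act 1 n5578 = n2850 := d7_1 D5578 (iv D2850) D2849
def n5580 : Q := act 6 n2849
theorem D5580 : act 6 n2849 = n5580 := rfl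
theorem F9897 : act 1 n5580 = n2852 := d10_1 D5580 (iv D2852) D2849
def n5581 : Q := act 2 n2850
theorem D5581 : act 2 n2850 = n5581 := rfl
theorem F9900 : act 3 n5581 = n3342 := d11_2 D2850 D5581 (iv D3342) (iv D1626) F1385 F696 (iv F1095) D1161 D2345 D4571 F8243 (iv D3459) (iv D1678) (iv D796) F706 F365 (iv F619) D665 D1390
def n5595 : Q := act 3 n2857
theorem D5595 : act 3 n2857 = n5595 := rfl
theorem F9918 : act 5 n5595 = n4501 := d16_2 (iv F4996) D5595 (iv D4501) (iv D2309) D2308
def n5597 : Q := act 3 n2859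
theorem D5597 : act 3 n2859 = n5597 := rfl
theorem F9921 : act 6 n5597 = n4579 := d17_2 F8278 D5597 (iv D4579) D4580 (iv F8279)
def n5600 : Q := act 5 n2860
theorem D5600 : act 5 n2860 = n5600 := rfl
theorem F9924 : act 3 n5600 = n2871 := d16_1 D5600 (iv D2871) (iv D1401) (iv F2472) D2860
def n5606 : Q := act 6 n2863
theorem D5606 : act 6 n2863 = n5606 := rfl
theorem F9932 : act 2 n5606 = n2866 := d14_1 D5606 (iv D2866) D2863
def n5607 : Q := act 3 n2864
theorem D5607 : act 3 n2864 = n5607 := rfl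
theorem F9933 : act 4 n5607 = n2866 := d15_2 D2864 D5607 F5009 (iv D1398) D1397
theorem F9934 : act 6 n2864 = n5607 := d19_0 F9933 (iv D2866) D2864
def n5608 : Q := act 5 n2864
theorem D5608 : act 5 n2864 = n5608 := rfl
def n5609 : Q := act 6 n2865
theorem D5609 : act 6 n2865 = n5609 := rfl
theorem F9936 : act 5 n5609 = n5607 := d21_2 D2865 D5609 (iv F9934) (iv D2864)
def n5610 : Q := act 5 n2866
theorem D5610 : act 5 n2866 = n5610 := rfl
theorem F9939 : act 6 n5610 = n5608 := d20_2 D2866 D5610 (iv D5608) F9934 (iv F9936) (iv D5609) (iv D2865)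
def n5611 : Q := act 2 n2867
theorem D5611 : act 2 n2867 = n5611 := rfl
theorem F9940 : act 0 n5611 = n2869 := d1_1 D5611 (iv D2869) (iv F5010)
def n5612 : Q := act 4 n2867
theorem D5612 : act 4 n2867 = n5612 := rfl
theorem F9941 : act 0 n5612 = n2870 := d3_1 D5612 (iv D2870) (iv F5010)
theorem F9943 : act 3 n5612 = n4586 := d15_1 D5612 (iv D4586) (iv D2355) F2477 D2867
def n5613 : Q := act 5 n2867
theorem D5613 : act 5 n2867 = n5613 := rfl
theorem F9944 : act 0 n5613 = n2871 := d4_1 D5613 (iv D2871) (iv F5010)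
def n5616 : Q := act 1 n2869
theorem D5616 : act 1 n2869 = n5616 := rfl
theorem F9951 : act 2 n5616 = n2877 := d6_2 D2869 D5616 (iv D2877) (iv D1404) (iv F2478)
def n5617 : Q := act 3 n2869
theorem D5617 : act 3 n2869 = n5617 := rfl
def n5618 : Q := act 4 n2869
theorem D5618 : act 4 n2869 = n5618 := rfl
def n5619 : Q := act 5 n2869
theorem D5619 : act 5 n2869 = n5619 := rfl
theorem F9953 : act 2 n5619 = n2871 := d13_1 D5619 (iv D2871) D2869
def n5620 : Q := act 6 n2869
theorem D5620 : act 6 n2869 = n5620 := rfl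
theorem F9954 : act 2 n5620 = n2872 := d14_1 D5620 (iv D2872) D2869
def n5621 : Q := act 3 n2870
theorem D5621 : act 3 n2870 = n5621 := rfl
theorem F9955 : act 0 n5621 = n4586 := d2_1 D5621 (iv F9943) F9941
theorem F9957 : act 4 n5621 = n2873 := d15_2 D2870 D5621 (iv D2873) (iv D1402) D1401
def n5622 : Q := act 5 n2870
theorem D5622 : act 5 n2870 = n5622 := rfl
theorem F9958 : act 1 n5622 = n2883 := d9_1 D5622 (iv D2883) (iv F5015)
theorem F9959 : act 4 n5622 = n2871 := d18_1 D5622 (iv D2871) D2870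
def n5623 : Q := act 6 n2870
theorem D5623 : act 6 n2870 = n5623 := rfl
theorem F9961 : act 4 n5623 = n2872 := d19_1 D5623 (iv D2872) D2870
def n5624 : Q := act 6 n2871
theorem D5624 : act 6 n2871 = n5624 := rfl
theorem F9962 : act 1 n5624 = n2885 := d10_1 D5624 (iv D2885) (iv F5016)
theorem F9963 : act 5 n5624 = n5623 := d21_2 D2871 D5624 (iv D5623) (iv D2870)
def n5626 : Q := act 5 n2872
theorem D5626 : act 5 n2872 = n5626 := rfl
theorem F9967 : act 4 n5626 = n5624 := d18_1 D5626 F9963 F9961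
theorem F9968 : act 6 n5626 = n5622 := d20_2 D2872 D5626 (iv D5622) D5623 (iv F9963) (iv D5624) (iv D2871)
def n5627 : Q := act 2 n2873
theorem D5627 : act 2 n2873 = n5627 := rfl
theorem F9969 : act 0 n5627 = n4585 := d1_1 D5627 (iv D4585) (iv F5018)
def n5633 : Q := act 0 n2877
theorem D5633 : act 0 n2877 = n5633 := rfl
def n5634 : Q := act 3 n2877
theorem D5634 : act 3 n2877 = n5634 := rfl
theorem F9978 : act 1 n5634 = n2878 := d7_1 D5634 (iv D2878) D2877
def n5635 : Q := act 4 n2877
theorem D5635 : act 4 n2877 = n5635 := rfl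
theorem F9979 : act 1 n5635 = n2879 := d8_1 D5635 (iv D2879) D2877
def n5636 : Q := act 5 n2877
theorem D5636 : act 5 n2877 = n5636 := rfl
theorem F9980 : act 1 n5636 = n2880 := d9_1 D5636 (iv D2880) D2877
def n5637 : Q := act 6 n2877
theorem D5637 : act 6 n2877 = n5637 := rfl
theorem F9981 : act 1 n5637 = n2881 := d10_1 D5637 (iv D2881) D2877
def n5638 : Q := act 4 n2878
theorem D5638 : act 4 n2878 = n5638 := rfl
theorem F9982 : act 0 n5638 = n3159 := d3_1 D5638 (iv D3159) (iv F5029)
theorem F9983 : act 2 n5638 = n2970 := d12_1 D5638 (iv D2970) (iv F5030)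
def n5639 : Q := act 5 n2878
theorem D5639 : act 5 n2878 = n5639 := rfl
theorem F9984 : act 0 n5639 = n3160 := d4_1 D5639 (iv D3160) (iv F5029)
theorem F9985 : act 2 n5639 = n2971 := d13_1 D5639 (iv D2971) (iv F5030)
def n5640 : Q := act 6 n2878
theorem D5640 : act 6 n2878 = n5640 := rfl
theorem F9987 : act 2 n5640 = n2972 := d14_1 D5640 (iv D2972) (iv F5030)
def n5641 : Q := act 3 n2879
theorem D5641 : act 3 n2879 = n5641 := rfl
def n5642 : Q := act 5 n2879
theorem D5642 : act 5 n2879 = n5642 := rfl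
theorem F9988 : act 2 n5642 = n2883 := d13_1 D5642 (iv D2883) (iv F5031)
theorem F9989 : act 4 n5642 = n2880 := d18_1 D5642 (iv D2880) D2879
def n5643 : Q := act 6 n2879
theorem D5643 : act 6 n2879 = n5643 := rfl
theorem F9991 : act 4 n5643 = n2881 := d19_1 D5643 (iv D2881) D2879
def n5644 : Q := act 3 n2880
theorem D5644 : act 3 n2880 = n5644 := rfl
def n5645 : Q := act 6 n2880
theorem D5645 : act 6 n2880 = n5645 := rfl
theorem F9992 : act 2 n5645 = n2885 := d14_1 D5645 (iv D2885) (iv F5032)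
theorem F9993 : act 5 n5645 = n5643 := d21_2 D2880 D5645 (iv D5643) (iv D2879)
def n5647 : Q := act 5 n2881
theorem D5647 : act 5 n2881 = n5647 := rfl
theorem F9995 : act 4 n5647 = n5645 := d18_1 D5647 F9993 F9991
theorem F9996 : act 6 n5647 = n5642 := d20_2 D2881 D5647 (iv D5642) D5643 (iv F9993) (iv D5645) (iv D2880)
def n5648 : Q := act 2 n2882
theorem D5648 : act 2 n2882 = n5648 := rfl
theorem F9997 : act 4 n5648 = n2888 := d12_2 (iv F5034) D5648 (iv D2888)
theorem F9998 : act 1 n5633 = n5648 := d22_7 (iv F4222) (iv F5011) D5611 F9940 D5616 F9951 D5633 (iv D5648) F5034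
def n5650 : Q := act 6 n2882
theorem D5650 : act 6 n2882 = n5650 := rfl
theorem F10000 : act 4 n5650 = n2890 := d19_1 D5650 (iv D2890) (iv F5034)
def n5651 : Q := act 3 n2883
theorem D5651 : act 3 n2883 = n5651 := rfl
def n5653 : Q := act 3 n2885
theorem D5653 : act 3 n2885 = n5653 := rfl
def n5658 : Q := act 1 n2888
theorem D5658 : act 1 n2888 = n5658 := rfl
theorem F10003 : act 4 n5658 = n5633 := d8_2 F9997 D5658 F9998
theorem F10004 : act 0 n5635 = n5658 := d22_0 (iv D5658) (iv D2888) (iv F4222) (iv F5011) D5611 F9940 D5616 F9951 D5635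
def n5661 : Q := act 6 n2888
theorem D5661 : act 6 n2888 = n5661 := rfl
theorem F10006 : act 2 n5661 = n2890 := d14_1 D5661 (iv D2890) D2888
def n5673 : Q := act 3 n2895
theorem D5673 : act 3 n2895 = n5673 := rfl
theorem F10022 : act 2 n5673 = n4989 := d23_2 D2895 D5673 (iv D4989) F4482 F2279 (iv F4213) (iv F4232) F4229 (iv F2802) F2801
def n5674 : Q := act 2 n2896
theorem D5674 : act 2 n2896 = n5674 := rfl
theorem F10023 : act 0 n5674 = n2898 := d1_1 D5674 (iv D2898) (iv F5045)
def n5675 : Q := act 4 n2896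
theorem D5675 : act 4 n2896 = n5675 := rfl
theorem F10024 : act 0 n5675 = n2899 := d3_1 D5675 (iv D2899) (iv F5045)
theorem F10026 : act 3 n5675 = n3175 := d15_1 D5675 (iv D3175) (iv D1554) F2494 D2896
def n5676 : Q := act 5 n2896
theorem D5676 : act 5 n2896 = n5676 := rfl
theorem F10027 : act 0 n5676 = n2900 := d4_1 D5676 (iv D2900) (iv F5045)
def n5677 : Q := act 6 n2896
theorem D5677 : act 6 n2896 = n5677 := rfl
theorem F10030 : act 1 n5677 = n3191 := d10_1 D5677 (iv D3191) (iv F5046)
def n5678 : Q := act 3 n2897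
theorem D5678 : act 3 n2897 = n5678 := rfl
theorem F10032 : act 1 n5678 = n2916 := d7_1 D5678 (iv D2916) (iv F5048)
def n5679 : Q := act 3 n2898
theorem D5679 : act 3 n2898 = n5679 := rfl
def n5680 : Q := act 4 n2898
theorem D5680 : act 4 n2898 = n5680 := rfl
theorem F10033 : act 2 n5680 = n2899 := d12_1 D5680 (iv D2899) D2898
def n5681 : Q := act 5 n2898
theorem D5681 : act 5 n2898 = n5681 := rfl
theorem F10034 : act 2 n5681 = n2900 := d13_1 D5681 (iv D2900) D2898
def n5682 : Q := act 6 n2898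
theorem D5682 : act 6 n2898 = n5682 := rfl
theorem F10035 : act 2 n5682 = n2901 := d14_1 D5682 (iv D2901) D2898
def n5683 : Q := act 3 n2899
theorem D5683 : act 3 n2899 = n5683 := rfl
theorem F10036 : act 0 n5683 = n3175 := d2_1 D5683 (iv F10026) F10024
theorem F10037 : act 1 n5683 = n2905 := d7_1 D5683 (iv D2905) (iv F5052)
theorem F10038 : act 4 n5683 = n2902 := d15_2 D2899 D5683 (iv D2902) (iv D1416) D1415
def n5684 : Q := act 5 n2899
theorem D5684 : act 5 n2899 = n5684 := rfl
theorem F10039 : act 1 n5684 = n2906 := d9_1 D5684 (iv D2906) (iv F5052)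
theorem F10040 : act 4 n5684 = n2900 := d18_1 D5684 (iv D2900) D2899
def n5685 : Q := act 6 n2899
theorem D5685 : act 6 n2899 = n5685 := rfl
theorem F10041 : act 1 n5685 = n2907 := d10_1 D5685 (iv D2907) (iv F5052)
theorem F10042 : act 4 n5685 = n2901 := d19_1 D5685 (iv D2901) D2899
def n5686 : Q := act 6 n2900
theorem D5686 : act 6 n2900 = n5686 := rfl
theorem F10044 : act 5 n5686 = n5685 := d21_2 D2900 D5686 (iv D5685) (iv D2899)
def n5687 : Q := act 3 n2901
theorem D5687 : act 3 n2901 = n5687 := rfl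
theorem F10045 : act 1 n5687 = n2909 := d7_1 D5687 (iv D2909) (iv F5054)
theorem F10046 : act 6 n5687 = n2904 := d17_2 D2901 D5687 (iv D2904) (iv D1417) D1415
theorem F10048 : act 4 n5687 = n4938 := d21_4 F8794 D4968 (iv F8834) (iv F10046)
def n5688 : Q := act 5 n2901
theorem D5688 : act 5 n2901 = n5688 := rfl
theorem F10049 : act 1 n5688 = n2910 := d9_1 D5688 (iv D2910) (iv F5054)
theorem F10050 : act 4 n5688 = n5686 := d18_1 D5688 F10044 F10042
theorem F10051 : act 6 n5688 = n5684 := d20_2 D2901 D5688 (iv D5684) D5685 (iv F10044) (iv D5686) (iv D2900)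
def n5689 : Q := act 2 n2902
theorem D5689 : act 2 n2902 = n5689 := rfl
theorem F10052 : act 0 n5689 = n3174 := d1_1 D5689 (iv D3174) (iv F5055)
def n5690 : Q := act 5 n2902
theorem D5690 : act 5 n2902 = n5690 := rfl
theorem F10053 : act 0 n5690 = n3176 := d4_1 D5690 (iv D3176) (iv F5055)
theorem F10054 : act 1 n5690 = n2912 := d9_1 D5690 (iv D2912) (iv F5056)
theorem F10055 : act 3 n5690 = n5676 := d16_1 D5690 (iv D5676) (iv D2896) (iv F2499) D2902
def n5691 : Q := act 6 n2902
theorem D5691 : act 6 n2902 = n5691 := rfl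
theorem F10056 : act 0 n5691 = n3177 := d5_1 D5691 (iv D3177) (iv F5055)
theorem F10057 : act 1 n5691 = n2913 := d10_1 D5691 (iv D2913) (iv F5056)
def n5692 : Q := act 3 n2903
theorem D5692 : act 3 n2903 = n5692 := rfl
theorem F10058 : act 0 n5692 = n3178 := d2_1 D5692 (iv D3178) (iv F5057)
theorem F10059 : act 1 n5692 = n2914 := d7_1 D5692 (iv D2914) (iv F5058)
def n5695 : Q := act 2 n2905
theorem D5695 : act 2 n2905 = n5695 := rfl
theorem F10062 : act 0 n5695 = n3010 := d1_1 D5695 (iv D3010) (iv F5063)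
theorem F10063 : act 4 n5695 = n2911 := d12_2 (iv F5064) D5695 (iv D2911)
theorem F10064 : act 1 n3229 = n5695 := d22_7 F2505 (iv F2600) D2992 F5245 D3216 F5536 D3229 (iv D5695) F5064
def n5696 : Q := act 5 n2905
theorem D5696 : act 5 n2905 = n5696 := rfl
theorem F10065 : act 0 n5696 = n3011 := d4_1 D5696 (iv D3011) (iv F5063)
theorem F10066 : act 4 n5696 = n2912 := d18_1 D5696 (iv D2912) (iv F5064)
def n5697 : Q := act 6 n2905
theorem D5697 : act 6 n2905 = n5697 := rfl
theorem F10067 : act 0 n5697 = n3012 := d5_1 D5697 (iv D3012) (iv F5063)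
theorem F10068 : act 4 n5697 = n2913 := d19_1 D5697 (iv D2913) (iv F5064)
def n5698 : Q := act 3 n2907
theorem D5698 : act 3 n2907 = n5698 := rfl
def n5699 : Q := act 3 n2908
theorem D5699 : act 3 n2908 = n5699 := rfl
theorem F10071 : act 0 n5699 = n3015 := d2_1 D5699 (iv D3015) (iv F5069)
def n5700 : Q := act 3 n2910
theorem D5700 : act 3 n2910 = n5700 := rfl
def n5701 : Q := act 1 n2911
theorem D5701 : act 1 n2911 = n5701 := rfl
theorem F10074 : act 4 n5701 = n3229 := d8_2 F10063 D5701 F10064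
theorem F10075 : act 0 n3231 = n5701 := d22_0 (iv D5701) (iv D2911) F2505 (iv F2600) D2992 F5245 D3216 F5536 D3231
def n5702 : Q := act 3 n2911
theorem D5702 : act 3 n2911 = n5702 := rfl
theorem F10076 : act 0 n5702 = n3018 := d2_1 D5702 (iv D3018) (iv F5079)
theorem F10077 : act 2 n5702 = n3255 := d11_1 D5702 (iv D3255) (iv D1586) (iv D756) F679 F352 (iv F639) D704 D1477 D3018 (iv F9560) (iv F9562) (iv D3189) (iv D1560) F1355 F665 (iv F1254) D1421 D2911
theorem F10078 : act 4 n5389 = n5702 := d12_0 F10077 F9374 D5389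
theorem F10079 : act 5 n3237 = n5702 := d13_0 F10077 (iv F9373) (iv F9376)
def n5703 : Q := act 5 n2911
theorem D5703 : act 5 n2911 = n5703 := rfl
theorem F10080 : act 0 n5703 = n3019 := d4_1 D5703 (iv D3019) (iv F5079)
theorem F10081 : act 2 n5703 = n2912 := d13_1 D5703 (iv D2912) D2911
theorem F10082 : act 3 n5703 = n3238 := d16_1 D5703 (iv D3238) D3237 F10079 (iv D5702)
def n5704 : Q := act 6 n2911
theorem D5704 : act 6 n2911 = n5704 := rfl
theorem F10083 : act 0 n5704 = n3020 := d5_1 D5704 (iv D3020) (iv F5079)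
theorem F10084 : act 2 n5704 = n2913 := d14_1 D5704 (iv D2913) D2911
def n5705 : Q := act 6 n2912
theorem D5705 : act 6 n2912 = n5705 := rfl
theorem F10085 : act 0 n5705 = n3021 := d5_1 D5705 (iv D3021) (iv F5080)
theorem F10086 : act 5 n5705 = n5697 := d21_2 D2912 D5705 (iv D5697) F5064
def n5706 : Q := act 3 n2913
theorem D5706 : act 3 n2913 = n5706 := rfl
theorem F10087 : act 0 n5706 = n3022 := d2_1 D5706 (iv D3022) (iv F5081)
theorem F10088 : act 6 n5706 = n2914 := d17_2 D2913 D5706 (iv D2914) (iv D1422) D1421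
theorem F10090 : act 5 n3465 = n5706 := d4_0 F10087 F5896 F5889
def n5707 : Q := act 5 n2913
theorem D5707 : act 5 n2913 = n5707 := rfl
theorem F10092 : act 4 n5707 = n5705 := d18_1 D5707 F10086 F10068
theorem F10093 : act 6 n5707 = n5696 := d20_2 D2913 D5707 (iv D5696) D5697 (iv F10086) (iv D5705) (iv D2912)
def n5710 : Q := act 5 n2914
theorem D5710 : act 5 n2914 = n5710 := rfl
theorem F10098 : act 0 n5710 = n3026 := d4_1 D5710 (iv D3026) (iv F5082)
theorem F10099 : act 3 n5710 = n3194 := d16_1 D5710 (iv D3194) (iv D1561) (iv F2509) D2914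
def n5711 : Q := act 4 n2916
theorem D5711 : act 4 n2916 = n5711 := rfl
theorem F10102 : act 3 n5711 = n3193 := d15_1 D5711 (iv D3193) (iv D1561) (iv F2513) D2916
def n5712 : Q := act 1 n2917
theorem D5712 : act 1 n2917 = n5712 := rfl
theorem F10104 : act 2 n5712 = n5712 := d6_2 D2917 D5712 (iv D5712) (iv D2917) F2516
def n5714 : Q := act 4 n2917
theorem D5714 : act 4 n2917 = n5714 := rfl
theorem F10107 : act 2 n5714 = n2918 := d12_1 D5714 (iv D2918) D2917
def n5715 : Q := act 5 n2917
theorem D5715 : act 5 n2917 = n5715 := rfl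
theorem F10108 : act 0 n5715 = n3037 := d4_1 D5715 (iv D3037) (iv F5087)
def n5718 : Q := act 0 n2920
theorem D5718 : act 0 n2920 = n5718 := rfl
theorem F10119 : act 2 n5718 = n5718 := d1_2 F5094 D5718 (iv D5718)
theorem F10120 : act 6 n5718 = n2927 := d5_2 (iv F5095) D5718 (iv D2927)
theorem F10121 : act 4 n2969 = n5718 := d22_9 (iv D5718) (iv D2920) (iv D1426) F1261 (iv F659) (iv F1344) (iv F2580) (iv F5205) F5206
def n5719 : Q := act 3 n2920
theorem D5719 : act 3 n2920 = n5719 := rfl
theorem F10122 : act 1 n5719 = n2921 := d7_1 D5719 (iv D2921) D2920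
def n5720 : Q := act 4 n2920
theorem D5720 : act 4 n2920 = n5720 := rfl
theorem F10125 : act 2 n5720 = n5720 := d12_1 D5720 (iv D5720) F5094
theorem F10126 : act 6 n5720 = n2929 := d19_2 (iv F5095) D5720 (iv D2929)
theorem F10127 : act 5 n5720 = n5027 := d21_0 (iv F8924) (iv D2930) (iv F5095) D5720
theorem F10128 : act 3 n5026 = n5720 := d16_5 F10127 (iv D5027) (iv D2570) D2569 D5026
def n5721 : Q := act 5 n2920
theorem D5721 : act 5 n2920 = n5721 := rfl
theorem F10131 : act 4 n5721 = n5027 := d18_1 D5721 (iv F10127) (iv D5720)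
theorem F10132 : act 3 n3144 = n5721 := d15_5 F10131 (iv D5027) F4519 F5453 F5451
def n5722 : Q := act 2 n2921
theorem D5722 : act 2 n2921 = n5722 := rfl
def n5723 : Q := act 4 n2921
theorem D5723 : act 4 n2921 = n5723 := rfl
theorem F10135 : act 3 n5723 = n5061 := d15_1 D5723 F8993 F5101 (iv D2922) D2921
def n5724 : Q := act 6 n2921
theorem D5724 : act 6 n2921 = n5724 := rfl
theorem F10136 : act 0 n5724 = n3047 := d5_1 D5724 (iv D3047) (iv F5096)
theorem F10137 : act 3 n5724 = n2933 := d17_1 D5724 (iv D2933) (iv D1431) (iv F2518) D2921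
def n5725 : Q := act 2 n2924
theorem D5725 : act 2 n2924 = n5725 := rfl
def n5727 : Q := act 3 n2925
theorem D5727 : act 3 n2925 = n5727 := rfl
def n5728 : Q := act 4 n2925
theorem D5728 : act 4 n2925 = n5728 := rfl
theorem F10144 : act 2 n5728 = n2926 := d12_1 D5728 (iv D2926) D2925
theorem F10145 : act 6 n5728 = n5714 := d19_2 (iv F5110) D5728 (iv D5714)
def n5729 : Q := act 3 n2927
theorem D5729 : act 3 n2927 = n5729 := rfl
theorem F10146 : act 0 n5729 = n2928 := d2_1 D5729 (iv D2928) D2927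
theorem F10147 : act 1 n5729 = n2973 := d7_1 D5729 (iv D2973) (iv F5115)
def n5730 : Q := act 5 n2927
theorem D5730 : act 5 n2927 = n5730 := rfl
theorem F10151 : act 4 n5730 = n2962 := d18_1 D5730 F5188 F5117
theorem F10152 : act 6 n5730 = n3890 := d21_1 D5730 (iv F6799) (iv D2969) F5117
def n5731 : Q := act 2 n2928
theorem D5731 : act 2 n2928 = n5731 := rfl
def n5732 : Q := act 4 n2928
theorem D5732 : act 4 n2928 = n5732 := rfl
theorem F10154 : act 1 n5732 = n2931 := d8_1 D5732 (iv D2931) (iv F5118)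
def n5733 : Q := act 5 n2928
theorem D5733 : act 5 n2928 = n5733 := rfl
def n5734 : Q := act 6 n2928
theorem D5734 : act 6 n2928 = n5734 := rfl
theorem F10156 : act 1 n5734 = n2933 := d10_1 D5734 (iv D2933) (iv F5118)
def n5735 : Q := act 3 n2929
theorem D5735 : act 3 n2929 = n5735 := rfl
theorem F10157 : act 0 n5735 = n2968 := d2_1 D5735 (iv D2968) (iv F5119)
theorem F10158 : act 1 n5735 = n2934 := d7_1 D5735 (iv D2934) (iv F5120)
def n5736 : Q := act 5 n2929
theorem D5736 : act 5 n2929 = n5736 := rfl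
theorem F10159 : act 0 n5736 = n2962 := d4_1 D5736 F5188 (iv F5119)
theorem F10161 : act 2 n5736 = n5736 := d13_1 D5736 (iv D5736) F5121
theorem F10163 : act 6 n5736 = n5721 := d20_2 F10126 D5736 (iv D5721) F5095 D2930 F8924 (iv F10127)
def n5738 : Q := act 3 n2931
theorem D5738 : act 3 n2931 = n5738 := rfl
theorem F10167 : act 0 n5738 = n3066 := d2_1 D5738 (iv D3066) (iv F5124)
theorem F10168 : act 4 n5738 = n2934 := d15_2 D2931 D5738 (iv D2934) (iv D1432) D1431
def n5739 : Q := act 5 n2931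
theorem D5739 : act 5 n2931 = n5739 := rfl
theorem F10170 : act 4 n5739 = n2932 := d18_1 D5739 (iv D2932) D2931
def n5740 : Q := act 6 n2931
theorem D5740 : act 6 n2931 = n5740 := rfl
theorem F10172 : act 4 n5740 = n2933 := d19_1 D5740 (iv D2933) D2931
def n5741 : Q := act 3 n2932
theorem D5741 : act 3 n2932 = n5741 := rfl
theorem F10174 : act 5 n5741 = n2936 := d16_2 D2932 D5741 (iv D2936) (iv D1433) D1431
def n5743 : Q := act 5 n2933
theorem D5743 : act 5 n2933 = n5743 := rfl
theorem F10177 : act 0 n5743 = n3071 := d4_1 D5743 (iv D3071) (iv F5126)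
def n5744 : Q := act 2 n2934
theorem D5744 : act 2 n2934 = n5744 := rfl
theorem F10180 : act 0 n5744 = n3072 := d1_1 D5744 (iv D3072) (iv F5127)
def n5745 : Q := act 5 n2934
theorem D5745 : act 5 n2934 = n5745 := rfl
theorem F10181 : act 0 n5745 = n3073 := d4_1 D5745 (iv D3073) (iv F5127)
def n5748 : Q := act 4 n2936
theorem D5748 : act 4 n2936 = n5748 := rfl
theorem F10187 : act 6 n5748 = n4999 := d19_2 (iv F5133) D5748 F8877
def n5749 : Q := act 2 n2937
theorem D5749 : act 2 n2937 = n5749 := rfl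
theorem F10188 : act 0 n5749 = n3078 := d1_1 D5749 (iv D3078) (iv F5134)
theorem F10189 : act 4 n5749 = n2967 := d12_2 (iv F5136) D5749 (iv D2967)
def n5750 : Q := act 6 n2937
theorem D5750 : act 6 n2937 = n5750 := rfl
theorem F10193 : act 4 n5750 = n2966 := d19_1 D5750 F5201 (iv F5136)
theorem F10194 : act 5 n5750 = n2938 := d21_2 F5186 D5750 F5139 D2961
def n5751 : Q := act 2 n2938
theorem D5751 : act 2 n2938 = n5751 := rfl
theorem F10196 : act 6 n5751 = n2960 := d14_2 (iv F5139) D5751 (iv D2960)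
def n5752 : Q := act 4 n2938
theorem D5752 : act 4 n2938 = n5752 := rfl
theorem F10200 : act 5 n5752 = n2966 := d18_2 F10194 D5752 (iv F10193)
theorem F10201 : act 6 n5752 = n2961 := d19_2 (iv F5139) D5752 (iv D2961)
def n5753 : Q := act 2 n2939
theorem D5753 : act 2 n2939 = n5753 := rfl
theorem F10202 : act 0 n5753 = n2941 := d1_1 D5753 (iv D2941) (iv F5140)
def n5755 : Q := act 5 n2939
theorem D5755 : act 5 n2939 = n5755 := rfl
theorem F10206 : act 0 n5755 = n2943 := d4_1 D5755 (iv D2943) (iv F5140)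
theorem F10207 : act 1 n5755 = n3211 := d9_1 D5755 (iv D3211) (iv F5141)
def n5757 : Q := act 3 n2940
theorem D5757 : act 3 n2940 = n5757 := rfl
theorem F10210 : act 0 n5757 = n2947 := d2_1 D5757 (iv D2947) (iv F5142)
theorem F10211 : act 1 n5757 = n2959 := d7_1 D5757 (iv D2959) (iv F5143)
def n5758 : Q := act 3 n2941
theorem D5758 : act 3 n2941 = n5758 := rfl
def n5759 : Q := act 4 n2941
theorem D5759 : act 4 n2941 = n5759 := rfl
theorem F10212 : act 2 n5759 = n2942 := d12_1 D5759 (iv D2942) D2941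
def n5760 : Q := act 5 n2941
theorem D5760 : act 5 n2941 = n5760 := rfl
theorem F10213 : act 2 n5760 = n2943 := d13_1 D5760 (iv D2943) D2941
def n5761 : Q := act 6 n2941
theorem D5761 : act 6 n2941 = n5761 := rfl
theorem F10214 : act 2 n5761 = n2944 := d14_1 D5761 (iv D2944) D2941
def n5762 : Q := act 3 n2942
theorem D5762 : act 3 n2942 = n5762 := rfl
theorem F10217 : act 4 n5762 = n2945 := d15_2 D2942 D5762 (iv D2945) (iv D1438) D1437
def n5763 : Q := act 5 n2942
theorem D5763 : act 5 n2942 = n5763 := rfl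
theorem F10218 : act 1 n5763 = n2949 := d9_1 D5763 (iv D2949) (iv F5147)
theorem F10219 : act 4 n5763 = n2943 := d18_1 D5763 (iv D2943) D2942
def n5764 : Q := act 6 n2942
theorem D5764 : act 6 n2942 = n5764 := rfl
theorem F10220 : act 1 n5764 = n2950 := d10_1 D5764 (iv D2950) (iv F5147)
theorem F10221 : act 4 n5764 = n2944 := d19_1 D5764 (iv D2944) D2942
def n5765 : Q := act 3 n2943
theorem D5765 : act 3 n2943 = n5765 := rfl
theorem F10222 : act 1 n5765 = n2951 := d7_1 D5765 (iv D2951) (iv F5148)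
theorem F10223 : act 5 n5765 = n2947 := d16_2 D2943 D5765 (iv D2947) (iv D1439) D1437
theorem F10224 : act 4 n4699 = n5765 := d21_4 F10223 F8480 (iv D4728) (iv F8442)
theorem F10225 : act 6 n5765 = n4727 := d21_3 D4728 (iv F8480) (iv F10223) (iv D4727)
def n5766 : Q := act 6 n2943
theorem D5766 : act 6 n2943 = n5766 := rfl
theorem F10227 : act 5 n5766 = n5764 := d21_2 D2943 D5766 (iv D5764) (iv D2942)
def n5768 : Q := act 2 n2945
theorem D5768 : act 2 n2945 = n5768 := rfl
theorem F10231 : act 0 n5768 = n3195 := d1_1 D5768 (iv D3195) (iv F5150)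
def n5769 : Q := act 5 n2945
theorem D5769 : act 5 n2945 = n5769 := rfl
theorem F10232 : act 0 n5769 = n3197 := d4_1 D5769 (iv D3197) (iv F5150)
theorem F10233 : act 1 n5769 = n2955 := d9_1 D5769 (iv D2955) (iv F5151)
def n5771 : Q := act 3 n2946
theorem D5771 : act 3 n2946 = n5771 := rfl
theorem F10237 : act 0 n5771 = n3199 := d2_1 D5771 (iv D3199) (iv F5152)
theorem F10238 : act 1 n5771 = n2957 := d7_1 D5771 (iv D2957) (iv F5153)
def n5772 : Q := act 2 n2947
theorem D5772 : act 2 n2947 = n5772 := rfl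
def n5773 : Q := act 4 n2947
theorem D5773 : act 4 n2947 = n5773 := rfl
theorem F10239 : act 1 n5773 = n2958 := d8_1 D5773 (iv D2958) (iv F5157)
theorem F10240 : act 5 n5773 = n4699 := d18_2 F10223 D5773 F10224
def n5774 : Q := act 2 n2948
theorem D5774 : act 2 n2948 = n5774 := rfl
theorem F10241 : act 0 n5774 = n3116 := d1_1 D5774 (iv D3116) (iv F5158)
theorem F10242 : act 4 n5774 = n2954 := d12_2 (iv F5159) D5774 (iv D2954)
theorem F10243 : act 1 n3279 = n5774 := d22_7 F2554 (iv F2658) D3098 F5384 D3266 F5594 D3279 (iv D5774) F5159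
def n5775 : Q := act 5 n2948
theorem D5775 : act 5 n2948 = n5775 := rfl
theorem F10244 : act 0 n5775 = n3117 := d4_1 D5775 (iv D3117) (iv F5158)
def n5777 : Q := act 3 n2949
theorem D5777 : act 3 n2949 = n5777 := rfl
theorem F10249 : act 4 n5777 = n4700 := d15_2 (iv F5161) D5777 (iv D4700) F5167 (iv D2951)
def n5779 : Q := act 3 n2953
theorem D5779 : act 3 n2953 = n5779 := rfl
theorem F10252 : act 0 n5779 = n3122 := d2_1 D5779 (iv D3122) (iv F5171)
def n5780 : Q := act 1 n2954
theorem D5780 : act 1 n2954 = n5780 := rfl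
theorem F10253 : act 4 n5780 = n3279 := d8_2 F10242 D5780 F10243
theorem F10254 : act 0 n3281 = n5780 := d22_0 (iv D5780) (iv D2954) F2554 (iv F2658) D3098 F5384 D3266 F5594 D3281
def n5781 : Q := act 3 n2954
theorem D5781 : act 3 n2954 = n5781 := rfl
theorem F10255 : act 0 n5781 = n3124 := d2_1 D5781 (iv D3124) (iv F5174)
theorem F10256 : act 2 n5781 = n3305 := d11_1 D5781 (iv D3305) (iv D1608) (iv D764) F684 F357 (iv F648) D727 D1528 D3124 (iv F9858) (iv F9860) (iv D3210) (iv D1568) F1363 F673 (iv F1277) D1443 D2954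
theorem F10257 : act 4 n5581 = n5781 := d12_0 F10256 (iv F8217) D5581
theorem F10258 : act 6 n3287 = n5781 := d14_0 F10256 F8216 F8219
def n5782 : Q := act 5 n2954
theorem D5782 : act 5 n2954 = n5782 := rfl
theorem F10259 : act 0 n5782 = n3125 := d4_1 D5782 (iv D3125) (iv F5174)
def n5783 : Q := act 6 n2954
theorem D5783 : act 6 n2954 = n5783 := rfl
theorem F10262 : act 2 n5783 = n2956 := d14_1 D5783 (iv D2956) D2954
theorem F10263 : act 3 n5783 = n3289 := d17_1 D5783 (iv D3289) D3287 F10258 (iv D5781)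
def n5784 : Q := act 3 n2955
theorem D5784 : act 3 n2955 = n5784 := rfl
theorem F10264 : act 0 n5784 = n3127 := d2_1 D5784 (iv D3127) (iv F5175)
theorem F10265 : act 5 n5784 = n2957 := d16_2 D2955 D5784 (iv D2957) (iv D1444) D1443
theorem F10266 : act 2 n5784 = n3395 := d24_3 (iv D2956) D2955 D5784 F5779 D3399 F5783 F5644 (iv D1613) (iv F2752) (iv D1605) (iv F2747) D3291 F5626 (iv F10263) F10262
theorem F10267 : act 6 n3397 = n5784 := d14_0 F10266 F5779 D3397
def n5786 : Q := act 5 n2956
theorem D5786 : act 5 n2956 = n5786 := rfl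
theorem F10270 : act 0 n5786 = n3129 := d4_1 D5786 (iv D3129) (iv F5176)
def n5787 : Q := act 2 n2957
theorem D5787 : act 2 n2957 = n5787 := rfl
theorem F10274 : act 5 n5787 = n3395 := d13_2 F10265 D5787 (iv F10266)
def n5788 : Q := act 4 n2957
theorem D5788 : act 4 n2957 = n5788 := rfl
theorem F10275 : act 0 n5788 = n3131 := d3_1 D5788 (iv D3131) (iv F5177)
theorem F10276 : act 3 n5788 = n2958 := d15_1 D5788 (iv D2958) (iv D1445) (iv F2557) D2957
def n5789 : Q := act 6 n2957
theorem D5789 : act 6 n2957 = n5789 := rfl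
theorem F10278 : act 3 n5789 = n3215 := d17_1 D5789 (iv D3215) (iv D1569) (iv F2558) D2957
def n5790 : Q := act 4 n2959
theorem D5790 : act 4 n2959 = n5790 := rfl
theorem F10281 : act 3 n5790 = n3214 := d15_1 D5790 (iv D3214) (iv D1569) (iv F2562) D2959
theorem F10282 : act 6 n5790 = n4722 := d19_2 F8487 D5790 (iv F8490)
def n5791 : Q := act 1 n2960
theorem D5791 : act 1 n2960 = n5791 := rfl
theorem F10283 : act 2 n5791 = n5791 := d6_2 D2960 D5791 (iv D5791) (iv D2960) F2565
def n5792 : Q := act 3 n2960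
theorem D5792 : act 3 n2960 = n5792 := rfl
theorem F10284 : act 0 n5792 = n3141 := d2_1 D5792 (iv D3141) (iv F5182)
def n5793 : Q := act 4 n2960
theorem D5793 : act 4 n2960 = n5793 := rfl
theorem F10285 : act 0 n5793 = n3142 := d3_1 D5793 (iv D3142) (iv F5182)
theorem F10286 : act 2 n5793 = n2961 := d12_1 D5793 (iv D2961) D2960
theorem F10287 : act 5 n5793 = n5749 := d18_2 F5203 D5793 F10189
def n5794 : Q := act 3 n2962
theorem D5794 : act 3 n2962 = n5794 := rfl
theorem F10288 : act 1 n5794 = n2963 := d7_1 D5794 (iv D2963) D2962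
def n5795 : Q := act 6 n2962
theorem D5795 : act 6 n2962 = n5795 := rfl
theorem F10292 : act 4 n5795 = n3890 := d19_1 D5795 (iv F10152) F10151
theorem F10293 : act 5 n5795 = n5718 := d20_1 D5795 F10120 D5730 F10152 (iv F6799) (iv D2969) (iv F5188)
theorem F10294 : act 3 n3043 = n5795 := d15_5 F10292 (iv D3890) (iv F4336) F5335 F5333
def n5796 : Q := act 2 n2963
theorem D5796 : act 2 n2963 = n5796 := rfl
theorem F10295 : act 0 n5796 = n3145 := d1_1 D5796 (iv D3145) (iv F5189)
def n5798 : Q := act 5 n2963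
theorem D5798 : act 5 n2963 = n5798 := rfl
theorem F10298 : act 0 n5798 = n3147 := d4_1 D5798 (iv D3147) (iv F5189)
theorem F10299 : act 3 n5798 = n2971 := d16_1 D5798 (iv D2971) (iv D1453) (iv F2567) D2963
def n5799 : Q := act 2 n2966
theorem D5799 : act 2 n2966 = n5799 := rfl
theorem F10301 : act 6 n5799 = n2967 := d14_2 (iv F5201) D5799 (iv D2967)
def n5800 : Q := act 1 n2967
theorem D5800 : act 1 n2967 = n5800 := rfl
theorem F10302 : act 2 n5800 = n5800 := d6_2 D2967 D5800 (iv D5800) (iv D2967) F2574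
theorem F10303 : act 5 n5800 = n5791 := d9_2 (iv F5203) D5800 (iv D5791)
def n5801 : Q := act 3 n2967
theorem D5801 : act 3 n2967 = n5801 := rfl
theorem F10304 : act 0 n5801 = n3151 := d2_1 D5801 (iv D3151) (iv F5202)
def n5802 : Q := act 2 n2968
theorem D5802 : act 2 n2968 = n5802 := rfl
def n5803 : Q := act 4 n2968
theorem D5803 : act 4 n2968 = n5803 := rfl
theorem F10305 : act 1 n5803 = n2970 := d8_1 D5803 (iv D2970) (iv F5204)
def n5804 : Q := act 5 n2968
theorem D5804 : act 5 n2968 = n5804 := rfl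
theorem F10306 : act 1 n5804 = n2971 := d9_1 D5804 (iv D2971) (iv F5204)
def n5805 : Q := act 6 n2968
theorem D5805 : act 6 n2968 = n5805 := rfl
theorem F10307 : act 1 n5805 = n2972 := d10_1 D5805 (iv D2972) (iv F5204)
def n5807 : Q := act 3 n2970
theorem D5807 : act 3 n2970 = n5807 := rfl
theorem F10311 : act 0 n5807 = n3162 := d2_1 D5807 (iv D3162) (iv F5207)
theorem F10312 : act 4 n5807 = n2973 := d15_2 D2970 D5807 (iv D2973) (iv D1454) D1453
def n5808 : Q := act 5 n2970
theorem D5808 : act 5 n2970 = n5808 := rfl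
theorem F10313 : act 0 n5808 = n3163 := d4_1 D5808 (iv D3163) (iv F5207)
theorem F10314 : act 4 n5808 = n2971 := d18_1 D5808 (iv D2971) D2970
def n5809 : Q := act 6 n2970
theorem D5809 : act 6 n2970 = n5809 := rfl
theorem F10316 : act 4 n5809 = n2972 := d19_1 D5809 (iv D2972) D2970
def n5810 : Q := act 6 n2971
theorem D5810 : act 6 n2971 = n5810 := rfl
theorem F10317 : act 0 n5810 = n3165 := d5_1 D5810 (iv D3165) (iv F5208)
theorem F10318 : act 5 n5810 = n5809 := d21_2 D2971 D5810 (iv D5809) (iv D2970)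
def n5811 : Q := act 3 n2972
theorem D5811 : act 3 n2972 = n5811 := rfl
theorem F10320 : act 6 n5811 = n2975 := d17_2 D2972 D5811 (iv D2975) (iv D1455) D1453
def n5812 : Q := act 5 n2972
theorem D5812 : act 5 n2972 = n5812 := rfl
theorem F10322 : act 4 n5812 = n5810 := d18_1 D5812 F10318 F10316
theorem F10323 : act 6 n5812 = n5808 := d20_2 D2972 D5812 (iv D5808) D5809 (iv F10318) (iv D5810) (iv D2971)
def n5813 : Q := act 2 n2973
theorem D5813 : act 2 n2973 = n5813 := rfl
theorem F10324 : act 0 n5813 = n3168 := d1_1 D5813 (iv D3168) (iv F5210)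
def n5815 : Q := act 6 n2973
theorem D5815 : act 6 n2973 = n5815 := rfl
theorem F10327 : act 0 n5815 = n3170 := d5_1 D5815 (iv D3170) (iv F5210)
def n5816 : Q := act 2 n2975
theorem D5816 : act 2 n2975 = n5816 := rfl
theorem F10329 : act 5 n5816 = n4773 := d13_2 (iv F5216) D5816 (iv D4773)
def n5817 : Q := act 4 n2975
theorem D5817 : act 4 n2975 = n5817 := rfl
theorem F10331 : act 5 n5817 = n4768 := d18_2 (iv F5216) D5817 F8545
def n5820 : Q := act 4 n2976
theorem D5820 : act 4 n2976 = n5820 := rfl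
theorem F10335 : act 2 n5820 = n2977 := d12_1 D5820 (iv D2977) D2976
def n5821 : Q := act 5 n2976
theorem D5821 : act 5 n2976 = n5821 := rfl
theorem F10336 : act 0 n5821 = n2984 := d4_1 D5821 (iv D2984) (iv F5217)
theorem F10337 : act 2 n5821 = n2978 := d13_1 D5821 (iv D2978) D2976
def n5823 : Q := act 5 n2977
theorem D5823 : act 5 n2977 = n5823 := rfl
theorem F10342 : act 4 n5823 = n2978 := d18_1 D5823 (iv D2978) D2977
def n5824 : Q := act 6 n2977
theorem D5824 : act 6 n2977 = n5824 := rfl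
theorem F10345 : act 4 n5824 = n2979 := d19_1 D5824 (iv D2979) D2977
def n5825 : Q := act 6 n2978
theorem D5825 : act 6 n2978 = n5825 := rfl
theorem F10346 : act 0 n5825 = n2989 := d5_1 D5825 (iv D2989) (iv F5221)
def n5826 : Q := act 3 n2979
theorem D5826 : act 3 n2979 = n5826 := rfl
theorem F10349 : act 0 n5826 = n2990 := d2_1 D5826 (iv D2990) (iv F5223)
theorem F10350 : act 1 n5826 = n3033 := d7_1 D5826 F5287 (iv F5224)
theorem F10351 : act 6 n5826 = n2980 := d17_2 D2979 D5826 (iv D2980) (iv D1459) D1458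
theorem F10352 : act 5 n5260 = n5826 := d9_0 F10350 (iv F5292) D5260
def n5829 : Q := act 4 n2980
theorem D5829 : act 4 n2980 = n5829 := rfl
theorem F10360 : act 3 n5829 = n3227 := d15_1 D5829 (iv D3227) (iv D1574) (iv F2594) D2980
def n5830 : Q := act 5 n2980
theorem D5830 : act 5 n2980 = n5830 := rfl
theorem F10363 : act 3 n5830 = n2998 := d16_1 D5830 (iv D2998) (iv D1466) (iv F2595) D2980
theorem F10364 : act 6 n5830 = n5266 := d21_3 F10352 F10351 D5830 (iv F9386)
def n5841 : Q := act 5 n2983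
theorem D5841 : act 5 n2983 = n5841 := rfl
theorem F10373 : act 2 n5841 = n2987 := d13_1 D5841 (iv D2987) (iv F5228)
theorem F10374 : act 4 n5841 = n2984 := d18_1 D5841 (iv D2984) D2983
def n5842 : Q := act 6 n2983
theorem D5842 : act 6 n2983 = n5842 := rfl
theorem F10376 : act 4 n5842 = n2985 := d19_1 D5842 (iv D2985) D2983
def n5844 : Q := act 6 n2984
theorem D5844 : act 6 n2984 = n5844 := rfl
theorem F10377 : act 2 n5844 = n2989 := d14_1 D5844 (iv D2989) (iv F5229)
theorem F10378 : act 5 n5844 = n5842 := d21_2 D2984 D5844 (iv D5842) (iv D2983)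
def n5847 : Q := act 2 n2986
theorem D5847 : act 2 n2986 = n5847 := rfl
theorem F10383 : act 4 n5847 = n2992 := d12_2 (iv F5233) D5847 (iv D2992)
def n5848 : Q := act 5 n2986
theorem D5848 : act 5 n2986 = n5848 := rfl
theorem F10384 : act 0 n5848 = n3221 := d4_1 D5848 (iv D3221) (iv F5231)
theorem F10385 : act 1 n5848 = n3011 := d9_1 D5848 (iv D3011) (iv F5232)
theorem F10386 : act 4 n5848 = n2993 := d18_1 D5848 (iv D2993) (iv F5233)
def n5849 : Q := act 6 n2986
theorem D5849 : act 6 n2986 = n5849 := rfl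
theorem F10388 : act 1 n5849 = n3012 := d10_1 D5849 (iv D3012) (iv F5232)
theorem F10389 : act 4 n5849 = n2994 := d19_1 D5849 (iv D2994) (iv F5233)
def n5850 : Q := act 3 n2987
theorem D5850 : act 3 n2987 = n5850 := rfl
theorem F10390 : act 1 n5850 = n3013 := d7_1 D5850 (iv D3013) (iv F5234)
def n5852 : Q := act 3 n2989
theorem D5852 : act 3 n2989 = n5852 := rfl
theorem F10392 : act 1 n5852 = n3015 := d7_1 D5852 (iv D3015) (iv F5238)
def n5855 : Q := act 1 n2992
theorem D5855 : act 1 n2992 = n5855 := rfl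
theorem F10395 : act 2 n5855 = n3017 := d6_2 D2992 D5855 (iv D3017) (iv D1477) (iv F2600)
def n5857 : Q := act 5 n2992
theorem D5857 : act 5 n2992 = n5857 := rfl
def n5858 : Q := act 6 n2992
theorem D5858 : act 6 n2992 = n5858 := rfl
theorem F10399 : act 0 n5858 = n3220 := d5_1 D5858 (iv D3220) (iv F5245)
theorem F10400 : act 2 n5858 = n2994 := d14_1 D5858 (iv D2994) D2992
def n5859 : Q := act 6 n2993
theorem D5859 : act 6 n2993 = n5859 := rfl
theorem F10401 : act 0 n5859 = n3223 := d5_1 D5859 (iv D3223) (iv F5246)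
theorem F10402 : act 1 n5859 = n3021 := d10_1 D5859 (iv D3021) (iv F5247)
theorem F10403 : act 5 n5859 = n5849 := d21_2 D2993 D5859 (iv D5849) F5233
def n5860 : Q := act 3 n2994
theorem D5860 : act 3 n2994 = n5860 := rfl
theorem F10405 : act 1 n5860 = n3022 := d7_1 D5860 (iv D3022) (iv F5250)
theorem F10406 : act 6 n5860 = n2995 := d17_2 D2994 D5860 (iv D2995) (iv D1465) D1464
def n5861 : Q := act 5 n2994
theorem D5861 : act 5 n2994 = n5861 := rfl
theorem F10407 : act 0 n5861 = n3225 := d4_1 D5861 (iv D3225) (iv F5249)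
theorem F10408 : act 1 n5861 = n3023 := d9_1 D5861 (iv D3023) (iv F5250)
theorem F10409 : act 4 n5861 = n5859 := d18_1 D5861 F10403 F10389
theorem F10410 : act 6 n5861 = n5848 := d20_2 D2994 D5861 (iv D5848) D5849 (iv F10403) (iv D5859) (iv D2993)
def n5862 : Q := act 2 n2995
theorem D5862 : act 2 n2995 = n5862 := rfl
theorem F10411 : act 0 n5862 = n3226 := d1_1 D5862 (iv D3226) (iv F5251)
def n5864 : Q := act 5 n2995
theorem D5864 : act 5 n2995 = n5864 := rfl
theorem F10415 : act 0 n5864 = n3228 := d4_1 D5864 (iv D3228) (iv F5251)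
theorem F10416 : act 1 n5864 = n3026 := d9_1 D5864 (iv D3026) (iv F5252)
theorem F10417 : act 3 n5864 = n3228 := d16_1 D5864 (iv D3228) (iv D1574) (iv F2605) D2995
def n5869 : Q := act 5 n2997
theorem D5869 : act 5 n2997 = n5869 := rfl
theorem F10425 : act 4 n5869 = n2998 := d18_1 D5869 (iv D2998) D2997
def n5874 : Q := act 3 n3000
theorem D5874 : act 3 n3000 = n5874 := rfl
theorem F10435 : act 1 n5874 = n3003 := d7_1 D5874 (iv D3003) (iv F5256)
theorem F10436 : act 5 n5386 = n5874 := d9_0 F10435 F9190 (iv F9591)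
def n5879 : Q := act 3 n3002
theorem D5879 : act 3 n3002 = n5879 := rfl
theorem F10445 : act 1 n5879 = n3008 := d7_1 D5879 (iv D3008) (iv F5258)
def n5881 : Q := act 2 n3003
theorem D5881 : act 2 n3003 = n5881 := rfl
theorem F10449 : act 0 n5881 = n3373 := d1_1 D5881 (iv F9552) F9528
theorem F10450 : act 4 n5881 = n3237 := d12_2 F8082 D5881 F9376
theorem F10451 : act 5 n5881 = n5389 := d13_2 (iv F9190) D5881 (iv D5389)
theorem F10452 : act 3 n5881 = n3234 := d23_7 D3380 F9554 (iv D3010) (iv D1471) (iv F2607) D3003 D5881 F5558 D3321 F5657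
def n5882 : Q := act 6 n3003
theorem D5882 : act 6 n3003 = n5882 := rfl
def n5883 : Q := act 3 n3005
theorem D5883 : act 3 n3005 = n5883 := rfl
def n5888 : Q := act 2 n3008
theorem D5888 : act 2 n3008 = n5888 := rfl
def n5889 : Q := act 4 n3008
theorem D5889 : act 4 n3008 = n5889 := rfl
def n5891 : Q := act 3 n3009
theorem D5891 : act 3 n3009 = n5891 := rfl
def n5892 : Q := act 1 n3010
theorem D5892 : act 1 n3010 = n5892 := rfl
theorem F10458 : act 0 n5892 = n3179 := d0_1 D5892 (iv D3179) F2702 D1575 D3229 F10064 F10062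
theorem F10459 : act 3 n5892 = n3369 := d7_2 F9554 D5892 F5760
theorem F10460 : act 4 n5892 = n3017 := d8_2 (iv F5268) D5892 (iv D3017)
def n5893 : Q := act 5 n3010
theorem D5893 : act 5 n3010 = n5893 := rfl
theorem F10461 : act 2 n5893 = n3011 := d13_1 D5893 (iv D3011) D3010
theorem F10462 : act 4 n5893 = n3019 := d18_1 D5893 (iv D3019) (iv F5268)
def n5894 : Q := act 6 n3010
theorem D5894 : act 6 n3010 = n5894 := rfl
theorem F10464 : act 4 n5894 = n3020 := d19_1 D5894 (iv D3020) (iv F5268)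
def n5895 : Q := act 3 n3011
theorem D5895 : act 3 n3011 = n5895 := rfl
theorem F10465 : act 5 n5895 = n3013 := d16_2 D3011 D5895 (iv D3013) (iv D1472) D1471
theorem F10466 : act 2 n4689 = n5895 := d13_3 F10465 F9192 (iv F8438)
def n5896 : Q := act 3 n3012
theorem D5896 : act 3 n3012 = n5896 := rfl
theorem F10467 : act 6 n5896 = n3014 := d17_2 D3012 D5896 (iv D3014) (iv D1473) D1471
def n5897 : Q := act 6 n3013
theorem D5897 : act 6 n3013 = n5897 := rfl
theorem F10468 : act 2 n5897 = n4692 := d14_1 D5897 (iv D4692) (iv F9192)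
def n5899 : Q := act 5 n3014
theorem D5899 : act 5 n3014 = n5899 := rfl
def n5900 : Q := act 2 n3015
theorem D5900 : act 2 n3015 = n5900 := rfl
def n5901 : Q := act 4 n3015
theorem D5901 : act 4 n3015 = n5901 := rfl
def n5902 : Q := act 5 n3015
theorem D5902 : act 5 n3015 = n5902 := rfl
theorem F10469 : act 3 n5902 = n5899 := d16_1 D5902 (iv D5899) (iv D3014) (iv F2613) D3015
def n5905 : Q := act 6 n3016
theorem D5905 : act 6 n3016 = n5905 := rfl
theorem F10471 : act 3 n5905 = n5897 := d17_1 D5905 (iv D5897) (iv D3013) (iv F2616) D3016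
def n5906 : Q := act 0 n3017
theorem D5906 : act 0 n3017 = n5906 := rfl
theorem F10472 : act 1 n5906 = n3180 := d0_2 D3017 D5906 F5472 (iv F5554) F10075 (iv D5701) F5079
theorem F10473 : act 4 n5906 = n3179 := d3_2 F10460 D5906 (iv F10458)
def n5907 : Q := act 3 n3017
theorem D5907 : act 3 n3017 = n5907 := rfl
theorem F10474 : act 1 n5907 = n3018 := d7_1 D5907 (iv D3018) D3017
def n5908 : Q := act 5 n3017
theorem D5908 : act 5 n3017 = n5908 := rfl
def n5909 : Q := act 6 n3017
theorem D5909 : act 6 n3017 = n5909 := rfl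
def n5910 : Q := act 6 n3018
theorem D5910 : act 6 n3018 = n5910 := rfl
def n5911 : Q := act 3 n3019
theorem D5911 : act 3 n3019 = n5911 := rfl
theorem F10477 : act 0 n5911 = n3238 := d2_1 D5911 (iv F10082) F10080
theorem F10478 : act 2 n5911 = n3184 := d11_1 D5911 F9577 (iv D5372) (iv D2749) (iv F4836) D5358 (iv F9565) F5493 (iv F10081) F10082 F5563 D3247 (iv F9194) (iv D4498) (iv F8084) (iv F9372) F5579 F2738 (iv F5271)
theorem F10479 : act 5 n5911 = n3180 := d16_2 D3019 D5911 (iv F9550) F9556 (iv D3018)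
theorem F10480 : act 4 n3181 = n5911 := d18_3 F10479 (iv D3180) D3181
def n5912 : Q := act 6 n3019
theorem D5912 : act 6 n3019 = n5912 := rfl
theorem F10482 : act 5 n5912 = n5894 := d21_2 D3019 D5912 (iv D5894) F5268
def n5913 : Q := act 3 n3020
theorem D5913 : act 3 n3020 = n5913 := rfl
def n5914 : Q := act 5 n3020
theorem D5914 : act 5 n3020 = n5914 := rfl
theorem F10483 : act 2 n5914 = n3023 := d13_1 D5914 (iv D3023) (iv F5272)
theorem F10484 : act 4 n5914 = n5912 := d18_1 D5914 F10482 F10464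
theorem F10485 : act 6 n5914 = n5893 := d20_2 D3020 D5914 (iv D5893) D5894 (iv F10482) (iv D5912) (iv D3019)
def n5915 : Q := act 3 n3021
theorem D5915 : act 3 n3021 = n5915 := rfl
def n5916 : Q := act 4 n3022
theorem D5916 : act 4 n3022 = n5916 := rfl
theorem F10486 : act 6 n5916 = n3025 := d19_2 (iv F5274) D5916 (iv D3025)
def n5926 : Q := act 2 n3028
theorem D5926 : act 2 n3028 = n5926 := rfl
theorem F10501 : act 3 n5926 = n5722 := d23_1 D5926 (iv D5722) (iv D2921) (iv D1426) (iv D681) (iv F1256) D1423 (iv F4470) D4976 F8845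
def n5930 : Q := act 3 n3029
theorem D5930 : act 3 n3029 = n5930 := rfl
def n5933 : Q := act 6 n3032
theorem D5933 : act 6 n3032 = n5933 := rfl
theorem F10507 : act 4 n5933 = n3033 := d19_1 D5933 (iv D3033) D3032
def n5934 : Q := act 0 n3034
theorem D5934 : act 0 n3034 = n5934 := rfl
theorem F10510 : act 4 n3049 = n5934 := d22_9 (iv D5934) (iv D3034) (iv D1485) (iv F2515) F2516 D2917 F5087 D3034 (iv F5312)
def n5936 : Q := act 4 n3034
theorem D5936 : act 4 n3034 = n5936 := rfl
theorem F10512 : act 0 n5936 = n3049 := d3_1 D5936 F10510 (iv D5934)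
theorem F10514 : act 2 n5936 = n5934 := d12_1 D5936 (iv F10510) F5312
def n5937 : Q := act 5 n3034
theorem D5937 : act 5 n3034 = n5937 := rfl
theorem F10516 : act 1 n5937 = n3037 := d9_1 D5937 (iv D3037) D3034
def n5941 : Q := act 6 n3035
theorem D5941 : act 6 n3035 = n5941 := rfl
def n5943 : Q := act 5 n3036
theorem D5943 : act 5 n3036 = n5943 := rfl
theorem F10518 : act 4 n5943 = n3037 := d18_1 D5943 (iv D3037) D3036
theorem F10519 : act 6 n5943 = n3048 := d21_1 D5943 F5311 F2628 D3036
def n5944 : Q := act 3 n3037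
theorem D5944 : act 3 n3037 = n5944 := rfl
theorem F10520 : act 2 n5944 = n4849 := d23_2 (iv F5294) D5944 (iv D4849) (iv D2480) (iv D1223) (iv F2234) D2477 F4378 (iv F5093) F5091
def n5945 : Q := act 6 n3037
theorem D5945 : act 6 n3037 = n5945 := rfl
theorem F10523 : act 5 n5945 = n3051 := d20_1 D5945 F5315 D5943 F10519 F5311 F2628 D3037
def n5946 : Q := act 3 n3040
theorem D5946 : act 3 n3040 = n5946 := rfl
theorem F10524 : act 0 n5946 = n3041 := d2_1 D5946 (iv D3041) D3040
theorem F10526 : act 5 n5946 = n5719 := d16_2 F5437 D5946 (iv D5719) D5721 (iv F10132)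
def n5947 : Q := act 2 n3041
theorem D5947 : act 2 n3041 = n5947 := rfl
def n5948 : Q := act 4 n3041
theorem D5948 : act 4 n3041 = n5948 := rfl
theorem F10527 : act 1 n5948 = n3045 := d8_1 D5948 (iv D3045) (iv F5303)
def n5949 : Q := act 5 n3041
theorem D5949 : act 5 n3041 = n5949 := rfl
theorem F10528 : act 0 n5949 = n5719 := d4_1 D5949 (iv F10526) F10524
theorem F10529 : act 1 n5949 = n3046 := d9_1 D5949 (iv D3046) (iv F5303)
theorem F10530 : act 3 n5949 = n5718 := d16_1 D5949 (iv F10293) (iv F10294) (iv D3043) D3041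
def n5950 : Q := act 6 n3041
theorem D5950 : act 6 n3041 = n5950 := rfl
theorem F10531 : act 1 n5950 = n3047 := d10_1 D5950 (iv D3047) (iv F5303)
theorem F10532 : act 3 n5950 = n3057 := d17_1 D5950 (iv D3057) (iv D1496) (iv F2622) D3041
def n5952 : Q := act 3 n3044
theorem D5952 : act 3 n3044 = n5952 := rfl
theorem F10534 : act 2 n5952 = n4976 := d11_1 D5952 (iv D4976) F4470 (iv D1423) F1256 D681 D1426 D2921 D5722 (iv F10501) (iv D5926) (iv D3028) (iv D1481) (iv D706) F640 D335 D709 D1489 D3044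
def n5953 : Q := act 4 n3044
theorem D5953 : act 4 n3044 = n5953 := rfl
theorem F10535 : act 2 n5953 = n3045 := d12_1 D5953 (iv D3045) D3044
def n5954 : Q := act 5 n3044
theorem D5954 : act 5 n3044 = n5954 := rfl
theorem F10536 : act 2 n5954 = n3046 := d13_1 D5954 (iv D3046) D3044
def n5956 : Q := act 5 n3045
theorem D5956 : act 5 n3045 = n5956 := rfl
theorem F10538 : act 3 n5956 = n5817 := d16_1 D5956 F10331 (iv D4768) D4769 (iv F8547)
def n5957 : Q := act 6 n3045
theorem D5957 : act 6 n3045 = n5957 := rfl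
theorem F10540 : act 4 n5957 = n3047 := d19_1 D5957 (iv D3047) D3045
def n5958 : Q := act 6 n3046
theorem D5958 : act 6 n3046 = n5958 := rfl
theorem F10541 : act 3 n5958 = n5815 := d17_1 D5958 (iv D5815) (iv D2973) D2974 (iv F5309)
theorem F10542 : act 5 n5958 = n5957 := d21_2 D3046 D5958 (iv D5957) (iv D3045)
def n5959 : Q := act 5 n3047
theorem D5959 : act 5 n3047 = n5959 := rfl
theorem F10543 : act 4 n5959 = n5958 := d18_1 D5959 F10542 F10540
theorem F10544 : act 6 n5959 = n5956 := d20_2 D3047 D5959 (iv D5956) D5957 (iv F10542) (iv D5958) (iv D3046)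
def n5960 : Q := act 1 n3048
theorem D5960 : act 1 n3048 = n5960 := rfl
theorem F10545 : act 2 n5960 = n5937 := d6_2 D3048 D5960 F10516 F5294 (iv F2626)
theorem F10546 : act 5 n5960 = n3049 := d9_2 (iv F5311) D5960 (iv D3049)
def n5962 : Q := act 3 n3049
theorem D5962 : act 3 n3049 = n5962 := rfl
theorem F10547 : act 1 n5962 = n3050 := d7_1 D5962 (iv D3050) D3049
def n5963 : Q := act 2 n3050
theorem D5963 : act 2 n3050 = n5963 := rfl
def n5964 : Q := act 4 n3050
theorem D5964 : act 4 n3050 = n5964 := rfl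
def n5965 : Q := act 5 n3050
theorem D5965 : act 5 n3050 = n5965 := rfl
def n5966 : Q := act 6 n3050
theorem D5966 : act 6 n3050 = n5966 := rfl
theorem F10548 : act 3 n5966 = n5941 := d17_1 D5966 (iv D5941) (iv D3035) (iv F2628) D3050
def n5968 : Q := act 2 n3052
theorem D5968 : act 2 n3052 = n5968 := rfl
theorem F10549 : act 0 n5968 = n3054 := d1_1 D5968 (iv D3054) (iv F5316)
def n5969 : Q := act 4 n3052
theorem D5969 : act 4 n3052 = n5969 := rfl
theorem F10550 : act 0 n5969 = n3055 := d3_1 D5969 (iv D3055) (iv F5316)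
theorem F10551 : act 1 n5969 = n3162 := d8_1 D5969 F5457 (iv F5317)
theorem F10552 : act 3 n5969 = n3153 := d15_1 D5969 (iv D3153) (iv D1544) F2633 D3052
def n5970 : Q := act 5 n3052
theorem D5970 : act 5 n3052 = n5970 := rfl
theorem F10553 : act 0 n5970 = n3056 := d4_1 D5970 (iv D3056) (iv F5316)
def n5971 : Q := act 6 n3052
theorem D5971 : act 6 n3052 = n5971 := rfl
theorem F10555 : act 0 n5971 = n3057 := d5_1 D5971 (iv D3057) (iv F5316)
theorem F10556 : act 1 n5971 = n3170 := d10_1 D5971 (iv D3170) (iv F5317)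
def n5972 : Q := act 1 n3054
theorem D5972 : act 1 n3054 = n5972 := rfl
theorem F10557 : act 2 n5972 = n3062 := d6_2 D3054 D5972 (iv D3062) (iv D1499) (iv F2634)
def n5973 : Q := act 3 n3054
theorem D5973 : act 3 n3054 = n5973 := rfl
def n5974 : Q := act 4 n3054
theorem D5974 : act 4 n3054 = n5974 := rfl
theorem F10558 : act 2 n5974 = n3055 := d12_1 D5974 (iv D3055) D3054
def n5975 : Q := act 5 n3054
theorem D5975 : act 5 n3054 = n5975 := rfl
theorem F10559 : act 2 n5975 = n3056 := d13_1 D5975 (iv D3056) D3054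
def n5976 : Q := act 6 n3054
theorem D5976 : act 6 n3054 = n5976 := rfl
theorem F10560 : act 2 n5976 = n3057 := d14_1 D5976 (iv D3057) D3054
def n5977 : Q := act 3 n3055
theorem D5977 : act 3 n3055 = n5977 := rfl
theorem F10561 : act 0 n5977 = n3153 := d2_1 D5977 (iv F10552) F10550
theorem F10562 : act 1 n5977 = n3066 := d7_1 D5977 (iv D3066) (iv F5321)
theorem F10563 : act 4 n5977 = n3058 := d15_2 D3055 D5977 (iv D3058) (iv D1497) D1496
def n5978 : Q := act 5 n3055
theorem D5978 : act 5 n3055 = n5978 := rfl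
theorem F10565 : act 4 n5978 = n3056 := d18_1 D5978 (iv D3056) D3055
def n5979 : Q := act 6 n3055
theorem D5979 : act 6 n3055 = n5979 := rfl
theorem F10566 : act 1 n5979 = n3068 := d10_1 D5979 (iv D3068) (iv F5321)
theorem F10567 : act 4 n5979 = n3057 := d19_1 D5979 (iv D3057) D3055
def n5980 : Q := act 3 n3056
theorem D5980 : act 3 n3056 = n5980 := rfl
theorem F10569 : act 5 n5980 = n3060 := d16_2 D3056 D5980 (iv D3060) (iv D1498) D1496
def n5981 : Q := act 6 n3056
theorem D5981 : act 6 n3056 = n5981 := rfl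
theorem F10571 : act 5 n5981 = n5979 := d21_2 D3056 D5981 (iv D5979) (iv D3055)
def n5982 : Q := act 5 n3057
theorem D5982 : act 5 n3057 = n5982 := rfl
theorem F10572 : act 1 n5982 = n3071 := d9_1 D5982 (iv D3071) (iv F5323)
theorem F10573 : act 4 n5982 = n5981 := d18_1 D5982 F10571 F10567
theorem F10574 : act 6 n5982 = n5978 := d20_2 D3057 D5982 (iv D5978) D5979 (iv F10571) (iv D5981) (iv D3056)
def n5983 : Q := act 2 n3058
theorem D5983 : act 2 n3058 = n5983 := rfl
theorem F10575 : act 0 n5983 = n3152 := d1_1 D5983 (iv D3152) (iv F5324)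
def n5984 : Q := act 5 n3058
theorem D5984 : act 5 n3058 = n5984 := rfl
theorem F10576 : act 0 n5984 = n3154 := d4_1 D5984 (iv D3154) (iv F5324)
theorem F10577 : act 1 n5984 = n3073 := d9_1 D5984 (iv D3073) (iv F5325)
def n5985 : Q := act 6 n3058
theorem D5985 : act 6 n3058 = n5985 := rfl
theorem F10578 : act 0 n5985 = n3155 := d5_1 D5985 (iv D3155) (iv F5324)
theorem F10579 : act 1 n5985 = n3074 := d10_1 D5985 (iv D3074) (iv F5325)
def n5986 : Q := act 3 n3059
theorem D5986 : act 3 n3059 = n5986 := rfl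
theorem F10580 : act 0 n5986 = n3143 := d2_1 D5986 (iv D3143) (iv F5326)
theorem F10581 : act 1 n5986 = n3075 := d7_1 D5986 (iv D3075) (iv F5327)
theorem F10582 : act 6 n5986 = n5794 := d17_2 (iv F5330) D5986 (iv D5794) D5795 (iv F10294)
def n5995 : Q := act 6 n3063
theorem D5995 : act 6 n3063 = n5995 := rfl
theorem F10589 : act 2 n5995 = n3068 := d14_1 D5995 (iv D3068) (iv F5336)
def n5999 : Q := act 5 n3065
theorem D5999 : act 5 n3065 = n5999 := rfl
theorem F10593 : act 2 n5999 = n3071 := d13_1 D5999 (iv D3071) (iv F5338)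
def n6000 : Q := act 2 n3066
theorem D6000 : act 2 n3066 = n6000 := rfl
theorem F10596 : act 4 n6000 = n3072 := d12_2 (iv F5339) D6000 (iv D3072)
def n6001 : Q := act 5 n3066
theorem D6001 : act 5 n3066 = n6001 := rfl
theorem F10597 : act 4 n6001 = n3073 := d18_1 D6001 (iv D3073) (iv F5339)
def n6002 : Q := act 6 n3066
theorem D6002 : act 6 n3066 = n6002 := rfl
theorem F10598 : act 4 n6002 = n3074 := d19_1 D6002 (iv D3074) (iv F5339)
def n6004 : Q := act 3 n3068
theorem D6004 : act 3 n3068 = n6004 := rfl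
def n6009 : Q := act 3 n3071
theorem D6009 : act 3 n3071 = n6009 := rfl
def n6010 : Q := act 1 n3072
theorem D6010 : act 1 n3072 = n6010 := rfl
def n6011 : Q := act 3 n3072
theorem D6011 : act 3 n3072 = n6011 := rfl
def n6012 : Q := act 5 n3072
theorem D6012 : act 5 n3072 = n6012 := rfl
theorem F10604 : act 2 n6012 = n3073 := d13_1 D6012 (iv D3073) D3072
def n6013 : Q := act 6 n3072
theorem D6013 : act 6 n3072 = n6013 := rfl
theorem F10605 : act 2 n6013 = n3074 := d14_1 D6013 (iv D3074) D3072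
def n6014 : Q := act 3 n3073
theorem D6014 : act 3 n3073 = n6014 := rfl
theorem F10606 : act 5 n6014 = n3075 := d16_2 D3073 D6014 (iv D3075) (iv D1504) D1503
def n6015 : Q := act 6 n3073
theorem D6015 : act 6 n3073 = n6015 := rfl
theorem F10607 : act 5 n6015 = n6002 := d21_2 D3073 D6015 (iv D6002) F5339
def n6016 : Q := act 5 n3074
theorem D6016 : act 5 n3074 = n6016 := rfl
theorem F10608 : act 4 n6016 = n6015 := d18_1 D6016 F10607 F10598
theorem F10609 : act 6 n6016 = n6001 := d20_2 D3074 D6016 (iv D6001) D6002 (iv F10607) (iv D6015) (iv D3073)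
def n6017 : Q := act 2 n3075
theorem D6017 : act 2 n3075 = n6017 := rfl
theorem F10610 : act 6 n6017 = n5796 := d14_2 (iv F5346) D6017 (iv D5796)
def n6022 : Q := act 1 n3078
theorem D6022 : act 1 n3078 = n6022 := rfl
theorem F10614 : act 4 n6022 = n3150 := d8_2 (iv F5347) D6022 (iv D3150)
theorem F10615 : act 0 n3140 = n6022 := d22_3 F5202 D3150 F5442 (iv D6022) (iv D3078) (iv F5134) F5135 D5749 F10189
def n6023 : Q := act 3 n3078
theorem D6023 : act 3 n3078 = n6023 := rfl
def n6024 : Q := act 6 n3078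
theorem D6024 : act 6 n3078 = n6024 := rfl
theorem F10616 : act 2 n6024 = n3079 := d14_1 D6024 (iv D3079) D3078
theorem F10618 : act 5 n6024 = n3080 := d21_2 F5432 D6024 F5351 D3142
def n6025 : Q := act 1 n3080
theorem D6025 : act 1 n3080 = n6025 := rfl
theorem F10619 : act 6 n6025 = n3140 := d10_2 (iv F5351) D6025 (iv D3140)
def n6026 : Q := act 3 n3080
theorem D6026 : act 3 n3080 = n6026 := rfl
theorem F10620 : act 2 n6026 = n5065 := d23_2 D3080 D6026 (iv D5065) (iv D2590) (iv D1273) (iv F2308) D2588 F4550 D2938 F5137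
def n6027 : Q := act 4 n3080
theorem D6027 : act 4 n3080 = n6027 := rfl
theorem F10621 : act 2 n6027 = n3081 := d12_1 D6027 (iv D3081) D3080
theorem F10623 : act 6 n6027 = n3142 := d19_2 (iv F5351) D6027 (iv D3142)
def n6028 : Q := act 1 n3082
theorem D6028 : act 1 n3082 = n6028 := rfl
theorem F10624 : act 2 n6028 = n3304 := d6_2 D3082 D6028 (iv D3304) (iv D1608) (iv F2649)
def n6029 : Q := act 3 n3082
theorem D6029 : act 3 n3082 = n6029 := rfl
theorem F10625 : act 0 n6029 = n3088 := d2_1 D6029 (iv D3088) (iv F5356)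
def n6030 : Q := act 4 n3082
theorem D6030 : act 4 n3082 = n6030 := rfl
theorem F10626 : act 0 n6030 = n3089 := d3_1 D6030 (iv D3089) (iv F5356)
theorem F10627 : act 2 n6030 = n3083 := d12_1 D6030 (iv D3083) D3082
def n6031 : Q := act 5 n3082
theorem D6031 : act 5 n3082 = n6031 := rfl
theorem F10628 : act 0 n6031 = n3090 := d4_1 D6031 (iv D3090) (iv F5356)
theorem F10629 : act 2 n6031 = n3084 := d13_1 D6031 (iv D3084) D3082
def n6032 : Q := act 6 n3082
theorem D6032 : act 6 n3082 = n6032 := rfl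
theorem F10630 : act 0 n6032 = n3091 := d5_1 D6032 (iv D3091) (iv F5356)
theorem F10631 : act 2 n6032 = n3085 := d14_1 D6032 (iv D3085) D3082
def n6033 : Q := act 5 n3083
theorem D6033 : act 5 n3083 = n6033 := rfl
theorem F10632 : act 0 n6033 = n3093 := d4_1 D6033 (iv D3093) (iv F5357)
theorem F10633 : act 1 n6033 = n3295 := d9_1 D6033 (iv D3295) (iv F5358)
theorem F10634 : act 4 n6033 = n3084 := d18_1 D6033 (iv D3084) D3083
def n6034 : Q := act 6 n3083
theorem D6034 : act 6 n3083 = n6034 := rfl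
theorem F10635 : act 0 n6034 = n3094 := d5_1 D6034 (iv D3094) (iv F5357)
theorem F10637 : act 4 n6034 = n3085 := d19_1 D6034 (iv D3085) D3083
def n6035 : Q := act 3 n3084
theorem D6035 : act 3 n3084 = n6035 := rfl
theorem F10639 : act 1 n6035 = n3139 := d7_1 D6035 F5427 (iv F5361)
theorem F10640 : act 5 n6035 = n3086 := d16_2 D3084 D6035 (iv D3086) (iv D1510) D1509
theorem F10641 : act 6 n5147 = n6035 := d10_0 F10639 (iv F5428) D5147
def n6036 : Q := act 6 n3084
theorem D6036 : act 6 n3084 = n6036 := rfl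
theorem F10643 : act 1 n6036 = n3308 := d10_1 D6036 (iv D3308) (iv F5361)
theorem F10644 : act 5 n6036 = n6034 := d21_2 D3084 D6036 (iv D6034) (iv D3083)
def n6037 : Q := act 5 n3085
theorem D6037 : act 5 n3085 = n6037 := rfl
theorem F10645 : act 0 n6037 = n3097 := d4_1 D6037 (iv D3097) (iv F5362)
theorem F10646 : act 1 n6037 = n3309 := d9_1 D6037 (iv D3309) (iv F5363)
theorem F10647 : act 4 n6037 = n6036 := d18_1 D6037 F10644 F10637
theorem F10648 : act 6 n6037 = n6033 := d20_2 D3085 D6037 (iv D6033) D6034 (iv F10644) (iv D6036) (iv D3084)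
def n6038 : Q := act 2 n3086
theorem D6038 : act 2 n3086 = n6038 := rfl
theorem F10649 : act 0 n6038 = n3102 := d1_1 D6038 (iv D3102) (iv F5364)
def n6039 : Q := act 4 n3086
theorem D6039 : act 4 n3086 = n6039 := rfl
theorem F10650 : act 0 n6039 = n3103 := d3_1 D6039 (iv D3103) (iv F5364)
theorem F10651 : act 1 n6039 = n3138 := d8_1 D6039 (iv D3138) (iv F5365)
theorem F10652 : act 3 n6039 = n3277 := d15_1 D6039 (iv D3277) (iv D1596) (iv F2652) D3086
def n6040 : Q := act 6 n3086
theorem D6040 : act 6 n3086 = n6040 := rfl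
theorem F10653 : act 0 n6040 = n3104 := d5_1 D6040 (iv D3104) (iv F5364)
theorem F10655 : act 3 n6040 = n3104 := d17_1 D6040 (iv D3104) (iv D1517) (iv F2653) D3086
theorem F10656 : act 5 n5153 = n6040 := d21_0 (iv D6040) (iv F10640) (iv F10641) F9169
def n6042 : Q := act 3 n3087
theorem D6042 : act 3 n3087 = n6042 := rfl
theorem F10658 : act 1 n6042 = n3088 := d7_1 D6042 (iv D3088) D3087
def n6043 : Q := act 4 n3087
theorem D6043 : act 4 n3087 = n6043 := rfl
theorem F10659 : act 1 n6043 = n3089 := d8_1 D6043 (iv D3089) D3087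
theorem F10660 : act 2 n6043 = n3106 := d12_1 D6043 (iv D3106) (iv F5366)
def n6044 : Q := act 5 n3087
theorem D6044 : act 5 n3087 = n6044 := rfl
theorem F10661 : act 1 n6044 = n3090 := d9_1 D6044 (iv D3090) D3087
theorem F10662 : act 2 n6044 = n3107 := d13_1 D6044 (iv D3107) (iv F5366)
def n6046 : Q := act 2 n3088
theorem D6046 : act 2 n3088 = n6046 := rfl
def n6047 : Q := act 4 n3088
theorem D6047 : act 4 n3088 = n6047 := rfl
def n6048 : Q := act 5 n3088
theorem D6048 : act 5 n3088 = n6048 := rfl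
def n6049 : Q := act 6 n3088
theorem D6049 : act 6 n3088 = n6049 := rfl
def n6050 : Q := act 3 n3089
theorem D6050 : act 3 n3089 = n6050 := rfl
def n6051 : Q := act 5 n3089
theorem D6051 : act 5 n3089 = n6051 := rfl
theorem F10665 : act 2 n6051 = n3093 := d13_1 D6051 (iv D3093) (iv F5367)
theorem F10666 : act 4 n6051 = n3090 := d18_1 D6051 (iv D3090) D3089
def n6052 : Q := act 6 n3089
theorem D6052 : act 6 n3089 = n6052 := rfl
theorem F10667 : act 2 n6052 = n3094 := d14_1 D6052 (iv D3094) (iv F5367)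
theorem F10668 : act 4 n6052 = n3091 := d19_1 D6052 (iv D3091) D3089
def n6053 : Q := act 3 n3090
theorem D6053 : act 3 n3090 = n6053 := rfl
def n6054 : Q := act 6 n3090
theorem D6054 : act 6 n3090 = n6054 := rfl
theorem F10670 : act 5 n6054 = n6052 := d21_2 D3090 D6054 (iv D6052) (iv D3089)
def n6055 : Q := act 3 n3091
theorem D6055 : act 3 n3091 = n6055 := rfl
def n6056 : Q := act 5 n3091
theorem D6056 : act 5 n3091 = n6056 := rfl
theorem F10671 : act 2 n6056 = n3097 := d13_1 D6056 (iv D3097) (iv F5369)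
theorem F10672 : act 4 n6056 = n6054 := d18_1 D6056 F10670 F10668
theorem F10673 : act 6 n6056 = n6051 := d20_2 D3091 D6056 (iv D6051) D6052 (iv F10670) (iv D6054) (iv D3090)
def n6057 : Q := act 2 n3092
theorem D6057 : act 2 n3092 = n6057 := rfl
theorem F10674 : act 0 n6057 = n3268 := d1_1 D6057 F5595 (iv F5370)
theorem F10675 : act 4 n6057 = n3098 := d12_2 (iv F5372) D6057 (iv D3098)
def n6058 : Q := act 5 n3092
theorem D6058 : act 5 n3092 = n6058 := rfl
theorem F10676 : act 0 n6058 = n3271 := d4_1 D6058 (iv D3271) (iv F5370)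
theorem F10677 : act 1 n6058 = n3117 := d9_1 D6058 (iv D3117) (iv F5371)
theorem F10678 : act 4 n6058 = n3099 := d18_1 D6058 (iv D3099) (iv F5372)
def n6059 : Q := act 6 n3092
theorem D6059 : act 6 n3092 = n6059 := rfl
theorem F10681 : act 4 n6059 = n3100 := d19_1 D6059 (iv D3100) (iv F5372)
def n6060 : Q := act 3 n3093
theorem D6060 : act 3 n3093 = n6060 := rfl
theorem F10682 : act 1 n6060 = n3119 := d7_1 D6060 (iv D3119) (iv F5373)
def n6062 : Q := act 2 n3095
theorem D6062 : act 2 n3095 = n6062 := rfl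
theorem F10684 : act 5 n6062 = n3102 := d13_2 (iv F5378) D6062 (iv D3102)
def n6064 : Q := act 3 n3097
theorem D6064 : act 3 n3097 = n6064 := rfl
theorem F10686 : act 1 n6064 = n3122 := d7_1 D6064 (iv D3122) (iv F5381)
def n6065 : Q := act 1 n3098
theorem D6065 : act 1 n3098 = n6065 := rfl
theorem F10687 : act 2 n6065 = n3123 := d6_2 D3098 D6065 (iv D3123) (iv D1528) (iv F2658)
def n6066 : Q := act 3 n3098
theorem D6066 : act 3 n3098 = n6066 := rfl
theorem F10688 : act 0 n6066 = n3267 := d2_1 D6066 (iv D3267) (iv F5384)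
def n6067 : Q := act 5 n3098
theorem D6067 : act 5 n3098 = n6067 := rfl
theorem F10689 : act 0 n6067 = n3269 := d4_1 D6067 (iv D3269) (iv F5384)
theorem F10690 : act 2 n6067 = n3099 := d13_1 D6067 (iv D3099) D3098
def n6068 : Q := act 6 n3098
theorem D6068 : act 6 n3098 = n6068 := rfl
theorem F10691 : act 0 n6068 = n3270 := d5_1 D6068 (iv D3270) (iv F5384)
theorem F10692 : act 2 n6068 = n3100 := d14_1 D6068 (iv D3100) D3098
def n6069 : Q := act 3 n3099
theorem D6069 : act 3 n3099 = n6069 := rfl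
theorem F10693 : act 0 n6069 = n3273 := d2_1 D6069 (iv D3273) (iv F5385)
theorem F10694 : act 1 n6069 = n3127 := d7_1 D6069 (iv D3127) (iv F5386)
theorem F10695 : act 5 n6069 = n3101 := d16_2 D3099 D6069 (iv D3101) (iv D1516) D1515
def n6070 : Q := act 6 n3099
theorem D6070 : act 6 n3099 = n6070 := rfl
theorem F10698 : act 5 n6070 = n6059 := d21_2 D3099 D6070 (iv D6059) F5372
def n6071 : Q := act 5 n3100
theorem D6071 : act 5 n3100 = n6071 := rfl
theorem F10699 : act 0 n6071 = n3275 := d4_1 D6071 (iv D3275) (iv F5387)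
theorem F10700 : act 1 n6071 = n3129 := d9_1 D6071 (iv D3129) (iv F5388)
theorem F10701 : act 4 n6071 = n6070 := d18_1 D6071 F10698 F10681
theorem F10702 : act 6 n6071 = n6058 := d20_2 D3100 D6071 (iv D6058) D6059 (iv F10698) (iv D6070) (iv D3099)
def n6072 : Q := act 2 n3101
theorem D6072 : act 2 n3101 = n6072 := rfl
theorem F10703 : act 0 n6072 = n3276 := d1_1 D6072 (iv D3276) (iv F5390)
def n6073 : Q := act 4 n3101
theorem D6073 : act 4 n3101 = n6073 := rfl
theorem F10704 : act 0 n6073 = n3277 := d3_1 D6073 (iv D3277) (iv F5390)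
theorem F10705 : act 1 n6073 = n3131 := d8_1 D6073 (iv D3131) (iv F5391)
theorem F10706 : act 3 n6073 = n3103 := d15_1 D6073 (iv D3103) (iv D1517) (iv F2662) D3101
def n6074 : Q := act 6 n3101
theorem D6074 : act 6 n3101 = n6074 := rfl
theorem F10707 : act 0 n6074 = n3278 := d5_1 D6074 (iv D3278) (iv F5390)
theorem F10708 : act 1 n6074 = n3132 := d10_1 D6074 (iv D3132) (iv F5391)
theorem F10709 : act 3 n6074 = n3278 := d17_1 D6074 (iv D3278) (iv D1596) (iv F2663) D3101
def n6075 : Q := act 1 n3102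
theorem D6075 : act 1 n3102 = n6075 := rfl
theorem F10710 : act 2 n6075 = n3133 := d6_2 D3102 D6075 (iv D3133) (iv D1532) (iv F2664)
theorem F10711 : act 6 n5094 = n6075 := d14_0 F10710 F5421 (iv F9042)
def n6076 : Q := act 3 n3102
theorem D6076 : act 3 n3102 = n6076 := rfl
def n6077 : Q := act 4 n3102
theorem D6077 : act 4 n3102 = n6077 := rfl
theorem F10712 : act 2 n6077 = n3103 := d12_1 D6077 (iv D3103) D3102
def n6078 : Q := act 6 n3102
theorem D6078 : act 6 n3102 = n6078 := rfl
theorem F10713 : act 1 n6078 = n5094 := d10_1 D6078 F10711 (iv D6075)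
theorem F10714 : act 2 n6078 = n3104 := d14_1 D6078 (iv D3104) D3102
theorem F10715 : act 5 n5091 = n6078 := d13_0 F10714 (iv F5394) (iv F9040)
def n6079 : Q := act 6 n3103
theorem D6079 : act 6 n3103 = n6079 := rfl
theorem F10716 : act 1 n6079 = n3135 := d10_1 D6079 (iv D3135) (iv F5392)
theorem F10717 : act 4 n6079 = n3104 := d19_1 D6079 (iv D3104) D3103
theorem F10718 : act 5 n6079 = n5155 := d20_1 D6079 F9173 F5378 D3104 (iv F5394) (iv F9115) F9114
def n6081 : Q := act 4 n3105
theorem D6081 : act 4 n3105 = n6081 := rfl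
theorem F10723 : act 0 n6081 = n3106 := d3_1 D6081 (iv D3106) D3105
def n6082 : Q := act 5 n3105
theorem D6082 : act 5 n3105 = n6082 := rfl
theorem F10725 : act 0 n6082 = n3107 := d4_1 D6082 (iv D3107) D3105
def n6083 : Q := act 6 n3105
theorem D6083 : act 6 n3105 = n6083 := rfl
theorem F10726 : act 0 n6083 = n3108 := d5_1 D6083 (iv D3108) D3105
def n6084 : Q := act 3 n3106
theorem D6084 : act 3 n3106 = n6084 := rfl
theorem F10727 : act 1 n6084 = n3109 := d7_1 D6084 (iv D3109) (iv F5395)
theorem F10728 : act 6 n5578 = n6084 := d10_0 F10727 (iv F5405) (iv F9892)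
def n6086 : Q := act 6 n3106
theorem D6086 : act 6 n3106 = n6086 := rfl
theorem F10731 : act 1 n6086 = n3111 := d10_1 D6086 (iv D3111) (iv F5395)
theorem F10732 : act 3 n6086 = n5580 := d17_1 D6086 (iv D5580) D5578 F10728 (iv D6084)
theorem F10733 : act 4 n6086 = n3108 := d19_1 D6086 (iv D3108) D3106
def n6091 : Q := act 2 n3109
theorem D6091 : act 2 n3109 = n6091 := rfl
theorem F10743 : act 6 n6091 = n5581 := d14_2 F5405 D6091 (iv D5581)
theorem F10744 : act 3 n6091 = n3284 := d23_7 D3448 F9852 (iv D3116) (iv D1522) (iv F2665) D3109 D6091 F5616 D3336 F5685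
def n6102 : Q := act 1 n3116
theorem D6102 : act 1 n3116 = n6102 := rfl
theorem F10746 : act 0 n6102 = n3200 := d0_1 D6102 (iv D3200) F2713 D1597 D3279 F10243 F10241
theorem F10747 : act 3 n6102 = n3437 := d7_2 F9852 D6102 F5858
theorem F10748 : act 4 n6102 = n3123 := d8_2 (iv F5409) D6102 (iv D3123)
def n6103 : Q := act 5 n3116
theorem D6103 : act 5 n3116 = n6103 := rfl
theorem F10749 : act 2 n6103 = n3117 := d13_1 D6103 (iv D3117) D3116
theorem F10750 : act 4 n6103 = n3125 := d18_1 D6103 (iv D3125) (iv F5409)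
def n6104 : Q := act 6 n3116
theorem D6104 : act 6 n3116 = n6104 := rfl
theorem F10751 : act 2 n6104 = n3118 := d14_1 D6104 (iv D3118) D3116
def n6105 : Q := act 3 n3117
theorem D6105 : act 3 n3117 = n6105 := rfl
theorem F10753 : act 5 n6105 = n3119 := d16_2 D3117 D6105 (iv D3119) (iv D1523) D1522
def n6106 : Q := act 3 n3118
theorem D6106 : act 3 n3118 = n6106 := rfl
theorem F10754 : act 6 n6106 = n3120 := d17_2 D3118 D6106 (iv D3120) (iv D1524) D1522
theorem F10755 : act 2 n4933 = n6106 := d14_3 F10754 F5412 (iv F8792)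
def n6107 : Q := act 2 n3119
theorem D6107 : act 2 n3119 = n6107 := rfl
def n6108 : Q := act 6 n3119
theorem D6108 : act 6 n3119 = n6108 := rfl
def n6113 : Q := act 2 n3122
theorem D6113 : act 2 n3122 = n6113 := rfl
def n6114 : Q := act 4 n3122
theorem D6114 : act 4 n3122 = n6114 := rfl
def n6115 : Q := act 6 n3122
theorem D6115 : act 6 n3122 = n6115 := rfl
def n6116 : Q := act 0 n3123
theorem D6116 : act 0 n3123 = n6116 := rfl
theorem F10760 : act 1 n6116 = n3201 := d0_2 D3123 D6116 F5507 (iv F5612) F10254 (iv D5780) F5174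
theorem F10761 : act 4 n6116 = n3200 := d3_2 F10748 D6116 (iv F10746)
def n6117 : Q := act 3 n3123
theorem D6117 : act 3 n3123 = n6117 := rfl
theorem F10762 : act 1 n6117 = n3124 := d7_1 D6117 (iv D3124) D3123
def n6118 : Q := act 5 n3123
theorem D6118 : act 5 n3123 = n6118 := rfl
theorem F10763 : act 1 n6118 = n3125 := d9_1 D6118 (iv D3125) D3123
def n6119 : Q := act 6 n3123
theorem D6119 : act 6 n3123 = n6119 := rfl
theorem F10764 : act 1 n6119 = n3126 := d10_1 D6119 (iv D3126) D3123
def n6120 : Q := act 5 n3124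
theorem D6120 : act 5 n3124 = n6120 := rfl
def n6121 : Q := act 3 n3125
theorem D6121 : act 3 n3125 = n6121 := rfl
def n6122 : Q := act 6 n3125
theorem D6122 : act 6 n3125 = n6122 := rfl
theorem F10766 : act 5 n6122 = n6104 := d21_2 D3125 D6122 (iv D6104) F5409
def n6123 : Q := act 3 n3126
theorem D6123 : act 3 n3126 = n6123 := rfl
theorem F10768 : act 2 n6123 = n3206 := d11_1 D6123 F9877 (iv D5567) (iv D2843) (iv F4963) D5551 F9863 F5529 (iv F10262) F10263 F5623 D3298 F8236 (iv D4567) (iv F8208) F8215 F5638 F2756 (iv F5414)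
theorem F10769 : act 6 n6123 = n3201 := d17_2 D3126 D6123 (iv F9848) F9854 (iv D3124)
theorem F10770 : act 4 n3203 = n6123 := d19_3 F10769 (iv D3201) D3203
def n6124 : Q := act 5 n3126
theorem D6124 : act 5 n3126 = n6124 := rfl
theorem F10771 : act 2 n6124 = n3129 := d13_1 D6124 (iv D3129) (iv F5414)
theorem F10773 : act 6 n6124 = n6103 := d20_2 D3126 D6124 (iv D6103) D6104 (iv F10766) (iv D6122) (iv D3125)
def n6125 : Q := act 4 n3127
theorem D6125 : act 4 n3127 = n6125 := rfl
theorem F10774 : act 5 n6125 = n3131 := d18_2 (iv F5415) D6125 (iv D3131)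
def n6126 : Q := act 3 n3128
theorem D6126 : act 3 n3128 = n6126 := rfl
def n6127 : Q := act 3 n3129
theorem D6127 : act 3 n3129 = n6127 := rfl
def n6128 : Q := act 1 n3130
theorem D6128 : act 1 n3130 = n6128 := rfl
def n6129 : Q := act 3 n3130
theorem D6129 : act 3 n3130 = n6129 := rfl
def n6130 : Q := act 4 n3130
theorem D6130 : act 4 n3130 = n6130 := rfl
theorem F10775 : act 2 n6130 = n3131 := d12_1 D6130 (iv D3131) D3130
theorem F10776 : act 6 n3404 = n6130 := d21_3 F5798 (iv D3407) (iv F5790) (iv D6130)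
def n6131 : Q := act 6 n3130
theorem D6131 : act 6 n3130 = n6131 := rfl
theorem F10777 : act 2 n6131 = n3132 := d14_1 D6131 (iv D3132) D3130
theorem F10778 : act 4 n6131 = n3404 := d19_1 D6131 F10776 (iv D6130)
def n6132 : Q := act 6 n3131
theorem D6132 : act 6 n3131 = n6132 := rfl
theorem F10780 : act 2 n6132 = n3404 := d14_1 D6132 F10776 F10775
theorem F10781 : act 4 n6132 = n3132 := d19_1 D6132 (iv D3132) D3131
theorem F10782 : act 5 n6132 = n3405 := d21_2 F10774 D6132 F5792 D6125
def n6133 : Q := act 5 n3132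
theorem D6133 : act 5 n3132 = n6133 := rfl
theorem F10784 : act 4 n6133 = n3405 := d18_1 D6133 (iv F10782) F10781
theorem F10785 : act 6 n6133 = n6125 := d20_2 D3132 D6133 F10774 D6132 F10782 F5792 F5415
def n6135 : Q := act 3 n3133
theorem D6135 : act 3 n3133 = n6135 := rfl
theorem F10788 : act 1 n6135 = n3134 := d7_1 D6135 (iv D3134) D3133
def n6136 : Q := act 2 n3134
theorem D6136 : act 2 n3134 = n6136 := rfl
theorem F10789 : act 3 n6136 = n5796 := d23_1 D6136 (iv D5796) (iv D2963) (iv D1448) (iv D691) (iv F1279) D1445 (iv F4309) D4740 F8507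
def n6140 : Q := act 3 n3135
theorem D6140 : act 3 n3135 = n6140 := rfl
def n6144 : Q := act 3 n3140
theorem D6144 : act 3 n3140 = n6144 := rfl
theorem F10797 : act 1 n6144 = n3141 := d7_1 D6144 (iv D3141) D3140
def n6145 : Q := act 4 n3140
theorem D6145 : act 4 n3140 = n6145 := rfl
theorem F10798 : act 0 n6145 = n3150 := d3_1 D6145 (iv F10614) (iv F10615)
theorem F10799 : act 1 n6145 = n3142 := d8_1 D6145 (iv D3142) D3140
theorem F10800 : act 2 n6145 = n6022 := d12_1 D6145 F10614 F5442
theorem F10801 : act 5 n6145 = n6022 := d18_2 F5443 D6145 F10614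
def n6146 : Q := act 2 n3141
theorem D6146 : act 2 n3141 = n6146 := rfl
def n6147 : Q := act 4 n3141
theorem D6147 : act 4 n3141 = n6147 := rfl
def n6148 : Q := act 5 n3141
theorem D6148 : act 5 n3141 = n6148 := rfl
def n6149 : Q := act 6 n3141
theorem D6149 : act 6 n3141 = n6149 := rfl
def n6150 : Q := act 3 n3142
theorem D6150 : act 3 n3142 = n6150 := rfl
def n6151 : Q := act 2 n3143
theorem D6151 : act 2 n3143 = n6151 := rfl
def n6152 : Q := act 4 n3143
theorem D6152 : act 4 n3143 = n6152 := rfl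
theorem F10802 : act 1 n6152 = n3146 := d8_1 D6152 (iv D3146) (iv F5433)
def n6153 : Q := act 5 n3143
theorem D6153 : act 5 n3143 = n6153 := rfl
theorem F10803 : act 1 n6153 = n3147 := d9_1 D6153 (iv D3147) (iv F5433)
theorem F10804 : act 3 n6153 = n3154 := d16_1 D6153 (iv D3154) (iv D1544) (iv F2682) D3143
def n6154 : Q := act 6 n3143
theorem D6154 : act 6 n3143 = n6154 := rfl
theorem F10805 : act 0 n6154 = n5794 := d5_1 D6154 (iv F10582) F10580
theorem F10806 : act 1 n6154 = n3148 := d10_1 D6154 (iv D3148) (iv F5433)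
theorem F10807 : act 3 n6154 = n5736 := d17_1 D6154 F10163 (iv F10132) (iv D3144) D3143
def n6155 : Q := act 1 n3145
theorem D6155 : act 1 n3145 = n6155 := rfl
def n6156 : Q := act 3 n3145
theorem D6156 : act 3 n3145 = n6156 := rfl
theorem F10808 : act 0 n6156 = n6136 := d2_1 D6156 F10789 F10295
theorem F10809 : act 2 n6156 = n4740 := d11_1 D6156 (iv D4740) F4309 (iv D1445) F1279 D691 D1448 D2963 D5796 (iv F10789) (iv D6136) (iv D3134) (iv D1532) (iv D729) F649 D345 D732 D1539 D3145
def n6157 : Q := act 4 n3145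
theorem D6157 : act 4 n3145 = n6157 := rfl
theorem F10810 : act 2 n6157 = n3146 := d12_1 D6157 (iv D3146) D3145
def n6158 : Q := act 5 n3145
theorem D6158 : act 5 n3145 = n6158 := rfl
theorem F10811 : act 2 n6158 = n3147 := d13_1 D6158 (iv D3147) D3145
def n6159 : Q := act 6 n3145
theorem D6159 : act 6 n3145 = n6159 := rfl
theorem F10812 : act 0 n6159 = n6017 := d5_1 D6159 F10610 F10295
theorem F10813 : act 2 n6159 = n3148 := d14_1 D6159 (iv D3148) D3145
def n6160 : Q := act 5 n3146
theorem D6160 : act 5 n3146 = n6160 := rfl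
theorem F10814 : act 4 n6160 = n3147 := d18_1 D6160 (iv D3147) D3146
def n6161 : Q := act 6 n3146
theorem D6161 : act 6 n3146 = n6161 := rfl
theorem F10816 : act 3 n6161 = n5748 := d17_1 D6161 F10187 (iv D4999) D5001 (iv F8882)
theorem F10817 : act 4 n6161 = n3148 := d19_1 D6161 (iv D3148) D3146
def n6162 : Q := act 6 n3147
theorem D6162 : act 6 n3147 = n6162 := rfl
theorem F10818 : act 5 n6162 = n6161 := d21_2 D3147 D6162 (iv D6161) (iv D3146)
def n6163 : Q := act 5 n3148
theorem D6163 : act 5 n3148 = n6163 := rfl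
theorem F10819 : act 0 n6163 = n6014 := d4_1 D6163 F10606 (iv F5439)
theorem F10820 : act 3 n6163 = n5745 := d16_1 D6163 (iv D5745) (iv D2934) D2935 (iv F5440)
theorem F10821 : act 4 n6163 = n6162 := d18_1 D6163 F10818 F10817
theorem F10822 : act 6 n6163 = n6160 := d20_2 D3148 D6163 (iv D6160) D6161 (iv F10818) (iv D6162) (iv D3147)
def n6164 : Q := act 1 n3149
theorem D6164 : act 1 n3149 = n6164 := rfl
theorem F10823 : act 2 n6164 = n6025 := d6_2 D3149 D6164 (iv D6025) (iv D3080) (iv F2686)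
theorem F10824 : act 6 n6164 = n3150 := d10_2 (iv F5441) D6164 (iv D3150)
def n6165 : Q := act 3 n3149
theorem D6165 : act 3 n3149 = n6165 := rfl
def n6166 : Q := act 3 n3150
theorem D6166 : act 3 n3150 = n6166 := rfl
theorem F10826 : act 1 n6166 = n3151 := d7_1 D6166 (iv D3151) D3150
def n6167 : Q := act 2 n3151
theorem D6167 : act 2 n3151 = n6167 := rfl
def n6168 : Q := act 4 n3151
theorem D6168 : act 4 n3151 = n6168 := rfl
def n6169 : Q := act 5 n3151
theorem D6169 : act 5 n3151 = n6169 := rfl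
theorem F10827 : act 3 n6169 = n6148 := d16_1 D6169 (iv D6148) (iv D3141) (iv F2688) D3151
def n6171 : Q := act 1 n3152
theorem D6171 : act 1 n3152 = n6171 := rfl
theorem F10828 : act 2 n6171 = n3158 := d6_2 D3152 D6171 (iv D3158) (iv D1546) (iv F2689)
def n6172 : Q := act 3 n3152
theorem D6172 : act 3 n3152 = n6172 := rfl
def n6173 : Q := act 4 n3152
theorem D6173 : act 4 n3152 = n6173 := rfl
theorem F10829 : act 2 n6173 = n3153 := d12_1 D6173 (iv D3153) D3152
def n6174 : Q := act 5 n3152
theorem D6174 : act 5 n3152 = n6174 := rfl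
theorem F10830 : act 2 n6174 = n3154 := d13_1 D6174 (iv D3154) D3152
def n6175 : Q := act 6 n3152
theorem D6175 : act 6 n3152 = n6175 := rfl
theorem F10831 : act 2 n6175 = n3155 := d14_1 D6175 (iv D3155) D3152
def n6176 : Q := act 5 n3153
theorem D6176 : act 5 n3153 = n6176 := rfl
theorem F10832 : act 1 n6176 = n3163 := d9_1 D6176 (iv D3163) (iv F5444)
theorem F10833 : act 4 n6176 = n3154 := d18_1 D6176 (iv D3154) D3153
def n6177 : Q := act 6 n3153
theorem D6177 : act 6 n3153 = n6177 := rfl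
theorem F10834 : act 1 n6177 = n3164 := d10_1 D6177 (iv D3164) (iv F5444)
theorem F10835 : act 4 n6177 = n3155 := d19_1 D6177 (iv D3155) D3153
def n6178 : Q := act 6 n3154
theorem D6178 : act 6 n3154 = n6178 := rfl
theorem F10836 : act 1 n6178 = n3165 := d10_1 D6178 (iv D3165) (iv F5445)
theorem F10837 : act 5 n6178 = n6177 := d21_2 D3154 D6178 (iv D6177) (iv D3153)
def n6179 : Q := act 3 n3155
theorem D6179 : act 3 n3155 = n6179 := rfl
theorem F10839 : act 6 n6179 = n3156 := d17_2 D3155 D6179 (iv D3156) (iv D1545) D1544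
def n6180 : Q := act 5 n3155
theorem D6180 : act 5 n3155 = n6180 := rfl
theorem F10840 : act 1 n6180 = n3167 := d9_1 D6180 (iv D3167) (iv F5446)
theorem F10841 : act 4 n6180 = n6178 := d18_1 D6180 F10837 F10835
theorem F10842 : act 6 n6180 = n6176 := d20_2 D3155 D6180 (iv D6176) D6177 (iv F10837) (iv D6178) (iv D3154)
def n6183 : Q := act 0 n3158
theorem D6183 : act 0 n3158 = n6183 := rfl
def n6184 : Q := act 4 n3158
theorem D6184 : act 4 n3158 = n6184 := rfl
theorem F10844 : act 1 n6184 = n3159 := d8_1 D6184 (iv D3159) D3158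
def n6185 : Q := act 5 n3158
theorem D6185 : act 5 n3158 = n6185 := rfl
theorem F10845 : act 1 n6185 = n3160 := d9_1 D6185 (iv D3160) D3158
def n6186 : Q := act 6 n3158
theorem D6186 : act 6 n3158 = n6186 := rfl
theorem F10846 : act 1 n6186 = n3161 := d10_1 D6186 (iv D3161) D3158
def n6187 : Q := act 3 n3159
theorem D6187 : act 3 n3159 = n6187 := rfl
def n6188 : Q := act 5 n3159
theorem D6188 : act 5 n3159 = n6188 := rfl
theorem F10847 : act 2 n6188 = n3163 := d13_1 D6188 (iv D3163) (iv F5454)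
theorem F10848 : act 4 n6188 = n3160 := d18_1 D6188 (iv D3160) D3159
def n6189 : Q := act 6 n3159
theorem D6189 : act 6 n3159 = n6189 := rfl
theorem F10849 : act 2 n6189 = n3164 := d14_1 D6189 (iv D3164) (iv F5454)
theorem F10850 : act 4 n6189 = n3161 := d19_1 D6189 (iv D3161) D3159
def n6190 : Q := act 3 n3160
theorem D6190 : act 3 n3160 = n6190 := rfl
def n6191 : Q := act 6 n3160
theorem D6191 : act 6 n3160 = n6191 := rfl
theorem F10851 : act 2 n6191 = n3165 := d14_1 D6191 (iv D3165) (iv F5455)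
theorem F10852 : act 5 n6191 = n6189 := d21_2 D3160 D6191 (iv D6189) (iv D3159)
def n6192 : Q := act 3 n3161
theorem D6192 : act 3 n3161 = n6192 := rfl
def n6193 : Q := act 5 n3161
theorem D6193 : act 5 n3161 = n6193 := rfl
theorem F10853 : act 2 n6193 = n3167 := d13_1 D6193 (iv D3167) (iv F5456)
theorem F10854 : act 4 n6193 = n6191 := d18_1 D6193 F10852 F10850
theorem F10855 : act 6 n6193 = n6188 := d20_2 D3161 D6193 (iv D6188) D6189 (iv F10852) (iv D6191) (iv D3160)
def n6194 : Q := act 2 n3162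
theorem D6194 : act 2 n3162 = n6194 := rfl
theorem F10856 : act 4 n6194 = n3168 := d12_2 (iv F5457) D6194 (iv D3168)
def n6195 : Q := act 5 n3162
theorem D6195 : act 5 n3162 = n6195 := rfl
theorem F10857 : act 4 n6195 = n3169 := d18_1 D6195 (iv D3169) (iv F5457)
def n6196 : Q := act 6 n3162
theorem D6196 : act 6 n3162 = n6196 := rfl
theorem F10858 : act 4 n6196 = n3170 := d19_1 D6196 (iv D3170) (iv F5457)
def n6197 : Q := act 3 n3163
theorem D6197 : act 3 n3163 = n6197 := rfl
def n6198 : Q := act 3 n3164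
theorem D6198 : act 3 n3164 = n6198 := rfl
def n6199 : Q := act 3 n3165
theorem D6199 : act 3 n3165 = n6199 := rfl
def n6203 : Q := act 3 n3167
theorem D6203 : act 3 n3167 = n6203 := rfl
def n6204 : Q := act 1 n3168
theorem D6204 : act 1 n3168 = n6204 := rfl
def n6205 : Q := act 3 n3168
theorem D6205 : act 3 n3168 = n6205 := rfl
def n6207 : Q := act 6 n3168
theorem D6207 : act 6 n3168 = n6207 := rfl
theorem F10865 : act 2 n6207 = n3170 := d14_1 D6207 (iv D3170) D3168
def n6208 : Q := act 6 n3169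
theorem D6208 : act 6 n3169 = n6208 := rfl
theorem F10866 : act 5 n6208 = n6196 := d21_2 D3169 D6208 (iv D6196) F5457
def n6209 : Q := act 3 n3170
theorem D6209 : act 3 n3170 = n6209 := rfl
theorem F10867 : act 0 n6209 = n5958 := d2_1 D6209 F10541 F10327
theorem F10868 : act 6 n6209 = n3171 := d17_2 D3170 D6209 (iv D3171) (iv D1551) D1550
def n6210 : Q := act 5 n3170
theorem D6210 : act 5 n3170 = n6210 := rfl
theorem F10869 : act 4 n6210 = n6208 := d18_1 D6210 F10866 F10858
theorem F10870 : act 6 n6210 = n6195 := d20_2 D3170 D6210 (iv D6195) D6196 (iv F10866) (iv D6208) (iv D3169)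
def n6211 : Q := act 2 n3171
theorem D6211 : act 2 n3171 = n6211 := rfl
theorem F10871 : act 0 n6211 = n5954 := d1_1 D6211 F10536 (iv F5464)
theorem F10872 : act 5 n6211 = n5722 := d13_2 (iv F5465) D6211 (iv D5722)
def n6212 : Q := act 4 n3171
theorem D6212 : act 4 n3171 = n6212 := rfl
theorem F10874 : act 3 n6212 = n3173 := d15_1 D6212 (iv D3173) (iv D1552) (iv F2693) D3171
def n6214 : Q := act 3 n3172
theorem D6214 : act 3 n3172 = n6214 := rfl
def n6216 : Q := act 1 n3174
theorem D6216 : act 1 n3174 = n6216 := rfl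
theorem F10877 : act 2 n6216 = n3179 := d6_2 D3174 D6216 (iv D3179) (iv D1556) (iv F2699)
def n6217 : Q := act 3 n3174
theorem D6217 : act 3 n3174 = n6217 := rfl
def n6218 : Q := act 4 n3174
theorem D6218 : act 4 n3174 = n6218 := rfl
theorem F10878 : act 2 n6218 = n3175 := d12_1 D6218 (iv D3175) D3174
def n6219 : Q := act 5 n3174
theorem D6219 : act 5 n3174 = n6219 := rfl
theorem F10879 : act 2 n6219 = n3176 := d13_1 D6219 (iv D3176) D3174
def n6220 : Q := act 6 n3174
theorem D6220 : act 6 n3174 = n6220 := rfl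
theorem F10880 : act 2 n6220 = n3177 := d14_1 D6220 (iv D3177) D3174
def n6221 : Q := act 5 n3175
theorem D6221 : act 5 n3175 = n6221 := rfl
theorem F10881 : act 1 n6221 = n3184 := d9_1 D6221 (iv D3184) (iv F5466)
theorem F10882 : act 4 n6221 = n3176 := d18_1 D6221 (iv D3176) D3175
def n6222 : Q := act 6 n3175
theorem D6222 : act 6 n3175 = n6222 := rfl
theorem F10883 : act 1 n6222 = n3185 := d10_1 D6222 (iv D3185) (iv F5466)
theorem F10884 : act 4 n6222 = n3177 := d19_1 D6222 (iv D3177) D3175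
def n6223 : Q := act 6 n3176
theorem D6223 : act 6 n3176 = n6223 := rfl
theorem F10885 : act 1 n6223 = n3186 := d10_1 D6223 (iv D3186) (iv F5467)
theorem F10886 : act 5 n6223 = n6222 := d21_2 D3176 D6223 (iv D6222) (iv D3175)
def n6224 : Q := act 3 n3177
theorem D6224 : act 3 n3177 = n6224 := rfl
theorem F10887 : act 1 n6224 = n3187 := d7_1 D6224 (iv D3187) (iv F5469)
theorem F10888 : act 6 n6224 = n3178 := d17_2 D3177 D6224 (iv D3178) (iv D1555) D1554
def n6225 : Q := act 5 n3177
theorem D6225 : act 5 n3177 = n6225 := rfl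
theorem F10889 : act 1 n6225 = n3188 := d9_1 D6225 (iv D3188) (iv F5469)
theorem F10890 : act 4 n6225 = n6223 := d18_1 D6225 F10886 F10884
theorem F10891 : act 6 n6225 = n6221 := d20_2 D3177 D6225 (iv D6221) D6222 (iv F10886) (iv D6223) (iv D3176)
def n6226 : Q := act 2 n3178
theorem D6226 : act 2 n3178 = n6226 := rfl
def n6227 : Q := act 4 n3178
theorem D6227 : act 4 n3178 = n6227 := rfl
theorem F10892 : act 1 n6227 = n3193 := d8_1 D6227 (iv D3193) (iv F5470)
def n6228 : Q := act 5 n3178
theorem D6228 : act 5 n3178 = n6228 := rfl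
theorem F10893 : act 1 n6228 = n3194 := d9_1 D6228 (iv D3194) (iv F5470)
theorem F10894 : act 6 n3468 = n6228 := d10_0 F10893 (iv F5498) D3468
def n6229 : Q := act 5 n3179
theorem D6229 : act 5 n3179 = n6229 := rfl
theorem F10895 : act 1 n6229 = n3181 := d9_1 D6229 (iv D3181) D3179
def n6230 : Q := act 6 n3179
theorem D6230 : act 6 n3179 = n6230 := rfl
theorem F10896 : act 1 n6230 = n3182 := d10_1 D6230 (iv D3182) D3179
def n6231 : Q := act 6 n3180
theorem D6231 : act 6 n3180 = n6231 := rfl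
theorem F10898 : act 2 n6231 = n3185 := d14_1 D6231 (iv D3185) (iv F5473)
theorem F10899 : act 4 n6231 = n3182 := d19_1 D6231 (iv D3182) D3180
def n6232 : Q := act 3 n3181
theorem D6232 : act 3 n3181 = n6232 := rfl
theorem F10900 : act 0 n6232 = n3240 := d2_1 D6232 (iv D3240) (iv F5474)
theorem F10901 : act 5 n6232 = n3376 := d16_2 D3181 D6232 (iv D3376) (iv D1639) (iv F2703)
def n6233 : Q := act 6 n3181
theorem D6233 : act 6 n3181 = n6233 := rfl
theorem F10902 : act 0 n6233 = n3241 := d5_1 D6233 (iv D3241) (iv F5474)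
theorem F10903 : act 2 n6233 = n3186 := d14_1 D6233 (iv D3186) (iv F5475)
theorem F10904 : act 5 n6233 = n6231 := d21_2 D3181 D6233 (iv D6231) (iv D3180)
def n6234 : Q := act 3 n3182
theorem D6234 : act 3 n3182 = n6234 := rfl
theorem F10905 : act 0 n6234 = n3242 := d2_1 D6234 (iv D3242) (iv F5476)
theorem F10906 : act 6 n6234 = n3378 := d17_2 D3182 D6234 (iv D3378) (iv D1640) (iv F2703)
def n6235 : Q := act 5 n3182
theorem D6235 : act 5 n3182 = n6235 := rfl
theorem F10907 : act 0 n6235 = n3243 := d4_1 D6235 (iv D3243) (iv F5476)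
theorem F10908 : act 2 n6235 = n3188 := d13_1 D6235 (iv D3188) (iv F5477)
theorem F10909 : act 4 n6235 = n6233 := d18_1 D6235 F10904 F10899
theorem F10910 : act 6 n6235 = n5911 := d20_2 D3182 D6235 F10479 D6231 (iv F10904) (iv D6233) (iv D3181)
def n6238 : Q := act 3 n3185
theorem D6238 : act 3 n3185 = n6238 := rfl
def n6239 : Q := act 3 n3186
theorem D6239 : act 3 n3186 = n6239 := rfl
theorem F10916 : act 0 n6239 = n3249 := d2_1 D6239 (iv D3249) (iv F5484)
def n6240 : Q := act 3 n3188
theorem D6240 : act 3 n3188 = n6240 := rfl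
theorem F10918 : act 0 n6240 = n3253 := d2_1 D6240 (iv D3253) (iv F5488)
def n6244 : Q := act 1 n3192
theorem D6244 : act 1 n3192 = n6244 := rfl
theorem F10926 : act 5 n6244 = n3436 := d9_2 F5500 D6244 F5844
def n6245 : Q := act 3 n3192
theorem D6245 : act 3 n3192 = n6245 := rfl
theorem F10927 : act 0 n6245 = n3261 := d2_1 D6245 (iv D3261) (iv F5495)
theorem F10928 : act 2 n6245 = n6214 := d23_2 D3192 D6245 (iv D6214) (iv D3172) (iv D1552) F1344 F660 (iv F681) D757 (iv F2709)
def n6246 : Q := act 5 n3193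
theorem D6246 : act 5 n3193 = n6246 := rfl
theorem F10931 : act 4 n6246 = n3194 := d18_1 D6246 (iv D3194) D3193
def n6247 : Q := act 1 n3195
theorem D6247 : act 1 n3195 = n6247 := rfl
theorem F10933 : act 2 n6247 = n3200 := d6_2 D3195 D6247 (iv D3200) (iv D1564) (iv F2710)
def n6248 : Q := act 3 n3195
theorem D6248 : act 3 n3195 = n6248 := rfl
def n6249 : Q := act 4 n3195
theorem D6249 : act 4 n3195 = n6249 := rfl
theorem F10934 : act 2 n6249 = n3196 := d12_1 D6249 (iv D3196) D3195
def n6250 : Q := act 5 n3195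
theorem D6250 : act 5 n3195 = n6250 := rfl
theorem F10935 : act 2 n6250 = n3197 := d13_1 D6250 (iv D3197) D3195
def n6251 : Q := act 6 n3195
theorem D6251 : act 6 n3195 = n6251 := rfl
theorem F10936 : act 2 n6251 = n3198 := d14_1 D6251 (iv D3198) D3195
def n6254 : Q := act 3 n3197
theorem D6254 : act 3 n3197 = n6254 := rfl
theorem F10941 : act 1 n6254 = n3207 := d7_1 D6254 (iv D3207) (iv F5502)
theorem F10942 : act 5 n6254 = n3199 := d16_2 D3197 D6254 (iv D3199) (iv D1563) D1562
def n6257 : Q := act 2 n3199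
theorem D6257 : act 2 n3199 = n6257 := rfl
def n6258 : Q := act 4 n3199
theorem D6258 : act 4 n3199 = n6258 := rfl
theorem F10948 : act 1 n6258 = n3214 := d8_1 D6258 (iv D3214) (iv F5505)
def n6259 : Q := act 6 n3199
theorem D6259 : act 6 n3199 = n6259 := rfl
theorem F10949 : act 1 n6259 = n3215 := d10_1 D6259 (iv D3215) (iv F5505)
theorem F10950 : act 5 n3400 = n6259 := d9_0 F10949 (iv F5535) D3400
def n6260 : Q := act 5 n3200
theorem D6260 : act 5 n3200 = n6260 := rfl
theorem F10951 : act 1 n6260 = n3202 := d9_1 D6260 (iv D3202) D3200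
def n6261 : Q := act 6 n3200
theorem D6261 : act 6 n3200 = n6261 := rfl
theorem F10952 : act 1 n6261 = n3203 := d10_1 D6261 (iv D3203) D3200
def n6262 : Q := act 5 n3201
theorem D6262 : act 5 n3201 = n6262 := rfl
theorem F10953 : act 0 n6262 = n3288 := d4_1 D6262 (iv D3288) (iv F5507)
def n6263 : Q := act 3 n3202
theorem D6263 : act 3 n3202 = n6263 := rfl
theorem F10956 : act 0 n6263 = n3290 := d2_1 D6263 (iv D3290) (iv F5509)
theorem F10957 : act 5 n6263 = n3444 := d16_2 D3202 D6263 (iv D3444) (iv D1670) (iv F2714)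
def n6264 : Q := act 6 n3202
theorem D6264 : act 6 n3202 = n6264 := rfl
theorem F10959 : act 2 n6264 = n3208 := d14_1 D6264 (iv D3208) (iv F5510)
def n6267 : Q := act 5 n3204
theorem D6267 : act 5 n3204 = n6267 := rfl
theorem F10967 : act 0 n6267 = n3295 := d4_1 D6267 (iv D3295) (iv F5513)
def n6269 : Q := act 3 n3205
theorem D6269 : act 3 n3205 = n6269 := rfl
def n6272 : Q := act 5 n3210
theorem D6272 : act 5 n3210 = n6272 := rfl
theorem F10976 : act 2 n6272 = n3211 := d13_1 D6272 (iv D3211) D3210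
def n6275 : Q := act 1 n3213
theorem D6275 : act 1 n3213 = n6275 := rfl
theorem F10982 : act 6 n6275 = n3368 := d10_2 (iv F5531) D6275 F5746
def n6277 : Q := act 6 n3214
theorem D6277 : act 6 n3214 = n6277 := rfl
theorem F10986 : act 2 n6277 = n3403 := d14_1 D6277 F5788 F5772
theorem F10988 : act 5 n6277 = n3402 := d20_1 D6277 F5786 F5520 D3215 (iv F5535) (iv F5764) (iv F5765)
def n6278 : Q := act 0 n3216
theorem D6278 : act 0 n3216 = n6278 := rfl
theorem F10989 : act 2 n6278 = n3229 := d1_2 (iv F5536) D6278 (iv D3229)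
def n6279 : Q := act 3 n3216
theorem D6279 : act 3 n3216 = n6279 := rfl
theorem F10990 : act 1 n6279 = n3217 := d7_1 D6279 (iv D3217) D3216
def n6281 : Q := act 5 n3216
theorem D6281 : act 5 n3216 = n6281 := rfl
theorem F10994 : act 2 n6281 = n3232 := d13_1 D6281 (iv D3232) (iv F5536)
def n6282 : Q := act 6 n3216
theorem D6282 : act 6 n3216 = n6282 := rfl
theorem F10995 : act 1 n6282 = n3220 := d10_1 D6282 (iv D3220) D3216
theorem F10996 : act 2 n6282 = n3233 := d14_1 D6282 (iv D3233) (iv F5536)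
def n6288 : Q := act 5 n3218
theorem D6288 : act 5 n3218 = n6288 := rfl
theorem F10997 : act 2 n6288 = n3221 := d13_1 D6288 (iv D3221) (iv F5537)
def n6289 : Q := act 6 n3218
theorem D6289 : act 6 n3218 = n6289 := rfl
theorem F11000 : act 4 n6289 = n3220 := d19_1 D6289 (iv D3220) D3218
def n6290 : Q := act 3 n3219
theorem D6290 : act 3 n3219 = n6290 := rfl
def n6291 : Q := act 6 n3219
theorem D6291 : act 6 n3219 = n6291 := rfl
theorem F11001 : act 2 n6291 = n3223 := d14_1 D6291 (iv D3223) (iv F5538)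
theorem F11002 : act 5 n6291 = n6289 := d21_2 D3219 D6291 (iv D6289) (iv D3218)
def n6293 : Q := act 5 n3220
theorem D6293 : act 5 n3220 = n6293 := rfl
theorem F11003 : act 2 n6293 = n3225 := d13_1 D6293 (iv D3225) (iv F5539)
theorem F11005 : act 6 n6293 = n6288 := d20_2 D3220 D6293 (iv D6288) D6289 (iv F11002) (iv D6291) (iv D3219)
def n6294 : Q := act 3 n3221
theorem D6294 : act 3 n3221 = n6294 := rfl
theorem F11006 : act 1 n6294 = n3247 := d7_1 D6294 (iv D3247) (iv F5540)
theorem F11007 : act 4 n6294 = n5850 := d15_2 (iv F5541) D6294 (iv D5850) F5235 (iv F2723)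
def n6296 : Q := act 3 n3223
theorem D6296 : act 3 n3223 = n6296 := rfl
theorem F11009 : act 1 n6296 = n3249 := d7_1 D6296 (iv D3249) (iv F5544)
theorem F11010 : act 6 n6296 = n5852 := d17_2 D3223 D6296 (iv D5852) (iv D2989) (iv F2723)
def n6297 : Q := act 2 n3224
theorem D6297 : act 2 n3224 = n6297 := rfl
theorem F11011 : act 6 n6297 = n3226 := d14_2 (iv F5547) D6297 (iv D3226)
def n6300 : Q := act 3 n3225
theorem D6300 : act 3 n3225 = n6300 := rfl
theorem F11015 : act 1 n6300 = n3253 := d7_1 D6300 (iv D3253) (iv F5548)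
def n6301 : Q := act 1 n3226
theorem D6301 : act 1 n3226 = n6301 := rfl
theorem F11016 : act 2 n6301 = n3260 := d6_2 D3226 D6301 (iv D3260) (iv D1589) (iv F2725)
def n6302 : Q := act 3 n3226
theorem D6302 : act 3 n3226 = n6302 := rfl
def n6303 : Q := act 4 n3226
theorem D6303 : act 4 n3226 = n6303 := rfl
theorem F11017 : act 2 n6303 = n3227 := d12_1 D6303 (iv D3227) D3226
def n6304 : Q := act 5 n3226
theorem D6304 : act 5 n3226 = n6304 := rfl
theorem F11018 : act 2 n6304 = n3228 := d13_1 D6304 (iv D3228) D3226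
def n6305 : Q := act 5 n3227
theorem D6305 : act 5 n3227 = n6305 := rfl
theorem F11020 : act 4 n6305 = n3228 := d18_1 D6305 (iv D3228) D3227
def n6307 : Q := act 3 n3229
theorem D6307 : act 3 n3229 = n6307 := rfl
theorem F11025 : act 0 n6307 = n3230 := d2_1 D6307 (iv D3230) D3229
def n6308 : Q := act 5 n3229
theorem D6308 : act 5 n3229 = n6308 := rfl
theorem F11026 : act 0 n6308 = n3232 := d4_1 D6308 (iv D3232) D3229
def n6309 : Q := act 6 n3229
theorem D6309 : act 6 n3229 = n6309 := rfl
theorem F11027 : act 0 n6309 = n3233 := d5_1 D6309 (iv D3233) D3229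
def n6310 : Q := act 2 n3230
theorem D6310 : act 2 n3230 = n6310 := rfl
theorem F11028 : act 1 n6310 = n3316 := d6_1 D6310 (iv D3316) F2757 (iv F2727) (iv F5553)
def n6311 : Q := act 4 n3230
theorem D6311 : act 4 n3230 = n6311 := rfl
theorem F11029 : act 1 n6311 = n3234 := d8_1 D6311 (iv D3234) (iv F5553)
def n6312 : Q := act 5 n3230
theorem D6312 : act 5 n3230 = n6312 := rfl
theorem F11030 : act 1 n6312 = n3235 := d9_1 D6312 (iv D3235) (iv F5553)
def n6313 : Q := act 6 n3230
theorem D6313 : act 6 n3230 = n6313 := rfl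
theorem F11031 : act 1 n6313 = n3236 := d10_1 D6313 (iv D3236) (iv F5553)
def n6314 : Q := act 3 n3231
theorem D6314 : act 3 n3231 = n6314 := rfl
theorem F11032 : act 1 n6314 = n3237 := d7_1 D6314 (iv D3237) (iv F5554)
def n6315 : Q := act 5 n3231
theorem D6315 : act 5 n3231 = n6315 := rfl
theorem F11033 : act 1 n6315 = n3238 := d9_1 D6315 (iv D3238) (iv F5554)
def n6316 : Q := act 6 n3231
theorem D6316 : act 6 n3231 = n6316 := rfl
theorem F11036 : act 4 n6316 = n3233 := d19_1 D6316 (iv D3233) D3231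
def n6317 : Q := act 3 n3232
theorem D6317 : act 3 n3232 = n6317 := rfl
theorem F11037 : act 1 n6317 = n3240 := d7_1 D6317 (iv D3240) (iv F5555)
def n6318 : Q := act 6 n3232
theorem D6318 : act 6 n3232 = n6318 := rfl
theorem F11038 : act 1 n6318 = n3241 := d10_1 D6318 (iv D3241) (iv F5555)
theorem F11039 : act 5 n6318 = n6316 := d21_2 D3232 D6318 (iv D6316) (iv D3231)
def n6319 : Q := act 3 n3233
theorem D6319 : act 3 n3233 = n6319 := rfl
theorem F11040 : act 1 n6319 = n3242 := d7_1 D6319 (iv D3242) (iv F5556)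
def n6320 : Q := act 5 n3233
theorem D6320 : act 5 n3233 = n6320 := rfl
theorem F11041 : act 1 n6320 = n3243 := d9_1 D6320 (iv D3243) (iv F5556)
theorem F11043 : act 6 n6320 = n6315 := d20_2 D3233 D6320 (iv D6315) D6316 (iv F11039) (iv D6318) (iv D3232)
def n6321 : Q := act 5 n3234
theorem D6321 : act 5 n3234 = n6321 := rfl
theorem F11044 : act 0 n6321 = n3374 := d4_1 D6321 (iv D3374) (iv F5557)
theorem F11045 : act 2 n6321 = n3322 := d13_1 D6321 (iv D3322) (iv F5558)
theorem F11046 : act 4 n6321 = n3235 := d18_1 D6321 (iv D3235) D3234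
def n6322 : Q := act 6 n3234
theorem D6322 : act 6 n3234 = n6322 := rfl
theorem F11047 : act 0 n6322 = n3375 := d5_1 D6322 (iv D3375) (iv F5557)
theorem F11048 : act 2 n6322 = n3323 := d14_1 D6322 (iv D3323) (iv F5558)
theorem F11049 : act 4 n6322 = n3236 := d19_1 D6322 (iv D3236) D3234
def n6323 : Q := act 3 n3235
theorem D6323 : act 3 n3235 = n6323 := rfl
theorem F11050 : act 0 n6323 = n3376 := d2_1 D6323 (iv D3376) (iv F5559)
theorem F11051 : act 5 n6323 = n3240 := d16_2 D3235 D6323 (iv D3240) (iv D1578) D1576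
def n6324 : Q := act 6 n3235
theorem D6324 : act 6 n3235 = n6324 := rfl
theorem F11052 : act 0 n6324 = n3377 := d5_1 D6324 (iv D3377) (iv F5559)
theorem F11053 : act 2 n6324 = n3324 := d14_1 D6324 (iv D3324) (iv F5560)
theorem F11054 : act 5 n6324 = n6322 := d21_2 D3235 D6324 (iv D6322) (iv D3234)
def n6325 : Q := act 3 n3236
theorem D6325 : act 3 n3236 = n6325 := rfl
theorem F11055 : act 0 n6325 = n3378 := d2_1 D6325 (iv D3378) (iv F5561)
theorem F11056 : act 6 n6325 = n3242 := d17_2 D3236 D6325 (iv D3242) (iv D1579) D1576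
def n6326 : Q := act 5 n3236
theorem D6326 : act 5 n3236 = n6326 := rfl
theorem F11057 : act 0 n6326 = n3379 := d4_1 D6326 (iv D3379) (iv F5561)
theorem F11058 : act 2 n6326 = n3326 := d13_1 D6326 (iv D3326) (iv F5562)
theorem F11059 : act 4 n6326 = n6324 := d18_1 D6326 F11054 F11049
theorem F11060 : act 6 n6326 = n6321 := d20_2 D3236 D6326 (iv D6321) D6322 (iv F11054) (iv D6324) (iv D3235)
def n6327 : Q := act 6 n3237
theorem D6327 : act 6 n3237 = n6327 := rfl
def n6329 : Q := act 2 n3240
theorem D6329 : act 2 n3240 = n6329 := rfl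
def n6330 : Q := act 4 n3240
theorem D6330 : act 4 n3240 = n6330 := rfl
def n6331 : Q := act 6 n3240
theorem D6331 : act 6 n3240 = n6331 := rfl
def n6332 : Q := act 3 n3241
theorem D6332 : act 3 n3241 = n6332 := rfl
def n6333 : Q := act 2 n3242
theorem D6333 : act 2 n3242 = n6333 := rfl
def n6334 : Q := act 4 n3242
theorem D6334 : act 4 n3242 = n6334 := rfl
def n6335 : Q := act 5 n3242
theorem D6335 : act 5 n3242 = n6335 := rfl
def n6336 : Q := act 3 n3243
theorem D6336 : act 3 n3243 = n6336 := rfl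
def n6339 : Q := act 3 n3245
theorem D6339 : act 3 n3245 = n6339 := rfl
theorem F11065 : act 4 n6339 = n5895 := d15_2 (iv F5573) D6339 (iv D5895) F5269 (iv F2738)
def n6341 : Q := act 6 n3247
theorem D6341 : act 6 n3247 = n6341 := rfl
theorem F11068 : act 4 n6341 = n5897 := d19_1 D6341 (iv D5897) (iv F5575)
def n6344 : Q := act 5 n3248
theorem D6344 : act 5 n3248 = n6344 := rfl
def n6345 : Q := act 2 n3249
theorem D6345 : act 2 n3249 = n6345 := rfl
theorem F11070 : act 6 n6345 = n5900 := d14_2 (iv F5576) D6345 (iv D5900)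
def n6346 : Q := act 4 n3249
theorem D6346 : act 4 n3249 = n6346 := rfl
theorem F11071 : act 6 n6346 = n5901 := d19_2 (iv F5576) D6346 (iv D5901)
def n6347 : Q := act 5 n3249
theorem D6347 : act 5 n3249 = n6347 := rfl
theorem F11072 : act 3 n6347 = n6344 := d16_1 D6347 (iv D6344) (iv D3248) (iv F2734) D3249
def n6348 : Q := act 1 n3250
theorem D6348 : act 1 n3250 = n6348 := rfl
theorem F11073 : act 6 n6348 = n3260 := d10_2 (iv F5577) D6348 (iv D3260)
def n6350 : Q := act 3 n3252
theorem D6350 : act 3 n3252 = n6350 := rfl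
theorem F11074 : act 5 n6350 = n3253 := d16_2 D3252 D6350 (iv D3253) (iv D1585) D1584
def n6351 : Q := act 2 n3253
theorem D6351 : act 2 n3253 = n6351 := rfl
def n6352 : Q := act 4 n3253
theorem D6352 : act 4 n3253 = n6352 := rfl
theorem F11075 : act 3 n6352 = n6346 := d15_1 D6352 (iv D6346) (iv D3249) (iv F2736) D3253
def n6353 : Q := act 6 n3253
theorem D6353 : act 6 n3253 = n6353 := rfl
theorem F11076 : act 3 n6353 = n6341 := d17_1 D6353 (iv D6341) (iv D3247) (iv F2737) D3253
def n6354 : Q := act 3 n3254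
theorem D6354 : act 3 n3254 = n6354 := rfl
theorem F11078 : act 4 n6354 = n5386 := d15_2 (iv F9508) D6354 (iv D5386) F4859 D5334
def n6357 : Q := act 6 n3255
theorem D6357 : act 6 n3255 = n6357 := rfl
theorem F11082 : act 5 n6357 = n5882 := d21_2 F9373 D6357 (iv D5882) (iv F8082)
def n6363 : Q := act 0 n3260
theorem D6363 : act 0 n3260 = n6363 := rfl
def n6364 : Q := act 3 n3260
theorem D6364 : act 3 n3260 = n6364 := rfl
theorem F11090 : act 1 n6364 = n3261 := d7_1 D6364 (iv D3261) D3260
def n6365 : Q := act 4 n3260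
theorem D6365 : act 4 n3260 = n6365 := rfl
def n6366 : Q := act 5 n3260
theorem D6366 : act 5 n3260 = n6366 := rfl
theorem F11092 : act 1 n6366 = n3263 := d9_1 D6366 (iv D3263) D3260
theorem F11093 : act 6 n3335 = n6366 := d10_0 F11092 (iv F5587) (iv F5684)
def n6367 : Q := act 2 n3261
theorem D6367 : act 2 n3261 = n6367 := rfl
theorem F11095 : act 3 n6367 = n5816 := d11_2 D3261 D6367 (iv D5816) (iv D2975) F2581 F1297 (iv F1358) D1561 D3192 D6245 F10928 (iv D6214) (iv D3172) (iv D1552) F1344 F660 (iv F681) D757 D1589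
def n6368 : Q := act 4 n3261
theorem D6368 : act 4 n3261 = n6368 := rfl
def n6369 : Q := act 5 n3261
theorem D6369 : act 5 n3261 = n6369 := rfl
def n6370 : Q := act 6 n3261
theorem D6370 : act 6 n3261 = n6370 := rfl
def n6375 : Q := act 0 n3266
theorem D6375 : act 0 n3266 = n6375 := rfl
theorem F11102 : act 2 n6375 = n3279 := d1_2 (iv F5594) D6375 (iv D3279)
def n6376 : Q := act 3 n3266
theorem D6376 : act 3 n3266 = n6376 := rfl
theorem F11103 : act 1 n6376 = n3267 := d7_1 D6376 (iv D3267) D3266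
def n6377 : Q := act 4 n3266
theorem D6377 : act 4 n3266 = n6377 := rfl
theorem F11104 : act 1 n6377 = n3268 := d8_1 D6377 (iv D3268) D3266
theorem F11105 : act 2 n6377 = n3281 := d12_1 D6377 (iv D3281) (iv F5594)
def n6378 : Q := act 5 n3266
theorem D6378 : act 5 n3266 = n6378 := rfl
theorem F11106 : act 1 n6378 = n3269 := d9_1 D6378 (iv D3269) D3266
theorem F11107 : act 2 n6378 = n3282 := d13_1 D6378 (iv D3282) (iv F5594)
def n6379 : Q := act 6 n3266
theorem D6379 : act 6 n3266 = n6379 := rfl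
theorem F11108 : act 1 n6379 = n3270 := d10_1 D6379 (iv D3270) D3266
theorem F11109 : act 2 n6379 = n3283 := d14_1 D6379 (iv D3283) (iv F5594)
def n6380 : Q := act 2 n3267
theorem D6380 : act 2 n3267 = n6380 := rfl
def n6381 : Q := act 4 n3267
theorem D6381 : act 4 n3267 = n6381 := rfl
def n6382 : Q := act 5 n3267
theorem D6382 : act 5 n3267 = n6382 := rfl
def n6383 : Q := act 6 n3267
theorem D6383 : act 6 n3267 = n6383 := rfl
def n6384 : Q := act 3 n3268
theorem D6384 : act 3 n3268 = n6384 := rfl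
def n6385 : Q := act 5 n3268
theorem D6385 : act 5 n3268 = n6385 := rfl
theorem F11110 : act 2 n6385 = n3271 := d13_1 D6385 (iv D3271) (iv F5595)
theorem F11111 : act 4 n6385 = n3269 := d18_1 D6385 (iv D3269) D3268
def n6386 : Q := act 6 n3268
theorem D6386 : act 6 n3268 = n6386 := rfl
theorem F11112 : act 2 n6386 = n3272 := d14_1 D6386 (iv D3272) (iv F5595)
theorem F11113 : act 4 n6386 = n3270 := d19_1 D6386 (iv D3270) D3268
def n6387 : Q := act 3 n3269
theorem D6387 : act 3 n3269 = n6387 := rfl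
def n6388 : Q := act 6 n3269
theorem D6388 : act 6 n3269 = n6388 := rfl
theorem F11114 : act 2 n6388 = n3274 := d14_1 D6388 (iv D3274) (iv F5596)
theorem F11115 : act 5 n6388 = n6386 := d21_2 D3269 D6388 (iv D6386) (iv D3268)
def n6389 : Q := act 3 n3270
theorem D6389 : act 3 n3270 = n6389 := rfl
def n6390 : Q := act 5 n3270
theorem D6390 : act 5 n3270 = n6390 := rfl
theorem F11116 : act 2 n6390 = n3275 := d13_1 D6390 (iv D3275) (iv F5597)
theorem F11117 : act 4 n6390 = n6388 := d18_1 D6390 F11115 F11113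
theorem F11118 : act 6 n6390 = n6385 := d20_2 D3270 D6390 (iv D6385) D6386 (iv F11115) (iv D6388) (iv D3269)
def n6391 : Q := act 3 n3271
theorem D6391 : act 3 n3271 = n6391 := rfl
theorem F11119 : act 1 n6391 = n3297 := d7_1 D6391 (iv D3297) (iv F5598)
def n6393 : Q := act 2 n3273
theorem D6393 : act 2 n3273 = n6393 := rfl
theorem F11122 : act 5 n6393 = n3276 := d13_2 (iv F5603) D6393 (iv D3276)
def n6394 : Q := act 4 n3273
theorem D6394 : act 4 n3273 = n6394 := rfl
theorem F11123 : act 1 n6394 = n3300 := d8_1 D6394 (iv D3300) (iv F5602)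
theorem F11124 : act 5 n6394 = n3277 := d18_2 (iv F5603) D6394 (iv D3277)
def n6395 : Q := act 6 n3273
theorem D6395 : act 6 n3273 = n6395 := rfl
theorem F11125 : act 1 n6395 = n3301 := d10_1 D6395 (iv D3301) (iv F5602)
def n6396 : Q := act 3 n3274
theorem D6396 : act 3 n3274 = n6396 := rfl
theorem F11126 : act 1 n6396 = n3302 := d7_1 D6396 (iv D3302) (iv F5604)
def n6397 : Q := act 3 n3275
theorem D6397 : act 3 n3275 = n6397 := rfl
theorem F11127 : act 1 n6397 = n3303 := d7_1 D6397 (iv D3303) (iv F5606)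
theorem F11128 : act 5 n6397 = n6064 := d16_2 D3275 D6397 (iv D6064) (iv D3097) (iv F2742)
def n6398 : Q := act 1 n3276
theorem D6398 : act 1 n3276 = n6398 := rfl
theorem F11129 : act 2 n6398 = n3310 := d6_2 D3276 D6398 (iv D3310) (iv D1611) (iv F2743)
def n6399 : Q := act 3 n3276
theorem D6399 : act 3 n3276 = n6399 := rfl
def n6400 : Q := act 4 n3276
theorem D6400 : act 4 n3276 = n6400 := rfl
theorem F11130 : act 2 n6400 = n3277 := d12_1 D6400 (iv D3277) D3276
def n6401 : Q := act 6 n3276
theorem D6401 : act 6 n3276 = n6401 := rfl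
theorem F11131 : act 2 n6401 = n3278 := d14_1 D6401 (iv D3278) D3276
def n6402 : Q := act 6 n3277
theorem D6402 : act 6 n3277 = n6402 := rfl
theorem F11132 : act 1 n6402 = n3314 := d10_1 D6402 (iv D3314) (iv F5609)
theorem F11133 : act 4 n6402 = n3278 := d19_1 D6402 (iv D3278) D3277
theorem F11134 : act 5 n6402 = n6395 := d21_2 F11124 D6402 (iv D6395) D6394
def n6403 : Q := act 5 n3278
theorem D6403 : act 5 n3278 = n6403 := rfl
theorem F11135 : act 1 n6403 = n3315 := d9_1 D6403 (iv D3315) (iv F5610)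
theorem F11136 : act 4 n6403 = n6395 := d18_1 D6403 (iv F11134) F11133
theorem F11137 : act 6 n6403 = n6394 := d20_2 D3278 D6403 F11124 D6402 F11134 (iv D6395) F5603
def n6404 : Q := act 3 n3279
theorem D6404 : act 3 n3279 = n6404 := rfl
theorem F11138 : act 0 n6404 = n3280 := d2_1 D6404 (iv D3280) D3279
def n6405 : Q := act 5 n3279
theorem D6405 : act 5 n3279 = n6405 := rfl
theorem F11139 : act 0 n6405 = n3282 := d4_1 D6405 (iv D3282) D3279
def n6406 : Q := act 6 n3279
theorem D6406 : act 6 n3279 = n6406 := rfl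
theorem F11140 : act 0 n6406 = n3283 := d5_1 D6406 (iv D3283) D3279
def n6407 : Q := act 2 n3280
theorem D6407 : act 2 n3280 = n6407 := rfl
theorem F11141 : act 1 n6407 = n3331 := d6_1 D6407 (iv D3331) F2765 (iv F2745) (iv F5611)
def n6408 : Q := act 4 n3280
theorem D6408 : act 4 n3280 = n6408 := rfl
theorem F11142 : act 1 n6408 = n3284 := d8_1 D6408 (iv D3284) (iv F5611)
def n6409 : Q := act 5 n3280
theorem D6409 : act 5 n3280 = n6409 := rfl
theorem F11143 : act 1 n6409 = n3285 := d9_1 D6409 (iv D3285) (iv F5611)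
def n6410 : Q := act 6 n3280
theorem D6410 : act 6 n3280 = n6410 := rfl
def n6411 : Q := act 3 n3281
theorem D6411 : act 3 n3281 = n6411 := rfl
theorem F11145 : act 1 n6411 = n3287 := d7_1 D6411 (iv D3287) (iv F5612)
def n6412 : Q := act 5 n3281
theorem D6412 : act 5 n3281 = n6412 := rfl
theorem F11146 : act 1 n6412 = n3288 := d9_1 D6412 (iv D3288) (iv F5612)
theorem F11147 : act 4 n6412 = n3282 := d18_1 D6412 (iv D3282) D3281
def n6413 : Q := act 6 n3281
theorem D6413 : act 6 n3281 = n6413 := rfl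
theorem F11148 : act 1 n6413 = n3289 := d10_1 D6413 (iv D3289) (iv F5612)
theorem F11149 : act 4 n6413 = n3283 := d19_1 D6413 (iv D3283) D3281
def n6414 : Q := act 3 n3282
theorem D6414 : act 3 n3282 = n6414 := rfl
theorem F11150 : act 1 n6414 = n3290 := d7_1 D6414 (iv D3290) (iv F5613)
def n6415 : Q := act 6 n3282
theorem D6415 : act 6 n3282 = n6415 := rfl
theorem F11151 : act 1 n6415 = n3291 := d10_1 D6415 (iv D3291) (iv F5613)
theorem F11152 : act 5 n6415 = n6413 := d21_2 D3282 D6415 (iv D6413) (iv D3281)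
def n6417 : Q := act 5 n3283
theorem D6417 : act 5 n3283 = n6417 := rfl
theorem F11154 : act 1 n6417 = n3293 := d9_1 D6417 (iv D3293) (iv F5614)
theorem F11155 : act 4 n6417 = n6415 := d18_1 D6417 F11152 F11149
theorem F11156 : act 6 n6417 = n6412 := d20_2 D3283 D6417 (iv D6412) D6413 (iv F11152) (iv D6415) (iv D3282)
def n6418 : Q := act 5 n3284
theorem D6418 : act 5 n3284 = n6418 := rfl
theorem F11158 : act 2 n6418 = n3337 := d13_1 D6418 (iv D3337) (iv F5616)
theorem F11159 : act 4 n6418 = n3285 := d18_1 D6418 (iv D3285) D3284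
def n6419 : Q := act 6 n3284
theorem D6419 : act 6 n3284 = n6419 := rfl
theorem F11161 : act 2 n6419 = n3338 := d14_1 D6419 (iv D3338) (iv F5616)
def n6420 : Q := act 3 n3285
theorem D6420 : act 3 n3285 = n6420 := rfl
theorem F11164 : act 5 n6420 = n3290 := d16_2 D3285 D6420 (iv D3290) (iv D1600) D1598
def n6421 : Q := act 6 n3285
theorem D6421 : act 6 n3285 = n6421 := rfl
theorem F11166 : act 2 n6421 = n3340 := d14_1 D6421 (iv D3340) (iv F5618)
def n6424 : Q := act 5 n3287
theorem D6424 : act 5 n3287 = n6424 := rfl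
def n6425 : Q := act 3 n3288
theorem D6425 : act 3 n3288 = n6425 := rfl
def n6426 : Q := act 2 n3290
theorem D6426 : act 2 n3290 = n6426 := rfl
def n6427 : Q := act 4 n3290
theorem D6427 : act 4 n3290 = n6427 := rfl
def n6428 : Q := act 6 n3290
theorem D6428 : act 6 n3290 = n6428 := rfl
def n6429 : Q := act 3 n3291
theorem D6429 : act 3 n3291 = n6429 := rfl
def n6433 : Q := act 3 n3293
theorem D6433 : act 3 n3293 = n6433 := rfl
def n6436 : Q := act 3 n3295
theorem D6436 : act 3 n3295 = n6436 := rfl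
theorem F11178 : act 5 n6436 = n3297 := d16_2 D3295 D6436 (iv D3297) (iv D1603) D1602
def n6437 : Q := act 3 n3296
theorem D6437 : act 3 n3296 = n6437 := rfl
theorem F11179 : act 4 n6437 = n6106 := d15_2 (iv F5632) D6437 (iv D6106) F5411 (iv F2756)
def n6438 : Q := act 2 n3297
theorem D6438 : act 2 n3297 = n6438 := rfl
def n6439 : Q := act 4 n3297
theorem D6439 : act 4 n3297 = n6439 := rfl
theorem F11181 : act 3 n6439 = n3300 := d15_1 D6439 (iv D3300) (iv D1605) (iv F2750) D3297
def n6440 : Q := act 6 n3297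
theorem D6440 : act 6 n3297 = n6440 := rfl
def n6441 : Q := act 5 n3298
theorem D6441 : act 5 n3298 = n6441 := rfl
def n6444 : Q := act 3 n3301
theorem D6444 : act 3 n3301 = n6444 := rfl
theorem F11184 : act 6 n6444 = n3302 := d17_2 D3301 D6444 (iv D3302) (iv D1606) D1605
def n6445 : Q := act 2 n3302
theorem D6445 : act 2 n3302 = n6445 := rfl
def n6446 : Q := act 4 n3302
theorem D6446 : act 4 n3302 = n6446 := rfl
def n6447 : Q := act 5 n3302
theorem D6447 : act 5 n3302 = n6447 := rfl
theorem F11185 : act 3 n6447 = n6441 := d16_1 D6447 (iv D6441) (iv D3298) (iv F2753) D3302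
def n6448 : Q := act 2 n3303
theorem D6448 : act 2 n3303 = n6448 := rfl
theorem F11186 : act 5 n6448 = n6113 := d13_2 (iv F5636) D6448 (iv D6113)
def n6449 : Q := act 4 n3303
theorem D6449 : act 4 n3303 = n6449 := rfl
theorem F11187 : act 3 n6449 = n6446 := d15_1 D6449 (iv D6446) (iv D3302) (iv F2754) D3303
theorem F11188 : act 5 n6449 = n6114 := d18_2 (iv F5636) D6449 (iv D6114)
def n6450 : Q := act 6 n3303
theorem D6450 : act 6 n3303 = n6450 := rfl
theorem F11189 : act 3 n6450 = n6440 := d17_1 D6450 (iv D6440) (iv D3297) (iv F2755) D3303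
def n6459 : Q := act 3 n3309
theorem D6459 : act 3 n3309 = n6459 := rfl
theorem F11202 : act 5 n6459 = n6127 := d16_2 D3309 D6459 (iv D6127) (iv D3129) (iv F2756)
def n6463 : Q := act 6 n3310
theorem D6463 : act 6 n3310 = n6463 := rfl
theorem F11205 : act 1 n6463 = n3313 := d10_1 D6463 (iv D3313) D3310
theorem F11206 : act 5 n3320 = n6463 := d9_0 F11205 F5645 (iv F5656)
def n6468 : Q := act 3 n3312
theorem D6468 : act 3 n3312 = n6468 := rfl
def n6469 : Q := act 6 n3312
theorem D6469 : act 6 n3312 = n6469 := rfl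
theorem F11209 : act 0 n6469 = n3403 := d5_1 D6469 F5788 F5771
theorem F11210 : act 2 n6469 = n3314 := d14_1 D6469 (iv D3314) (iv F5642)
theorem F11212 : act 5 n6469 = n3330 := d20_1 D6469 F5679 F5634 D3313 F5645 (iv F5666) (iv F5668)
def n6470 : Q := act 3 n3314
theorem D6470 : act 3 n3314 = n6470 := rfl
def n6472 : Q := act 3 n3316
theorem D6472 : act 3 n3316 = n6472 := rfl
def n6473 : Q := act 4 n3316
theorem D6473 : act 4 n3316 = n6473 := rfl
theorem F11215 : act 2 n6473 = n3317 := d12_1 D6473 (iv D3317) D3316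
def n6474 : Q := act 5 n3316
theorem D6474 : act 5 n3316 = n6474 := rfl
theorem F11216 : act 2 n6474 = n3318 := d13_1 D6474 (iv D3318) D3316
def n6475 : Q := act 6 n3316
theorem D6475 : act 6 n3316 = n6475 := rfl
theorem F11217 : act 2 n6475 = n3319 := d14_1 D6475 (iv D3319) D3316
def n6476 : Q := act 5 n3317
theorem D6476 : act 5 n3317 = n6476 := rfl
theorem F11218 : act 1 n6476 = n3322 := d9_1 D6476 (iv D3322) (iv F5652)
theorem F11219 : act 4 n6476 = n3318 := d18_1 D6476 (iv D3318) D3317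
def n6477 : Q := act 6 n3317
theorem D6477 : act 6 n3317 = n6477 := rfl
theorem F11220 : act 1 n6477 = n3323 := d10_1 D6477 (iv D3323) (iv F5652)
theorem F11221 : act 4 n6477 = n3319 := d19_1 D6477 (iv D3319) D3317
def n6478 : Q := act 6 n3318
theorem D6478 : act 6 n3318 = n6478 := rfl
theorem F11222 : act 1 n6478 = n3324 := d10_1 D6478 (iv D3324) (iv F5653)
theorem F11223 : act 5 n6478 = n6477 := d21_2 D3318 D6478 (iv D6477) (iv D3317)
def n6479 : Q := act 3 n3319
theorem D6479 : act 3 n3319 = n6479 := rfl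
theorem F11225 : act 6 n6479 = n3320 := d17_2 D3319 D6479 (iv D3320) (iv D1615) D1614
def n6480 : Q := act 5 n3319
theorem D6480 : act 5 n3319 = n6480 := rfl
theorem F11228 : act 1 n6480 = n3326 := d9_1 D6480 (iv D3326) (iv F5655)
theorem F11229 : act 4 n6480 = n6478 := d18_1 D6480 F11223 F11221
theorem F11230 : act 6 n6480 = n6476 := d20_2 D3319 D6480 (iv D6476) D6477 (iv F11223) (iv D6478) (iv D3318)
def n6481 : Q := act 2 n3320
theorem D6481 : act 2 n3320 = n6481 := rfl
def n6482 : Q := act 4 n3320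
theorem D6482 : act 4 n3320 = n6482 := rfl
def n6483 : Q := act 2 n3321
theorem D6483 : act 2 n3321 = n6483 := rfl
theorem F11233 : act 0 n6483 = n3380 := d1_1 D6483 (iv D3380) (iv F5657)
theorem F11234 : act 3 n6483 = n5695 := d11_2 D3321 D6483 (iv D5695) (iv D2905) (iv F4831) D5348 F9552 (iv D3373) F2789 D1641 D3380 F9554 (iv D3010) (iv D1471) (iv F2607) D3003 D5881 F10452 F5558
theorem F11235 : act 4 n6483 = n3327 := d12_2 (iv F5658) D6483 (iv D3327)
theorem F11236 : act 1 n6307 = n6483 := d22_7 F2763 (iv F2783) D3362 F5737 (iv F11028) (iv D6310) (iv F11025) (iv D6483) F5658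
def n6484 : Q := act 5 n3321
theorem D6484 : act 5 n3321 = n6484 := rfl
theorem F11237 : act 0 n6484 = n3381 := d4_1 D6484 (iv D3381) (iv F5657)
theorem F11238 : act 4 n6484 = n3328 := d18_1 D6484 (iv D3328) (iv F5658)
def n6485 : Q := act 6 n3321
theorem D6485 : act 6 n3321 = n6485 := rfl
theorem F11239 : act 0 n6485 = n3382 := d5_1 D6485 (iv D3382) (iv F5657)
theorem F11240 : act 4 n6485 = n3329 := d19_1 D6485 (iv D3329) (iv F5658)
def n6486 : Q := act 3 n3322
theorem D6486 : act 3 n3322 = n6486 := rfl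
theorem F11241 : act 0 n6486 = n3383 := d2_1 D6486 (iv D3383) (iv F5659)
theorem F11242 : act 4 n6486 = n3383 := d15_2 (iv F5660) D6486 (iv D3383) F2793 (iv F2761)
def n6488 : Q := act 3 n3324
theorem D6488 : act 3 n3324 = n6488 := rfl
def n6489 : Q := act 3 n3326
theorem D6489 : act 3 n3326 = n6489 := rfl
theorem F11249 : act 5 n6489 = n6468 := d16_2 D3326 D6489 (iv D6468) F5668 (iv D3325)
def n6490 : Q := act 1 n3327
theorem D6490 : act 1 n3327 = n6490 := rfl
theorem F11250 : act 0 n6490 = n6311 := d0_1 D6490 F11029 F5557 (iv F5747) F5775 (iv D3390) (iv F5673)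
theorem F11251 : act 4 n6490 = n6307 := d8_2 F11235 D6490 F11236
def n6491 : Q := act 5 n3327
theorem D6491 : act 5 n3327 = n6491 := rfl
theorem F11252 : act 0 n6491 = n3392 := d4_1 D6491 (iv D3392) (iv F5673)
theorem F11253 : act 2 n6491 = n3328 := d13_1 D6491 (iv D3328) D3327
theorem F11254 : act 3 n6491 = n6321 := d16_1 D6491 (iv D6321) (iv F10452) F10451 F9599
def n6492 : Q := act 6 n3327
theorem D6492 : act 6 n3327 = n6492 := rfl
theorem F11255 : act 0 n6492 = n3393 := d5_1 D6492 (iv D3393) (iv F5673)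
theorem F11256 : act 2 n6492 = n3329 := d14_1 D6492 (iv D3329) D3327
def n6493 : Q := act 6 n3328
theorem D6493 : act 6 n3328 = n6493 := rfl
theorem F11258 : act 5 n6493 = n6485 := d21_2 D3328 D6493 (iv D6485) F5658
def n6494 : Q := act 5 n3329
theorem D6494 : act 5 n3329 = n6494 := rfl
theorem F11259 : act 0 n6494 = n3396 := d4_1 D6494 (iv D3396) (iv F5676)
theorem F11261 : act 6 n6494 = n6484 := d20_2 D3329 D6494 (iv D6484) D6485 (iv F11258) (iv D6493) (iv D3328)
def n6495 : Q := act 3 n3331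
theorem D6495 : act 3 n3331 = n6495 := rfl
def n6496 : Q := act 4 n3331
theorem D6496 : act 4 n3331 = n6496 := rfl
theorem F11262 : act 2 n6496 = n3332 := d12_1 D6496 (iv D3332) D3331
def n6497 : Q := act 5 n3331
theorem D6497 : act 5 n3331 = n6497 := rfl
theorem F11263 : act 2 n6497 = n3333 := d13_1 D6497 (iv D3333) D3331
def n6498 : Q := act 6 n3331
theorem D6498 : act 6 n3331 = n6498 := rfl
theorem F11264 : act 2 n6498 = n3334 := d14_1 D6498 (iv D3334) D3331
def n6499 : Q := act 5 n3332
theorem D6499 : act 5 n3332 = n6499 := rfl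
theorem F11265 : act 1 n6499 = n3337 := d9_1 D6499 (iv D3337) (iv F5680)
theorem F11266 : act 4 n6499 = n3333 := d18_1 D6499 (iv D3333) D3332
def n6500 : Q := act 6 n3332
theorem D6500 : act 6 n3332 = n6500 := rfl
theorem F11267 : act 1 n6500 = n3338 := d10_1 D6500 (iv D3338) (iv F5680)
theorem F11268 : act 4 n6500 = n3334 := d19_1 D6500 (iv D3334) D3332
def n6501 : Q := act 3 n3333
theorem D6501 : act 3 n3333 = n6501 := rfl
theorem F11270 : act 5 n6501 = n3335 := d16_2 D3333 D6501 (iv D3335) (iv D1622) D1621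
theorem F11271 : act 4 n6348 = n6501 := d21_4 F11270 F11093 (iv D6366) (iv F11073)
theorem F11272 : act 6 n6501 = n6365 := d21_3 D6366 (iv F11093) (iv F11270) (iv D6365)
def n6502 : Q := act 6 n3333
theorem D6502 : act 6 n3333 = n6502 := rfl
theorem F11273 : act 1 n6502 = n3340 := d10_1 D6502 (iv D3340) (iv F5681)
theorem F11274 : act 5 n6502 = n6500 := d21_2 D3333 D6502 (iv D6500) (iv D3332)
def n6503 : Q := act 5 n3334
theorem D6503 : act 5 n3334 = n6503 := rfl
def n6509 : Q := act 3 n3337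
theorem D6509 : act 3 n3337 = n6509 := rfl
theorem F11288 : act 0 n6509 = n3451 := d2_1 D6509 (iv D3451) (iv F5687)
def n6510 : Q := act 3 n3338
theorem D6510 : act 3 n3338 = n6510 := rfl
theorem F11290 : act 0 n6510 = n3452 := d2_1 D6510 (iv D3452) (iv F5689)
theorem F11291 : act 4 n6510 = n3452 := d15_2 (iv F5690) D6510 (iv D3452) F2829 (iv F2770)
theorem F11292 : act 2 n6510 = n6510 := d12_3 F11291 F9856 (iv F11291)
def n6511 : Q := act 3 n3340
theorem D6511 : act 3 n3340 = n6511 := rfl
theorem F11293 : act 0 n6511 = n3456 := d2_1 D6511 (iv D3456) (iv F5696)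
def n6513 : Q := act 1 n3342
theorem D6513 : act 1 n3342 = n6513 := rfl
theorem F11297 : act 0 n6513 = n6408 := d0_1 D6513 F11142 F5615 (iv F5845) F5873 (iv D3458) (iv F5701)
def n6518 : Q := act 1 n3346
theorem D6518 : act 1 n3346 = n6518 := rfl
theorem F11309 : act 2 n6518 = n6490 := d6_2 D3346 D6518 (iv D6490) (iv D3327) (iv F2774)
def n6519 : Q := act 3 n3346
theorem D6519 : act 3 n3346 = n6519 := rfl
theorem F11310 : act 0 n6519 = n3352 := d2_1 D6519 (iv D3352) (iv F5708)
theorem F11311 : act 2 n6519 = n6519 := d11_1 D6519 (iv D6519) (iv D3346) (iv D1628) (iv F1439) F2009 F729 D775 D1630 D3352 F5719 (iv D3352) (iv D1630) (iv D775) (iv F729) (iv F2009) F1439 D1628 D3346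
def n6520 : Q := act 4 n3346
theorem D6520 : act 4 n3346 = n6520 := rfl
theorem F11312 : act 0 n6520 = n3353 := d3_1 D6520 (iv D3353) (iv F5708)
theorem F11313 : act 2 n6520 = n3347 := d12_1 D6520 (iv D3347) D3346
def n6521 : Q := act 5 n3346
theorem D6521 : act 5 n3346 = n6521 := rfl
theorem F11315 : act 2 n6521 = n3348 := d13_1 D6521 (iv D3348) D3346
def n6522 : Q := act 6 n3346
theorem D6522 : act 6 n3346 = n6522 := rfl
theorem F11316 : act 0 n6522 = n3355 := d5_1 D6522 (iv D3355) (iv F5708)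
theorem F11317 : act 2 n6522 = n3349 := d14_1 D6522 (iv D3349) D3346
def n6523 : Q := act 5 n3347
theorem D6523 : act 5 n3347 = n6523 := rfl
theorem F11318 : act 0 n6523 = n3357 := d4_1 D6523 (iv D3357) (iv F5709)
theorem F11319 : act 1 n6523 = n6484 := d9_1 D6523 (iv D6484) (iv F5710)
theorem F11320 : act 4 n6523 = n3348 := d18_1 D6523 (iv D3348) D3347
def n6524 : Q := act 6 n3347
theorem D6524 : act 6 n3347 = n6524 := rfl
theorem F11321 : act 0 n6524 = n3358 := d5_1 D6524 (iv D3358) (iv F5709)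
theorem F11322 : act 1 n6524 = n6485 := d10_1 D6524 (iv D6485) (iv F5710)
theorem F11323 : act 4 n6524 = n3349 := d19_1 D6524 (iv D3349) D3347
def n6525 : Q := act 6 n3348
theorem D6525 : act 6 n3348 = n6525 := rfl
theorem F11324 : act 0 n6525 = n3359 := d5_1 D6525 (iv D3359) (iv F5712)
theorem F11326 : act 5 n6525 = n6524 := d21_2 D3348 D6525 (iv D6524) (iv D3347)
def n6526 : Q := act 3 n3349
theorem D6526 : act 3 n3349 = n6526 := rfl
theorem F11327 : act 0 n6526 = n3360 := d2_1 D6526 (iv D3360) (iv F5714)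
theorem F11328 : act 1 n6526 = n3407 := d7_1 D6526 F5797 (iv F5715)
theorem F11329 : act 6 n6526 = n3350 := d17_2 D3349 D6526 (iv D3350) (iv D1629) D1628
theorem F11330 : act 5 n6128 = n6526 := d9_0 F11328 (iv F5798) D6128
def n6527 : Q := act 5 n3349
theorem D6527 : act 5 n3349 = n6527 := rfl
theorem F11331 : act 0 n6527 = n3361 := d4_1 D6527 (iv D3361) (iv F5714)
theorem F11332 : act 1 n6527 = n6494 := d9_1 D6527 (iv D6494) (iv F5715)
theorem F11333 : act 4 n6527 = n6525 := d18_1 D6527 F11326 F11323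
theorem F11334 : act 6 n6527 = n6523 := d20_2 D3349 D6527 (iv D6523) D6524 (iv F11326) (iv D6525) (iv D3348)
def n6528 : Q := act 2 n3350
theorem D6528 : act 2 n3350 = n6528 := rfl
theorem F11335 : act 0 n6528 = n3366 := d1_1 D6528 (iv D3366) (iv F5716)
def n6529 : Q := act 4 n3350
theorem D6529 : act 4 n3350 = n6529 := rfl
theorem F11336 : act 0 n6529 = n3367 := d3_1 D6529 (iv D3367) (iv F5716)
theorem F11338 : act 3 n6529 = n6482 := d15_1 D6529 (iv D6482) (iv D3320) (iv F2777) D3350
def n6530 : Q := act 5 n3350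
theorem D6530 : act 5 n3350 = n6530 := rfl
theorem F11339 : act 0 n6530 = n3368 := d4_1 D6530 (iv D3368) (iv F5716)
theorem F11340 : act 1 n6530 = n3404 := d9_1 D6530 F5790 (iv F5717)
theorem F11341 : act 3 n6530 = n3368 := d16_1 D6530 (iv D3368) (iv D1636) (iv F2778) D3350
def n6531 : Q := act 0 n3351
theorem D6531 : act 0 n3351 = n6531 := rfl
theorem F11342 : act 2 n6531 = n3369 := d1_2 (iv F5718) D6531 (iv D3369)
def n6532 : Q := act 3 n3351
theorem D6532 : act 3 n3351 = n6532 := rfl
theorem F11343 : act 1 n6532 = n3352 := d7_1 D6532 (iv D3352) D3351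
def n6533 : Q := act 4 n3351
theorem D6533 : act 4 n3351 = n6533 := rfl
theorem F11344 : act 1 n6533 = n3353 := d8_1 D6533 (iv D3353) D3351
theorem F11345 : act 2 n6533 = n3370 := d12_1 D6533 (iv D3370) (iv F5718)
def n6534 : Q := act 5 n3351
theorem D6534 : act 5 n3351 = n6534 := rfl
theorem F11346 : act 1 n6534 = n3354 := d9_1 D6534 (iv D3354) D3351
theorem F11347 : act 2 n6534 = n3371 := d13_1 D6534 (iv D3371) (iv F5718)
def n6535 : Q := act 6 n3351
theorem D6535 : act 6 n3351 = n6535 := rfl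
theorem F11348 : act 1 n6535 = n3355 := d10_1 D6535 (iv D3355) D3351
def n6536 : Q := act 4 n3352
theorem D6536 : act 4 n3352 = n6536 := rfl
def n6537 : Q := act 5 n3352
theorem D6537 : act 5 n3352 = n6537 := rfl
theorem F11351 : act 2 n6537 = n6537 := d13_1 D6537 (iv D6537) F5719
def n6538 : Q := act 6 n3352
theorem D6538 : act 6 n3352 = n6538 := rfl
theorem F11352 : act 2 n6538 = n6538 := d14_1 D6538 (iv D6538) F5719
def n6539 : Q := act 3 n3353
theorem D6539 : act 3 n3353 = n6539 := rfl
def n6540 : Q := act 5 n3353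
theorem D6540 : act 5 n3353 = n6540 := rfl
theorem F11353 : act 2 n6540 = n3357 := d13_1 D6540 (iv D3357) (iv F5720)
theorem F11354 : act 4 n6540 = n3354 := d18_1 D6540 (iv D3354) D3353
def n6541 : Q := act 6 n3353
theorem D6541 : act 6 n3353 = n6541 := rfl
theorem F11355 : act 2 n6541 = n3358 := d14_1 D6541 (iv D3358) (iv F5720)
theorem F11356 : act 4 n6541 = n3355 := d19_1 D6541 (iv D3355) D3353
def n6542 : Q := act 3 n3354
theorem D6542 : act 3 n3354 = n6542 := rfl
def n6543 : Q := act 6 n3354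
theorem D6543 : act 6 n3354 = n6543 := rfl
theorem F11357 : act 2 n6543 = n3359 := d14_1 D6543 (iv D3359) (iv F5721)
theorem F11358 : act 5 n6543 = n6541 := d21_2 D3354 D6543 (iv D6541) (iv D3353)
def n6544 : Q := act 3 n3355
theorem D6544 : act 3 n3355 = n6544 := rfl
def n6545 : Q := act 5 n3355
theorem D6545 : act 5 n3355 = n6545 := rfl
theorem F11359 : act 2 n6545 = n3361 := d13_1 D6545 (iv D3361) (iv F5722)
theorem F11360 : act 4 n6545 = n6543 := d18_1 D6545 F11358 F11356
theorem F11361 : act 6 n6545 = n6540 := d20_2 D3355 D6545 (iv D6540) D6541 (iv F11358) (iv D6543) (iv D3354)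
def n6546 : Q := act 2 n3356
theorem D6546 : act 2 n3356 = n6546 := rfl
theorem F11362 : act 0 n6546 = n6473 := d1_1 D6546 F11215 (iv F5723)
theorem F11363 : act 1 n6546 = n6531 := d6_1 D6546 F11342 F5760 (iv D3380) (iv F5724)
theorem F11364 : act 4 n6546 = n3362 := d12_2 (iv F5725) D6546 (iv D3362)
def n6547 : Q := act 5 n3356
theorem D6547 : act 5 n3356 = n6547 := rfl
theorem F11365 : act 0 n6547 = n6476 := d4_1 D6547 (iv D6476) (iv F5723)
theorem F11366 : act 1 n6547 = n3381 := d9_1 D6547 (iv D3381) (iv F5724)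
theorem F11367 : act 4 n6547 = n3363 := d18_1 D6547 (iv D3363) (iv F5725)
def n6548 : Q := act 6 n3356
theorem D6548 : act 6 n3356 = n6548 := rfl
theorem F11368 : act 0 n6548 = n6477 := d5_1 D6548 (iv D6477) (iv F5723)
theorem F11369 : act 1 n6548 = n3382 := d10_1 D6548 (iv D3382) (iv F5724)
theorem F11370 : act 4 n6548 = n3364 := d19_1 D6548 (iv D3364) (iv F5725)
def n6549 : Q := act 3 n3357
theorem D6549 : act 3 n3357 = n6549 := rfl
theorem F11371 : act 1 n6549 = n3383 := d7_1 D6549 (iv D3383) (iv F5726)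
def n6550 : Q := act 3 n3358
theorem D6550 : act 3 n3358 = n6550 := rfl
theorem F11372 : act 1 n6550 = n3384 := d7_1 D6550 (iv D3384) (iv F5728)
def n6551 : Q := act 3 n3359
theorem D6551 : act 3 n3359 = n6551 := rfl
theorem F11373 : act 1 n6551 = n3385 := d7_1 D6551 (iv D3385) (iv F5730)
def n6552 : Q := act 2 n3360
theorem D6552 : act 2 n3360 = n6552 := rfl
theorem F11374 : act 6 n6552 = n3366 := d14_2 (iv F5733) D6552 (iv D3366)
def n6553 : Q := act 4 n3360
theorem D6553 : act 4 n3360 = n6553 := rfl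
theorem F11376 : act 6 n6553 = n3367 := d19_2 (iv F5733) D6553 (iv D3367)
theorem F11377 : act 5 n6553 = n6275 := d21_0 F10982 (iv D3368) (iv F5733) D6553
def n6554 : Q := act 5 n3360
theorem D6554 : act 5 n3360 = n6554 := rfl
theorem F11378 : act 0 n6554 = n6128 := d4_1 D6554 F11330 F11327
def n6555 : Q := act 3 n3361
theorem D6555 : act 3 n3361 = n6555 := rfl
theorem F11381 : act 1 n6555 = n3389 := d7_1 D6555 (iv D3389) (iv F5734)
def n6556 : Q := act 1 n3362
theorem D6556 : act 1 n3362 = n6556 := rfl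
theorem F11382 : act 2 n6556 = n3390 := d6_2 D3362 D6556 (iv D3390) (iv D1647) (iv F2783)
theorem F11383 : act 4 n6556 = n6531 := d8_2 F11364 D6556 (iv F11363)
theorem F11384 : act 0 n6533 = n6556 := d22_0 (iv D6556) (iv D3362) F2782 F2757 (iv F2727) F2726 D1637 (iv F5718) D6533
def n6557 : Q := act 3 n3362
theorem D6557 : act 3 n3362 = n6557 := rfl
theorem F11385 : act 0 n6557 = n6472 := d2_1 D6557 (iv D6472) (iv F5737)
def n6558 : Q := act 5 n3362
theorem D6558 : act 5 n3362 = n6558 := rfl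
theorem F11386 : act 0 n6558 = n6474 := d4_1 D6558 (iv D6474) (iv F5737)
theorem F11387 : act 2 n6558 = n3363 := d13_1 D6558 (iv D3363) D3362
def n6559 : Q := act 6 n3362
theorem D6559 : act 6 n3362 = n6559 := rfl
theorem F11388 : act 0 n6559 = n6475 := d5_1 D6559 (iv D6475) (iv F5737)
theorem F11389 : act 2 n6559 = n3364 := d14_1 D6559 (iv D3364) D3362
def n6560 : Q := act 6 n3363
theorem D6560 : act 6 n3363 = n6560 := rfl
theorem F11390 : act 0 n6560 = n6478 := d5_1 D6560 (iv D6478) (iv F5738)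
theorem F11391 : act 1 n6560 = n3394 := d10_1 D6560 (iv D3394) (iv F5739)
theorem F11392 : act 5 n6560 = n6548 := d21_2 D3363 D6560 (iv D6548) F5725
def n6561 : Q := act 3 n3364
theorem D6561 : act 3 n3364 = n6561 := rfl
theorem F11393 : act 0 n6561 = n6479 := d2_1 D6561 (iv D6479) (iv F5741)
theorem F11394 : act 1 n6561 = n3395 := d7_1 D6561 (iv D3395) (iv F5742)
theorem F11395 : act 6 n6561 = n3365 := d17_2 D3364 D6561 (iv D3365) (iv D1635) D1634
def n6562 : Q := act 5 n3364
theorem D6562 : act 5 n3364 = n6562 := rfl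
theorem F11396 : act 0 n6562 = n6480 := d4_1 D6562 (iv D6480) (iv F5741)
theorem F11397 : act 1 n6562 = n3396 := d9_1 D6562 (iv D3396) (iv F5742)
theorem F11398 : act 4 n6562 = n6560 := d18_1 D6562 F11392 F11370
theorem F11399 : act 6 n6562 = n6547 := d20_2 D3364 D6562 (iv D6547) D6548 (iv F11392) (iv D6560) (iv D3363)
def n6563 : Q := act 2 n3365
theorem D6563 : act 2 n3365 = n6563 := rfl
theorem F11400 : act 0 n6563 = n6481 := d1_1 D6563 (iv D6481) (iv F5743)
def n6564 : Q := act 4 n3365
theorem D6564 : act 4 n3365 = n6564 := rfl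
theorem F11402 : act 1 n6564 = n3398 := d8_1 D6564 (iv D3398) (iv F5744)
theorem F11403 : act 3 n6564 = n3367 := d15_1 D6564 (iv D3367) (iv D1636) (iv F2786) D3365
def n6565 : Q := act 5 n3365
theorem D6565 : act 5 n3365 = n6565 := rfl
theorem F11404 : act 0 n6565 = n6463 := d4_1 D6565 (iv F11206) (iv F5743)
def n6566 : Q := act 1 n3366
theorem D6566 : act 1 n3366 = n6566 := rfl
theorem F11408 : act 2 n6566 = n3400 := d6_2 D3366 D6566 (iv D3400) (iv D1651) (iv F2788)
def n6567 : Q := act 3 n3366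
theorem D6567 : act 3 n3366 = n6567 := rfl
def n6568 : Q := act 4 n3366
theorem D6568 : act 4 n3366 = n6568 := rfl
theorem F11409 : act 2 n6568 = n3367 := d12_1 D6568 (iv D3367) D3366
def n6569 : Q := act 5 n3366
theorem D6569 : act 5 n3366 = n6569 := rfl
theorem F11410 : act 2 n6569 = n3368 := d13_1 D6569 (iv D3368) D3366
def n6570 : Q := act 5 n3367
theorem D6570 : act 5 n3367 = n6570 := rfl
theorem F11411 : act 1 n6570 = n3403 := d9_1 D6570 (iv D3403) (iv F5745)
theorem F11412 : act 4 n6570 = n3368 := d18_1 D6570 (iv D3368) D3367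
theorem F11413 : act 6 n6570 = n6554 := d20_2 F11376 D6570 (iv D6554) F5733 D3368 (iv F10982) (iv F11377)
def n6571 : Q := act 5 n3369
theorem D6571 : act 5 n3369 = n6571 := rfl
theorem F11414 : act 0 n6571 = n3371 := d4_1 D6571 (iv D3371) D3369
def n6572 : Q := act 6 n3369
theorem D6572 : act 6 n3369 = n6572 := rfl
theorem F11415 : act 0 n6572 = n3372 := d5_1 D6572 (iv D3372) D3369
def n6573 : Q := act 3 n3370
theorem D6573 : act 3 n3370 = n6573 := rfl
theorem F11416 : act 1 n6573 = n3373 := d7_1 D6573 (iv D3373) (iv F5747)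
def n6574 : Q := act 5 n3370
theorem D6574 : act 5 n3370 = n6574 := rfl
theorem F11417 : act 1 n6574 = n3374 := d9_1 D6574 (iv D3374) (iv F5747)
theorem F11418 : act 4 n6574 = n3371 := d18_1 D6574 (iv D3371) D3370
def n6575 : Q := act 6 n3370
theorem D6575 : act 6 n3370 = n6575 := rfl
theorem F11419 : act 1 n6575 = n3375 := d10_1 D6575 (iv D3375) (iv F5747)
theorem F11420 : act 4 n6575 = n3372 := d19_1 D6575 (iv D3372) D3370
def n6576 : Q := act 3 n3371
theorem D6576 : act 3 n3371 = n6576 := rfl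
theorem F11421 : act 1 n6576 = n3376 := d7_1 D6576 (iv D3376) (iv F5748)
def n6577 : Q := act 6 n3371
theorem D6577 : act 6 n3371 = n6577 := rfl
theorem F11422 : act 1 n6577 = n3377 := d10_1 D6577 (iv D3377) (iv F5748)
theorem F11423 : act 5 n6577 = n6575 := d21_2 D3371 D6577 (iv D6575) (iv D3370)
def n6578 : Q := act 3 n3372
theorem D6578 : act 3 n3372 = n6578 := rfl
theorem F11424 : act 1 n6578 = n3378 := d7_1 D6578 (iv D3378) (iv F5749)
def n6579 : Q := act 5 n3372
theorem D6579 : act 5 n3372 = n6579 := rfl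
theorem F11425 : act 1 n6579 = n3379 := d9_1 D6579 (iv D3379) (iv F5749)
theorem F11426 : act 4 n6579 = n6577 := d18_1 D6579 F11423 F11420
theorem F11427 : act 6 n6579 = n6574 := d20_2 D3372 D6579 (iv D6574) D6575 (iv F11423) (iv D6577) (iv D3371)
def n6580 : Q := act 6 n3373
theorem D6580 : act 6 n3373 = n6580 := rfl
def n6581 : Q := act 3 n3375
theorem D6581 : act 3 n3375 = n6581 := rfl
def n6582 : Q := act 2 n3376
theorem D6582 : act 2 n3376 = n6582 := rfl
def n6583 : Q := act 4 n3376
theorem D6583 : act 4 n3376 = n6583 := rfl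
def n6584 : Q := act 6 n3376
theorem D6584 : act 6 n3376 = n6584 := rfl
def n6585 : Q := act 3 n3377
theorem D6585 : act 3 n3377 = n6585 := rfl
def n6586 : Q := act 2 n3378
theorem D6586 : act 2 n3378 = n6586 := rfl
def n6587 : Q := act 4 n3378
theorem D6587 : act 4 n3378 = n6587 := rfl
def n6588 : Q := act 5 n3378
theorem D6588 : act 5 n3378 = n6588 := rfl
def n6589 : Q := act 3 n3379
theorem D6589 : act 3 n3379 = n6589 := rfl
def n6590 : Q := act 5 n3380
theorem D6590 : act 5 n3380 = n6590 := rfl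
theorem F11429 : act 1 n6590 = n6571 := d9_1 D6590 (iv D6571) F5760
theorem F11430 : act 2 n6590 = n3381 := d13_1 D6590 (iv D3381) D3380
theorem F11431 : act 4 n6590 = n3392 := d18_1 D6590 (iv D3392) (iv F5759)
theorem F11432 : act 3 n6583 = n6590 := d15_5 F11431 F9557 F5751 D3376 D6583
def n6591 : Q := act 6 n3380
theorem D6591 : act 6 n3380 = n6591 := rfl
theorem F11433 : act 1 n6591 = n6572 := d10_1 D6591 (iv D6572) F5760
theorem F11434 : act 2 n6591 = n3382 := d14_1 D6591 (iv D3382) D3380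
theorem F11435 : act 4 n6591 = n3393 := d19_1 D6591 (iv D3393) (iv F5759)
def n6592 : Q := act 3 n3381
theorem D6592 : act 3 n3381 = n6592 := rfl
theorem F11436 : act 5 n6592 = n3383 := d16_2 D3381 D6592 (iv D3383) (iv D1642) D1641
def n6593 : Q := act 3 n3382
theorem D6593 : act 3 n3382 = n6593 := rfl
theorem F11438 : act 6 n6593 = n3384 := d17_2 D3382 D6593 (iv D3384) (iv D1643) D1641
def n6594 : Q := act 6 n3383
theorem D6594 : act 6 n3383 = n6594 := rfl
def n6596 : Q := act 4 n3384
theorem D6596 : act 4 n3384 = n6596 := rfl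
theorem F11441 : act 3 n6596 = n3387 := d15_1 D6596 (iv D3387) (iv D1645) (iv F2794) D3384
def n6601 : Q := act 1 n3386
theorem D6601 : act 1 n3386 = n6601 := rfl
theorem F11443 : act 4 n6601 = n6254 := d8_2 (iv F5766) D6601 F10941
theorem F11444 : act 5 n6601 = n6258 := d9_2 F5765 D6601 F10948
theorem F11445 : act 6 n6601 = n3400 := d10_2 (iv F5764) D6601 (iv D3400)
def n6602 : Q := act 3 n3386
theorem D6602 : act 3 n3386 = n6602 := rfl
theorem F11447 : act 4 n6602 = n6269 := d15_2 (iv F5766) D6602 (iv D6269) F5516 D3207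
def n6603 : Q := act 3 n3388
theorem D6603 : act 3 n3388 = n6603 := rfl
theorem F11449 : act 5 n6603 = n3389 := d16_2 D3388 D6603 (iv D3389) (iv D1646) D1645
def n6606 : Q := act 6 n3389
theorem D6606 : act 6 n3389 = n6606 := rfl
theorem F11451 : act 3 n6606 = n6594 := d17_1 D6606 (iv D6594) (iv D3383) (iv F2798) D3389
def n6607 : Q := act 3 n3390
theorem D6607 : act 3 n3390 = n6607 := rfl
theorem F11452 : act 0 n6607 = n6573 := d2_1 D6607 (iv D6573) F5775
theorem F11453 : act 1 n6607 = n3391 := d7_1 D6607 (iv D3391) D3390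
theorem F11454 : act 4 n6607 = n5907 := d15_2 (iv F5774) D6607 (iv D5907) (iv F10460) F10459
theorem F11455 : act 5 n6573 = n6607 := d9_0 F11453 (iv F9553) (iv F11416)
def n6608 : Q := act 5 n3390
theorem D6608 : act 5 n3390 = n6608 := rfl
theorem F11456 : act 0 n6608 = n6574 := d4_1 D6608 (iv D6574) F5775
theorem F11457 : act 1 n6608 = n3392 := d9_1 D6608 (iv D3392) D3390
theorem F11458 : act 3 n6608 = n6574 := d16_1 D6608 (iv D6574) D6573 F11455 (iv D6607)
theorem F11459 : act 4 n6608 = n6571 := d18_1 D6608 (iv D6571) (iv F5774)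
def n6609 : Q := act 6 n3390
theorem D6609 : act 6 n3390 = n6609 := rfl
theorem F11460 : act 0 n6609 = n6575 := d5_1 D6609 (iv D6575) F5775
theorem F11461 : act 1 n6609 = n3393 := d10_1 D6609 (iv D3393) D3390
theorem F11462 : act 4 n6609 = n6572 := d19_1 D6609 (iv D6572) (iv F5774)
def n6611 : Q := act 6 n3392
theorem D6611 : act 6 n3392 = n6611 := rfl
theorem F11464 : act 2 n6611 = n3394 := d14_1 D6611 (iv D3394) (iv F5776)
theorem F11465 : act 5 n6611 = n6591 := d21_2 D3392 D6611 (iv D6591) F5759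
def n6612 : Q := act 3 n3393
theorem D6612 : act 3 n3393 = n6612 := rfl
def n6613 : Q := act 5 n3393
theorem D6613 : act 5 n3393 = n6613 := rfl
theorem F11466 : act 2 n6613 = n3396 := d13_1 D6613 (iv D3396) (iv F5777)
theorem F11467 : act 4 n6613 = n6611 := d18_1 D6613 F11465 F11435
theorem F11468 : act 6 n6613 = n6590 := d20_2 D3393 D6613 (iv D6590) D6591 (iv F11465) (iv D6611) (iv D3392)
def n6615 : Q := act 4 n3395
theorem D6615 : act 4 n3395 = n6615 := rfl
theorem F11469 : act 6 n6615 = n3398 := d19_2 (iv F5779) D6615 (iv D3398)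
def n6616 : Q := act 3 n3396
theorem D6616 : act 3 n3396 = n6616 := rfl
def n6617 : Q := act 1 n3397
theorem D6617 : act 1 n3397 = n6617 := rfl
def n6618 : Q := act 3 n3397
theorem D6618 : act 3 n3397 = n6618 := rfl
def n6619 : Q := act 4 n3397
theorem D6619 : act 4 n3397 = n6619 := rfl
theorem F11471 : act 2 n6619 = n3398 := d12_1 D6619 (iv D3398) D3397
theorem F11472 : act 5 n6619 = n5789 := d21_0 (iv D5789) (iv F10265) (iv F10267) D6619
def n6620 : Q := act 5 n3397
theorem D6620 : act 5 n3397 = n6620 := rfl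
theorem F11473 : act 0 n6620 = n6132 := d4_1 D6620 F10782 F5791
theorem F11475 : act 4 n6620 = n5789 := d18_1 D6620 (iv F11472) (iv D6619)
theorem F11476 : act 6 n6620 = n5788 := d21_3 (iv F10265) (iv F10267) D6620 (iv D5788)
def n6621 : Q := act 5 n3398
theorem D6621 : act 5 n3398 = n6621 := rfl
theorem F11480 : act 6 n6621 = n5787 := d21_1 D6621 F10274 F5779 D3398
def n6623 : Q := act 0 n3400
theorem D6623 : act 0 n3400 = n6623 := rfl
theorem F11487 : act 1 n6623 = n6619 := d22_7 (iv F2799) (iv F5717) D6528 F11335 D6566 F11408 D6623 F11471 (iv D3398)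
theorem F11488 : act 4 n6617 = n6623 := d8_0 F11487 (iv D6619) D6617
def n6625 : Q := act 4 n3400
theorem D6625 : act 4 n3400 = n6625 := rfl
theorem F11490 : act 0 n6625 = n6617 := d3_1 D6625 F11488 (iv D6623)
theorem F11491 : act 1 n6625 = n3402 := d8_1 D6625 (iv D3402) D3400
theorem F11492 : act 6 n6625 = n6254 := d19_2 F11445 D6625 (iv F11443)
def n6631 : Q := act 3 n3403
theorem D6631 : act 3 n3403 = n6631 := rfl
def n6632 : Q := act 1 n3405
theorem D6632 : act 1 n3405 = n6632 := rfl
theorem F11498 : act 0 n6632 = n6395 := d0_1 D6632 F11125 (iv F5784) (iv F11491) F11490 (iv D6617) (iv F5791)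
theorem F11499 : act 6 n6632 = n6069 := d10_2 (iv F5792) D6632 F10694
def n6633 : Q := act 3 n3405
theorem D6633 : act 3 n3405 = n6633 := rfl
theorem F11500 : act 0 n6633 = n6618 := d2_1 D6633 (iv D6618) (iv F5791)
theorem F11501 : act 6 n6633 = n6126 := d17_2 (iv F5792) D6633 (iv D6126) (iv D3128) D3127
def n6634 : Q := act 6 n3406
theorem D6634 : act 6 n3406 = n6634 := rfl
theorem F11504 : act 4 n6634 = n3407 := d19_1 D6634 (iv D3407) D3406
def n6642 : Q := act 3 n3410
theorem D6642 : act 3 n3410 = n6642 := rfl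
theorem F11513 : act 2 n6642 = n5283 := d11_1 D6642 (iv D5283) F4784 F2400 (iv F2475) (iv F2488) F2485 D1413 D2895 D5673 F10022 (iv D4989) F4482 F2279 (iv F4213) (iv F4232) F4229 (iv F2802) (iv F5801)
def n6656 : Q := act 3 n3416
theorem D6656 : act 3 n3416 = n6656 := rfl
theorem F11537 : act 5 n6656 = n3418 := d16_2 D3416 D6656 (iv D3418) (iv D1660) D1659
def n6659 : Q := act 2 n3418
theorem D6659 : act 2 n3418 = n6659 := rfl
theorem F11546 : act 0 n6659 = n3434 := d1_1 D6659 (iv D3434) (iv F5815)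
def n6662 : Q := act 0 n3419
theorem D6662 : act 0 n3419 = n6662 := rfl
theorem F11553 : act 2 n6662 = n3437 := d1_2 (iv F5817) D6662 (iv D3437)
def n6663 : Q := act 3 n3419
theorem D6663 : act 3 n3419 = n6663 := rfl
theorem F11554 : act 1 n6663 = n3420 := d7_1 D6663 (iv D3420) D3419
def n6664 : Q := act 4 n3419
theorem D6664 : act 4 n3419 = n6664 := rfl
theorem F11555 : act 1 n6664 = n3421 := d8_1 D6664 (iv D3421) D3419
def n6665 : Q := act 5 n3419
theorem D6665 : act 5 n3419 = n6665 := rfl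
theorem F11557 : act 1 n6665 = n3422 := d9_1 D6665 (iv D3422) D3419
theorem F11558 : act 2 n6665 = n3439 := d13_1 D6665 (iv D3439) (iv F5817)
def n6666 : Q := act 6 n3419
theorem D6666 : act 6 n3419 = n6666 := rfl
theorem F11559 : act 1 n6666 = n3423 := d10_1 D6666 (iv D3423) D3419
theorem F11560 : act 2 n6666 = n3440 := d14_1 D6666 (iv D3440) (iv F5817)
def n6667 : Q := act 2 n3420
theorem D6667 : act 2 n3420 = n6667 := rfl
def n6668 : Q := act 4 n3420
theorem D6668 : act 4 n3420 = n6668 := rfl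
def n6669 : Q := act 5 n3420
theorem D6669 : act 5 n3420 = n6669 := rfl
def n6670 : Q := act 6 n3420
theorem D6670 : act 6 n3420 = n6670 := rfl
def n6671 : Q := act 3 n3421
theorem D6671 : act 3 n3421 = n6671 := rfl
def n6672 : Q := act 5 n3421
theorem D6672 : act 5 n3421 = n6672 := rfl
theorem F11561 : act 2 n6672 = n3425 := d13_1 D6672 (iv D3425) (iv F5818)
theorem F11562 : act 4 n6672 = n3422 := d18_1 D6672 (iv D3422) D3421
def n6673 : Q := act 6 n3421
theorem D6673 : act 6 n3421 = n6673 := rfl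
theorem F11563 : act 2 n6673 = n3426 := d14_1 D6673 (iv D3426) (iv F5818)
theorem F11564 : act 4 n6673 = n3423 := d19_1 D6673 (iv D3423) D3421
def n6674 : Q := act 3 n3422
theorem D6674 : act 3 n3422 = n6674 := rfl
def n6675 : Q := act 6 n3422
theorem D6675 : act 6 n3422 = n6675 := rfl
theorem F11565 : act 2 n6675 = n3428 := d14_1 D6675 (iv D3428) (iv F5819)
theorem F11566 : act 5 n6675 = n6673 := d21_2 D3422 D6675 (iv D6673) (iv D3421)
def n6676 : Q := act 3 n3423
theorem D6676 : act 3 n3423 = n6676 := rfl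
def n6677 : Q := act 5 n3423
theorem D6677 : act 5 n3423 = n6677 := rfl
theorem F11567 : act 2 n6677 = n3429 := d13_1 D6677 (iv D3429) (iv F5820)
theorem F11568 : act 4 n6677 = n6675 := d18_1 D6677 F11566 F11564
theorem F11569 : act 6 n6677 = n6672 := d20_2 D3423 D6677 (iv D6672) D6673 (iv F11566) (iv D6675) (iv D3422)
def n6678 : Q := act 2 n3424
theorem D6678 : act 2 n3424 = n6678 := rfl
theorem F11570 : act 0 n6678 = n6496 := d1_1 D6678 F11262 (iv F5821)
theorem F11572 : act 4 n6678 = n3430 := d12_2 (iv F5823) D6678 (iv D3430)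
def n6679 : Q := act 5 n3424
theorem D6679 : act 5 n3424 = n6679 := rfl
theorem F11573 : act 0 n6679 = n6499 := d4_1 D6679 (iv D6499) (iv F5821)
def n6680 : Q := act 6 n3424
theorem D6680 : act 6 n3424 = n6680 := rfl
theorem F11576 : act 0 n6680 = n6500 := d5_1 D6680 (iv D6500) (iv F5821)
def n6681 : Q := act 3 n3425
theorem D6681 : act 3 n3425 = n6681 := rfl
theorem F11579 : act 1 n6681 = n3451 := d7_1 D6681 (iv D3451) (iv F5824)
def n6682 : Q := act 3 n3426
theorem D6682 : act 3 n3426 = n6682 := rfl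
theorem F11580 : act 1 n6682 = n3452 := d7_1 D6682 (iv D3452) (iv F5826)
def n6684 : Q := act 4 n3427
theorem D6684 : act 4 n3427 = n6684 := rfl
theorem F11583 : act 5 n6684 = n3435 := d18_2 (iv F5829) D6684 (iv D3435)
theorem F11584 : act 6 n6244 = n6684 := d21_3 F5829 D3436 (iv F10926) (iv D6684)
def n6685 : Q := act 6 n3427
theorem D6685 : act 6 n3427 = n6685 := rfl
theorem F11587 : act 4 n6685 = n6244 := d19_1 D6685 F11584 (iv D6684)
def n6686 : Q := act 3 n3428
theorem D6686 : act 3 n3428 = n6686 := rfl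
theorem F11588 : act 1 n6686 = n3456 := d7_1 D6686 (iv D3456) (iv F5830)
def n6688 : Q := act 1 n3430
theorem D6688 : act 1 n3430 = n6688 := rfl
theorem F11592 : act 0 n6664 = n6688 := d22_0 (iv D6688) (iv D3430) F2817 F2765 (iv F2745) F2744 D1668 (iv F5817) D6664
def n6689 : Q := act 3 n3430
theorem D6689 : act 3 n3430 = n6689 := rfl
theorem F11593 : act 0 n6689 = n6495 := d2_1 D6689 (iv D6495) (iv F5835)
def n6690 : Q := act 5 n3430
theorem D6690 : act 5 n3430 = n6690 := rfl
theorem F11594 : act 0 n6690 = n6497 := d4_1 D6690 (iv D6497) (iv F5835)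
def n6691 : Q := act 6 n3430
theorem D6691 : act 6 n3430 = n6691 := rfl
theorem F11596 : act 0 n6691 = n6498 := d5_1 D6691 (iv D6498) (iv F5835)
def n6693 : Q := act 6 n3431
theorem D6693 : act 6 n3431 = n6693 := rfl
theorem F11601 : act 0 n6693 = n6502 := d5_1 D6693 (iv D6502) (iv F5836)
def n6694 : Q := act 5 n3432
theorem D6694 : act 5 n3432 = n6694 := rfl
theorem F11605 : act 1 n6694 = n3464 := d9_1 D6694 (iv D3464) (iv F5839)
def n6697 : Q := act 6 n3433
theorem D6697 : act 6 n3433 = n6697 := rfl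
theorem F11612 : act 0 n6697 = n6366 := d5_1 D6697 (iv F11093) (iv F5841)
theorem F11613 : act 1 n6697 = n3467 := d10_1 D6697 (iv D3467) (iv F5842)
theorem F11615 : act 5 n6363 = n6697 := d4_0 F11612 (iv D6366) D6363
def n6698 : Q := act 1 n3434
theorem D6698 : act 1 n3434 = n6698 := rfl
theorem F11616 : act 2 n6698 = n3468 := d6_2 D3434 D6698 (iv D3468) (iv D1682) (iv F2823)
def n6703 : Q := act 5 n3437
theorem D6703 : act 5 n3437 = n6703 := rfl
theorem F11622 : act 0 n6703 = n3439 := d4_1 D6703 (iv D3439) D3437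
def n6704 : Q := act 6 n3437
theorem D6704 : act 6 n3437 = n6704 := rfl
def n6706 : Q := act 5 n3438
theorem D6706 : act 5 n3438 = n6706 := rfl
theorem F11626 : act 4 n6706 = n3439 := d18_1 D6706 (iv D3439) D3438
def n6707 : Q := act 6 n3438
theorem D6707 : act 6 n3438 = n6707 := rfl
def n6708 : Q := act 3 n3439
theorem D6708 : act 3 n3439 = n6708 := rfl
def n6709 : Q := act 6 n3439
theorem D6709 : act 6 n3439 = n6709 := rfl
def n6722 : Q := act 5 n3448
theorem D6722 : act 5 n3448 = n6722 := rfl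
theorem F11637 : act 1 n6722 = n6703 := d9_1 D6722 (iv D6703) F5858
def n6723 : Q := act 6 n3448
theorem D6723 : act 6 n3448 = n6723 := rfl
theorem F11642 : act 4 n6723 = n3461 := d19_1 D6723 (iv D3461) (iv F5857)
def n6724 : Q := act 3 n3449
theorem D6724 : act 3 n3449 = n6724 := rfl
theorem F11644 : act 5 n6724 = n3451 := d16_2 D3449 D6724 (iv D3451) (iv D1673) D1672
def n6725 : Q := act 3 n3450
theorem D6725 : act 3 n3450 = n6725 := rfl
theorem F11645 : act 6 n6725 = n3452 := d17_2 D3450 D6725 (iv D3452) (iv D1674) D1672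
def n6726 : Q := act 2 n3451
theorem D6726 : act 2 n3451 = n6726 := rfl
def n6727 : Q := act 4 n3451
theorem D6727 : act 4 n3451 = n6727 := rfl
theorem F11648 : act 3 n6727 = n3454 := d15_1 D6727 (iv D3454) (iv D1675) (iv F2828) D3451
def n6728 : Q := act 6 n3451
theorem D6728 : act 6 n3451 = n6728 := rfl
def n6729 : Q := act 5 n3452
theorem D6729 : act 5 n3452 = n6729 := rfl
theorem F11649 : act 2 n6729 = n6729 := d13_1 D6729 (iv D6729) F9856
def n6730 : Q := act 1 n3453
theorem D6730 : act 1 n3453 = n6730 := rfl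
theorem F11650 : act 4 n6730 = n6224 := d8_2 F5863 D6730 F10887
theorem F11651 : act 5 n6730 = n3468 := d9_2 (iv F5862) D6730 (iv D3468)
theorem F11652 : act 6 n6730 = n6227 := d10_2 (iv F5864) D6730 F10892
def n6731 : Q := act 3 n3453
theorem D6731 : act 3 n3453 = n6731 := rfl
theorem F11654 : act 4 n6731 = n6238 := d15_2 F5863 D6731 (iv D6238) F5483 D3187
def n6732 : Q := act 3 n3455
theorem D6732 : act 3 n3455 = n6732 := rfl
theorem F11656 : act 6 n6732 = n3456 := d17_2 D3455 D6732 (iv D3456) (iv D1676) D1675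
def n6733 : Q := act 2 n3456
theorem D6733 : act 2 n3456 = n6733 := rfl
def n6734 : Q := act 4 n3456
theorem D6734 : act 4 n3456 = n6734 := rfl
def n6735 : Q := act 5 n3456
theorem D6735 : act 5 n3456 = n6735 := rfl
theorem F11657 : act 3 n6735 = n6729 := d16_1 D6735 (iv D6729) (iv D3452) (iv F2831) D3456
def n6737 : Q := act 4 n3457
theorem D6737 : act 4 n3457 = n6737 := rfl
theorem F11658 : act 3 n6737 = n6734 := d15_1 D6737 (iv D6734) (iv D3456) (iv F2832) D3457
def n6738 : Q := act 6 n3457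
theorem D6738 : act 6 n3457 = n6738 := rfl
theorem F11659 : act 3 n6738 = n6728 := d17_1 D6738 (iv D6728) (iv D3451) (iv F2833) D3457
def n6741 : Q := act 6 n3458
theorem D6741 : act 6 n3458 = n6741 := rfl
theorem F11667 : act 0 n6741 = n6707 := d5_1 D6741 (iv D6707) F5873
theorem F11668 : act 1 n6741 = n3461 := d10_1 D6741 (iv D3461) D3458
theorem F11670 : act 4 n6741 = n6704 := d19_1 D6741 (iv D6704) (iv F5872)
def n6742 : Q := act 5 n3459
theorem D6742 : act 5 n3459 = n6742 := rfl
theorem F11671 : act 4 n6742 = n6120 := d18_1 D6742 (iv D6120) F9853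
def n6749 : Q := act 1 n3465
theorem D6749 : act 1 n3465 = n6749 := rfl
def n6751 : Q := act 4 n3465
theorem D6751 : act 4 n3465 = n6751 := rfl
theorem F11679 : act 2 n6751 = n3466 := d12_1 D6751 (iv D3466) D3465
theorem F11680 : act 6 n5710 = n6751 := d21_3 F10090 F10088 D5710 (iv D6751)
def n6752 : Q := act 6 n3465
theorem D6752 : act 6 n3465 = n6752 := rfl
theorem F11683 : act 4 n6752 = n5710 := d19_1 D6752 F11680 (iv D6751)
def n6754 : Q := act 5 n3467
theorem D6754 : act 5 n3467 = n6754 := rfl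
theorem F11690 : act 1 n6754 = n6363 := d9_1 D6754 F11615 F11613
theorem F11692 : act 3 n6754 = n6369 := d16_1 D6754 (iv D6369) (iv D3261) D3263 (iv F5881)
def n6755 : Q := act 0 n3468
theorem D6755 : act 0 n3468 = n6755 := rfl
theorem F11695 : act 1 n6755 = n6751 := d22_7 (iv F2834) (iv F5816) D6659 F11546 D6698 F11616 D6755 F11679 (iv D3466)
theorem F11696 : act 4 n6749 = n6755 := d8_0 F11695 (iv D6751) D6749
def n6757 : Q := act 4 n3468
theorem D6757 : act 4 n3468 = n6757 := rfl
theorem F11698 : act 0 n6757 = n6749 := d3_1 D6757 F11696 (iv D6755)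
theorem F11700 : act 5 n6757 = n6224 := d18_2 F11651 D6757 (iv F11650)
def n6762 : Q := act 3 n3470
theorem D6762 : act 3 n3470 = n6762 := rfl
theorem F11705 : act 5 n6762 = n6240 := d16_2 (iv F5884) D6762 (iv D6240) (iv D3188) D3187
def n6777 : Q := act 1 n3480
theorem D6777 : act 1 n3480 = n6777 := rfl
theorem F11728 : act 2 n6777 = n3483 := d6_2 D3480 D6777 (iv D3483) (iv D1692) (iv F2844)
def n6779 : Q := act 6 n3480
theorem D6779 : act 6 n3480 = n6779 := rfl
theorem F11732 : act 2 n6779 = n3481 := d14_1 D6779 (iv D3481) D3480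
def n6780 : Q := act 3 n3481
theorem D6780 : act 3 n3481 = n6780 := rfl
theorem F11735 : act 6 n6780 = n3482 := d17_2 D3481 D6780 (iv D3482) (iv D1691) D1690
def n6782 : Q := act 4 n3482
theorem D6782 : act 4 n3482 = n6782 := rfl
theorem F11737 : act 3 n6782 = n4424 := d15_1 D6782 F7945 (iv D3508) F2866 D3482
def n6784 : Q := act 6 n3483
theorem D6784 : act 6 n3483 = n6784 := rfl
theorem F11740 : act 1 n6784 = n3484 := d10_1 D6784 (iv D3484) D3483
def n6785 : Q := act 3 n3484
theorem D6785 : act 3 n3484 = n6785 := rfl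
theorem F11743 : act 6 n6785 = n6785 := d17_2 D3484 D6785 (iv D6785) (iv D3484) F2848
def n6793 : Q := act 1 n3489
theorem D6793 : act 1 n3489 = n6793 := rfl
theorem F11764 : act 2 n6793 = n3494 := d6_2 D3489 D6793 (iv D3494) (iv D1697) (iv F2852)
def n6794 : Q := act 3 n3489
theorem D6794 : act 3 n3489 = n6794 := rfl
def n6795 : Q := act 4 n3489
theorem D6795 : act 4 n3489 = n6795 := rfl
theorem F11765 : act 2 n6795 = n3490 := d12_1 D6795 (iv D3490) D3489
def n6796 : Q := act 5 n3489
theorem D6796 : act 5 n3489 = n6796 := rfl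
theorem F11766 : act 2 n6796 = n3491 := d13_1 D6796 (iv D3491) D3489
def n6797 : Q := act 6 n3489
theorem D6797 : act 6 n3489 = n6797 := rfl
theorem F11767 : act 2 n6797 = n3492 := d14_1 D6797 (iv D3492) D3489
def n6804 : Q := act 4 n3494
theorem D6804 : act 4 n3494 = n6804 := rfl
theorem F11781 : act 1 n6804 = n3495 := d8_1 D6804 (iv D3495) D3494
def n6807 : Q := act 5 n3497
theorem D6807 : act 5 n3497 = n6807 := rfl
theorem F11792 : act 4 n6807 = n3503 := d18_1 D6807 (iv D3503) (iv F5933)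
def n6811 : Q := act 5 n3502
theorem D6811 : act 5 n3502 = n6811 := rfl
theorem F11799 : act 2 n6811 = n3503 := d13_1 D6811 (iv D3503) D3502
def n6812 : Q := act 6 n3503
theorem D6812 : act 6 n3503 = n6812 := rfl
theorem F11802 : act 2 n3538 = n6812 := d24_15 (iv D6812) (iv D3503) (iv D1701) F1435 F726 D402 D845 F2029 D1765 (iv F3906) F3904 (iv F7697) (iv F7699) F6022 D3538
theorem F11803 : act 6 n6811 = n3538 := d14_0 F11802 (iv D6812) (iv F11799)
def n6818 : Q := act 1 n3509
theorem D6818 : act 1 n3509 = n6818 := rfl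
theorem F11818 : act 2 n6818 = n3515 := d6_2 D3509 D6818 (iv D3515) (iv D1708) (iv F2869)
def n6820 : Q := act 6 n3509
theorem D6820 : act 6 n3509 = n6820 := rfl
theorem F11823 : act 2 n6820 = n3510 := d14_1 D6820 (iv D3510) D3509
def n6821 : Q := act 3 n3510
theorem D6821 : act 3 n3510 = n6821 := rfl
theorem F11827 : act 1 n6821 = n3518 := d7_1 D6821 (iv D3518) (iv F5963)
def n6830 : Q := act 6 n3515
theorem D6830 : act 6 n3515 = n6830 := rfl
theorem F11848 : act 1 n6830 = n3517 := d10_1 D6830 (iv D3517) D3515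
theorem F11849 : act 4 n6830 = n6784 := d19_1 D6830 (iv D6784) (iv F5971)
def n6832 : Q := act 3 n3517
theorem D6832 : act 3 n3517 = n6832 := rfl
theorem F11855 : act 5 n3929 = n6832 := d24_1 D3929 (iv D6832) F5977 (iv D1709) (iv F2019) (iv D803) (iv D382) D384 (iv F738) D822 D1714 (iv F3080) (iv F4100) (iv F6877) (iv D3926)
theorem F11856 : act 1 n6832 = n6832 := d9_1 F11855 (iv F11855) F6885
theorem E48 : n6830 = n3517 := (c7_4 D6832 F11856 (iv D6832) (iv F11848))
theorem F11857 : act 1 n3517 = n3517 := (sb E48 F11848)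
theorem E49 : n6784 = n3484 := (((F5978).symm.trans (sb E48 F11849))).symm
theorem E50 : n3515 = n1708 := ((((iv D3517)).symm.trans (sb E48 (iv D6830)))).symm
theorem F11858 : act 1 n3484 = n3484 := (sb E49 F11740)
theorem E51 : n3483 = n1692 := ((((iv D3484)).symm.trans (sb E49 (iv D6784)))).symm
theorem F11859 : act 1 n1708 = n1708 := (sb E50 (iv D3515))
theorem E52 : n6818 = n818 := ((((iv D1708)).symm.trans (sb E50 (iv F11818)))).symm
theorem F11860 : act 1 n1692 = n1692 := (sb E51 (iv D3483))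
theorem E54 : n6777 = n803 := ((((iv D1692)).symm.trans (sb E51 (iv F11728)))).symm
theorem E55 : n3509 = n1704 := ((((iv F2869)).symm.trans (sb E52 (iv D6818)))).symm
theorem E56 : n3480 = n1690 := ((((iv F2844)).symm.trans (sb E54 (iv D6777)))).symm
theorem F11862 : act 2 n1704 = n1704 := (sb E55 (iv D3509))
theorem E58 : n6820 = n3510 := (((D3510).symm.trans (sb E55 D6820))).symm
theorem F11863 : act 2 n1690 = n1690 := (sb E56 (iv D3480))
theorem E60 : n6779 = n3481 := (((D3481).symm.trans (sb E56 D6779))).symm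
theorem F11864 : act 2 n3510 = n3510 := (sb E58 F11823)
theorem F11865 : act 2 n3481 = n3481 := (sb E60 F11732)
theorem E61 : n6472 = n3362 := (c23_6 F11863 (iv D1690) F1423 D1614 D3316 D6472 (iv D3362) (iv D1634) (iv F1445) D1704 F2868)
theorem E62 : n6557 = n3316 := (((F5737).symm.trans (sb E61 (iv F11385)))).symm
theorem F11866 : act 3 n3316 = n3362 := (sb E62 (iv D6557))
theorem F11867 : act 3 n6556 = n6310 := d7_2 F11866 D6556 F11028
theorem F11869 : act 1 n6785 = n6785 := d7_3 (iv D6785) F11858 D6785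
def n6836 : Q := act 5 n3519
theorem D6836 : act 5 n3519 = n6836 := rfl
theorem F11880 : act 6 n6836 = n3604 := d21_3 (iv F6153) (iv F6154) D6836 (iv D3604)
def n6841 : Q := act 4 n3524
theorem D6841 : act 4 n3524 = n6841 := rfl
theorem F11896 : act 1 n6841 = n3526 := d8_1 D6841 (iv D3526) D3524
def n6842 : Q := act 5 n3524
theorem D6842 : act 5 n3524 = n6842 := rfl
theorem F11899 : act 1 n6842 = n3527 := d9_1 D6842 (iv D3527) D3524
def n6843 : Q := act 4 n3525
theorem D6843 : act 4 n3525 = n6843 := rfl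
theorem F11902 : act 2 n6843 = n4135 := d12_1 D6843 (iv D4135) (iv F6157)
theorem F11903 : act 3 n6843 = n3592 := d15_1 D6843 (iv F6137) F6139 (iv D3526) D3525
theorem F11904 : act 6 n6843 = n4149 := d19_2 F6158 D6843 (iv D4149)
def n6844 : Q := act 5 n3525
theorem D6844 : act 5 n3525 = n6844 := rfl
theorem F11906 : act 2 n6844 = n4136 := d13_1 D6844 (iv D4136) (iv F6157)
def n6846 : Q := act 3 n3528
theorem D6846 : act 3 n3528 = n6846 := rfl
theorem F11911 : act 1 n6846 = n3534 := d7_1 D6846 F6018 (iv F6002)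
def n6848 : Q := act 4 n3529
theorem D6848 : act 4 n3529 = n6848 := rfl
theorem F11913 : act 1 n6848 = n3533 := d8_1 D6848 (iv D3533) (iv F6004)
theorem F11914 : act 3 n6848 = n4040 := d15_1 D6848 F7119 F6010 (iv D3530) D3529
def n6849 : Q := act 6 n3529
theorem D6849 : act 6 n3529 = n6849 := rfl
theorem F11915 : act 1 n6849 = n3535 := d10_1 D6849 (iv D3535) (iv F6004)
def n6851 : Q := act 4 n3532
theorem D6851 : act 4 n3532 = n6851 := rfl
theorem F11919 : act 2 n6851 = n3533 := d12_1 D6851 (iv D3533) D3532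
theorem F11920 : act 6 n6851 = n4300 := d19_2 (iv F6054) D6851 (iv D4300)
theorem F11921 : act 5 n6851 = n4412 := d21_0 F7912 (iv D4301) (iv F6054) D6851
theorem F11922 : act 3 n4411 = n6851 := d16_5 F11921 (iv D4412) (iv D2240) D2239 D4411
def n6852 : Q := act 5 n3532
theorem D6852 : act 5 n3532 = n6852 := rfl
theorem F11924 : act 2 n6852 = n3534 := d13_1 D6852 (iv D3534) D3532
theorem F11925 : act 3 n6852 = n4414 := d16_1 D6852 F7919 (iv D3768) D3769 (iv F6537)
def n6853 : Q := act 5 n3533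
theorem D6853 : act 5 n3533 = n6853 := rfl
theorem F11928 : act 2 n6853 = n4412 := d13_1 D6853 (iv F11921) F11919
theorem F11929 : act 3 n6853 = n4051 := d16_1 D6853 (iv D4051) (iv D2016) D2017 (iv F6016)
def n6854 : Q := act 6 n3533
theorem D6854 : act 6 n3533 = n6854 := rfl
theorem F11932 : act 2 n6854 = n4300 := d14_1 D6854 (iv F11920) F11919
def n6855 : Q := act 6 n3534
theorem D6855 : act 6 n3534 = n6855 := rfl
theorem F11936 : act 5 n6855 = n6854 := d21_2 D3534 D6855 (iv D6854) (iv D3533)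
def n6856 : Q := act 5 n3535
theorem D6856 : act 5 n3535 = n6856 := rfl
theorem F11938 : act 2 n6856 = n4301 := d13_1 D6856 (iv D4301) F6053
theorem F11940 : act 6 n6856 = n6853 := d20_2 D3535 D6856 (iv D6853) D6854 (iv F11936) (iv D6855) (iv D3534)
def n6858 : Q := act 3 n3536
theorem D6858 : act 3 n3536 = n6858 := rfl
theorem F11944 : act 2 n6858 = n4451 := d23_2 D3536 D6858 (iv D4451) F4036 F2084 (iv F3716) (iv F3718) F2909 D1721 F2911
theorem F11945 : act 6 n3907 = n6858 := d14_0 F11944 F8016 F7932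
theorem F11946 : act 5 n6858 = n3985 := d21_2 D3907 F11945 F6988 (iv D3906)
def n6860 : Q := act 4 n3538
theorem D6860 : act 4 n3538 = n6860 := rfl
theorem F11951 : act 5 n6860 = n3979 := d21_0 F6976 D6811 F11803 D6860
def n6861 : Q := act 5 n3538
theorem D6861 : act 5 n3538 = n6861 := rfl
theorem F11954 : act 3 n6861 = n3985 := d16_1 D6861 (iv F11946) (iv D6858) F6022 D3538
theorem F11955 : act 4 n6861 = n3979 := d18_1 D6861 (iv F11951) (iv D6860)
def n6863 : Q := act 2 n3540
theorem D6863 : act 2 n3540 = n6863 := rfl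
theorem F11958 : act 0 n6863 = n3542 := d1_1 D6863 (iv D3542) (iv F6029)
def n6864 : Q := act 4 n3540
theorem D6864 : act 4 n3540 = n6864 := rfl
theorem F11961 : act 1 n6864 = n3552 := d8_1 D6864 F6058 (iv F6030)
theorem F11962 : act 3 n6864 = n4216 := d15_1 D6864 (iv D4216) (iv D2126) F2922 D3540
theorem F11963 : act 5 n6864 = n3543 := d18_2 F6031 D6864 (iv D3543)
def n6865 : Q := act 6 n3540
theorem D6865 : act 6 n3540 = n6865 := rfl
theorem F11965 : act 1 n6865 = n3554 := d10_1 D6865 (iv D3554) (iv F6030)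
def n6866 : Q := act 1 n3542
theorem D6866 : act 1 n3542 = n6866 := rfl
theorem F11966 : act 2 n6866 = n3547 := d6_2 D3542 D6866 (iv D3547) (iv D1728) (iv F2923)
def n6871 : Q := act 6 n3543
theorem D6871 : act 6 n3543 = n6871 := rfl
theorem F11974 : act 5 n6871 = n6865 := d21_2 F11963 D6871 (iv D6865) D6864
def n6872 : Q := act 5 n3544
theorem D6872 : act 5 n3544 = n6872 := rfl
theorem F11976 : act 1 n6872 = n3555 := d9_1 D6872 (iv D3555) (iv F6038)
theorem F11978 : act 6 n6872 = n6864 := d20_2 D3544 D6872 F11963 D6871 F11974 (iv D6865) (iv F6031)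
def n6874 : Q := act 5 n3545
theorem D6874 : act 5 n3545 = n6874 := rfl
theorem F11980 : act 0 n6874 = n4217 := d4_1 D6874 (iv D4217) (iv F6039)
def n6876 : Q := act 3 n3546
theorem D6876 : act 3 n3546 = n6876 := rfl
theorem F11985 : act 0 n6876 = n4211 := d2_1 D6876 (iv D4211) (iv F6041)
theorem F11986 : act 1 n6876 = n3559 := d7_1 D6876 (iv D3559) (iv F6042)
theorem F11988 : act 6 n6876 = n4211 := d17_2 (iv F6045) D6876 (iv D4211) D4212 (iv F7495)
def n6877 : Q := act 0 n3547
theorem D6877 : act 0 n3547 = n6877 := rfl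
theorem F11989 : act 3 n6877 = n3745 := d2_2 F6219 D6877 F6479
theorem F11990 : act 1 n3765 = n6877 := d7_3 F11989 F6480 D3765
theorem F11991 : act 2 n3765 = n3552 := d22_8 F2931 (iv F6030) D6863 F11958 D6866 F11966 D6877 (iv F11990) F6058
theorem F11993 : act 5 n3548 = n3765 := d13_0 F11991 (iv D3552) (iv F6047)
def n6878 : Q := act 4 n3547
theorem D6878 : act 4 n3547 = n6878 := rfl
theorem F11994 : act 1 n6878 = n3548 := d8_1 D6878 (iv D3548) D3547
theorem F11995 : act 5 n6877 = n6878 := d9_0 F11994 F11993 F11990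
def n6879 : Q := act 5 n3547
theorem D6879 : act 5 n3547 = n6879 := rfl
theorem F11997 : act 1 n6879 = n3549 := d9_1 D6879 (iv D3549) D3547
def n6881 : Q := act 3 n3548
theorem D6881 : act 3 n3548 = n6881 := rfl
theorem F12002 : act 4 n6881 = n4435 := d15_2 D3548 D6881 (iv D4435) (iv F4054) F3033
theorem F12003 : act 5 n6881 = n3764 := d16_2 (iv F11993) D6881 (iv D3764) (iv F3166) D3765
def n6882 : Q := act 6 n3548
theorem D6882 : act 6 n3548 = n6882 := rfl
def n6883 : Q := act 3 n3549
theorem D6883 : act 3 n3549 = n6883 := rfl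
theorem F12010 : act 5 n6883 = n4419 := d16_2 D3549 D6883 (iv D4419) (iv F4055) F3033
def n6884 : Q := act 6 n3549
theorem D6884 : act 6 n3549 = n6884 := rfl
theorem F12014 : act 5 n6884 = n6882 := d21_2 D3549 D6884 (iv D6882) (iv D3548)
def n6885 : Q := act 5 n3550
theorem D6885 : act 5 n3550 = n6885 := rfl
theorem F12016 : act 2 n6885 = n3555 := d13_1 D6885 (iv D3555) (iv F6051)
theorem F12019 : act 6 n6885 = n3765 := d20_2 D3550 D6885 (iv F11993) D6882 (iv F12014) (iv D6884) (iv D3549)
def n6895 : Q := act 3 n3557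
theorem D6895 : act 3 n3557 = n6895 := rfl
theorem F12038 : act 5 n6895 = n3559 := d16_2 D3557 D6895 (iv D3559) (iv D1733) D1732
theorem F12039 : act 6 n6895 = n6895 := d20_0 F12038 F6073 D4214 F7499 (iv D4214) (iv F6073) (iv F12038)
theorem F12040 : act 2 n6785 = n6895 := d24_15 F12039 F12038 (iv D3559) F2935 F1484 (iv D825) (iv D393) (iv F734) (iv D391) (iv F714) D803 D1692 D3484 F5912 D6785
def n6898 : Q := act 2 n3559
theorem D6898 : act 2 n3559 = n6898 := rfl
theorem F12047 : act 0 n6898 = n6898 := d1_1 D6898 (iv D6898) F6071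
theorem F12048 : act 4 n6898 = n4213 := d12_2 (iv F6072) D6898 (iv D4213)
theorem F12049 : act 5 n6898 = n6785 := d13_2 F12038 D6898 F12040
theorem F12050 : act 6 n6898 = n4213 := d14_2 (iv F6073) D6898 (iv D4213)
theorem F12052 : act 1 n6898 = n6898 := d9_3 F12049 F11869 (iv F12049)
theorem F12054 : act 1 n4213 = n4213 := d8_3 (iv F12048) F12052 F12048
theorem F12055 : act 2 n4211 = n4211 := d22_2 F3714 (iv F7490) (iv F11985) F11986 D6898 F12047 F12052 (iv D6898) F6072
def n6899 : Q := act 1 n3560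
theorem D6899 : act 1 n3560 = n6899 := rfl
theorem F12056 : act 2 n6899 = n5278 := d6_2 D3560 D6899 F9405 F4784 (iv F2948)
theorem F12057 : act 3 n6899 = n3843 := d7_2 (iv F6076) D6899 (iv D3843)
def n6914 : Q := act 3 n3566
theorem D6914 : act 3 n3566 = n6914 := rfl
theorem F12094 : act 1 n6914 = n3567 := d7_1 D6914 (iv D3567) D3566
def n6918 : Q := act 2 n3567
theorem D6918 : act 2 n3567 = n6918 := rfl
def n6919 : Q := act 4 n3567
theorem D6919 : act 4 n3567 = n6919 := rfl
def n6920 : Q := act 5 n3567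
theorem D6920 : act 5 n3567 = n6920 := rfl
def n6921 : Q := act 6 n3567
theorem D6921 : act 6 n3567 = n6921 := rfl
def n6937 : Q := act 3 n3577
theorem D6937 : act 3 n3577 = n6937 := rfl
theorem F12124 : act 0 n6937 = n6794 := d2_1 D6937 (iv D6794) (iv F6105)
def n6947 : Q := act 6 n3581
theorem D6947 : act 6 n3581 = n6947 := rfl
theorem F12146 : act 2 n6947 = n3583 := d14_1 D6947 (iv D3583) D3581
theorem F12147 : act 5 n4264 = n6947 := d13_0 F12146 (iv F6116) (iv F7598)
def n6948 : Q := act 6 n3582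
theorem D6948 : act 6 n3582 = n6948 := rfl
theorem F12149 : act 4 n6948 = n3583 := d19_1 D6948 (iv D3583) D3582
def n6951 : Q := act 3 n3585
theorem D6951 : act 3 n3585 = n6951 := rfl
theorem F12155 : act 1 n6951 = n3588 := d7_1 D6951 (iv D3588) (iv F6117)
theorem F12156 : act 6 n4003 = n6951 := d10_0 F12155 (iv F6133) (iv F7031)
def n6953 : Q := act 6 n3585
theorem D6953 : act 6 n3585 = n6953 := rfl
theorem F12159 : act 1 n6953 = n3590 := d10_1 D6953 (iv D3590) (iv F6117)
theorem F12160 : act 3 n6953 = n4005 := d17_1 D6953 (iv D4005) D4003 F12156 (iv D6951)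
def n6967 : Q := act 5 n3597
theorem D6967 : act 5 n3597 = n6967 := rfl
def n6968 : Q := act 2 n3598
theorem D6968 : act 2 n3598 = n6968 := rfl
def n6969 : Q := act 4 n3598
theorem D6969 : act 4 n3598 = n6969 := rfl
def n6970 : Q := act 5 n3598
theorem D6970 : act 5 n3598 = n6970 := rfl
theorem F12194 : act 3 n6970 = n6967 := d16_1 D6970 (iv D6967) (iv D3597) (iv F2983) D3598
theorem F12195 : act 2 n6970 = n3763 := d24_3 F7221 D6967 (iv F12194) F7955 (iv D4428) (iv D2254) (iv F3972) (iv D2243) (iv D1105) F1041 (iv D478) D481 D999 D2047 D4089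
theorem F12196 : act 5 n3763 = n6968 := d13_2 D6970 F12195 (iv D6968)
theorem F12198 : act 6 n6968 = n4427 := d21_3 D4428 (iv F7955) F12196 (iv D4427)
theorem F12200 : act 2 n4295 = n4427 := d24_15 (iv F12198) (iv F12196) (iv D3763) (iv F6499) F6501 (iv F3677) D3759 (iv F7628) (iv D4280) (iv F7620) (iv D4278) F3802 D3608 F6171 D4295
theorem F12201 : act 4 n4426 = n4295 := d12_0 F12200 (iv D4427) D4426
theorem F12203 : act 6 n6969 = n4426 := d19_0 F12201 F7656 D6969
def n6971 : Q := act 4 n3599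
theorem D6971 : act 4 n3599 = n6971 := rfl
theorem F12206 : act 3 n6971 = n6969 := d15_1 D6971 (iv D6969) (iv D3598) (iv F2985) D3599
theorem F12207 : act 5 n6971 = n4139 := d18_2 F7779 D6971 F7781
def n6978 : Q := act 2 n3607
theorem D6978 : act 2 n3607 = n6978 := rfl
theorem F12221 : act 3 n6978 = n3617 := d23_1 D6978 (iv D3617) (iv D1767) (iv D846) (iv D403) (iv F757) D843 D1760 D3607 F6167
theorem F12222 : act 4 n3607 = n6978 := d15_0 F12221 (iv F7622) (iv D4278) F3803 D3607
def n6985 : Q := act 1 n3610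
theorem D6985 : act 1 n3610 = n6985 := rfl
theorem F12243 : act 5 n6985 = n4234 := d9_2 (iv F6298) D6985 F7539
def n6986 : Q := act 3 n3610
theorem D6986 : act 3 n3610 = n6986 := rfl
theorem F12248 : act 2 n6986 = n3620 := d23_2 D3610 D6986 F6195 F3680 (iv F3022) (iv D1771) (iv D849) (iv F1510) D1763 F2997
theorem F12249 : act 6 n3617 = n6986 := d14_0 F12248 (iv D3620) D3617
def n6991 : Q := act 4 n3614
theorem D6991 : act 4 n3614 = n6991 := rfl
theorem F12261 : act 1 n6991 = n3618 := d8_1 D6991 (iv D3618) (iv F6183)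
def n6992 : Q := act 5 n3614
theorem D6992 : act 5 n3614 = n6992 := rfl
theorem F12263 : act 3 n6992 = n3625 := d16_1 D6992 (iv D3625) (iv D1773) (iv F3008) D3614
def n6994 : Q := act 6 n3618
theorem D6994 : act 6 n3618 = n6994 := rfl
theorem F12266 : act 4 n6994 = n3620 := d19_1 D6994 (iv D3620) D3618
def n6995 : Q := act 6 n3619
theorem D6995 : act 6 n3619 = n6995 := rfl
theorem F12268 : act 4 n6995 = n3759 := d19_1 D6995 (iv F6652) F6651
theorem F12269 : act 5 n6995 = n6994 := d20_1 D6995 (iv D6994) F6653 F6652 F6512 (iv D3620) D3619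
def n6997 : Q := act 4 n3621
theorem D6997 : act 4 n3621 = n6997 := rfl
theorem F12271 : act 0 n6997 = n3624 := d3_1 D6997 (iv D3624) (iv F6196)
theorem F12273 : act 3 n6997 = n4178 := d15_1 D6997 (iv D4178) (iv D2098) F3025 D3621
theorem F12274 : act 6 n3752 = n6997 := d21_3 F6496 (iv D3753) D3752 (iv D6997)
def n6998 : Q := act 6 n3621
theorem D6998 : act 6 n3621 = n6998 := rfl
theorem F12277 : act 4 n6998 = n3752 := d19_1 D6998 F12274 (iv D6997)
theorem F12278 : act 5 n3751 = n6998 := d21_0 (iv D6998) F6496 (iv D3753) D3751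
def n7003 : Q := act 6 n3623
theorem D7003 : act 6 n3623 = n7003 := rfl
theorem F12284 : act 2 n7003 = n3626 := d14_1 D7003 (iv D3626) D3623
theorem F12285 : act 5 n4390 = n7003 := d13_0 F12284 (iv F6205) (iv F7866)
def n7004 : Q := act 3 n3624
theorem D7004 : act 3 n3624 = n7004 := rfl
theorem F12286 : act 0 n7004 = n4178 := d2_1 D7004 (iv F12273) F12271
theorem F12287 : act 1 n7004 = n3632 := d7_1 D7004 (iv D3632) (iv F6202)
def n7006 : Q := act 3 n3626
theorem D7006 : act 3 n3626 = n7006 := rfl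
theorem F12294 : act 1 n7006 = n3634 := d7_1 D7006 (iv D3634) (iv F6204)
theorem F12295 : act 6 n7006 = n3629 := d17_2 D3626 D7006 (iv D3629) (iv D1775) D1773
def n7008 : Q := act 5 n3627
theorem D7008 : act 5 n3627 = n7008 := rfl
theorem F12297 : act 0 n7008 = n4179 := d4_1 D7008 (iv D4179) (iv F6206)
theorem F12298 : act 1 n7008 = n3636 := d9_1 D7008 (iv D3636) (iv F6207)
def n7012 : Q := act 5 n3632
theorem D7012 : act 5 n3632 = n7012 := rfl
theorem F12305 : act 2 n7012 = n4058 := d13_1 D7012 (iv D4058) (iv F6223)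
theorem F12306 : act 3 n7012 = n3820 := d16_1 D7012 F6649 F6643 (iv F4061) D3632
theorem F12307 : act 4 n7012 = n3636 := d18_1 D7012 (iv D3636) (iv F6222)
def n7013 : Q := act 3 n3633
theorem D7013 : act 3 n3633 = n7013 := rfl
theorem F12309 : act 6 n7013 = n4055 := d17_2 D3633 D7013 (iv D4055) F6224 (iv D3632)
def n7015 : Q := act 4 n3634
theorem D7015 : act 4 n3634 = n7015 := rfl
theorem F12314 : act 6 n7015 = n3640 := d19_2 (iv F6230) D7015 (iv D3640)
theorem F12315 : act 5 n7015 = n4143 := d21_0 F7326 F3628 (iv F6230) D7015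
def n7016 : Q := act 5 n3634
theorem D7016 : act 5 n3634 = n7016 := rfl
theorem F12318 : act 3 n7016 = n4433 := d16_1 D7016 (iv D4433) (iv D2257) (iv F4058) D3634
theorem F12319 : act 4 n7016 = n4143 := d18_1 D7016 (iv F12315) (iv D7015)
theorem F12320 : act 6 n7016 = n4146 := d20_2 (iv F6230) D7016 F7335 (iv F12314) F12315 F7326 F3628
def n7018 : Q := act 3 n3635
theorem D7018 : act 3 n3635 = n7018 := rfl
theorem F12325 : act 4 n7018 = n7018 := d15_2 (iv F6232) D7018 (iv D7018) F6232 F3517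
theorem F12326 : act 6 n7018 = n4052 := d17_2 F6233 D7018 (iv D4052) (iv D2018) D2016
def n7028 : Q := act 3 n3645
theorem D7028 : act 3 n3645 = n7028 := rfl
theorem F12352 : act 0 n7028 = n4158 := d2_1 D7028 (iv D4158) (iv F6255)
theorem F12353 : act 1 n7028 = n3654 := d7_1 D7028 (iv D3654) (iv F6256)
theorem F12354 : act 6 n7028 = n3646 := d17_2 D3645 D7028 (iv D3646) (iv D1787) D1786
def n7043 : Q := act 3 n3655
theorem D7043 : act 3 n3655 = n7043 := rfl
def n7044 : Q := act 4 n3655
theorem D7044 : act 4 n3655 = n7044 := rfl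
theorem F12392 : act 2 n7044 = n3656 := d12_1 D7044 (iv D3656) D3655
theorem F12393 : act 5 n7044 = n3842 := d21_0 (iv D3842) (iv F6697) (iv F6699) D7044
def n7045 : Q := act 5 n3655
theorem D7045 : act 5 n3655 = n7045 := rfl
theorem F12395 : act 2 n7045 = n3657 := d13_1 D7045 (iv D3657) D3655
theorem F12397 : act 6 n7045 = n3841 := d21_3 (iv F6697) (iv F6699) D7045 (iv D3841)
def n7046 : Q := act 5 n3656
theorem D7046 : act 5 n3656 = n7046 := rfl
theorem F12399 : act 2 n7046 = n3842 := d13_1 D7046 (iv F12393) F12392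
theorem F12400 : act 4 n7046 = n3657 := d18_1 D7046 (iv D3657) D3656
theorem F12401 : act 6 n7046 = n3840 := d21_1 D7046 F6706 F6276 D3656
def n7047 : Q := act 6 n3657
theorem D7047 : act 6 n3657 = n7047 := rfl
theorem F12403 : act 2 n7047 = n3841 := d14_1 D7047 (iv F12397) F12395
theorem F12404 : act 3 n7047 = n4450 := d17_1 D7047 (iv D4450) (iv F4034) F3176 (iv F6281)
theorem F12405 : act 4 n7047 = n3840 := d19_1 D7047 (iv F12401) F12400
theorem F12407 : act 2 n7043 = n3703 := d24_7 (iv F6075) (iv F8014) (iv F12404) F12403 (iv F12397) (iv D7045) D7043 (iv D3703) (iv D1815) (iv D878) F793 (iv F411) (iv F803) D882 D1818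
theorem F12408 : act 6 n3700 = n7043 := d14_0 F12407 (iv D3703) (iv F6383)
theorem F12409 : act 3 n3838 = n3700 := d17_5 F12408 (iv D7043) F6699 (iv D3837) D3838
def n7055 : Q := act 3 n3666
theorem D7055 : act 3 n3666 = n7055 := rfl
theorem F12424 : act 0 n7055 = n4410 := d2_1 D7055 (iv F7906) F7660
def n7060 : Q := act 4 n3668
theorem D7060 : act 4 n3668 = n7060 := rfl
theorem F12441 : act 5 n7060 = n3673 := d18_2 (iv F6306) D7060 (iv D3673)
def n7061 : Q := act 6 n3668
theorem D7061 : act 6 n3668 = n7061 := rfl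
theorem F12443 : act 2 n7061 = n3670 := d14_1 D7061 (iv D3670) D3668
def n7071 : Q := act 6 n3673
theorem D7071 : act 6 n3673 = n7071 := rfl
theorem F12454 : act 2 n7071 = n3676 := d14_1 D7071 (iv D3676) (iv F6315)
theorem F12455 : act 4 n7071 = n3674 := d19_1 D7071 (iv D3674) D3673
theorem F12456 : act 5 n7071 = n7061 := d21_2 F12441 D7071 (iv D7061) D7060
def n7083 : Q := act 3 n3679
theorem D7083 : act 3 n3679 = n7083 := rfl
theorem F12482 : act 5 n7083 = n3681 := d16_2 D3679 D7083 (iv D3681) (iv D1804) D1803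
def n7085 : Q := act 5 n3680
theorem D7085 : act 5 n3680 = n7085 := rfl
theorem F12488 : act 1 n7085 = n3704 := d9_1 D7085 (iv D3704) (iv F6331)
def n7088 : Q := act 6 n3682
theorem D7088 : act 6 n3682 = n7088 := rfl
theorem F12499 : act 5 n7088 = n3685 := d21_2 (iv F6341) D7088 (iv D3685) D3683
def n7089 : Q := act 3 n3683
theorem D7089 : act 3 n3683 = n7089 := rfl
theorem F12501 : act 4 n7089 = n6951 := d15_2 D3683 D7089 (iv D6951) (iv D3585) (iv F3095)
theorem F12502 : act 6 n3919 = n7089 := d19_0 F12501 (iv F12156) F7032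
def n7090 : Q := act 6 n3683
theorem D7090 : act 6 n3683 = n7090 := rfl
theorem F12503 : act 1 n7090 = n3688 := d10_1 D7090 (iv D3688) (iv F6337)
theorem F12504 : act 3 n7090 = n3921 := d17_1 D7090 (iv D3921) D3919 F12502 (iv D7089)
def n7091 : Q := act 3 n3684
theorem D7091 : act 3 n3684 = n7091 := rfl
theorem F12507 : act 1 n7091 = n3689 := d7_1 D7091 (iv D3689) (iv F6338)
theorem F12509 : act 6 n3893 = n7091 := d10_0 F12507 (iv F6357) (iv F6802)
def n7092 : Q := act 6 n3684
theorem D7092 : act 6 n3684 = n7092 := rfl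
theorem F12511 : act 1 n7092 = n3690 := d10_1 D7092 (iv D3690) (iv F6338)
theorem F12512 : act 3 n7092 = n3895 := d17_1 D7092 (iv D3895) D3893 F12509 (iv D7091)
theorem F12514 : act 5 n7092 = n7090 := d20_1 D7092 (iv D7090) (iv F6341) D7088 F12499 (iv D3685) D3684
def n7093 : Q := act 3 n3685
theorem D7093 : act 3 n3685 = n7093 := rfl
theorem F12515 : act 1 n7093 = n3691 := d7_1 D7093 (iv D3691) (iv F6342)
def n7104 : Q := act 5 n3699
theorem D7104 : act 5 n3699 = n7104 := rfl
theorem F12545 : act 2 n7104 = n3912 := d13_1 D7104 F6841 (iv F6381)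
theorem F12546 : act 3 n7104 = n3825 := d16_1 D7104 (iv F6701) F12409 (iv D3700) D3699
theorem F12547 : act 4 n7104 = n7104 := d18_1 D7104 (iv D7104) F6380
def n7136 : Q := act 3 n3724
theorem D7136 : act 3 n3724 = n7136 := rfl
theorem F12611 : act 2 n7136 = n4096 := d24_3 D1825 D3724 D7136 (iv F7245) (iv D4099) F3587 F3011 (iv F1538) (iv D855) F775 (iv F781) (iv D411) (iv F399) D421 D885
theorem F12612 : act 4 n4027 = n7136 := d12_0 F12611 F7234 (iv F7095)
def n7142 : Q := act 2 n3730
theorem D7142 : act 2 n3730 = n7142 := rfl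
theorem F12631 : act 6 n7142 = n4270 := d14_2 (iv F6455) D7142 (iv D4270)
def n7150 : Q := act 0 n3737
theorem D7150 : act 0 n3737 = n7150 := rfl
theorem F12646 : act 2 n7150 = n3750 := d1_2 (iv F6469) D7150 (iv D3750)
theorem F12647 : act 1 n7150 = n4380 := d22_4 F1616 D1841 (iv F6469) D7150 (iv D4380) F3935 F3146 (iv F3152) (iv D1842)
theorem F12648 : act 4 n4390 = n7150 := d22_9 (iv D7150) (iv D3737) (iv D1836) (iv F2039) F2040 D1113 F2071 D2256 (iv F7866)
theorem F12650 : act 3 n4390 = n7150 := d24_2 D7003 (iv F12285) F12646 (iv F6490) (iv D3625) (iv D1773) F1525 (iv F2430) D2769 F4898 (iv F6189) (iv D3616) F3008 D1773 D3623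
theorem E64 : n4391 = n4380 := ((c7_2 F12650 F12647 (iv D4391) D4390)).symm
theorem E65 : n3739 = n3738 := ((F7845).symm.trans (sb E64 F7867))
theorem F12651 : act 3 n4380 = n2229 := (sb E64 (iv D4391))
theorem F12652 : act 0 n3738 = n4380 := (sb E65 (iv F7845))
theorem F12653 : act 2 n3738 = n1837 := (sb E65 F6470)
theorem E66 : n4892 = n4355 := ((c23_3 F12653 (iv F3923) (iv F7801) (iv D4892) (iv D2499) (iv D1230) F1145 D1099 D2229 (iv F12651) (iv F12652))).symm
theorem E67 : n2653 = n2220 := (((F7800).symm.trans (sb E66 F8727))).symm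
theorem E68 : n5182 = n4366 := ((((iv F7830)).symm.trans (sb E67 (iv F9222)))).symm
theorem E70 : n4373 = n1302 := ((D4373).symm.trans (sb E67 (iv D2653)))
theorem F12656 : act 3 n4366 = n2652 := (sb E68 (iv D5182))
theorem F12657 : act 3 n1302 = n2220 := (sb E70 (iv D4373))
theorem E74 : n5190 = n4370 := ((c15_5 (iv D2654) F12657 (iv D2220) D2219 D4370 (iv D5190))).symm
theorem F12658 : act 3 n4370 = n2654 := (sb E74 (iv D5190))
theorem F12659 : act 3 n5181 = n4353 := d2_2 F12656 D5181 (iv F7829)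
theorem E75 : n4854 = n4354 := ((c7_3 F12659 (iv D4353) D4354 (iv F9219))).symm
theorem E76 : n2490 = n2219 := (((F7799).symm.trans (sb E75 F8661))).symm
theorem F12660 : act 1 n4354 = n5181 := (sb E75 (iv F9219))
theorem F12662 : act 4 n4354 = n2483 := (sb E75 (iv D4854))
theorem E77 : n4867 = n4365 := ((((iv F7828)).symm.trans (sb E76 (iv F8692)))).symm
theorem E80 : n4370 = n1226 := ((D4370).symm.trans (sb E76 (iv D2490)))
theorem F12664 : act 2 n4365 = n2508 := (sb E77 F8693)
theorem F12665 : act 4 n4365 = n2488 := (sb E77 (iv D4867))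
theorem E83 : n2654 = n2489 := (((D2489).symm.trans (sb E80 F12658))).symm
theorem E84 : n4881 = n4853 := ((((iv F8660)).symm.trans (sb E83 (iv F8707)))).symm
theorem E85 : n5183 = n4866 := ((((iv F8691)).symm.trans (sb E83 (iv F9224)))).symm
theorem E87 : n4871 = n1302 := ((D4871).symm.trans (sb E83 (iv D2654)))
theorem E88 : n5191 = n4872 := (((D4872).symm.trans (sb E83 D5191))).symm
theorem E89 : n5192 = n4873 := (((D4873).symm.trans (sb E83 D5192))).symm
theorem F12676 : act 4 n4853 = n2499 := (sb E84 F8709)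
theorem F12678 : act 2 n4866 = n2667 := (sb E85 F9225)
theorem F12681 : act 4 n1302 = n2489 := (sb E87 (iv D4871))
theorem F12683 : act 4 n4872 = n2655 := (sb E88 F9231)
theorem F12686 : act 4 n4873 = n2656 := (sb E89 F9233)
theorem F12688 : act 2 n5250 = n4404 := d23_0 (iv D4404) (iv F7831) F12656 F4676 F2369 (iv F4404) D4866 F12678 D5215 (iv F9337)
theorem E90 : n5250 = n3816 := ((c6_3 F12688 F7891 F6636 F9338 F4746 (iv F9338))).symm
theorem E91 : n5215 = n3816 := (((F6634).symm.trans (sb E90 F9337))).symm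
theorem F12689 : act 1 n3816 = n2688 := (sb E90 F9338)
theorem E92 : n4404 = n2239 := ((((iv F6636)).symm.trans (sb E90 F12688))).symm
theorem E93 : n2687 = n1882 := ((((iv D3816)).symm.trans (sb E90 (iv D5250)))).symm
theorem E94 : n4947 = n3754 := (((F6635).symm.trans (sb E90 F9339))).symm
theorem E95 : n3816 = n2257 := (((F6637).symm.trans (sb E90 (tr (iv F9340) E91)))).symm
theorem E96 : n5215 = n2257 := (E91).trans E95
theorem E97 : n4431 = n2670 := (((iv F7962)).symm.trans (sb E96 F9269))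
theorem E98 : n2667 = n1113 := ((((iv D2257)).symm.trans (sb E96 (iv D5215)))).symm
theorem E99 : n4913 = n3834 := ((((iv F6688)).symm.trans (sb E96 F9270))).symm
theorem E100 : n2236 = n1104 := ((((iv D2239)).symm.trans (sb E92 (iv D4404)))).symm
theorem E101 : n4080 = n2039 := (((F3962).symm.trans (sb E92 F7892))).symm
theorem E102 : n1882 = n1113 := ((F3228).symm.trans (sb E93 (tr F4743 E98)))
theorem E103 : n2687 = n1113 := (E93).trans E102
theorem E104 : n2256 = n1318 := ((D2256).symm.trans (sb E103 (iv D2687)))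
theorem E105 : n4852 = n537 := ((((iv D1113)).symm.trans (sb E103 (iv F8659)))).symm
theorem E106 : n2666 = n2246 := ((((iv F3981)).symm.trans (sb E103 F4744))).symm
theorem E107 : n5251 = n1779 := ((((iv F4058)).symm.trans (sb E103 D5251))).symm
theorem E108 : n5252 = n2259 := (((D2259).symm.trans (sb E103 D5252))).symm
theorem E109 : n3834 = n3754 := (((F6497).symm.trans (sb E94 (tr F8799 E99)))).symm
theorem F12691 : act 1 n3754 = n2529 := (sb E94 F8800)
theorem E110 : n2528 = n1842 := ((((iv D3754)).symm.trans (sb E94 (iv D4947)))).symm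
theorem E111 : n4913 = n3754 := (E99).trans E109
theorem E112 : n2688 = n2670 := (((E97).symm.trans (((iv F7962)).symm.trans (sb E95 F12689)))).symm
theorem E113 : n3768 = n2239 := (((iv F6533)).symm.trans (sb E95 (iv F6636)))
theorem E114 : n4433 = n4134 := ((D4433).symm.trans (sb E95 (iv F7309)))
theorem F12692 : act 6 n2257 = n2257 := (sb E95 F6637)
theorem E115 : n1318 = n1309 := ((((iv D2670)).symm.trans (sb E97 (tr (iv D4431) E104)))).symm
theorem E116 : n2256 = n1309 := (E104).trans E115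
theorem E117 : n4866 = n537 := ((((iv D1113)).symm.trans (sb E98 (iv F12678)))).symm
theorem E118 : n2246 = n1308 := (((iv F3981)).symm.trans (sb E98 (iv D2667)))
theorem E119 : n5216 = n1779 := ((((iv F4058)).symm.trans (sb E98 D5216))).symm
theorem E120 : n5217 = n2259 := (((D2259).symm.trans (sb E98 D5217))).symm
theorem E121 : n2529 = n2511 := ((F12691).symm.trans (sb E111 F8771))
theorem E122 : n2508 = n1842 := ((((iv D3754)).symm.trans (sb E111 (iv D4913)))).symm
theorem E123 : n3767 = n1104 := (((F2052).symm.trans (sb E100 F6530))).symm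
theorem E126 : n4405 = n2240 := (((D2240).symm.trans (sb E100 D4405))).symm
theorem E128 : n4082 = n2039 := (((F3552).symm.trans (sb E101 (iv F7205)))).symm
theorem E129 : n2036 = n993 := ((((iv D2039)).symm.trans (sb E101 (iv D4080)))).symm
theorem E130 : n2042 = n2039 := (((iv F3565)).symm.trans (sb E101 (tr F7207 E128)))
theorem E132 : n910 = n537 := ((((iv D1113)).symm.trans (sb E102 F3229))).symm
theorem E133 : n1308 = n909 := ((E118).symm.trans (((iv F3981)).symm.trans (sb E102 (iv D1882))))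
theorem E134 : n3817 = n1779 := ((((iv F4058)).symm.trans (sb E102 D3817))).symm
theorem E135 : n3818 = n2259 := (((D2259).symm.trans (sb E102 D3818))).symm
theorem E136 : n3751 = n1235 := (((F2370).symm.trans (sb E116 (iv F6491)))).symm
theorem E137 : n4390 = n629 := (((F2371).symm.trans (sb E116 (iv F7866)))).symm
theorem E138 : n3750 = n628 := ((((iv D1309)).symm.trans (sb E116 F6489))).symm
theorem E139 : n3626 = n2671 := (((D2671).symm.trans (sb E116 F6205))).symm
theorem E140 : n4432 = n2672 := (((D2672).symm.trans (sb E116 D4432))).symm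
theorem E141 : n2483 = n1099 := ((((iv F2040)).symm.trans (sb E105 (iv D4852)))).symm
theorem E142 : n5181 = n1107 := ((((iv F2059)).symm.trans (sb E105 F9221))).symm
theorem E143 : n2246 = n909 := (E118).trans E133
theorem E144 : n2666 = n909 := (E106).trans E143
theorem E146 : n1107 = n432 := ((((iv D909)).symm.trans (sb E144 (tr (iv F9220) E142)))).symm
theorem E147 : n2507 = n893 := (((F1646).symm.trans (sb E144 F4695))).symm
theorem E148 : n5213 = n1883 := (((D1883).symm.trans (sb E144 D5213))).symm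
theorem E149 : n5214 = n1884 := (((D1884).symm.trans (sb E144 D5214))).symm
theorem E150 : n2689 = n2671 := (((E139).symm.trans (((iv F6204)).symm.trans (sb E107 F9342)))).symm
theorem E151 : n3633 = n1883 := (((iv F6227)).symm.trans (sb E107 (tr F9343 E148)))
theorem E152 : n2690 = n2672 := (((E140).symm.trans (((iv F7963)).symm.trans (sb E108 F9345)))).symm
theorem E153 : n1884 = n1778 := (((F4059).symm.trans (sb E108 (tr F9347 E149)))).symm
theorem E154 : n1891 = n1842 := ((((iv D3754)).symm.trans (sb E109 (iv D3834)))).symm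
theorem F12699 : act 6 n3754 = n3754 := (sb E109 (iv F6690))
theorem E156 : n4891 = n894 := (((F3152).symm.trans (sb E110 (iv F8724)))).symm
theorem F12700 : act 6 n2670 = n2670 := (sb E112 F5290)
theorem F12701 : act 2 n2239 = n2257 := (sb E113 F6533)
theorem E160 : n1851 = n1104 := ((((iv D2239)).symm.trans (sb E113 (iv D3768)))).symm
theorem E161 : n4414 = n4411 := (((D4411).symm.trans (sb E113 (iv F7919)))).symm
theorem F12702 : act 6 n2239 = n2239 := (sb E113 (iv F6534))
theorem E162 : n7016 = n2069 := ((((iv D4134)).symm.trans (sb E114 (iv F12318)))).symm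
theorem E163 : n632 = n629 := (((F2371).symm.trans (sb E115 (iv D1318)))).symm
theorem E165 : n2489 = n1099 := ((((iv F2040)).symm.trans (sb E117 F8691))).symm
theorem E166 : n2488 = n258 := ((((iv D537)).symm.trans (sb E117 (iv D4866)))).symm
theorem E168 : n3823 = n893 := (((F1646).symm.trans (sb E143 (iv F6661)))).symm
theorem E169 : n2668 = n1883 := (((E151).symm.trans (((iv F6227)).symm.trans (sb E119 F9272)))).symm
theorem E171 : n2669 = n1778 := (((F4059).symm.trans (sb E120 F9274))).symm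
theorem F12707 : act 6 n2511 = n2511 := (sb E121 (iv F5291))
theorem E174 : n4365 = n894 := (((F3152).symm.trans (sb E122 (iv F12664)))).symm
theorem E175 : n1234 = n893 := ((((iv D1842)).symm.trans (sb E122 (iv D2508)))).symm
theorem E176 : n4914 = n3755 := (((D3755).symm.trans (sb E122 D4914))).symm
theorem E177 : n4915 = n3756 := (((D3756).symm.trans (sb E122 D4915))).symm
theorem E178 : n4353 = n534 := (((F2053).symm.trans (sb E123 (iv F7798)))).symm
theorem E179 : n2235 = n533 := ((((iv D1104)).symm.trans (sb E123 F6529))).symm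
theorem E185 : n4410 = n2245 := ((((iv F3979)).symm.trans (sb E126 (iv F7905)))).symm
theorem E187 : n2037 = n993 := ((((iv D2039)).symm.trans (sb E128 (iv D4082)))).symm
theorem E190 : n2040 = n2035 := ((D2040).symm.trans (sb E129 (iv F3550)))
theorem E191 : n4081 = n2041 := (((D2041).symm.trans (sb E129 D4081))).symm
theorem E192 : n994 = n993 := ((((iv D2039)).symm.trans (sb E130 (iv D2042)))).symm
theorem F12712 : act 6 n2039 = n2039 := (sb E130 F3565)
theorem E195 : n1877 = n1099 := ((((iv F2040)).symm.trans (sb E132 (iv F3222)))).symm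
theorem E196 : n1885 = n258 := ((((iv D537)).symm.trans (sb E132 D1885))).symm
theorem E197 : n1886 = n1114 := (((D1114).symm.trans (sb E132 D1886))).symm
theorem E198 : n1887 = n1115 := (((D1115).symm.trans (sb E132 D1887))).symm
theorem E199 : n3634 = n2070 := ((D3634).symm.trans (sb E134 (iv F7241)))
theorem E200 : n3822 = n851 := ((((iv D1779)).symm.trans (sb E134 (iv F6658)))).symm
theorem E201 : n3820 = n1777 := ((((iv F4061)).symm.trans (sb E135 (iv F6649)))).symm
theorem E202 : n1841 = n595 := ((((iv D1235)).symm.trans (sb E136 (iv D3751)))).symm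
theorem E203 : n6998 = n2512 := (((D2512).symm.trans (sb E136 F12278))).symm
theorem E204 : n2229 = n1303 := ((((iv F2361)).symm.trans (sb E137 (iv D4390)))).symm
theorem E205 : n7150 = n1312 := (((D1312).symm.trans (sb E137 F12650))).symm
theorem E206 : n1312 = n301 := ((((iv D629)).symm.trans (sb E137 (tr F12648 E205)))).symm
theorem E208 : n7150 = n301 := (E205).trans E206
theorem E209 : n3812 = n595 := (((F1200).symm.trans (sb E138 (iv F6630)))).symm
theorem E211 : n3625 = n1311 := (((D1311).symm.trans (sb E138 (iv F6490)))).symm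
theorem E212 : n7006 = n5223 := (((D5223).symm.trans (sb E139 D7006))).symm
theorem E214 : n3624 = n2674 := ((((iv F4711)).symm.trans (sb E140 (iv F7965)))).symm
theorem E215 : n1226 = n891 := (((F2039).symm.trans (sb E141 F4394))).symm
theorem E216 : n1303 = n1224 := ((E204).symm.trans ((D2229).symm.trans (sb E141 (iv D2483))))
theorem E217 : n4853 = n531 := ((((iv D1099)).symm.trans (sb E141 D4853))).symm
theorem E218 : n4354 = n2223 := ((((iv F3937)).symm.trans (sb E141 (iv F12662)))).symm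
theorem E219 : n4855 = n2230 := (((D2230).symm.trans (sb E141 D4855))).symm
theorem E220 : n4856 = n2231 := (((D2231).symm.trans (sb E141 D4856))).symm
theorem E221 : n5181 = n432 := (E142).trans E146
theorem E222 : n2223 = n907 := ((((iv F1642)).symm.trans (sb E221 (tr (iv F12660) E218)))).symm
theorem E223 : n534 = n208 := ((((iv D432)).symm.trans (sb E221 (tr F12659 E178)))).symm
theorem E229 : n2248 = n912 := (((D912).symm.trans (sb E146 D2248))).symm
theorem E230 : n4865 = n425 := ((((iv D893)).symm.trans (sb E147 (iv F8690)))).symm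
theorem E235 : n2530 = n2512 := (((F4701).symm.trans (sb E150 F4748))).symm
theorem E236 : n1319 = n1313 := (((F4702).symm.trans (sb E150 F4749))).symm
theorem E239 : n7013 = n3819 := (((D3819).symm.trans (sb E151 D7013))).symm
theorem E240 : n2531 = n2513 := (((F4704).symm.trans (sb E152 F4750))).symm
theorem E241 : n1320 = n1314 := (((F4705).symm.trans (sb E152 F4751))).symm
theorem F12719 : act 3 n2672 = n2672 := (sb E152 (iv F5288))
theorem E244 : n3821 = n3619 := ((((iv F6193)).symm.trans (sb E153 D3821))).symm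
theorem E245 : n913 = n894 := (((F3152).symm.trans (sb E154 (iv D1891)))).symm
theorem E246 : n3835 = n3755 := (((D3755).symm.trans (sb E154 D3835))).symm
theorem E247 : n3836 = n3756 := (((D3756).symm.trans (sb E154 D3836))).symm
theorem E249 : n2499 = n1837 := ((((iv F3146)).symm.trans (sb E156 (iv D4891)))).symm
theorem E250 : n897 = n208 := (((E223).symm.trans ((F2053).symm.trans (sb E160 (iv D1851))))).symm
theorem E252 : n3769 = n2240 := (((D2240).symm.trans (sb E160 D3769))).symm
theorem E253 : n3770 = n2241 := (((D2241).symm.trans (sb E160 D3770))).symm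
theorem E254 : n6852 = n6851 := (((F11922).symm.trans (sb E161 (iv F11925)))).symm
theorem E256 : n4143 = n1010 := (((F3616).symm.trans (sb E162 F12319))).symm
theorem E257 : n4146 = n1008 := ((((iv D2069)).symm.trans (sb E162 F12320))).symm
theorem E258 : n302 = n301 := (((E206).symm.trans ((D1312).symm.trans (sb E163 (iv D632))))).symm
theorem E260 : n891 = n531 := ((F2039).symm.trans (sb E165 (tr (iv F8660) E217)))
theorem E261 : n2229 = n1224 := (E204).trans E216
theorem E262 : n1226 = n531 := (E215).trans E260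
theorem E263 : n1302 = n907 := (((E222).symm.trans (((iv F3937)).symm.trans (sb E165 (iv F12681))))).symm
theorem E264 : n4872 = n2230 := (((D2230).symm.trans (sb E165 D4872))).symm
theorem E265 : n4873 = n2231 := (((D2231).symm.trans (sb E165 D4873))).symm
theorem E266 : n425 = n258 := (((F522).symm.trans (sb E166 (tr D4865 E230)))).symm
theorem E267 : n893 = n127 := (((F523).symm.trans (sb E166 (tr F4404 E175)))).symm
theorem E268 : n894 = n126 := ((((iv D258)).symm.trans (sb E166 (tr (iv F12665) E174)))).symm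
theorem E273 : n3823 = n127 := (E168).trans E267
theorem E274 : n595 = n139 := ((((iv F314)).symm.trans (sb E273 (tr (iv F6662) E209)))).symm
theorem E275 : n5218 = n3819 := (((D3819).symm.trans (sb E169 D5218))).symm
theorem E276 : n5220 = n3619 := ((((iv F6193)).symm.trans (sb E171 D5220))).symm
theorem E279 : n1234 = n127 := (E175).trans E267
theorem E280 : n2509 = n260 := (((D260).symm.trans (sb E279 D2509))).symm
theorem E281 : n2510 = n243 := ((((iv F500)).symm.trans (sb E279 D2510))).symm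
theorem E282 : n1843 = n260 := ((F6500).symm.trans (sb E176 (tr F8773 E280)))
theorem E283 : n4919 = n2104 := (((F6501).symm.trans (sb E176 (iv F8782)))).symm
theorem E284 : n1844 = n243 := ((F6504).symm.trans (sb E177 (tr F8775 E281)))
theorem E285 : n4917 = n3758 := ((((iv F6509)).symm.trans (sb E177 (iv F8778)))).symm
theorem E286 : n4353 = n208 := (E178).trans E223
theorem E288 : n4364 = n433 := (((D433).symm.trans (sb E286 F7827))).symm
theorem E289 : n433 = n257 := ((((iv D533)).symm.trans (sb E179 (tr (iv F7825) E288)))).symm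
theorem E290 : n2035 = n478 := (((F1041).symm.trans (sb E179 F3957))).symm
theorem E304 : n7055 = n2245 := (((F3976).symm.trans (sb E185 (iv F12424)))).symm
theorem E305 : n4298 = n2175 := (((F4072).symm.trans (sb E185 (iv F7906)))).symm
theorem E307 : n4083 = n2041 := (((D2041).symm.trans (sb E187 D4083))).symm
theorem E310 : n2040 = n478 := (E190).trans E290
theorem E311 : n996 = n231 := ((((iv D478)).symm.trans (sb E310 F3555))).symm
theorem E313 : n2043 = n2041 := ((F3564).symm.trans (sb E191 (tr (iv F7210) E307)))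
theorem E314 : n480 = n479 := (((F1825).symm.trans (sb E192 F1827))).symm
theorem E319 : n3805 = n2231 := (((D2231).symm.trans (sb E195 D3805))).symm
theorem E320 : n913 = n126 := (E245).trans E268
theorem E322 : n3825 = n501 := ((((iv F982)).symm.trans (sb E196 D3825))).symm
theorem E324 : n1890 = n1776 := ((((iv F4056)).symm.trans (sb E197 (iv F3246)))).symm
theorem E325 : n3827 = n1812 := ((((iv F3110)).symm.trans (sb E198 D3827))).symm
theorem E326 : n2262 = n1889 := ((D2262).symm.trans (sb E198 (iv F3243)))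
theorem E327 : n5223 = n4114 := ((((iv F7268)).symm.trans (sb E199 (tr (iv F12294) E212)))).symm
theorem E330 : n1782 = n1009 := ((((iv D2070)).symm.trans (sb E199 F6230))).symm
theorem E331 : n4098 = n405 := ((((iv D851)).symm.trans (sb E200 F7240))).symm
theorem E332 : n7012 = n3632 := (((D3632).symm.trans (sb E201 (iv F12306)))).symm
theorem F12736 : act 6 n1777 = n1883 := (sb E201 (iv D3820))
theorem E333 : n1841 = n139 := (E202).trans E274
theorem E334 : n3737 = n286 := ((((iv F572)).symm.trans (sb E333 (iv F6469)))).symm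
theorem E335 : n3752 = n288 := (((D288).symm.trans (sb E333 D3752))).symm
theorem E336 : n3753 = n271 := ((((iv F552)).symm.trans (sb E333 D3753))).symm
theorem E337 : n1236 = n288 := ((F4437).symm.trans (sb E203 (tr F12277 E335)))
theorem E338 : n3621 = n2517 := ((((iv F4444)).symm.trans (sb E203 (iv D6998)))).symm
theorem E343 : n4393 = n2486 := (((D2486).symm.trans (sb E261 D4393))).symm
theorem E344 : n286 = n285 := (((F601).symm.trans (sb E208 (tr (iv D7150) E334)))).symm
theorem E347 : n1238 = n285 := (((F601).symm.trans (sb E206 F2376))).symm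
theorem E348 : n629 = n145 := ((((iv D301)).symm.trans (sb E206 (iv D1312)))).symm
theorem E349 : n2678 = n630 := (((D630).symm.trans (sb E206 D2678))).symm
theorem E350 : n2679 = n631 := (((D631).symm.trans (sb E206 D2679))).symm
theorem E353 : n1237 = n271 := ((F2374).symm.trans (sb E211 (tr (iv F6494) E336)))
theorem E354 : n6992 = n2675 := (((D2675).symm.trans (sb E211 (iv F12263)))).symm
theorem E355 : n7006 = n4114 := (E212).trans E327
theorem E356 : n3629 = n2059 := ((((iv D4114)).symm.trans (sb E355 F12295))).symm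
theorem E358 : n6997 = n2515 := (((F4709).symm.trans (sb E214 (iv F12271)))).symm
theorem E360 : n7004 = n5227 := (((D5227).symm.trans (sb E214 D7004))).symm
theorem E362 : n2491 = n1100 := (((D1100).symm.trans (sb E262 D2491))).symm
theorem E363 : n2492 = n870 := ((((iv F1572)).symm.trans (sb E262 D2492))).symm
theorem E365 : n1224 = n300 := (((D300).symm.trans (iv (sb E216 (tr F2361 E348))))).symm
theorem E366 : n1303 = n300 := (E216).trans E365
theorem E368 : n2658 = n314 := ((((iv F618)).symm.trans (sb E366 D2658))).symm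
theorem E370 : n1837 = n256 := ((((iv D531)).symm.trans (sb E217 (tr F12676 E249)))).symm
theorem E374 : n1838 = n1100 := ((F3950).symm.trans (sb E219 (tr F8663 E362)))
theorem E376 : n1839 = n870 := ((F3952).symm.trans (sb E220 (tr F8665 E363)))
theorem E378 : n4381 = n1878 := (((D1878).symm.trans (sb E222 D4381))).symm
theorem E379 : n4382 = n1879 := (((D1879).symm.trans (sb E222 D4382))).symm
theorem E380 : n1104 = n103 := ((((iv D208)).symm.trans (sb E223 (iv F2053)))).symm
theorem E381 : n1108 = n434 := (((D434).symm.trans (sb E223 D1108))).symm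
theorem E382 : n1109 = n208 := (((F422).symm.trans (sb E223 D1109))).symm
theorem F12746 : act 2 n912 = n1778 := (sb E229 F4063)
theorem E388 : n4419 = n912 := (((F1650).symm.trans (sb E229 D4419))).symm
theorem F12747 : act 4 n912 = n1115 := (sb E229 F3985)
theorem E391 : n1245 = n1239 := (((F4436).symm.trans (sb E235 F4454))).symm
theorem E395 : n2691 = n2680 := (((D2680).symm.trans (sb E236 D2691))).symm
theorem F12749 : act 6 n3819 = n4055 := (sb E239 F12309)
theorem E398 : n1246 = n1240 := (((F4438).symm.trans (sb E240 F4455))).symm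
theorem F12750 : act 3 n2513 = n2513 := (sb E240 F5289)
theorem E400 : n2486 = n314 := (((E368).symm.trans (((iv F4682)).symm.trans (sb E241 (iv F4401))))).symm
theorem E401 : n2681 = n1392 := ((D2681).symm.trans (sb E241 (iv F2471)))
theorem E403 : n4279 = n2162 := (((iv F7624)).symm.trans (sb E244 (iv F6654)))
theorem E404 : n3618 = n1767 := ((((iv D3619)).symm.trans (sb E244 (iv F6653)))).symm
theorem E405 : n6995 = n3759 := ((D6995).symm.trans (sb E244 F6652))
theorem E406 : n1892 = n259 := (((D259).symm.trans (sb E320 D1892))).symm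
theorem E407 : n1893 = n242 := ((((iv F498)).symm.trans (sb E320 D1893))).symm
theorem E408 : n1846 = n259 := ((F6499).symm.trans (sb E246 (tr F6692 E406)))
theorem E409 : n4152 = n4142 := (((iv F7352)).symm.trans (sb E246 F7917))
theorem E410 : n1847 = n242 := ((F6503).symm.trans (sb E247 (tr F6694 E407)))
theorem F12752 : act 3 n3756 = n3756 := (sb E247 F6695)
theorem E412 : n2499 = n256 := (E249).trans E370
theorem E413 : n907 = n529 := (((D529).symm.trans (sb E412 (tr F4422 E263)))).symm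
theorem E418 : n1093 = n431 := (((D431).symm.trans (sb E250 (iv F2031)))).symm
theorem E419 : n432 = n426 := ((D432).symm.trans (sb E250 (iv D897)))
theorem E421 : n1852 = n434 := (((D434).symm.trans (sb E250 D1852))).symm
theorem E422 : n1853 = n208 := (((F422).symm.trans (sb E250 D1853))).symm
theorem E424 : n4412 = n3532 := ((D4412).symm.trans (sb E252 (iv F6537)))
theorem E425 : n3667 = n2245 := ((((iv F3979)).symm.trans (sb E252 F6538))).symm
theorem F12753 : act 3 n2241 = n2241 := (sb E253 F6541)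
theorem E427 : n3534 = n3533 := (((F11919).symm.trans (sb E254 F11924))).symm
theorem E428 : n2075 = n2071 := (((D2071).symm.trans (sb E256 (iv D4143)))).symm
theorem E429 : n2076 = n486 := ((((iv D1010)).symm.trans (sb E256 F7326))).symm
theorem E430 : n2078 = n2067 := (((D2067).symm.trans (sb E257 F7334))).symm
theorem E431 : n3640 = n2068 := (((D2068).symm.trans (sb E257 F7335))).symm
theorem E434 : n631 = n316 := ((D631).symm.trans (sb E258 (iv F620)))
theorem E436 : n1302 = n529 := (E263).trans E413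
theorem E437 : n2655 = n1094 := (((D1094).symm.trans (sb E436 D2655))).symm
theorem E438 : n2656 = n872 := ((((iv F1579)).symm.trans (sb E436 D2656))).symm
theorem E439 : n1878 = n1094 := ((E378).symm.trans (((iv F7849)).symm.trans (sb E264 (tr F12683 E437))))
theorem E441 : n4393 = n314 := (E343).trans E400
theorem E442 : n1879 = n872 := ((E379).symm.trans (((iv F7852)).symm.trans (sb E265 (tr F12686 E438))))
theorem E444 : n537 = n203 := ((D537).symm.trans (sb E266 (iv D425)))
theorem E445 : n895 = n538 := (((D538).symm.trans (sb E266 D895))).symm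
theorem E446 : n896 = n501 := ((((iv F982)).symm.trans (sb E266 D896))).symm
theorem E447 : n909 = n204 := ((((iv F410)).symm.trans (sb E267 (iv F1646)))).symm
theorem E448 : n1842 = n64 := ((((iv D127)).symm.trans (sb E267 D1842))).symm
theorem E449 : n1235 = n70 := ((((iv D139)).symm.trans (sb E274 D1235))).symm
theorem E450 : n4916 = n3757 := (((F6646).symm.trans (sb E275 F9276))).symm
theorem E451 : n4918 = n3759 := (((E405).symm.trans ((D6995).symm.trans (sb E276 F9280)))).symm
theorem E454 : n3757 = n541 := (((D541).symm.trans (sb E280 (tr D4916 E450)))).symm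
theorem E455 : n3758 = n244 := (((F528).symm.trans (sb E280 (tr D4917 E285)))).symm
theorem E456 : n3759 = n386 := ((((iv F725)).symm.trans (sb E281 (tr D4918 E451)))).symm
theorem E457 : n2104 = n262 := ((((iv F533)).symm.trans (sb E281 (tr D4919 E283)))).symm
theorem E458 : n3755 = n128 := (((F527).symm.trans (sb E282 (iv F6500)))).symm
theorem E459 : n4919 = n262 := (E283).trans E457
theorem E460 : n2517 = n290 := ((((iv F580)).symm.trans (sb E459 F8780))).symm
theorem E461 : n4917 = n244 := (E285).trans E455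
theorem E462 : n3756 = n120 := ((((iv D243)).symm.trans (sb E284 (iv F6504)))).symm
theorem E463 : n2515 = n272 := ((((iv F554)).symm.trans (sb E461 F8777))).symm
theorem E468 : n533 = n209 := ((D533).symm.trans (sb E289 F833))
theorem E469 : n914 = n535 := (((D535).symm.trans (sb E289 D914))).symm
theorem E483 : n3666 = n2175 := (((F4072).symm.trans (sb E304 (iv D7055)))).symm
theorem E484 : n4747 = n1073 := (((F3824).symm.trans (sb E305 (iv F8518)))).symm
theorem E485 : n2173 = n1072 := ((((iv D2175)).symm.trans (sb E305 (iv D4298)))).symm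
theorem E486 : n4296 = n2291 := ((((iv F4098)).symm.trans (sb E305 F7662))).symm
theorem E492 : n479 = n114 := ((((iv D231)).symm.trans (sb E311 (iv D996)))).symm
theorem E493 : n480 = n114 := (E314).trans E492
theorem E496 : n998 = n997 := (((F3558).symm.trans (sb E313 F3562))).symm
theorem F12765 : act 3 n2041 = n2041 := (sb E313 (iv F3564))
theorem E498 : n232 = n231 := (((D231).symm.trans (sb E493 F939))).symm
theorem E499 : n233 = n231 := ((D233).symm.trans (sb E493 (iv D480)))
theorem E500 : n997 = n110 := (((F271).symm.trans (sb E493 (tr D998 E496)))).symm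
theorem E502 : n4381 = n1094 := (E378).trans E439
theorem E504 : n4382 = n872 := (E379).trans E442
theorem E505 : n4395 = n3807 := ((D4395).symm.trans (sb E319 (iv F6624)))
theorem E507 : n7104 = n876 := ((((iv F1586)).symm.trans (sb E322 (iv F12546)))).symm
theorem E508 : n3838 = n540 := ((((iv F1054)).symm.trans (sb E322 (iv F6701)))).symm
theorem E509 : n3832 = n1728 := (((F3033).symm.trans (sb E324 D3832))).symm
theorem F12767 : act 5 n1776 = n912 := (sb E324 (iv D1890))
theorem E510 : n3690 = n1941 := (((iv F6359)).symm.trans (sb E325 F6670))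
theorem E511 : n1813 = n1812 := (((iv F3113)).symm.trans (sb E325 (tr F6669 E325)))
theorem E512 : n4200 = n1811 := (((F3111).symm.trans (sb E325 (iv F7468)))).symm
theorem E513 : n4435 = n3831 := (((D3831).symm.trans (sb E326 D4435))).symm
theorem F12770 : act 5 n1889 = n1115 := (sb E326 (iv D2262))
theorem E515 : n2052 = n853 := (((iv F3585)).symm.trans (sb E330 (iv D1782)))
theorem E516 : n4099 = n852 := (((D852).symm.trans (sb E331 (iv F7244)))).symm
theorem E518 : n4058 = n2023 := (((F6223).symm.trans (sb E332 F12305))).symm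
theorem E519 : n3636 = n1780 := (((F6222).symm.trans (sb E332 F12307))).symm
theorem E522 : n6997 = n272 := (E358).trans E463
theorem E523 : n3621 = n290 := (E338).trans E460
theorem E525 : n600 = n597 := (((iv F1148)).symm.trans (sb E337 F2265))
theorem E528 : n1773 = n305 := ((((iv F609)).symm.trans (sb E523 F6196))).symm
theorem E530 : n1772 = n607 := (((D607).symm.trans (sb E523 (iv D3621)))).symm
theorem E540 : n2231 = n414 := ((((iv F790)).symm.trans (sb E441 F7871))).symm
theorem E541 : n596 = n138 := ((D596).symm.trans (sb E344 (iv D286)))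
theorem E542 : n598 = n562 := ((D598).symm.trans (sb E344 (iv F1096)))
theorem E549 : n2520 = n562 := (((E542).symm.trans ((D598).symm.trans (sb E347 D2520)))).symm
theorem E550 : n1309 = n73 := ((((iv D145)).symm.trans (sb E348 (iv F2371)))).symm
theorem E551 : n1313 = n303 := (((D303).symm.trans (sb E348 D1313))).symm
theorem E552 : n1314 = n152 := ((((iv F328)).symm.trans (sb E348 D1314))).symm
theorem E553 : n5234 = n1315 := (((D1315).symm.trans (sb E349 D5234))).symm
theorem E554 : n2679 = n316 := (E350).trans E434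
theorem E555 : n5235 = n665 := (((D665).symm.trans (sb E554 D5235))).symm
theorem E563 : n1311 = n153 := (((F550).symm.trans (sb E353 (iv F2374)))).symm
theorem E564 : n2516 = n368 := ((((iv F696)).symm.trans (sb E353 D2516))).symm
theorem E565 : n2513 = n132 := ((((iv D271)).symm.trans (sb E353 (iv F4439)))).symm
theorem E566 : n5230 = n3614 := ((D5230).symm.trans (sb E354 (iv D6992)))
theorem E567 : n4119 = n4104 := ((((iv F7253)).symm.trans (sb E356 (iv F7276)))).symm
theorem E569 : n4093 = n1775 := (((iv F7228)).symm.trans (sb E356 (iv D3629)))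
theorem E571 : n4106 = n1005 := ((((iv D2059)).symm.trans (sb E356 (iv F7259)))).symm
theorem E573 : n4178 = n564 := (((D564).symm.trans (sb E522 F12273))).symm
theorem E574 : n4925 = n564 := ((F9294).symm.trans (sb E360 (tr F12286 E573)))
theorem F12778 : act 1 n5227 = n3632 := (sb E360 F12287)
theorem E593 : n3745 = n1033 := (((F2044).symm.trans (sb E374 D3745))).symm
theorem E595 : n1802 = n1799 := (((D1799).symm.trans (sb E376 F3149))).symm
theorem E599 : n3807 = n873 := (((F2035).symm.trans (sb E502 (tr (iv F7879) E505)))).symm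
theorem E600 : n3631 = n1804 := (((D1804).symm.trans (sb E504 F7853))).symm
theorem E601 : n2239 = n53 := ((((iv D103)).symm.trans (sb E380 D2239))).symm
theorem E602 : n2240 = n210 := (((D210).symm.trans (sb E380 D2240))).symm
theorem E603 : n2241 = n103 := (((F243).symm.trans (sb E380 D2241))).symm
theorem E605 : n1112 = n535 := (((E469).symm.trans (((iv F1655)).symm.trans (sb E381 (iv F2070))))).symm
theorem E607 : n1111 = n434 := (((D434).symm.trans (sb E382 (iv F2067)))).symm
theorem E611 : n3697 = n1778 := (((F12746).symm.trans (sb E388 F7938))).symm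
theorem E612 : n1778 = n1115 := (((F12747).symm.trans (sb E388 (tr F7936 E611)))).symm
theorem E613 : n6883 = n1776 := ((((iv F12767)).symm.trans (sb E388 (iv F12010)))).symm
theorem E615 : n2532 = n2521 := (((D2521).symm.trans (sb E391 D2532))).symm
theorem E618 : n5236 = n3033 := ((D5236).symm.trans (sb E395 (iv F5286)))
theorem E620 : n1321 = n1315 := (((E553).symm.trans (((iv F9311)).symm.trans (sb E395 F4753)))).symm
theorem E626 : n2522 = n2347 := ((D2522).symm.trans (sb E398 (iv F4199)))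
theorem E631 : n5239 = n2852 := ((((iv F4990)).symm.trans (sb E401 D5239))).symm
theorem E632 : n1392 = n315 := (((D315).symm.trans (iv (sb E401 (tr (iv D2681) E552))))).symm
theorem E633 : n2681 = n315 := (E401).trans E632
theorem E634 : n2843 = n662 := (((D662).symm.trans (sb E633 (iv F4974)))).symm
theorem E636 : n665 = n664 := (((D664).symm.trans (sb E633 (tr (iv F9313) E555)))).symm
theorem F12785 : act 2 n2162 = n3619 := (sb E403 F7624)
theorem E639 : n4274 = n1063 := ((((iv D2162)).symm.trans (sb E403 F7625))).symm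
theorem E640 : n4278 = n3617 := (((iv F7620)).symm.trans (sb E403 F7626))
theorem E641 : n6991 = n3614 := ((((iv F6183)).symm.trans (sb E404 (iv F12261)))).symm
theorem E642 : n6994 = n3620 := (((D3620).symm.trans (sb E404 D6994))).symm
theorem E643 : n6995 = n386 := (E405).trans E456
theorem E644 : n386 = n185 := ((((iv D386)).symm.trans (sb E643 (tr F12268 E456)))).symm
theorem E645 : n6995 = n185 := (E643).trans E644
theorem E646 : n3620 = n387 := (((D387).symm.trans (sb E645 (tr F12269 E642)))).symm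
theorem E647 : n3619 = n96 := (((F371).symm.trans (sb E645 (iv D6995)))).symm
theorem E648 : n3837 = n539 := (((D539).symm.trans (sb E406 D3837))).symm
theorem E649 : n500 = n242 := ((D500).symm.trans (sb E407 (tr F3250 E407)))
theorem E650 : n3763 = n539 := (((D539).symm.trans (sb E408 D3763))).symm
theorem E652 : n4142 = n261 := (((D261).symm.trans (iv (sb E409 (tr F7352 E458))))).symm
theorem E653 : n4152 = n261 := (E409).trans E652
theorem E654 : n4136 = n543 := (((D543).symm.trans (sb E653 F7353))).symm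
theorem E655 : n4135 = n129 := (((F530).symm.trans (sb E653 F7354))).symm
theorem E656 : n2079 = n544 := (((D544).symm.trans (sb E653 (iv D4152)))).symm
theorem E657 : n3764 = n242 := (((E649).symm.trans ((D500).symm.trans (sb E410 D3764)))).symm
theorem E658 : n1849 = n502 := (((D502).symm.trans (sb E410 (iv F3166)))).symm
theorem F12789 : act 3 n431 = n529 := (sb E418 (iv D1093))
theorem E666 : n2216 = n431 := (((F830).symm.trans (sb E418 D2216))).symm
theorem F12790 : act 3 n426 = n208 := (sb E419 (iv D432))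
theorem E667 : n911 = n880 := ((((iv F1596)).symm.trans (sb E419 D911))).symm
theorem E668 : n912 = n416 := (((F817).symm.trans (sb E419 D912))).symm
theorem E671 : n1711 = n915 := (((D915).symm.trans (sb E421 F3172))).symm
theorem E673 : n1816 = n426 := ((((iv F12790)).symm.trans (sb E422 F3174))).symm
theorem E676 : n6853 = n1718 := ((((iv D3532)).symm.trans (sb E424 (iv F11928)))).symm
theorem E677 : n3532 = n229 := ((((iv F472)).symm.trans (iv (sb E424 (tr (iv D4412) E602))))).symm
theorem E678 : n4412 = n229 := (E424).trans E677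
theorem E679 : n6851 = n113 := ((((iv D229)).symm.trans (sb E678 (iv F11921)))).symm
theorem E680 : n4301 = n474 := ((((iv F928)).symm.trans (sb E678 F7912))).symm
theorem E681 : n2175 = n1798 := ((F4072).symm.trans (sb E425 (iv D3667)))
theorem E682 : n6848 = n6846 := (((iv F11913)).symm.trans (sb E427 (iv F11911)))
theorem E683 : n2132 = n2017 := (((F6016).symm.trans (sb E427 F6018))).symm
theorem E686 : n4141 = n3525 := ((((iv F6157)).symm.trans (sb E428 (iv F7322)))).symm
theorem E687 : n4132 = n129 := (((E655).symm.trans ((D4135).symm.trans (sb E428 (iv F7306))))).symm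
theorem E689 : n1013 = n1011 := ((F3620).symm.trans (sb E428 (iv D2075)))
theorem E690 : n4145 = n1007 := (((D1007).symm.trans (sb E429 D4145))).symm
theorem E691 : n1012 = n235 := ((((iv D486)).symm.trans (sb E429 (iv D2076)))).symm
theorem E693 : n4149 = n4130 := (((D4130).symm.trans (sb E430 (iv F7340)))).symm
theorem E694 : n4151 = n4131 := (((D4131).symm.trans (sb E430 D4151))).symm
theorem E696 : n4342 = n4133 := (((D4133).symm.trans (sb E431 F7765))).symm
theorem E703 : n1803 = n872 := ((D1803).symm.trans (sb E442 (tr F3225 E442)))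
theorem E706 : n1114 = n427 := (((D427).symm.trans (sb E444 D1114))).symm
theorem E707 : n1115 = n197 := (((F407).symm.trans (sb E444 D1115))).symm
theorem E708 : n1848 = n1116 := (((D1116).symm.trans (sb E445 D1848))).symm
theorem E709 : n877 = n876 := ((((iv F1586)).symm.trans (sb E446 F1620))).symm
theorem E710 : n1883 = n419 := ((((iv F803)).symm.trans (sb E447 D1883))).symm
theorem E711 : n1778 = n197 := (E612).trans E707
theorem E713 : n3754 = n28 := ((((iv D64)).symm.trans (sb E448 D3754))).symm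
theorem E714 : n2511 = n31 := ((((iv D70)).symm.trans (sb E449 D2511))).symm
theorem E716 : n3759 = n185 := (E456).trans E644
theorem E717 : n4918 = n185 := (E451).trans E716
theorem E718 : n368 = n177 := (((F370).symm.trans (sb E717 (tr F8779 E564)))).symm
theorem E719 : n3819 = n882 := ((((iv F1602)).symm.trans (sb E454 (iv F6646)))).symm
theorem E720 : n4047 = n1122 := (((D1122).symm.trans (sb E454 (iv F7132)))).symm
theorem E721 : n2101 = n503 := (((D503).symm.trans (sb E455 (iv F6510)))).symm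
theorem E722 : n4280 = n385 := (((D385).symm.trans (sb E716 (iv F7628)))).symm
theorem E723 : n1028 = n545 := (((D545).symm.trans (sb E457 (iv D2104)))).symm
theorem E724 : n120 = n61 := ((((iv D120)).symm.trans (sb E462 (tr F12752 E462)))).symm
theorem E729 : n1105 = n435 := (((D435).symm.trans (sb E468 D1105))).symm
theorem E731 : n1894 = n1110 := (((D1110).symm.trans (sb E469 D1894))).symm
theorem E744 : n3666 = n1798 := (E483).trans E681
theorem E745 : n2646 = n869 := ((((iv D1798)).symm.trans (sb E744 F6302))).symm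
theorem E747 : n1073 = n869 := ((F1967).symm.trans (sb E484 (tr F8516 E745)))
theorem E748 : n4747 = n869 := (E484).trans E747
theorem E749 : n2432 = n624 := (((F1569).symm.trans (sb E748 F8517))).symm
theorem E750 : n2430 = n1136 := ((((iv F2108)).symm.trans (sb E748 (iv D4747)))).symm
theorem E751 : n4745 = n518 := (((F1570).symm.trans (sb E748 F8519))).symm
theorem E752 : n2291 = n1072 := (((F1966).symm.trans (sb E485 (tr D4296 E486)))).symm
theorem E753 : n1136 = n518 := ((((iv D1072)).symm.trans (sb E485 (tr (iv F4314) E750)))).symm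
theorem E770 : n998 = n110 := (E496).trans E500
theorem E771 : n969 = n222 := (((D222).symm.trans (sb E770 F1836))).symm
theorem E774 : n481 = n223 := ((D481).symm.trans (sb E498 F478))
theorem E777 : n465 = n223 := (((E774).symm.trans ((D481).symm.trans (sb E499 (iv F903))))).symm
theorem E779 : n2041 = n56 := ((((iv D110)).symm.trans (sb E500 (iv F3558)))).symm
theorem E780 : n2046 = n222 := (((D222).symm.trans (sb E500 D2046))).symm
theorem E781 : n3912 = n1807 := ((((iv F3099)).symm.trans (sb E507 F12545))).symm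
theorem E782 : n1810 = n876 := (((iv F3105)).symm.trans (sb E507 (tr F12547 E507)))
theorem E783 : n3699 = n415 := ((((iv D876)).symm.trans (sb E507 (iv D7104)))).symm
theorem E784 : n3700 = n417 := ((((iv F1055)).symm.trans (sb E508 F12409))).symm
theorem E785 : n4203 = n3548 := (((D3548).symm.trans (sb E509 (iv F7472)))).symm
theorem E786 : n3549 = n1728 := ((D3549).symm.trans (sb E509 (tr F6684 E509)))
theorem E787 : n7092 = n3887 := ((((iv F6790)).symm.trans (sb E510 (iv F12511)))).symm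
theorem E788 : n1932 = n939 := ((((iv D1941)).symm.trans (sb E510 F6360))).symm
theorem E789 : n3692 = n1941 := (((F3349).symm.trans (sb E510 (iv F6366)))).symm
theorem E790 : n3915 = n3688 := ((D3915).symm.trans (sb E510 F6361))
theorem E793 : n1811 = n876 := ((F3111).symm.trans (sb E511 (tr (iv D1813) E709)))
theorem E794 : n4200 = n876 := (E512).trans E793
theorem E795 : n3688 = n1807 := ((((iv F3099)).symm.trans (sb E794 (tr F7467 E790)))).symm
theorem E796 : n2113 = n501 := (((F1586).symm.trans (sb E794 (iv D4200)))).symm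
theorem E797 : n1812 = n415 := ((D1812).symm.trans (sb E794 (tr (iv F7466) E783)))
theorem E798 : n3831 = n2116 := (((F7469).symm.trans (sb E513 (tr F7975 E513)))).symm
theorem E799 : n4435 = n2116 := (E513).trans E798
theorem E800 : n6881 = n1036 := (((F3698).symm.trans (sb E799 (iv F12002)))).symm
theorem E801 : n3696 = n1035 := ((((iv D2116)).symm.trans (sb E799 F7974))).symm
theorem E804 : n4027 = n407 := (((F1530).symm.trans (sb E515 (iv F7095)))).symm
theorem E807 : n2053 = n1768 := ((((iv F3012)).symm.trans (sb E516 (iv D4099)))).symm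
theorem E809 : n4057 = n3635 := ((((iv F6232)).symm.trans (sb E518 F7160))).symm
theorem E810 : n4051 = n984 := ((((iv D2023)).symm.trans (sb E518 F7161))).symm
theorem E811 : n7008 = n3627 := ((((iv F6207)).symm.trans (sb E519 (iv F12298)))).symm
theorem E815 : n1247 = n1241 := (((D1241).symm.trans (sb E525 D1247))).symm
theorem E821 : n851 = n418 := ((((iv F797)).symm.trans (sb E528 F3026))).symm
theorem E822 : n850 = n637 := (((D637).symm.trans (sb E528 (iv D1773)))).symm
theorem E823 : n1358 = n1260 := (((D1260).symm.trans (sb E530 F3023))).symm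
theorem E824 : n1261 = n1026 := ((D1261).symm.trans (sb E530 (iv F3025)))
theorem E826 : n3622 = n1259 := ((((iv F2290)).symm.trans (sb E530 D3622))).symm
theorem E832 : n3670 = n871 := (((D871).symm.trans (sb E540 (iv F6313)))).symm
theorem E833 : n1240 = n270 := ((((iv F549)).symm.trans (sb E541 D1240))).symm
theorem E834 : n1161 = n1160 := ((D1161).symm.trans (sb E542 (iv F2152)))
theorem E839 : n4933 = n1160 := (((E834).symm.trans ((D1161).symm.trans (sb E549 D4933)))).symm
theorem E840 : n2670 = n33 := ((((iv D73)).symm.trans (sb E550 D2670))).symm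
theorem E841 : n2672 = n76 := ((((iv F176)).symm.trans (sb E550 D2672))).symm
theorem E842 : n2680 = n634 := (((D634).symm.trans (sb E551 D2680))).symm
theorem E848 : n2675 = n182 := ((((iv F365)).symm.trans (sb E563 D2675))).symm
theorem E849 : n2516 = n177 := (E564).trans E718
theorem E850 : n182 = n91 := (((F362).symm.trans (sb E849 (tr (iv F4712) E848)))).symm
theorem E854 : n2675 = n91 := (E848).trans E850
theorem E855 : n132 = n67 := ((((iv D132)).symm.trans (sb E565 (tr F12750 E565)))).symm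
theorem E857 : n3614 = n183 := (((D183).symm.trans (iv (sb E566 (tr (iv D5230) E854))))).symm
theorem E858 : n2074 = n544 := ((F7254).symm.trans (sb E567 (tr F7277 E656)))
theorem E859 : n4104 = n606 := ((((iv D1259)).symm.trans (iv (sb E567 (tr (iv F7278) E826))))).symm
theorem E860 : n4119 = n606 := (E567).trans E859
theorem E861 : n2061 = n612 := ((((iv F1172)).symm.trans (sb E860 (iv D4119)))).symm
theorem E862 : n3630 = n2049 := ((D3630).symm.trans (sb E569 (iv D4093)))
theorem E863 : n2055 = n612 := (((iv F3589)).symm.trans (sb E571 (tr F7257 E861)))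
theorem E865 : n2098 = n1164 := (((D1164).symm.trans (sb E573 (iv D4178)))).symm
theorem E866 : n4045 = n1165 := (((D1165).symm.trans (sb E573 F7415))).symm
theorem E867 : n5227 = n318 := (((F1099).symm.trans (sb E574 (iv F9294)))).symm
theorem E875 : n6877 = n2111 := (((D2111).symm.trans (sb E593 (iv F11989)))).symm
theorem E876 : n3674 = n3668 := (((D3668).symm.trans (sb E595 (iv F6316)))).symm
theorem E877 : n3676 = n3669 := (((D3669).symm.trans (sb E595 (iv F6321)))).symm
theorem E881 : n1889 = n417 := (((F1580).symm.trans (sb E599 F6623))).symm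
theorem E882 : n1776 = n879 := (((F3091).symm.trans (sb E600 (iv D3631)))).symm
theorem E883 : n3681 = n3547 := ((D3681).symm.trans (sb E600 F6219))
theorem E884 : n2257 = n51 := (((F126).symm.trans (sb E601 F12701))).symm
theorem E885 : n2039 = n25 := (((F127).symm.trans (sb E601 F3962))).symm
theorem E886 : n4411 = n57 := ((((iv F137)).symm.trans (sb E601 D4411))).symm
theorem E887 : n53 = n18 := ((((iv D53)).symm.trans (sb E601 (tr F12702 E601)))).symm
theorem E888 : n2245 = n435 := ((((iv F840)).symm.trans (sb E602 (iv F3979)))).symm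
theorem E889 : n103 = n18 := (((E887).symm.trans (((iv D103)).symm.trans (sb E603 (tr F12753 E603))))).symm
theorem E890 : n2241 = n18 := (E603).trans E889
theorem E892 : n2243 = n52 := (((D52).symm.trans (sb E890 (iv F3973)))).symm
theorem E896 : n2255 = n1110 := (((D1110).symm.trans (sb E605 D2255))).symm
theorem E900 : n210 = n52 := ((F836).symm.trans (sb E607 (tr (iv F3972) E892)))
theorem E901 : n2254 = n915 := (((D915).symm.trans (sb E607 D2254))).symm
theorem E905 : n416 = n99 := ((((iv D197)).symm.trans (sb E711 (tr (iv F12746) E668)))).symm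
theorem E906 : n415 = n96 := ((D415).symm.trans (sb E711 (tr (iv F6193) E647)))
theorem E908 : n418 = n417 := (((D417).symm.trans (sb E711 (tr (iv D1778) E821)))).symm
theorem E909 : n6883 = n879 := (E613).trans E882
theorem E910 : n1817 = n1728 := ((D1817).symm.trans (sb E909 (tr (iv D6883) E786)))
theorem E913 : n4954 = n4934 := (((D4934).symm.trans (sb E615 D4954))).symm
theorem E918 : n3033 = n1322 := (((D1322).symm.trans (iv (sb E618 (tr (iv D5236) E842))))).symm
theorem E919 : n2694 = n2682 := (((D2682).symm.trans (sb E620 D2694))).symm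
theorem E927 : n4573 = n3120 := (((iv F8247)).symm.trans (sb E626 (iv F5412)))
theorem E928 : n2347 = n561 := (((D561).symm.trans (iv (sb E626 (tr (iv D2522) E833))))).symm
theorem E929 : n2522 = n561 := (E626).trans E928
theorem E930 : n4567 = n1158 := (((D1158).symm.trans (sb E929 (iv F8235)))).symm
theorem E937 : n3111 = n2950 := (((iv F5404)).symm.trans (sb E631 F9319))
theorem E938 : n5567 = n5561 := ((((iv F9869)).symm.trans (sb E631 (iv F9876)))).symm
theorem E939 : n2852 = n661 := (((D661).symm.trans (sb E632 (iv F4990)))).symm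
theorem E942 : n5561 = n1381 := ((((iv F2461)).symm.trans (sb E634 (tr D5567 E938)))).symm
theorem E947 : n1390 = n1383 := ((((iv F2463)).symm.trans (sb E636 D1390))).symm
theorem E950 : n3906 = n1063 := (((F1955).symm.trans (sb E639 F7931))).symm
theorem E951 : n2158 = n1061 := (((F1956).symm.trans (sb E639 (iv D4274)))).symm
theorem E952 : n6978 = n2161 := (((iv F12221)).symm.trans (sb E640 (iv D4278)))
theorem E953 : n6991 = n183 := (E641).trans E857
theorem E954 : n380 = n183 := (((iv F708)).symm.trans (sb E953 (tr (iv D6991) E857)))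
theorem E955 : n6994 = n387 := (E642).trans E646
theorem E957 : n404 = n387 := (((iv F767)).symm.trans (sb E955 (tr F12266 E646)))
theorem E958 : n808 = n385 := (((D385).symm.trans (sb E644 (iv F1435)))).symm
theorem F12835 : act 4 n185 = n185 := (sb E644 (iv D386))
theorem E960 : n191 = n96 := (((F371).symm.trans (sb E644 F726))).symm
theorem E961 : n6986 = n809 := ((((iv F1438)).symm.trans (sb E646 (iv F12248)))).symm
theorem E963 : n1767 = n402 := ((((iv F761)).symm.trans (sb E646 (iv D3620)))).symm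
theorem E964 : n2162 = n190 := (((D190).symm.trans (sb E647 (iv F12785)))).symm
theorem E965 : n402 = n192 := (((D192).symm.trans (sb E647 (tr (iv D3619) E963)))).symm
theorem E966 : n3654 = n1117 := (((D1117).symm.trans (sb E648 F6698))).symm
theorem E967 : n3655 = n1119 := (((D1119).symm.trans (sb E648 (iv F6699)))).symm
theorem E969 : n1035 = n501 := (((D501).symm.trans (sb E649 D1035))).symm
theorem E970 : n1036 = n502 := (((D502).symm.trans (sb E649 D1036))).symm
theorem E971 : n6970 = n1117 := (((D1117).symm.trans (sb E650 (iv F12195)))).symm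
theorem E975 : n6844 = n1090 := (((F1997).symm.trans (sb E654 (iv F11906)))).symm
theorem E976 : n2071 = n264 := (((F1060).symm.trans (sb E654 (iv D4136)))).symm
theorem E977 : n4131 = n551 := ((((iv F1073)).symm.trans (sb E654 (tr (iv F7345) E694)))).symm
theorem E978 : n6843 = n263 := (((D263).symm.trans (sb E655 (iv F11902)))).symm
theorem E979 : n4150 = n1125 := ((((iv F2088)).symm.trans (sb E656 (iv F7342)))).symm
theorem E980 : n2096 = n1126 := (((D1126).symm.trans (sb E656 F3664))).symm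
theorem E981 : n4151 = n551 := (E694).trans E977
theorem E982 : n1011 = n550 := ((((iv F1070)).symm.trans (sb E656 (tr (iv D2079) E689)))).symm
theorem E983 : n242 = n61 := (((E724).symm.trans (((iv D242)).symm.trans (sb E657 (tr F6525 E657))))).symm
theorem E984 : n3764 = n61 := (E657).trans E983
theorem E985 : n3696 = n501 := (E801).trans E969
theorem E986 : n501 = n93 := ((((iv F214)).symm.trans (sb E984 (tr F6524 E985)))).symm
theorem E987 : n6881 = n502 := (E800).trans E970
theorem E988 : n502 = n121 := (((D121).symm.trans (sb E984 (tr (iv F12003) E987)))).symm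
theorem E989 : n1849 = n121 := (E658).trans E988
theorem E990 : n3765 = n245 := (((D245).symm.trans (sb E989 D3765))).symm
theorem E994 : n3680 = n529 := (((F12789).symm.trans (sb E666 (iv F6332)))).symm
theorem E995 : n1888 = n1119 := ((((iv F2078)).symm.trans (sb E667 D1888))).symm
theorem E996 : n912 = n99 := (E668).trans E905
theorem E997 : n99 = n49 := ((((iv D99)).symm.trans (sb E996 (tr F1650 E996)))).symm
theorem E998 : n912 = n49 := (E996).trans E997
theorem E999 : n197 = n47 := (((F113).symm.trans (sb E998 (tr F12747 E707)))).symm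
theorem E1000 : n879 = n95 := ((((iv F219)).symm.trans (sb E998 (tr (iv F12767) E882)))).symm
theorem E1001 : n1895 = n820 := ((D1895).symm.trans (sb E671 (iv D1711)))
theorem E1002 : n2253 = n1896 := (((D1896).symm.trans (sb E671 (iv F3998)))).symm
theorem E1003 : n2252 = n1897 := (((D1897).symm.trans (sb E671 F3995))).symm
theorem E1006 : n3704 = n880 := ((((iv F1596)).symm.trans (sb E673 D3704))).symm
theorem E1010 : n984 = n823 := ((((iv D1718)).symm.trans (sb E676 (tr F11929 E810)))).symm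
theorem E1011 : n6856 = n3535 := (((D3535).symm.trans (sb E676 (iv F11940)))).symm
theorem E1013 : n1718 = n473 := ((((iv F924)).symm.trans (sb E677 (iv D3532)))).symm
theorem E1014 : n474 = n113 := (((iv F927)).symm.trans (sb E677 (tr D6851 E679)))
theorem E1015 : n2174 = n113 := (((E1014).symm.trans (((iv F928)).symm.trans (sb E677 F6054)))).symm
theorem E1016 : n3533 = n227 := (((D227).symm.trans (sb E679 F11919))).symm
theorem E1017 : n4300 = n113 := (((F269).symm.trans (sb E679 F11920))).symm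
theorem E1018 : n4301 = n113 := (E680).trans E1014
theorem E1019 : n3535 = n227 := (((D227).symm.trans (sb E1018 (tr (iv F11938) E1011)))).symm
theorem E1020 : n1072 = n57 := ((((iv D113)).symm.trans (sb E1018 (tr F7667 E752)))).symm
theorem E1021 : n229 = n113 := ((D229).symm.trans (sb E1018 (tr (iv D4301) E1015)))
theorem E1022 : n1798 = n916 := (((D916).symm.trans (iv (sb E681 (tr (iv F4072) E888))))).symm
theorem E1026 : n2291 = n57 := (E752).trans E1020
theorem E1027 : n6846 = n470 := (((D470).symm.trans (iv (sb E682 (tr F11913 E1016))))).symm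
theorem E1028 : n6848 = n470 := (E682).trans E1027
theorem E1029 : n4040 = n978 := (((D978).symm.trans (sb E1028 F11914))).symm
theorem E1030 : n3529 = n977 := (((F1796).symm.trans (sb E1028 (iv D6848)))).symm
theorem E1031 : n3528 = n978 := (((E1029).symm.trans (((iv F7118)).symm.trans (sb E683 (iv F6002))))).symm
theorem E1032 : n4048 = n1046 := (((iv F7134)).symm.trans (sb E683 F3727))
theorem E1033 : n1045 = n982 := (((F3506).symm.trans (sb E683 F3728))).symm
theorem E1035 : n2020 = n1044 := (((iv F3513)).symm.trans (sb E683 (iv D2132)))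
theorem E1036 : n6856 = n227 := (E1011).trans E1019
theorem E1040 : n2077 = n2073 := (((iv F6158)).symm.trans (sb E686 (iv D4141)))
theorem E1042 : n2067 = n265 := (((D265).symm.trans (sb E687 (iv D4132)))).symm
theorem E1043 : n1013 = n550 := (E689).trans E982
theorem E1044 : n2073 = n1135 := ((((iv F2104)).symm.trans (sb E1043 (tr D2077 E1040)))).symm
theorem E1045 : n518 = n488 := ((E753).symm.trans ((D1136).symm.trans (sb E1043 (iv D1013))))
theorem E1046 : n4006 = n1131 := ((((iv F2099)).symm.trans (sb E690 (iv F7332)))).symm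
theorem E1048 : n488 = n487 := (((D487).symm.trans (sb E691 F1862))).symm
theorem E1050 : n3976 = n3501 := ((((iv F7782)).symm.trans (sb E693 (iv F7349)))).symm
theorem E1051 : n2077 = n1135 := (E1040).trans E1044
theorem F12842 : act 5 n4130 = n3978 := (sb E693 F7348)
theorem E1052 : n4130 = n549 := (((D549).symm.trans (iv (sb E693 (tr (iv F11904) E978))))).symm
theorem E1053 : n3978 = n946 := ((((iv F1724)).symm.trans (sb E981 (iv F7346)))).symm
theorem E1054 : n4176 = n1137 := (((D1137).symm.trans (sb E981 (iv F7410)))).symm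
theorem F12843 : act 2 n4133 = n2204 := (sb E696 F7762)
theorem F12844 : act 4 n4133 = n3638 := (sb E696 F7763)
theorem E1055 : n4133 = n868 := (((F2111).symm.trans (iv (sb E696 (tr F7764 E1054))))).symm
theorem E1056 : n4342 = n868 := (E696).trans E1055
theorem E1057 : n2199 = n822 := (((F1567).symm.trans (sb E1056 (iv D4342)))).symm
theorem E1060 : n3679 = n1804 := (((D1804).symm.trans (sb E703 D3679))).symm
theorem E1063 : n2260 = n898 := (((D898).symm.trans (sb E706 D2260))).symm
theorem E1064 : n1776 = n95 := (E882).trans E1000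
theorem E1065 : n1115 = n47 := (E707).trans E999
theorem E1066 : n1812 = n96 := (E797).trans E906
theorem E1067 : n417 = n97 := (((D97).symm.trans (sb E1065 (tr (iv F12770) E881)))).symm
theorem E1068 : n3728 = n2263 := (((D2263).symm.trans (sb E708 (iv F6448)))).symm
theorem E1069 : n3727 = n2264 := (((D2264).symm.trans (sb E708 (iv F6446)))).symm
theorem E1070 : n3735 = n2265 := (((D2265).symm.trans (sb E708 (iv F6465)))).symm
theorem E1071 : n1808 = n1807 := ((((iv F3099)).symm.trans (sb E709 (iv F3101)))).symm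
theorem E1072 : n1777 = n199 := ((((iv D419)).symm.trans (sb E710 (iv F12736)))).symm
theorem E1075 : n418 = n97 := (E908).trans E1067
theorem E1077 : n28 = n6 := ((((iv D28)).symm.trans (sb E713 (tr F12699 E713)))).symm
theorem E1079 : n31 = n7 := ((((iv D31)).symm.trans (sb E714 (tr F12707 E714)))).symm
theorem E1080 : n772 = n367 := (((D367).symm.trans (sb E718 (iv F1385)))).symm
theorem F12846 : act 4 n177 = n177 := (sb E718 (iv D368))
theorem E1082 : n381 = n369 := (((D369).symm.trans (sb E718 (iv F712)))).symm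
theorem E1083 : n4137 = n1091 := ((((iv F2024)).symm.trans (sb E719 (iv F7314)))).symm
theorem E1084 : n4055 = n1736 := ((((iv F2949)).symm.trans (sb E719 F12749))).symm
theorem E1085 : n4467 = n2273 := ((((iv F4036)).symm.trans (sb E720 (iv F8049)))).symm
theorem E1086 : n2013 = n1041 := (((F2084).symm.trans (sb E720 (iv D4047)))).symm
theorem E1088 : n2018 = n1039 := (((D1039).symm.trans (sb E721 (iv F3913)))).symm
theorem E1089 : n1040 = n1027 := ((D1040).symm.trans (sb E721 (iv D2101)))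
theorem E1091 : n3732 = n807 := (((D807).symm.trans (sb E722 F7629))).symm
theorem E1092 : n1127 = n497 := ((D1127).symm.trans (sb E723 F1886))
theorem E1093 : n497 = n496 := ((E1092).symm.trans (((iv F2405)).symm.trans (sb E723 (iv D1028))))
theorem F12847 : act 3 n61 = n61 := (sb E724 (iv D120))
theorem E1100 : n2242 = n916 := (((D916).symm.trans (sb E729 D2242))).symm
theorem E1104 : n3840 = n2251 := (((D2251).symm.trans (sb E731 D3840))).symm
theorem E1105 : n3841 = n1897 := (((E1003).symm.trans ((D2252).symm.trans (sb E731 D3841)))).symm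
theorem E1106 : n3842 = n1896 := (((E1002).symm.trans ((D2253).symm.trans (sb E731 D3842)))).symm
theorem E1125 : n518 = n487 := (E1045).trans E1048
theorem E1126 : n4745 = n487 := (E751).trans E1125
theorem E1127 : n1136 = n487 := (E753).trans E1125
theorem E1129 : n2430 = n487 := (E750).trans E1127
theorem E1130 : n1201 = n624 := (((F1569).symm.trans (sb E747 (iv F2209)))).symm
theorem E1131 : n520 = n413 := ((((iv D869)).symm.trans (sb E747 F1968))).symm
theorem E1133 : n2589 = n580 := (((F1194).symm.trans (sb E749 (iv F4552)))).symm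
theorem E1134 : n4753 = n298 := ((((iv D624)).symm.trans (sb E749 D4753))).symm
theorem E1135 : n1272 = n1200 := (((iv F2313)).symm.trans (sb E749 (iv D2432)))
theorem E1137 : n1200 = n1004 := ((((iv F1850)).symm.trans (sb E1129 (iv D2430)))).symm
theorem E1140 : n1004 = n580 := (((iv F1850)).symm.trans (sb E1126 (tr F8513 E1133)))
theorem E1141 : n487 = n63 := ((((iv F151)).symm.trans (sb E1026 (tr (iv D2291) E1127)))).symm
theorem E1142 : n916 = n59 := ((((iv F143)).symm.trans (sb E1026 (tr F4097 E1022)))).symm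
theorem E1144 : n1136 = n63 := (E1127).trans E1141
theorem E1145 : n1200 = n580 := (E1137).trans E1140
theorem E1146 : n1272 = n580 := (E1135).trans E1145
theorem E1147 : n580 = n69 := ((((iv F163)).symm.trans (sb E1144 (tr (iv F2312) E1146)))).symm
theorem E1148 : n550 = n125 := (((D125).symm.trans (sb E1144 (iv D1136)))).symm
theorem E1149 : n869 = n65 := ((((iv F156)).symm.trans (sb E1144 F2108))).symm
theorem E1161 : n1992 = n460 := (((D460).symm.trans (sb E771 (iv F3452)))).symm
theorem E1164 : n464 = n463 := (((D463).symm.trans (sb E771 (iv D969)))).symm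
theorem E1169 : n970 = n463 := (((E1164).symm.trans ((D464).symm.trans (sb E777 D970)))).symm
theorem E1171 : n56 = n23 := ((((iv D56)).symm.trans (sb E779 (tr F12765 E779)))).symm
theorem E1174 : n3597 = n460 := (((D460).symm.trans (sb E780 (iv F6146)))).symm
theorem E1177 : n3689 = n1939 := ((D3689).symm.trans (sb E781 (iv D3912)))
theorem E1178 : n3687 = n1807 := (((iv F6350)).symm.trans (sb E781 (tr F6840 E781)))
theorem E1179 : n3601 = n874 := ((((iv D1807)).symm.trans (sb E781 F6841))).symm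
theorem E1180 : n3669 = n1799 := ((((iv F3084)).symm.trans (sb E782 (iv F6308)))).symm
theorem E1183 : n3699 = n96 := (E783).trans E906
theorem E1185 : n874 = n190 := (((D190).symm.trans (sb E1183 (tr F6381 E1179)))).symm
theorem E1187 : n3700 = n97 := (E784).trans E1067
theorem E1191 : n7043 = n48 := (((F226).symm.trans (sb E1187 F12408))).symm
theorem E1194 : n3548 = n245 := (((E990).symm.trans ((F11993).symm.trans (sb E785 (tr F7461 E785))))).symm
theorem E1195 : n6879 = n3547 := (((D3547).symm.trans (sb E786 (iv F11997)))).symm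
theorem E1196 : n1730 = n828 := ((((iv D1728)).symm.trans (sb E786 F6049))).symm
theorem E1198 : n3895 = n1920 := ((((iv D3887)).symm.trans (sb E787 F12512))).symm
theorem F12866 : act 5 n3887 = n7090 := (sb E787 F12514)
theorem E1200 : n936 = n452 := (((F1708).symm.trans (sb E788 F3329))).symm
theorem E1201 : n1934 = n941 := ((((iv F1715)).symm.trans (sb E788 (iv F3333)))).symm
theorem E1202 : n934 = n450 := ((((iv D939)).symm.trans (sb E788 (iv D1932)))).symm
theorem E1203 : n1063 = n939 := ((((iv D1941)).symm.trans (sb E789 (tr (iv F6823) E950)))).symm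
theorem E1204 : n3915 = n1807 := (E790).trans E795
theorem E1205 : n3495 = n1939 := (((E1177).symm.trans ((D3689).symm.trans (sb E1204 F6848)))).symm
theorem E1206 : n1941 = n190 := (((E1185).symm.trans (((iv D1807)).symm.trans (sb E1204 (iv D3915))))).symm
theorem E1208 : n3676 = n1799 := (E877).trans E1180
theorem E1212 : n7090 = n3684 := ((((iv F6338)).symm.trans (sb E795 (iv F12503)))).symm
theorem E1213 : n1947 = n1939 := (((E1177).symm.trans ((D3689).symm.trans (sb E795 F6353)))).symm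
theorem E1215 : n2113 = n93 := (E796).trans E986
theorem E1217 : n2116 = n119 := ((((iv F283)).symm.trans (sb E1215 (tr (iv F7471) E798)))).symm
theorem E1219 : n871 = n91 := (((F221).symm.trans (sb E1066 (tr (iv F6312) E832)))).symm
theorem E1221 : n3831 = n119 := (E798).trans E1217
theorem E1222 : n1889 = n97 := (E881).trans E1067
theorem E1223 : n241 = n97 := ((D241).symm.trans (sb E1221 (tr (iv D3831) E1222)))
theorem E1224 : n4206 = n60 := ((((iv D119)).symm.trans (sb E1221 (iv F7478)))).symm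
theorem E1229 : n7136 = n854 := ((((iv F1533)).symm.trans (sb E804 F12612))).symm
theorem E1231 : n4094 = n3615 := ((((iv F6185)).symm.trans (sb E807 (iv F7229)))).symm
theorem E1236 : n7018 = n2131 := ((D7018).symm.trans (sb E809 F7157))
theorem E1237 : n2022 = n2016 := ((((iv F6233)).symm.trans (sb E809 (iv D4057)))).symm
theorem E1238 : n4051 = n823 := (E810).trans E1010
theorem E1239 : n2016 = n1719 := (((D1719).symm.trans (sb E1238 (tr F7144 E1237)))).symm
theorem E1240 : n1720 = n1719 := ((D1720).symm.trans (sb E1238 (tr (iv D4051) E1239)))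
theorem E1241 : n4179 = n1164 := (((E865).symm.trans ((F6206).symm.trans (sb E811 F12297)))).symm
theorem F12876 : act 5 n3627 = n3627 := (sb E811 (iv D7008))
theorem E1247 : n2535 = n2523 := (((D2523).symm.trans (sb E815 D2535))).symm
theorem E1251 : n851 = n97 := (E821).trans E1075
theorem E1252 : n405 = n193 := (((D193).symm.trans (sb E1251 (iv D851)))).symm
theorem E1253 : n199 = n95 := (((F225).symm.trans (sb E1251 (tr D1777 E1072)))).symm
theorem E1255 : n881 = n193 := (((iv F1598)).symm.trans (sb E822 (tr (iv D850) E1252)))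
theorem E1256 : n1328 = n651 := ((D1328).symm.trans (sb E822 F1525))
theorem E1259 : n1775 = n1223 := ((((iv F2240)).symm.trans (sb E822 D1775))).symm
theorem E1260 : n2563 = n1151 := ((D2563).symm.trans (sb E823 F2434))
theorem E1262 : n1151 = n1149 := ((E1260).symm.trans ((F4511).symm.trans (sb E823 (iv F2435))))
theorem E1264 : n2766 = n2560 := ((((iv F4500)).symm.trans (sb E823 (iv F4870)))).symm
theorem E1265 : n1127 = n496 := (E1092).trans E1093
theorem E1266 : n2563 = n1149 := (E1260).trans E1262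
theorem E1267 : n2099 = n1689 := ((D2099).symm.trans (sb E824 (iv F2843)))
theorem E1270 : n4120 = n2562 := (((D2562).symm.trans (sb E826 (iv F7281)))).symm
theorem E1280 : n3670 = n91 := (E832).trans E1219
theorem E1281 : n7061 = n181 := (((D181).symm.trans (sb E1280 (iv F12443)))).symm
theorem E1282 : n1799 = n183 := (((D183).symm.trans (sb E1280 (tr (iv F6322) E1208)))).symm
theorem E1283 : n183 = n177 := ((((iv F363)).symm.trans (sb E1280 (tr (iv D3670) E1282)))).symm
theorem E1284 : n2345 = n2338 := ((((iv F4182)).symm.trans (sb E834 D2345))).symm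
theorem E1296 : n6106 = n2338 := ((((iv F4182)).symm.trans (sb E839 F10755))).symm
theorem E1298 : n33 = n8 := ((((iv D33)).symm.trans (sb E840 (tr F12700 E840)))).symm
theorem E1299 : n76 = n35 := ((((iv D76)).symm.trans (sb E841 (tr F12719 E841)))).symm
theorem E1306 : n378 = n181 := (((D181).symm.trans (sb E850 (iv F706)))).symm
theorem F12888 : act 4 n91 = n91 := (sb E850 (iv D182))
theorem E1307 : n380 = n177 := (E954).trans E1283
theorem E1308 : n270 = n79 := ((((iv F184)).symm.trans (sb E855 D270))).symm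
theorem F12889 : act 3 n67 = n67 := (sb E855 (iv D132))
theorem E1309 : n272 = n133 := (((D133).symm.trans (sb E855 D272))).symm

end Cfsg.Agent.Helper17.HeTC
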