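import Cfsg.Agent.Helper17.HeTC.Facts1

set_option autoImplicit false
set_option linter.all false

noncomputable section

namespace Cfsg.Agent.Helper17.HeTC

theorem E1311 : n3614 = n177 := (E857).trans E1283
theorem E1312 : n1767 = n192 := (E963).trans E965
theorem E1313 : n192 = n185 := ((((iv F370)).symm.trans (sb E1311 (tr F6183 E1312)))).symm
theorem E1316 : n4140 = n1125 := ((((iv F2088)).symm.trans (sb E858 (iv F7320)))).symm
theorem E1318 : n1011 = n125 := (E982).trans E1148
theorem E1319 : n2059 = n590 := (((F1160).symm.trans (sb E859 F7253))).symm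
theorem E1321 : n1272 = n69 := (E1146).trans E1147
theorem E1323 : n4090 = n2562 := (((iv F7224)).symm.trans (sb E862 (tr (iv F7279) E1270)))
theorem E1326 : n2482 = n2049 := ((D2482).symm.trans (iv (sb E862 (tr (iv D3630) E1259))))
theorem E1327 : n1005 = n582 := (((F1169).symm.trans (sb E863 F3589))).symm
theorem E1328 : n4102 = n1269 := ((((iv F2303)).symm.trans (sb E863 D4102))).symm
theorem E1330 : n4103 = n293 := (((F1171).symm.trans (sb E863 D4103))).symm
theorem E1331 : n3627 = n668 := (((F2157).symm.trans (sb E865 (iv F6206)))).symm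
theorem E1332 : n4177 = n2353 := ((((iv F4210)).symm.trans (sb E865 D4177))).symm
theorem E1333 : n1164 = n566 := (((F2159).symm.trans (sb E865 (tr D4179 E1241)))).symm
theorem E1334 : n2098 = n566 := (E865).trans E1333
theorem E1335 : n2012 = n1170 := (((D1170).symm.trans (sb E1334 F3909))).symm
theorem E1336 : n4054 = n669 := (((F2160).symm.trans (sb E866 F7150))).symm
theorem E1337 : n1171 = n1170 := (((iv F2174)).symm.trans (sb E866 (tr (iv D4045) E1335)))
theorem E1338 : n3632 = n397 := ((((iv F750)).symm.trans (sb E867 F12778))).symm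
theorem E1342 : n1038 = n245 := ((F3689).symm.trans (sb E875 (tr (iv F11990) E990)))
theorem E1343 : n6878 = n4191 := ((((iv F7437)).symm.trans (sb E875 F11995))).symm
theorem E1347 : n7071 = n7060 := (((D7060).symm.trans (sb E876 (iv F12455)))).symm
theorem E1349 : n1799 = n177 := (E1282).trans E1283
theorem E1350 : n3676 = n177 := (E1208).trans E1349
theorem E1351 : n7060 = n367 := (((D367).symm.trans (sb E1350 (tr (iv F12454) E1347)))).symm
theorem E1353 : n1777 = n95 := (E1072).trans E1253
theorem E1354 : n1728 = n189 := (((D189).symm.trans (sb E1064 F3033))).symm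
theorem E1355 : n1817 = n189 := (E910).trans E1354
theorem E1357 : n4191 = n2111 := ((E1343).symm.trans ((D6878).symm.trans (sb E883 F6335)))
theorem E1358 : n7083 = n3547 := (((E1195).symm.trans ((D6879).symm.trans (sb E883 (iv F12482))))).symm
theorem E1361 : n51 = n17 := ((((iv D51)).symm.trans (sb E884 (tr F12692 E884)))).symm
theorem E1362 : n2242 = n59 := (E1100).trans E1142
theorem E1363 : n25 = n5 := ((((iv D25)).symm.trans (sb E885 (tr F12712 E885)))).symm
theorem E1364 : n59 = n24 := ((((iv D57)).symm.trans (sb E886 (tr F7910 E1362)))).symm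
theorem E1365 : n57 = n52 := (((D52).symm.trans (sb E887 (iv F137)))).symm
theorem F12897 : act 6 n18 = n18 := (sb E887 (iv D53))
theorem E1370 : n113 = n102 := (((D102).symm.trans (sb E892 (tr (iv F7665) E1017)))).symm
theorem E1373 : n2251 = n1933 := ((D2251).symm.trans (sb E896 (iv F4073)))
theorem E1375 : n3980 = n539 := (((F2065).symm.trans (sb E896 (iv F6979)))).symm
theorem E1385 : n434 = n50 := (((F122).symm.trans (sb E900 (iv F836)))).symm
theorem E1386 : n229 = n102 := (E1021).trans E1370
theorem E1387 : n4426 = n820 := (((E1001).symm.trans ((D1895).symm.trans (sb E901 D4426)))).symm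
theorem E1392 : n305 = n75 := (((F223).symm.trans (sb E1075 F797))).symm
theorem E1393 : n3705 = n395 := (((D395).symm.trans (sb E1355 D3705))).symm
theorem E1394 : n396 = n245 := ((D396).symm.trans (sb E1355 (tr F3119 E1342)))
theorem E1395 : n3702 = n397 := (((D397).symm.trans (sb E1355 (iv F6388)))).symm
theorem E1396 : n3706 = n393 := ((((iv F741)).symm.trans (sb E1355 D3706))).symm
theorem E1397 : n4934 = n1248 := (((F2393).symm.trans (iv (sb E913 (tr F8815 E918))))).symm
theorem E1398 : n4954 = n1248 := (E913).trans E1397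
theorem E1399 : n3191 = n2539 := (((D2539).symm.trans (sb E1398 (iv F8817)))).symm
theorem E1400 : n2916 = n2541 := (((D2541).symm.trans (sb E1398 (iv F8818)))).symm
theorem E1411 : n5826 = n2697 := (((D2697).symm.trans (sb E918 (iv F10350)))).symm
theorem E1412 : n2698 = n1588 := ((D2698).symm.trans (sb E918 F5287))
theorem E1413 : n5933 = n2699 := (((D2699).symm.trans (sb E918 (iv F10507)))).symm
theorem E1414 : n1484 = n1483 := (((F2617).symm.trans (sb E918 (iv D3033)))).symm
theorem E1417 : n5262 = n1475 := ((((iv F4732)).symm.trans (sb E919 D5262))).symm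
theorem E1425 : n3120 = n1157 := ((((iv F2147)).symm.trans (iv (sb E927 (tr F8246 E939))))).symm
theorem E1426 : n4573 = n1157 := (E927).trans E1425
theorem E1427 : n5542 = n723 := (((F2148).symm.trans (sb E1426 (iv F9834)))).symm
theorem E1430 : n3298 = n2336 := ((((iv F4178)).symm.trans (sb E930 (iv F8236)))).symm
theorem E1438 : n1524 = n723 := ((F5162).symm.trans (sb E937 (tr (iv F9832) E1427)))
theorem E1439 : n6086 = n5764 := ((((iv F10220)).symm.trans (sb E937 (iv F10731)))).symm
theorem E1440 : n2950 = n1380 := (((D1380).symm.trans (iv (sb E937 (tr F5404 E939))))).symm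
theorem E1441 : n3111 = n1380 := (E937).trans E1440
theorem E1442 : n2829 = n1521 := ((D2829).symm.trans (sb E1441 F5401))
theorem E1443 : n3113 = n2830 := (((D2830).symm.trans (sb E1441 (iv F5403)))).symm
theorem E1444 : n2831 = n1519 := ((D2831).symm.trans (sb E1441 (iv D3111)))
theorem E1445 : n5567 = n1381 := (E938).trans E942
theorem E1446 : n3206 = n2832 := (((D2832).symm.trans (sb E1445 (iv F9877)))).symm
theorem E1447 : n5580 = n1379 := (((D1379).symm.trans (sb E939 (iv F9897)))).symm
theorem E1454 : n2839 = n2834 := (((D2834).symm.trans (sb E942 (iv D5561)))).symm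
theorem E1457 : n2850 = n2837 := (((D2837).symm.trans (sb E947 D2850))).symm
theorem E1459 : n3906 = n939 := (E950).trans E1203
theorem E1460 : n1935 = n452 := (((F1708).symm.trans (sb E1459 (iv D3906)))).symm
theorem E1461 : n3985 = n450 := ((((iv D939)).symm.trans (sb E1459 (iv F6988)))).symm
theorem E1463 : n1061 = n452 := ((F1950).symm.trans (sb E951 (tr (iv F7930) E1460)))
theorem E1464 : n2158 = n452 := (E951).trans E1463
theorem E1465 : n4275 = n942 := (((D942).symm.trans (sb E1464 D4275))).symm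
theorem E1467 : n3607 = n1761 := (((F3802).symm.trans (sb E952 (iv D6978)))).symm
theorem F12902 : act 3 n2161 = n3617 := (sb E952 F12221)
theorem E1468 : n1761 = n1760 := (((F3803).symm.trans (sb E952 (tr (iv F12222) E1467)))).symm
theorem E1469 : n369 = n91 := (((F362).symm.trans (sb E1307 (tr (iv F710) E1082)))).symm
theorem E1470 : n402 = n185 := (E965).trans E1313
theorem E1471 : n797 = n367 := (((D367).symm.trans (sb E1307 (iv F1413)))).symm
theorem E1474 : n381 = n91 := (E1082).trans E1469
theorem E1475 : n844 = n809 := ((((iv F1438)).symm.trans (sb E957 (iv F1510)))).symm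
theorem E1476 : n833 = n806 := (((D806).symm.trans (sb E958 (iv F1490)))).symm
theorem E1477 : n1701 = n807 := (((D807).symm.trans (sb E958 D1701))).symm
theorem F12904 : act 4 n385 = n385 := (sb E958 (iv D808))
theorem E1478 : n400 = n190 := (((F722).symm.trans (sb E958 F1436))).symm
theorem F12905 : act 4 n96 = n96 := (sb E960 (iv D191))
theorem E1480 : n3610 = n1702 := (((D1702).symm.trans (sb E961 (iv D6986)))).symm
theorem E1481 : n3617 = n842 := ((((iv F1507)).symm.trans (sb E961 (iv F12249)))).symm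
theorem E1483 : n1767 = n185 := (E1312).trans E1313
theorem E1484 : n842 = n385 := (((D385).symm.trans (sb E1483 (tr D3617 E1481)))).symm
theorem E1487 : n939 = n399 := (((D399).symm.trans (sb E964 (tr (iv D2162) E1203)))).symm
theorem E1488 : n3617 = n385 := (E1481).trans E1484
theorem E1491 : n387 = n96 := (((F371).symm.trans (sb E1470 F761))).symm
theorem E1492 : n7028 = n2266 := (((D2266).symm.trans (sb E966 (iv F12353)))).symm
theorem E1493 : n2267 = n1791 := ((D2267).symm.trans (sb E966 (iv D3654)))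
theorem E1495 : n3840 = n1933 := (E1104).trans E1373
theorem E1496 : n1792 = n1713 := (((F2890).symm.trans (sb E966 F6276))).symm
theorem E1498 : n880 = n48 := ((F2078).symm.trans (sb E967 (tr D7043 E1191)))
theorem F12906 : act 5 n1119 = n7045 := (sb E967 D7045)
theorem E1507 : n6967 = n1791 := (((E1493).symm.trans ((D2267).symm.trans (sb E971 F12194)))).symm
theorem E1508 : n3598 = n1933 := (((E1373).symm.trans (((iv F3989)).symm.trans (sb E971 (iv D6970))))).symm
theorem E1509 : n3525 = n548 := ((((iv F1998)).symm.trans (sb E975 (iv D6844)))).symm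
theorem E1510 : n1010 = n254 := (((F536).symm.trans (sb E976 (iv D2071)))).symm
theorem E1511 : n3592 = n547 := (((D547).symm.trans (sb E978 F11903))).symm
theorem E1512 : n3981 = n947 := ((((iv F2090)).symm.trans (sb E979 (iv F7350)))).symm
theorem E1513 : n2279 = n1024 := ((D2279).symm.trans (sb E980 F3661))
theorem E1514 : n1024 = n1023 := ((E1513).symm.trans ((F4052).symm.trans (sb E980 (iv D2096))))
theorem E1516 : n1135 = n253 := (((D253).symm.trans (sb E1318 (tr D2073 E1044)))).symm
theorem E1517 : n265 = n254 := (((D254).symm.trans (sb E1318 (tr (iv F3612) E1042)))).symm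
theorem E1520 : n540 = n119 := ((((iv F283)).symm.trans (sb E986 (iv F1054)))).symm
theorem E1522 : n3552 = n504 := (((D504).symm.trans (sb E990 F11991))).symm
theorem E1523 : n503 = n245 := (((iv F986)).symm.trans (sb E990 (tr (iv F11993) E1194)))
theorem E1524 : n6885 = n506 := (((D506).symm.trans (sb E990 (iv F12019)))).symm
theorem E1530 : n7085 = n1094 := (((D1094).symm.trans (sb E994 D7085))).symm
theorem E1531 : n3828 = n1713 := ((((iv F2891)).symm.trans (sb E995 D3828))).symm
theorem E1533 : n7045 = n915 := ((F12906).symm.trans (sb E995 F3241))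
theorem E1534 : n3830 = n539 := ((((iv D1119)).symm.trans (sb E995 D3830))).symm
theorem F12908 : act 3 n49 = n49 := (sb E997 (iv D99))
theorem E1536 : n1804 = n77 := (((F218).symm.trans (sb E1000 (iv F3091)))).symm
theorem E1538 : n3843 = n1706 := ((((iv F2877)).symm.trans (sb E1001 D3843))).symm
theorem E1539 : n3560 = n391 := ((((iv D820)).symm.trans (sb E1001 (iv F6076)))).symm
theorem E1540 : n3844 = n1712 := (((D1712).symm.trans (sb E1001 D3844))).symm
theorem E1541 : n2093 = n1707 := ((((iv F2879)).symm.trans (sb E1001 F3655))).symm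
theorem E1542 : n3845 = n1110 := ((D3845).symm.trans (sb E1002 (iv D2253)))
theorem E1543 : n2091 = n1118 := ((F3657).symm.trans (sb E1003 F3994))
theorem E1552 : n3704 = n48 := (E1006).trans E1498
theorem E1553 : n1094 = n34 := (((F107).symm.trans (sb E1552 (tr (iv F12488) E1530)))).symm
theorem E1557 : n2005 = n1717 := (((D1717).symm.trans (sb E1010 (iv F3485)))).symm
theorem E1558 : n2021 = n393 := ((((iv D823)).symm.trans (sb E1010 D2021))).symm
theorem E1559 : n473 = n472 := ((E1013).symm.trans ((D1718).symm.trans (sb E1010 (iv D984))))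
theorem E1560 : n2023 = n395 := (((F1466).symm.trans (sb E1010 D2023))).symm
theorem E1561 : n472 = n227 := ((E1559).symm.trans ((D473).symm.trans (sb E1036 (tr (iv D6856) E1019))))
theorem E1562 : n473 = n227 := (E1559).trans E1561
theorem E1563 : n1718 = n227 := (E1013).trans E1562
theorem E1564 : n977 = n470 := (((D470).symm.trans (sb E1563 (tr (iv F6004) E1030)))).symm
theorem E1565 : n823 = n471 := (((D471).symm.trans (sb E1563 (iv D1718)))).symm
theorem E1566 : n474 = n102 := (E1014).trans E1370
theorem E1570 : n207 = n102 := ((D207).symm.trans (sb E1566 (tr F928 E1386)))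
theorem E1571 : n2174 = n102 := (E1015).trans E1370
theorem E1572 : n227 = n206 := (((D206).symm.trans (sb E1571 (tr F6053 E1019)))).symm
theorem E1573 : n1072 = n52 := (E1020).trans E1365
theorem E1574 : n4300 = n102 := (E1017).trans E1370
theorem E1575 : n3533 = n206 := (E1016).trans E1572
theorem E1576 : n2017 = n429 := (((D429).symm.trans (sb E1575 F6016))).symm
theorem E1577 : n6854 = n430 := (((D430).symm.trans (sb E1575 D6854))).symm
theorem E1578 : n430 = n206 := (((D206).symm.trans (sb E1574 (tr (iv F11932) E1577)))).symm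
theorem E1579 : n3535 = n206 := (E1019).trans E1572
theorem E1580 : n6849 = n428 := (((D428).symm.trans (sb E1579 (iv F11915)))).symm
theorem E1581 : n1731 = n429 := (((D429).symm.trans (sb E1579 F6020))).symm
theorem E1583 : n518 = n63 := (E1125).trans E1141
theorem E1584 : n63 = n50 := (((F122).symm.trans (sb E1573 (tr (iv D1072) E1583)))).symm
theorem E1586 : n916 = n24 := (E1142).trans E1364
theorem E1587 : n1798 = n24 := (E1022).trans E1586
theorem E1589 : n65 = n27 := ((((iv F61)).symm.trans (sb E1587 (tr (iv D1798) E1149)))).symm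
theorem E1597 : n3529 = n470 := (E1030).trans E1564
theorem E1599 : n471 = n429 := ((F1797).symm.trans (sb E1029 (tr F7118 E1576)))
theorem E1600 : n2009 = n2008 := (((D2008).symm.trans (sb E1029 F7119))).symm
theorem E1601 : n4043 = n2010 := (((D2010).symm.trans (sb E1029 (iv F7126)))).symm
theorem E1603 : n1717 = n978 := (((D978).symm.trans (sb E1597 (iv D3529)))).symm
theorem E1604 : n470 = n428 := ((F918).symm.trans (sb E1597 (tr D6849 E1580)))
theorem E1605 : n2005 = n978 := (E1557).trans E1603
theorem E1606 : n2868 = n2007 := (((D2007).symm.trans (sb E1031 F6000))).symm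
theorem E1607 : n2127 = n2008 := (((D2008).symm.trans (sb E1031 (iv F6003)))).symm
theorem E1608 : n4212 = n2008 := (((E1600).symm.trans ((D2009).symm.trans (sb E1031 (iv F7494))))).symm
theorem E1609 : n2010 = n1724 := ((D2010).symm.trans (sb E1031 F6001))
theorem E1610 : n1046 = n901 := (((D901).symm.trans (iv (sb E1032 (tr F7134 E1576))))).symm
theorem E1611 : n4048 = n901 := (E1032).trans E1610
theorem E1612 : n2014 = n1863 := (((D1863).symm.trans (sb E1611 F7135))).symm
theorem E1613 : n1863 = n1041 := (((iv F3780)).symm.trans (sb E1611 (tr (iv D4048) E1086)))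
theorem E1615 : n2014 = n1041 := (E1612).trans E1613
theorem E1616 : n1041 = n506 := ((E1615).symm.trans (((iv F3500)).symm.trans (sb E1033 F1913)))
theorem E1619 : n2013 = n506 := (E1086).trans E1616
theorem E1620 : n4043 = n1724 := (E1601).trans E1609
theorem E1624 : n1044 = n904 := (((D904).symm.trans (iv (sb E1035 (tr F3513 E1576))))).symm
theorem E1628 : n2077 = n253 := (E1051).trans E1516
theorem E1631 : n548 = n519 := ((((iv F1016)).symm.trans (sb E1628 (tr F6158 E1509)))).symm
theorem E1635 : n2067 = n254 := (E1042).trans E1517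
theorem E1636 : n293 = n282 := ((((iv F568)).symm.trans (sb E1635 (tr (iv F7251) E1330)))).symm
theorem E1637 : n549 = n525 := ((((iv F1023)).symm.trans (sb E1635 (tr D4130 E1052)))).symm
theorem E1638 : n1008 = n264 := ((((iv F536)).symm.trans (sb E1635 (iv D2067)))).symm
theorem E1639 : n2073 = n253 := (E1044).trans E1516
theorem E1641 : n4139 = n524 := (((D524).symm.trans (sb E1639 D4139))).symm
theorem E1642 : n4130 = n525 := (E1052).trans E1637
theorem E1643 : n1125 = n526 := (((D526).symm.trans (sb E1639 (tr D4140 E1316)))).symm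
theorem E1644 : n518 = n50 := (E1583).trans E1584
theorem E1645 : n69 = n32 := (((F115).symm.trans (sb E1644 (tr (iv F1124) E1147)))).symm
theorem E1646 : n250 = n100 := (((D100).symm.trans (sb E1644 (iv D518)))).symm
theorem E1649 : n1131 = n547 := ((((iv D1131)).symm.trans (sb E1046 (tr F7040 E1046)))).symm
theorem E1664 : n3900 = n2201 := (((F5943).symm.trans (sb E1050 F6967))).symm
theorem E1665 : n2206 = n2201 := ((F5944).symm.trans (sb E1050 (tr F6968 E1664)))
theorem E1667 : n3591 = n1699 := ((((iv D3501)).symm.trans (sb E1050 F6969))).symm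
theorem E1670 : n1089 = n946 := ((D1089).symm.trans (sb E1642 (tr F12842 E1053)))
theorem E1671 : n1973 = n454 := ((((iv D946)).symm.trans (sb E1053 (iv D3978)))).symm
theorem E1672 : n2292 = n2203 := ((D2292).symm.trans (sb E1054 F7409))
theorem E1673 : n2293 = n2095 := ((D2293).symm.trans (sb E1054 (iv D4176)))
theorem E1675 : n2204 = n1797 := (((D1797).symm.trans (sb E1055 F12843))).symm
theorem E1676 : n2068 = n412 := ((((iv D868)).symm.trans (sb E1055 (iv D4133)))).symm
theorem E1677 : n3638 = n1784 := ((((iv F3050)).symm.trans (sb E1055 F12844))).symm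
theorem E1678 : n4338 = n786 := (((F1464).symm.trans (sb E1057 (iv F7746)))).symm
theorem E1679 : n1714 = n1086 := ((D1714).symm.trans (sb E1057 F3873))
theorem E1681 : n4340 = n1715 := (((D1715).symm.trans (sb E1057 (iv F7755)))).symm
theorem E1682 : n1716 = n1084 := ((D1716).symm.trans (sb E1057 (iv D2199)))
theorem E1691 : n3679 = n77 := (E1060).trans E1536
theorem E1694 : n3547 = n155 := (((D155).symm.trans (sb E1691 (tr D7083 E1358)))).symm
theorem E1698 : n2165 = n1854 := (((D1854).symm.trans (sb E1063 F4009))).symm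
theorem E1700 : n2166 = n1856 := (((D1856).symm.trans (sb E1063 (iv F4008)))).symm
theorem E1702 : n193 = n119 := ((D193).symm.trans (sb E1067 (tr F1055 E1520)))
theorem E1705 : n3708 = n1828 := ((F6408).symm.trans (sb E1068 (iv D3728)))
theorem E1707 : n4286 = n1833 := (((iv F7641)).symm.trans (sb E1069 F6444))
theorem E1709 : n4285 = n3774 := (((iv F7637)).symm.trans (sb E1070 (iv F6552)))
theorem E1710 : n3685 = n3684 := ((((iv F6338)).symm.trans (sb E1071 (iv F6342)))).symm
theorem E1711 : n3691 = n1939 := (((E1177).symm.trans ((D3689).symm.trans (sb E1071 D3691)))).symm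
theorem E1712 : n397 = n189 := (((D189).symm.trans (sb E1353 (tr D3632 E1338)))).symm
theorem F12915 : act 6 n6 = n6 := (sb E1077 (iv D28))
theorem E1715 : n71 = n30 := (((D30).symm.trans (sb E1079 D71))).symm
theorem F12916 : act 6 n7 = n7 := (sb E1079 (iv D31))
theorem E1716 : n788 = n770 := (((D770).symm.trans (sb E1080 (iv F1406)))).symm
theorem E1717 : n1626 = n771 := (((D771).symm.trans (sb E1080 D1626))).symm
theorem F12917 : act 4 n367 = n367 := (sb E1080 (iv D772))
theorem E1718 : n799 = n773 := (((D773).symm.trans (sb E1080 (iv F1419)))).symm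
theorem E1722 : n773 = n181 := (((D181).symm.trans (sb E1474 (tr (iv F1417) E1718)))).symm
theorem E1724 : n2072 = n527 := ((((iv D1091)).symm.trans (sb E1083 (iv D4137)))).symm
theorem E1725 : n524 = n391 := (((E1539).symm.trans ((D3560).symm.trans (sb E1084 (tr (iv F7318) E1641))))).symm
theorem E1726 : n832 = n393 := (((iv D1736)).symm.trans (sb E1084 (tr (iv D4055) E1558)))
theorem E1728 : n4451 = n2286 := ((D4451).symm.trans (sb E1085 (iv D4467)))
theorem E1729 : n4450 = n4125 := (((iv F8013)).symm.trans (sb E1085 F8048))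
theorem F12918 : act 2 n506 = n981 := (sb E1619 F3498)
theorem E1732 : n4052 = n2124 := (((D2124).symm.trans (sb E1088 D4052))).symm
theorem E1733 : n1027 = n505 := (((F1104).symm.trans (iv (sb E1089 (tr (iv F2158) E1333))))).symm
theorem E1734 : n1040 = n505 := (E1089).trans E1733
theorem E1736 : n1047 = n901 := (((E1610).symm.trans ((D1046).symm.trans (sb E1734 (iv F1919))))).symm
theorem E1739 : n4235 = n1695 := ((((iv F2852)).symm.trans (sb E1091 (iv F7542)))).symm
theorem E1740 : n3731 = n1697 := (((D1697).symm.trans (sb E1091 F6459))).symm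
theorem E1741 : n1698 = n1697 := ((D1698).symm.trans (sb E1091 (tr F6460 E1740)))
theorem E1742 : n1832 = n1699 := (((D1699).symm.trans (sb E1091 (iv D3732)))).symm
theorem E1743 : n2156 = n1700 := (((D1700).symm.trans (sb E1091 F6461))).symm
theorem E1744 : n545 = n97 := (((E1223).symm.trans (((iv D496)).symm.trans (sb E1265 (iv D1127))))).symm
theorem E1745 : n496 = n95 := (((F225).symm.trans (iv (sb E1265 (tr F2405 E1744))))).symm
theorem E1746 : n1127 = n95 := (E1265).trans E1745
theorem E1748 : n2279 = n1023 := (E1513).trans E1514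
theorem E1749 : n1023 = n46 := ((((iv D95)).symm.trans (sb E1746 (tr (iv F4051) E1748)))).symm
theorem E1750 : n497 = n95 := (E1093).trans E1745
theorem E1752 : n505 = n189 := (((D189).symm.trans (sb E1750 (iv F989)))).symm
theorem E1767 : n7047 = n3902 := (((D3902).symm.trans (sb E1495 (iv F12405)))).symm
theorem E1768 : n7046 = n3903 := (((D3903).symm.trans (sb E1495 (iv F12401)))).symm
theorem E1769 : n3902 = n1707 := (((E1541).symm.trans (((iv F3656)).symm.trans (sb E1105 (tr (iv F12403) E1767))))).symm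
theorem E1770 : n3903 = n1712 := (((E1540).symm.trans (((iv F6712)).symm.trans (sb E1106 (tr (iv F12399) E1768))))).symm
theorem E1780 : n580 = n32 := (E1147).trans E1645
theorem E1783 : n2589 = n32 := (E1133).trans E1780
theorem E1784 : n1272 = n32 := (E1321).trans E1645
theorem E1788 : n582 = n298 := ((((iv D624)).symm.trans (sb E1130 F2210))).symm
theorem E1790 : n940 = n867 := ((((iv F1562)).symm.trans (sb E1131 F1711))).symm
theorem E1791 : n251 = n202 := (((F788).symm.trans (sb E1131 (iv D520)))).symm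
theorem E1792 : n528 = n196 := ((((iv D413)).symm.trans (sb E1131 (iv F1031)))).symm
theorem E1793 : n254 = n201 := (((F789).symm.trans (sb E1131 F1018))).symm
theorem E1797 : n5063 = n72 := (((D72).symm.trans (sb E1783 D5063))).symm
theorem E1799 : n278 = n72 := ((F595).symm.trans (sb E1134 (tr (iv F8998) E1797)))
theorem E1800 : n612 = n72 := (((D72).symm.trans (sb E1784 (iv D1272)))).symm
theorem E1816 : n265 = n201 := (E1517).trans E1793
theorem E1818 : n264 = n202 := (((E1791).symm.trans (((iv F513)).symm.trans (sb E1148 (iv D550))))).symm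
theorem E1833 : n4005 = n957 := (((D957).symm.trans (sb E1161 (iv F7037)))).symm
theorem E1834 : n3590 = n449 := (((F895).symm.trans (sb E1161 (iv F6132)))).symm
theorem E1847 : n1795 = n960 := ((((iv F1758)).symm.trans (sb E1169 (iv F3075)))).symm
theorem F12930 : act 3 n23 = n23 := (sb E1171 (iv D56))
theorem E1856 : n1791 = n959 := (((D959).symm.trans (sb E1174 (tr D6967 E1507)))).symm
theorem E1859 : n3977 = n3910 := ((((iv F6834)).symm.trans (sb E1177 (iv F6971)))).symm
theorem E1860 : n3910 = n945 := (((F3345).symm.trans (sb E1177 (tr (iv F6972) E1859)))).symm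
theorem E1861 : n1948 = n1699 := (((iv F3364)).symm.trans (sb E1177 (tr F6356 E1667)))
theorem E1863 : n3684 = n3682 := (((iv F6338)).symm.trans (sb E1178 F6348))
theorem E1869 : n1805 = n398 := (((D398).symm.trans (sb E1185 D1805))).symm
theorem E1870 : n837 = n399 := (((D399).symm.trans (sb E1185 F1583))).symm
theorem E1873 : n3702 = n189 := (E1395).trans E1712
theorem E1876 : n6878 = n2111 := (E1343).trans E1357
theorem E1877 : n2111 = n273 := ((((iv F556)).symm.trans (sb E1194 (tr (iv F11994) E1876)))).symm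
theorem E1878 : n1729 = n504 := (((D504).symm.trans (sb E1194 F6047))).symm
theorem E1880 : n6879 = n155 := (E1195).trans E1694
theorem E1881 : n6878 = n273 := (E1876).trans E1877
theorem E1882 : n318 = n155 := (((iv F622)).symm.trans (sb E1880 (tr (iv D6879) E1694)))
theorem E1883 : n3540 = n1725 := ((((iv F2923)).symm.trans (sb E1196 (iv F6030)))).symm
theorem E1884 : n904 = n395 := ((((iv D828)).symm.trans (sb E1196 (tr F2942 E1624)))).symm
theorem E1885 : n3554 = n429 := (((E1581).symm.trans ((D1731).symm.trans (sb E1196 D3554)))).symm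
theorem E1887 : n3921 = n3867 := ((((iv F6756)).symm.trans (sb E1198 (iv F6863)))).symm
theorem E1888 : n1929 = n931 := (((F3305).symm.trans (sb E1198 F6806))).symm
theorem E1889 : n3897 = n1922 := ((((iv F3312)).symm.trans (sb E1198 (iv F6809)))).symm
theorem E1890 : n1927 = n929 := ((((iv D1920)).symm.trans (sb E1198 (iv D3895)))).symm
theorem E1891 : n3685 = n3682 := (E1710).trans E1863
theorem E1892 : n7090 = n3682 := (E1212).trans E1863
theorem F12934 : act 2 n452 = n452 := (sb E1200 F1702)
theorem E1893 : n1936 = n942 := (((D942).symm.trans (sb E1200 D1936))).symm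
theorem E1894 : n449 = n217 := ((((iv D452)).symm.trans (sb E1200 (iv D936)))).symm
theorem E1895 : n3904 = n1942 := (((D1942).symm.trans (sb E1201 D3904))).symm
theorem E1896 : n935 = n451 := ((((iv D941)).symm.trans (sb E1201 (iv D1934)))).symm
theorem F12936 : act 2 n450 = n450 := (sb E1202 F1698)
theorem E1897 : n1931 = n938 := (((D938).symm.trans (sb E1202 D1931))).symm
theorem E1898 : n1063 = n399 := (E1203).trans E1487
theorem E1899 : n2147 = n834 := ((((iv F1492)).symm.trans (sb E1898 (iv F3761)))).symm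
theorem E1900 : n838 = n452 := ((D838).symm.trans (sb E1898 (tr F1956 E1463)))
theorem E1901 : n839 = n513 := ((D839).symm.trans (sb E1898 (iv D1063)))
theorem E1902 : n1059 = n840 := (((D840).symm.trans (sb E1898 F1957))).symm
theorem E1903 : n6804 = n3867 := ((((iv F6757)).symm.trans (sb E1205 (iv F11781)))).symm
theorem E1904 : n1697 = n945 := (((E1860).symm.trans (((iv F6834)).symm.trans (sb E1205 (tr F5926 E1741))))).symm
theorem E1905 : n1942 = n1699 := (((E1861).symm.trans (((iv F3364)).symm.trans (sb E1205 F5927)))).symm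
theorem E1906 : n4343 = n937 := ((((iv D1939)).symm.trans (sb E1205 (iv F7770)))).symm
theorem E1907 : n3887 = n398 := (((D398).symm.trans (sb E1206 (iv F6790)))).symm
theorem E1908 : n7071 = n367 := (E1347).trans E1351
theorem E1910 : n3867 = n3584 := (((F6336).symm.trans (sb E1892 (tr F12504 E1887)))).symm
theorem E1911 : n3683 = n398 := ((F6341).symm.trans (sb E1892 (tr (iv F12866) E1907)))
theorem E1912 : n3682 = n806 := ((((iv F1432)).symm.trans (iv (sb E1892 (tr (iv D7090) E1911))))).symm
theorem E1913 : n3921 = n3584 := (E1887).trans E1910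
theorem E1914 : n3904 = n1699 := (E1895).trans E1905
theorem E1915 : n943 = n937 := ((((iv D1939)).symm.trans (sb E1213 (iv D1947)))).symm
theorem E1918 : n269 = n75 := (((F223).symm.trans (sb E1223 (iv F547)))).symm
theorem E1921 : n539 = n118 := (((D118).symm.trans (sb E1224 (tr F7479 E1534)))).symm
theorem E1926 : n3724 = n1784 := (((D1784).symm.trans (sb E1229 (iv D7136)))).symm
theorem E1929 : n4180 = n1689 := (((E1267).symm.trans ((F6184).symm.trans (sb E1231 (iv F7417))))).symm
theorem E1936 : n4224 = n2131 := (((iv F7513)).symm.trans (sb E1236 (tr F12325 E1236)))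
theorem E1937 : n2124 = n1043 := ((((iv D2131)).symm.trans (sb E1236 (tr F12326 E1732)))).symm
theorem E1940 : n3637 = n824 := (((F2904).symm.trans (sb E1239 (iv F6236)))).symm
theorem E1941 : n982 = n981 := (((iv F2907)).symm.trans (sb E1239 (iv D2016)))
theorem E1944 : n825 = n824 := (((F2904).symm.trans (sb E1240 F2909))).symm
theorem E1945 : n823 = n429 := (E1565).trans E1599
theorem E1952 : n4959 = n4938 := (((D4938).symm.trans (sb E1247 D4959))).symm
theorem E1954 : n4961 = n2909 := ((((iv F5075)).symm.trans (sb E1247 D4961))).symm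
theorem E1959 : n154 = n77 := (((F218).symm.trans (sb E1253 F397))).symm
theorem E1961 : n881 = n119 := (E1255).trans E1702
theorem E1962 : n637 = n131 := ((((iv F302)).symm.trans (sb E1961 F1598))).symm
theorem E1965 : n651 = n311 := ((((iv D651)).symm.trans (sb E1256 (tr F2402 E1256)))).symm
theorem E1966 : n1328 = n311 := (E1256).trans E1965
theorem E1967 : n151 = n131 := (((iv D311)).symm.trans (sb E1966 (tr (iv D1328) E1962)))
theorem E1968 : n2708 = n652 := (((D652).symm.trans (sb E1966 D2708))).symm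
theorem E1971 : n2480 = n648 := ((((iv F1226)).symm.trans (sb E1966 (iv F4385)))).symm
theorem E1980 : n1260 = n557 := ((((iv D1149)).symm.trans (sb E1266 (iv D2563)))).symm
theorem E1983 : n5006 = n2316 := ((((iv F4145)).symm.trans (sb E1266 (iv F8893)))).symm
theorem E1992 : n2318 = n2316 := ((((iv F4145)).symm.trans (sb E1262 (iv F4149)))).symm
theorem E1996 : n5405 = n5007 := (((D5007).symm.trans (sb E1264 D5405))).symm
theorem E1999 : n1689 = n1153 := (((F2842).symm.trans (sb E1267 (tr D4180 E1929)))).symm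
theorem E2000 : n2099 = n1153 := (E1267).trans E1999
theorem E2001 : n2562 = n1148 := (((F2139).symm.trans (sb E2000 (tr F7282 E1270)))).symm
theorem E2002 : n2279 = n46 := (E1748).trans E1749
theorem E2012 : n379 = n367 := ((D379).symm.trans (sb E1281 (tr (iv F12456) E1908)))
theorem E2016 : n4571 = n4561 := (((D4561).symm.trans (sb E1284 D4571))).symm
theorem E2028 : n4561 = n3118 := ((D4561).symm.trans (sb E1296 (iv D6106)))
theorem E2029 : n6437 = n4558 := ((((iv F8209)).symm.trans (sb E1296 (iv F11179)))).symm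
theorem F12965 : act 6 n8 = n8 := (sb E1298 (iv D33))
theorem F12966 : act 3 n35 = n35 := (sb E1299 (iv D76))
theorem E2032 : n790 = n376 := (((D376).symm.trans (sb E1306 (iv F1410)))).symm
theorem E2033 : n796 = n377 := (((D377).symm.trans (sb E1306 D796))).symm
theorem F12970 : act 4 n181 = n181 := (sb E1306 (iv D378))
theorem E2035 : n561 = n158 := (((D158).symm.trans (sb E1308 D561))).symm
theorem E2036 : n563 = n159 := (((D159).symm.trans (sb E1308 D563))).symm
theorem E2038 : n564 = n273 := (((D273).symm.trans (sb E1309 D564))).symm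
theorem E2046 : n1009 = n196 := (((E1792).symm.trans ((F1136).symm.trans (sb E1319 F3597)))).symm
theorem E2048 : n4112 = n583 := (((F1137).symm.trans (sb E1319 (iv F7265)))).symm
theorem E2049 : n1005 = n298 := (E1327).trans E1788
theorem E2050 : n4090 = n1148 := (E1323).trans E2001
theorem E2051 : n2049 = n650 := (((F2128).symm.trans (sb E2050 F7224))).symm
theorem E2054 : n2482 = n650 := (E1326).trans E2051
theorem E2057 : n1223 = n310 := ((((iv D650)).symm.trans (sb E2054 (iv D2482)))).symm
theorem E2060 : n2057 = n621 := ((((iv F1186)).symm.trans (sb E2049 D2057))).symm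
theorem E2061 : n2058 = n144 := (((F596).symm.trans (sb E2049 D2058))).symm
theorem E2062 : n1205 = n621 := ((F2302).symm.trans (sb E1328 (tr F7249 E2060)))
theorem E2063 : n4103 = n282 := (E1330).trans E1636
theorem E2064 : n292 = n144 := (((iv F584)).symm.trans (sb E2063 (tr F7250 E2061)))
theorem E2067 : n668 = n320 := (((F1244).symm.trans (sb E1331 (tr F12876 E1331)))).symm
theorem E2068 : n3627 = n320 := (E1331).trans E2067
theorem E2069 : n4044 = n674 := (((D674).symm.trans (sb E2068 (iv F7127)))).symm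
theorem E2070 : n4039 = n2859 := ((((iv F5000)).symm.trans (sb E1332 F7412))).symm
theorem E2071 : n4035 = n2364 := ((((iv F4231)).symm.trans (sb E1332 F7413))).symm
theorem E2072 : n2353 = n1168 := ((((iv F2165)).symm.trans (sb E1333 (iv F4210)))).symm
theorem E2073 : n2364 = n2362 := ((((iv F4224)).symm.trans (sb E1335 (tr (iv F7114) E2071)))).symm
theorem E2076 : n675 = n674 := (((iv F1249)).symm.trans (sb E1336 (tr F7149 E2069)))
theorem E2078 : n1165 = n567 := (((F2170).symm.trans (sb E1337 F2174))).symm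
theorem E2088 : n2121 = n504 := (((D504).symm.trans (sb E1342 D2121))).symm
theorem E2089 : n566 = n155 := ((D566).symm.trans (sb E1881 (tr (iv D6878) E1694)))
theorem E2092 : n3685 = n806 := (E1891).trans E1912
theorem E2093 : n3684 = n806 := (E1863).trans E1912
theorem E2096 : n828 = n395 := (((D395).symm.trans (sb E1354 (iv D1728)))).symm
theorem E2097 : n3550 = n393 := ((((iv F741)).symm.trans (sb E1354 D3550))).symm
theorem F12978 : act 6 n17 = n17 := (sb E1361 (iv D51))
theorem F12979 : act 6 n5 = n5 := (sb E1363 (iv D25))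
theorem F12980 : act 6 n52 = n24 := (sb E1365 (iv D57))
theorem E2104 : n4424 = n3896 := ((((iv F6807)).symm.trans (sb E1373 D4424))).symm
theorem E2106 : n1975 = n1117 := (((iv F3410)).symm.trans (sb E1373 F3989))
theorem E2107 : n3980 = n118 := (E1375).trans E1921
theorem E2108 : n1117 = n238 := (((D238).symm.trans (sb E2107 (tr (iv D3980) E2106)))).symm
theorem E2115 : n915 = n100 := (((D100).symm.trans (sb E1385 D915))).symm
theorem E2117 : n4295 = n1712 := (((D1712).symm.trans (sb E1387 F12201))).symm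
theorem E2118 : n6969 = n1707 := ((((iv F2879)).symm.trans (sb E1387 (iv F12203)))).symm
theorem E2121 : n635 = n81 := ((((iv F185)).symm.trans (sb E1392 (iv F1211)))).symm
theorem E2123 : n829 = n504 := ((D829).symm.trans (sb E1393 (tr F6397 E2088)))
theorem E2124 : n1869 = n830 := (((D830).symm.trans (sb E1393 F6398))).symm
theorem E2126 : n320 = n273 := ((((iv F556)).symm.trans (sb E1394 F748))).symm
theorem E2128 : n824 = n506 := (((D506).symm.trans (sb E1394 (iv F1469)))).symm
theorem E2129 : n830 = n395 := (((D395).symm.trans (sb E1873 (tr F6390 E2124)))).symm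
theorem E2131 : n1856 = n188 := ((((iv D393)).symm.trans (sb E1396 F6401))).symm
theorem E2132 : n825 = n506 := (E1944).trans E2128
theorem E2134 : n5677 = n4966 := ((((iv F8830)).symm.trans (sb E1399 (iv F10030)))).symm
theorem E2138 : n4971 = n1560 := ((D4971).symm.trans (sb E1399 (iv D3191)))
theorem E2139 : n5678 = n4968 := ((((iv F8833)).symm.trans (sb E1400 (iv F10032)))).symm
theorem E2140 : n4974 = n1424 := ((D4974).symm.trans (sb E1400 (iv D2916)))
theorem E2141 : n5711 = n4973 := ((((iv F8837)).symm.trans (sb E1400 D5711))).symm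
theorem E2142 : n1424 = n1423 := (((F4465).symm.trans (sb E1400 (tr (iv F8840) E2140)))).symm
theorem E2144 : n4974 = n1423 := (E2140).trans E2142
theorem E2145 : n5266 = n2990 := ((D5266).symm.trans (sb E1411 F10349))
theorem E2147 : n2998 = n2980 := ((F5255).symm.trans (sb E1411 F10351))
theorem E2151 : n5271 = n756 := ((((iv D1588)).symm.trans (sb E1412 D5271))).symm
theorem E2152 : n3032 = n3029 := ((((iv F5282)).symm.trans (sb E1413 (iv D5933)))).symm
theorem E2153 : n3030 = n707 := ((D3030).symm.trans (sb E1414 (iv D1484)))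
theorem E2154 : n707 = n706 := ((((iv D1483)).symm.trans (sb E1414 (tr (iv F5283) E2153)))).symm
theorem E2155 : n756 = n703 := ((((iv D1475)).symm.trans (sb E1417 (tr (iv F9394) E2151)))).symm
theorem E2156 : n3030 = n706 := (E2153).trans E2154
theorem E2158 : n1380 = n341 := ((((iv D723)).symm.trans (sb E1427 (tr F9833 E1440)))).symm
theorem E2159 : n5544 = n1520 := (((D1520).symm.trans (sb E1427 (iv F9840)))).symm
theorem E2161 : n4556 = n1604 := ((D4556).symm.trans (sb E1430 (iv D3298)))
theorem E2162 : n6441 = n4557 := (((D4557).symm.trans (sb E1430 D6441))).symm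
theorem E2164 : n2950 = n341 := (E1440).trans E2158
theorem E2165 : n3094 = n1518 := (((D1518).symm.trans (sb E1438 (iv F5375)))).symm
theorem E2166 : n1519 = n726 := ((D1519).symm.trans (sb E1438 F2670))
theorem E2167 : n1526 = n1520 := (((D1520).symm.trans (sb E1438 (iv F2672)))).symm
theorem E2168 : n1521 = n724 := ((D1521).symm.trans (sb E1438 (iv D1524)))
theorem E2169 : n5764 = n2825 := (((D2825).symm.trans (iv (sb E1439 (tr F10732 E1447))))).symm
theorem E2170 : n6086 = n2825 := (E1439).trans E2169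
theorem E2171 : n5530 = n3108 := ((D5530).symm.trans (sb E2170 F10733))
theorem E2173 : n5532 = n3106 := ((D5532).symm.trans (sb E2170 (iv D6086)))
theorem E2174 : n2825 = n720 := ((((iv F1324)).symm.trans (sb E2164 (tr (iv F10220) E2169)))).symm
theorem E2175 : n1442 = n724 := (((D724).symm.trans (sb E2164 F5163))).symm
theorem E2176 : n2952 = n725 := (((D725).symm.trans (sb E2164 (iv F5170)))).symm
theorem E2177 : n1440 = n726 := (((D726).symm.trans (sb E2164 (iv D2950)))).symm
theorem E2178 : n2829 = n724 := (E1442).trans E2168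
theorem E2179 : n3108 = n1512 := ((((iv F2654)).symm.trans (sb E2178 (tr (iv F9811) E2171)))).symm
theorem E2180 : n5540 = n1522 := (((D1522).symm.trans (sb E2178 D5540))).symm
theorem E2182 : n1520 = n1441 := (((F4958).symm.trans (sb E1443 (tr F5402 E2167)))).symm
theorem E2185 : n5544 = n1441 := (E2159).trans E2182
theorem E2186 : n2831 = n726 := (E1444).trans E2166
theorem E2187 : n3106 = n1514 := ((((iv F2656)).symm.trans (sb E2186 (tr (iv F9813) E2173)))).symm
theorem E2189 : n5546 = n1527 := (((D1527).symm.trans (sb E2186 D5546))).symm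
theorem E2191 : n6123 = n5547 := (((D5547).symm.trans (sb E1446 (iv F10768)))).symm
theorem E2192 : n1567 = n1522 := (((E2180).symm.trans (((iv F9827)).symm.trans (sb E1446 F5518)))).symm
theorem E2193 : n5548 = n3208 := ((D5548).symm.trans (sb E1446 (iv F5522)))
theorem E2194 : n5549 = n1565 := ((D5549).symm.trans (sb E1446 (iv D3206)))
theorem E2200 : n5551 = n3294 := ((D5551).symm.trans (sb E1454 (iv F8218)))
theorem E2203 : n4571 = n3118 := (E2016).trans E2028
theorem E2204 : n5581 = n5556 := (((D5556).symm.trans (sb E1457 D5581))).symm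
theorem E2212 : n6861 = n937 := (((D937).symm.trans (sb E1461 (iv F11954)))).symm
theorem E2215 : n2145 = n931 := ((((iv F1694)).symm.trans (sb E1463 (iv F3757)))).symm
theorem E2216 : n1060 = n942 := (((D942).symm.trans (sb E1463 F1951))).symm
theorem E2218 : n4272 = n1943 := (((D1943).symm.trans (sb E1465 F7613))).symm
theorem E2219 : n2286 = n938 := (((F1718).symm.trans (sb E1465 (tr (iv F8016) E1728)))).symm
theorem E2221 : n3607 = n1760 := (E1467).trans E1468
theorem F12999 : act 3 n1760 = n1760 := (sb E2221 (iv D3607))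
theorem E2225 : n3606 = n3582 := ((D3606).symm.trans (sb E1468 (iv F6114)))
theorem E2226 : n2161 = n843 := ((((iv D1760)).symm.trans (sb E1468 (iv F3802)))).symm
theorem E2227 : n3604 = n1760 := (((F12999).symm.trans (sb E1468 (iv F6163)))).symm
theorem E2228 : n2160 = n2159 := (((iv F3800)).symm.trans (sb E1468 F3795))
theorem E2229 : n3608 = n1070 := (((F2992).symm.trans (sb E1468 D3608))).symm
theorem F13000 : act 5 n91 = n177 := (sb E1469 (iv D369))
theorem E2230 : n799 = n181 := (E1718).trans E1722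
theorem E2231 : n1666 = n770 := (((D770).symm.trans (sb E1471 (iv F2820)))).symm
theorem E2232 : n1681 = n771 := (((D771).symm.trans (sb E1471 D1681))).symm
theorem E2238 : n1738 = n1696 := ((((iv F2853)).symm.trans (sb E1475 (iv F2953)))).symm
theorem E2239 : n1763 = n1702 := (((D1702).symm.trans (sb E1475 D1763))).symm
theorem E2240 : n835 = n398 := (((iv F1493)).symm.trans (sb E1476 (iv D833)))
theorem E2241 : n1737 = n1695 := (((D1695).symm.trans (sb E1476 D1737))).symm
theorem F13002 : act 4 n806 = n806 := (sb E1476 (iv F1491))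
theorem E2242 : n3502 = n945 := (((E1904).symm.trans ((D1697).symm.trans (sb E1477 D3502)))).symm
theorem E2243 : n1698 = n945 := (E1741).trans E1904
theorem E2244 : n3497 = n945 := (((E2243).symm.trans ((D1698).symm.trans (sb E1477 (iv F5933))))).symm
theorem E2245 : n3503 = n1699 := (((D1699).symm.trans (sb E1477 D3503))).symm
theorem F13003 : act 4 n190 = n190 := (sb E1478 (iv D400))
theorem E2248 : n6985 = n3493 := ((((iv F5923)).symm.trans (sb E1480 D6985))).symm
theorem E2254 : n843 = n807 := (((D807).symm.trans (sb E1488 (tr (iv F12902) E2226)))).symm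
theorem E2257 : n809 = n190 := (((F722).symm.trans (sb E1484 F1507))).symm
theorem E2260 : n1920 = n834 := ((((iv F1492)).symm.trans (sb E1487 (iv F3304)))).symm
theorem E2261 : n941 = n513 := (((E1901).symm.trans ((D839).symm.trans (sb E1487 (iv F1715))))).symm
theorem E2262 : n840 = n450 := ((D840).symm.trans (sb E1487 (iv D939)))
theorem F13004 : act 5 n96 = n185 := (sb E1491 (iv D387))
theorem E2265 : n4438 = n4158 := ((D4438).symm.trans (sb E1492 F12352))
theorem E2267 : n3646 = n3514 := (((F5970).symm.trans (sb E1492 F12354))).symm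
theorem E2271 : n1975 = n238 := (E2106).trans E2108
theorem E2277 : n2268 = n865 := ((F4025).symm.trans (sb E1496 (iv D1792)))
theorem E2278 : n3657 = n820 := ((((iv D1713)).symm.trans (sb E1496 D3657))).symm
theorem E2285 : n1754 = n451 := (((E1896).symm.trans (((iv D1933)).symm.trans (sb E1508 (iv D3598))))).symm
theorem E2286 : n3525 = n519 := (E1509).trans E1631
theorem E2288 : n1086 = n1076 := (((D1076).symm.trans (sb E2286 (tr (iv D3525) E1679)))).symm
theorem E2289 : n1010 = n201 := (E1510).trans E1793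
theorem E2290 : n2066 = n422 := ((((iv F808)).symm.trans (sb E2289 (iv F3610)))).symm
theorem E2291 : n527 = n195 := (((F403).symm.trans (sb E2289 (tr D2072 E1724)))).symm
theorem E2293 : n547 = n451 := ((E1649).symm.trans ((D1131).symm.trans (sb E1511 (tr F6130 E2285))))
theorem E2294 : n3592 = n451 := (E1511).trans E2293
theorem E2295 : n3594 = n938 := ((((iv F1706)).symm.trans (sb E2294 (iv F6137)))).symm
theorem E2296 : n3590 = n217 := (E1834).trans E1894
theorem E2297 : n1748 = n513 := (((E2261).symm.trans ((D941).symm.trans (sb E2294 (iv D3592))))).symm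
theorem E2299 : n1707 = n519 := (((F1729).symm.trans (sb E1512 (tr F6982 E1769)))).symm
theorem E2301 : n2095 = n94 := (((D94).symm.trans (sb E2002 (tr (iv F4102) E1673)))).symm
theorem E2307 : n2179 = n523 := (((D523).symm.trans (sb E1516 (iv F3835)))).symm
theorem E2308 : n2182 = n391 := (((E1725).symm.trans ((D524).symm.trans (sb E1516 (iv F3839))))).symm
theorem E2309 : n282 = n143 := (((F401).symm.trans (sb E1816 (tr (iv F588) E1636)))).symm
theorem E2310 : n525 = n422 := ((((iv F808)).symm.trans (sb E1816 (tr (iv F1067) E1637)))).symm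
theorem E2311 : n202 = n123 := (((F402).symm.trans (sb E1816 F538))).symm
theorem E2317 : n6864 = n1042 := (((D1042).symm.trans (sb E1522 (iv F11961)))).symm
theorem E2318 : n2129 = n1043 := (((D1043).symm.trans (sb E1522 (iv F6059)))).symm
theorem E2319 : n1039 = n504 := (((iv F1905)).symm.trans (sb E1522 (tr (iv D3552) E1878)))
theorem F13006 : act 5 n245 = n245 := (sb E1523 F986)
theorem E2320 : n3555 = n981 := (((F12918).symm.trans (sb E1524 F12016))).symm
theorem E2321 : n901 = n393 := ((E1736).symm.trans ((D1047).symm.trans (sb E1524 (tr (iv D6885) E2097))))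
theorem E2323 : n3523 = n2089 := (((iv F5992)).symm.trans (sb E1531 (iv F6673)))
theorem E2325 : n7045 = n100 := (E1533).trans E2115
theorem E2326 : n820 = n200 := (((D200).symm.trans (sb E2325 (tr F12395 E2278)))).symm
theorem E2327 : n3830 = n118 := (E1534).trans E1921
theorem E2328 : n1118 = n239 := (((D239).symm.trans (sb E2327 (tr F6681 E1543)))).symm
theorem E2329 : n1110 = n62 := (((F280).symm.trans (sb E2327 (tr (iv F6716) E1542)))).symm
theorem E2332 : n6899 = n813 := ((((iv D1706)).symm.trans (sb E1538 (iv F12057)))).symm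
theorem E2333 : n4162 = n3508 := ((((iv F5958)).symm.trans (sb E1538 F7372))).symm
theorem E2336 : n4125 = n817 := ((((iv F2014)).symm.trans (sb E1539 (tr (iv F8014) E1729)))).symm
theorem E2338 : n2093 = n519 := (E1541).trans E2299
theorem E2339 : n3508 = n1075 := (((D1075).symm.trans (sb E2338 (tr (iv F7371) E2333)))).symm
theorem E2342 : n2168 = n1076 := (((D1076).symm.trans (sb E2338 (iv F3814)))).symm
theorem E2343 : n4173 = n867 := (((E1790).symm.trans ((F1712).symm.trans (sb E2338 (iv F7399))))).symm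
theorem E2344 : n1022 = n947 := ((((iv F1729)).symm.trans (sb E2338 (iv D2093)))).symm
theorem E2345 : n3845 = n62 := (E1542).trans E2329
theorem E2346 : n867 = n122 := (((D122).symm.trans (sb E2345 (tr (iv F7397) E2343)))).symm
theorem E2348 : n2091 = n239 := (E1543).trans E2328
theorem E2350 : n947 = n409 := ((((iv F2001)).symm.trans (sb E2348 (tr (iv D2091) E2344)))).symm
theorem E2356 : n2217 = n74 := (((D74).symm.trans (sb E1553 D2217))).symm
theorem E2358 : n4030 = n2007 := (((D2007).symm.trans (sb E1605 D4030))).symm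
theorem E2359 : n977 = n428 := (E1564).trans E1604
theorem E2362 : n4033 = n1724 := (((E1609).symm.trans ((D2010).symm.trans (sb E1605 D4033)))).symm
theorem E2363 : n3637 = n506 := (E1940).trans E2128
theorem E2365 : n1724 = n827 := (((D827).symm.trans (sb E1560 (tr (iv F7108) E2362)))).symm
theorem E2369 : n900 = n428 := ((D900).symm.trans (sb E2359 (tr F1794 E2359)))
theorem E2370 : n978 = n899 := ((((iv F1624)).symm.trans (sb E1945 (tr D1717 E1603)))).symm
theorem F13018 : act 6 n102 = n102 := (sb E1570 (iv D207))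
theorem E2372 : n981 = n902 := (((D902).symm.trans (sb E1576 (tr F3506 E1941)))).symm
theorem F13019 : act 6 n206 = n206 := (sb E1578 (iv D430))
theorem E2376 : n3555 = n902 := (E2320).trans E2372
theorem F13020 : act 6 n27 = n50 := (sb E1589 F157)
theorem E2389 : n2008 = n1858 := ((((iv F3781)).symm.trans (iv (sb E1600 (tr (iv D2009) E2370))))).symm
theorem E2390 : n2009 = n1858 := (E1600).trans E2389
theorem E2391 : n4042 = n3779 := (((D3779).symm.trans (sb E2390 D4042))).symm
theorem E2392 : n4043 = n827 := (E1620).trans E2365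
theorem E2393 : n3779 = n1726 := (((D1726).symm.trans (sb E2392 (tr F7125 E2391)))).symm
theorem E2394 : n2010 = n827 := (E1609).trans E2365
theorem E2395 : n1727 = n827 := ((D1727).symm.trans (sb E2392 (tr (iv D4043) E2394)))
theorem E2396 : n1717 = n899 := (E1603).trans E2370
theorem E2397 : n1857 = n1403 := ((D1857).symm.trans (sb E2396 F2900))
theorem E2401 : n2007 = n1403 := ((E2358).symm.trans (((iv F7100)).symm.trans (sb E1606 F5012)))
theorem E2402 : n2868 = n1403 := (E1606).trans E2401
theorem E2403 : n2362 = n673 := (((F2481).symm.trans (sb E2402 F5013))).symm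
theorem E2405 : n2874 = n2356 := (((iv F5022)).symm.trans (sb E2402 F5014))
theorem E2406 : n4580 = n2876 := (((D2876).symm.trans (sb E2402 (iv F8263)))).symm
theorem E2407 : n1400 = n670 := ((((iv D1403)).symm.trans (sb E2402 (iv D2868)))).symm
theorem E2408 : n2127 = n1858 := (E1607).trans E2389
theorem E2409 : n3777 = n2356 := (((iv F6556)).symm.trans (sb E2408 (iv F4216)))
theorem E2412 : n1726 = n1042 := ((E2393).symm.trans ((D3779).symm.trans (sb E2408 (iv D2127))))
theorem E2413 : n4212 = n1858 := (E1608).trans E2389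
theorem E2414 : n2876 = n2356 := (((E2409).symm.trans (((iv F6556)).symm.trans (sb E2413 (tr (iv F8262) E2406))))).symm
theorem E2415 : n3779 = n1042 := (E2393).trans E2412
theorem E2416 : n2123 = n1042 := (((E2415).symm.trans ((D3779).symm.trans (sb E2413 (iv D4212))))).symm
theorem E2418 : n2859 = n670 := (((F1475).symm.trans (sb E2394 (tr (iv F7117) E2070)))).symm
theorem E2419 : n1725 = n827 := ((D1725).symm.trans (sb E2394 (tr F3494 E2394)))
theorem E2427 : n1863 = n506 := (E1613).trans E1616
theorem E2429 : n2155 = n384 := (((F991).symm.trans (sb E2427 F3779))).symm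
theorem E2442 : n2072 = n195 := (E1724).trans E2291
theorem E2446 : n1080 = n1075 := (((D1075).symm.trans (sb E1631 (iv F1978)))).symm
theorem E2447 : n264 = n123 := (E1818).trans E2311
theorem E2448 : n940 = n122 := (E1790).trans E2346
theorem E2451 : n293 = n143 := (E1636).trans E2309
theorem E2453 : n611 = n296 := ((((iv F592)).symm.trans (sb E2451 (iv F1168)))).symm
theorem E2454 : n144 = n135 := (((F320).symm.trans (sb E2451 F589))).symm
theorem E2455 : n613 = n149 := ((((iv F327)).symm.trans (sb E2451 D613))).symm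
theorem E2456 : n298 = n141 := ((D298).symm.trans (sb E2451 (iv D293)))
theorem E2457 : n549 = n422 := (E1637).trans E2310
theorem E2458 : n1130 = n507 := ((((iv F992)).symm.trans (sb E2457 (iv F2097)))).symm
theorem E2459 : n944 = n889 := (((D889).symm.trans (sb E2457 (iv F1726)))).symm
theorem E2460 : n946 = n410 := (((F809).symm.trans (sb E2457 F1725))).symm
theorem E2461 : n1008 = n123 := (E1638).trans E2447
theorem E2464 : n412 = n239 := ((((iv F494)).symm.trans (sb E2461 (tr D2068 E1676)))).symm
theorem E2466 : n4139 = n391 := (E1641).trans E1725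
theorem E2467 : n4347 = n819 := ((((iv F1456)).symm.trans (sb E2466 F7781))).symm
theorem E2468 : n6971 = n817 := ((((iv F2014)).symm.trans (sb E2466 (iv F12207)))).symm
theorem E2469 : n2276 = n1083 := ((((iv F1983)).symm.trans (sb E1643 (iv F4042)))).symm
theorem E2471 : n1089 = n410 := (E1670).trans E2460
theorem E2474 : n201 = n124 := ((D201).symm.trans (sb E1646 F510))
theorem E2493 : n1085 = n819 := (((iv D2201)).symm.trans (sb E1665 (tr D4347 E2467)))
theorem E2494 : n1700 = n937 := (((E1906).symm.trans ((D4343).symm.trans (sb E1665 (iv F3892))))).symm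
theorem E2503 : n2196 = n858 := ((((iv F1545)).symm.trans (sb E2471 (iv F3866)))).symm
theorem E2506 : n865 = n409 := ((D865).symm.trans (sb E2471 (tr F1994 E2350)))
theorem E2509 : n959 = n219 := (((F880).symm.trans (sb E1671 F3405))).symm
theorem E2511 : n1978 = n219 := (((F881).symm.trans (sb E1671 (iv F3419)))).symm
theorem E2513 : n4344 = n3926 := ((D4344).symm.trans (sb E1672 (iv F6877)))
theorem E2516 : n2293 = n94 := (E1673).trans E2301
theorem E2520 : n1784 = n184 := ((((iv F368)).symm.trans (sb E2516 F4103))).symm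
theorem E2521 : n1084 = n188 := (((D188).symm.trans (sb E2516 (tr (iv F4104) E1682)))).symm
theorem E2523 : n1716 = n188 := (E1682).trans E2521
theorem E2525 : n4325 = n3664 := (((D3664).symm.trans (sb E1675 (iv F7722)))).symm
theorem E2528 : n1714 = n1076 := (E1679).trans E2288
theorem E2529 : n2068 = n239 := (E1676).trans E2464
theorem E2530 : n583 = n267 := ((((iv F542)).symm.trans (sb E2529 (tr (iv F7264) E2048)))).symm
theorem E2532 : n196 = n118 := ((((iv D239)).symm.trans (sb E2529 (tr F3614 E2046)))).symm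
theorem E2533 : n252 = n195 := (((iv F516)).symm.trans (sb E2529 (tr (iv F3623) E2442)))
theorem E2534 : n3638 = n184 := (E1677).trans E2520
theorem E2538 : n1715 = n384 := (((D384).symm.trans (sb E2534 (tr (iv F7756) E1681)))).symm
theorem E2540 : n4336 = n1412 := ((((iv F2489)).symm.trans (sb E1678 F7748))).symm
theorem E2542 : n3524 = n2180 := ((((iv F3836)).symm.trans (sb E2528 D3524))).symm
theorem E2544 : n3526 = n1940 := ((((iv F3347)).symm.trans (sb E2528 D3526))).symm
theorem E2545 : n3527 = n391 := (((E2308).symm.trans ((D2182).symm.trans (sb E2528 D3527)))).symm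
theorem E2547 : n4340 = n384 := (E1681).trans E2538
theorem E2548 : n1412 = n366 := (((F720).symm.trans (sb E2547 (tr F7753 E2540)))).symm
theorem E2549 : n2202 = n805 := ((((iv F1430)).symm.trans (sb E2547 F7754))).symm
theorem E2550 : n1656 = n180 := (((F376).symm.trans (sb E2523 F2898))).symm
theorem E2564 : n4260 = n3773 := (((D3773).symm.trans (sb E1698 (iv F7589)))).symm
theorem E2565 : n2272 = n1066 := ((F4034).symm.trans (sb E1698 (iv D2165)))
theorem E2567 : n1835 = n1067 := ((F3176).symm.trans (sb E1698 F3809))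
theorem E2568 : n2166 = n188 := (E1700).trans E2131
theorem E2569 : n1067 = n391 := ((((iv F734)).symm.trans (sb E2568 (iv D2166)))).symm
theorem E2570 : n3774 = n392 := ((((iv F737)).symm.trans (sb E2568 (tr D4285 E1709)))).symm
theorem E2571 : n1833 = n394 := (((D394).symm.trans (sb E2568 (tr D4286 E1707)))).symm
theorem F13027 : act 3 n119 = n97 := (sb E1702 (iv D193))
theorem E2576 : n1076 = n890 := (((F3135).symm.trans (sb E1705 (tr F6406 E2342)))).symm
theorem E2577 : n2168 = n890 := (E2342).trans E2576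
theorem E2579 : n4286 = n394 := (E1707).trans E2571
theorem E2580 : n890 = n817 := ((((iv F2012)).symm.trans (sb E2579 (tr F7639 E2577)))).symm
theorem E2581 : n826 = n392 := ((D826).symm.trans (sb E2579 (tr F7642 E2570)))
theorem E2589 : n7093 = n1695 := (((D1695).symm.trans (sb E2092 D7093))).symm
theorem E2590 : n3584 = n1695 := ((E1910).symm.trans (((iv F6757)).symm.trans (sb E1711 (tr (iv F12515) E2589))))
theorem F13033 : act 5 n189 = n189 := (sb E1712 (iv D397))
theorem E2596 : n141 = n68 := (((D68).symm.trans (sb E1715 D141))).symm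
theorem F13034 : act 6 n30 = n32 := (sb E1715 F171)
theorem E2597 : n1659 = n1621 := (((D1621).symm.trans (sb E1716 D1659))).symm
theorem F13035 : act 4 n770 = n770 := (sb E1716 (iv F1407))
theorem E2598 : n1660 = n1622 := (((D1622).symm.trans (sb E1716 D1660))).symm
theorem E2599 : n3342 = n1598 := ((((iv F2745)).symm.trans (sb E1717 D3342))).symm
theorem E2600 : n3336 = n1623 := (((D1623).symm.trans (sb E1717 (iv F5686)))).symm
theorem E2601 : n3343 = n1624 := (((D1624).symm.trans (sb E1717 D3343))).symm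
theorem E2603 : n1622 = n376 := (((D376).symm.trans (sb E2230 (tr (iv F2811) E2598)))).symm
theorem E2604 : n1685 = n377 := (((D377).symm.trans (sb E2230 D1685))).symm
theorem E2609 : n1627 = n377 := (((D377).symm.trans (sb E1722 D1627))).symm
theorem E2616 : n1076 = n817 := (E2576).trans E2580
theorem E2617 : n1086 = n817 := (E2288).trans E2616
theorem E2618 : n669 = n321 := (((F740).symm.trans (sb E1726 F1486))).symm
theorem E2622 : n4451 = n938 := (E1728).trans E2219
theorem E2623 : n2273 = n1940 := (((D1940).symm.trans (sb E2622 (iv D4451)))).symm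
theorem E2624 : n4450 = n817 := (E1729).trans E2336
theorem E2627 : n1940 = n805 := (((F2013).symm.trans (sb E2624 (tr F8013 E2623)))).symm
theorem E2628 : n1066 = n389 := ((((iv D817)).symm.trans (sb E2624 (tr (iv D4450) E2565)))).symm
theorem E2631 : n1743 = n834 := (((iv F2960)).symm.trans (sb E1739 (tr F7541 E1899)))
theorem E2632 : n4233 = n3490 := (((D3490).symm.trans (sb E1739 F7543))).symm
theorem E2633 : n3491 = n2136 := ((D3491).symm.trans (sb E1739 (iv D4235)))
theorem E2634 : n4231 = n3492 := (((D3492).symm.trans (sb E1739 F7544))).symm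
theorem E2635 : n3731 = n945 := (E1740).trans E1904
theorem E2636 : n3490 = n1912 := ((((iv F3293)).symm.trans (sb E2635 (tr (iv F7536) E2632)))).symm
theorem E2638 : n1831 = n453 := ((((iv D945)).symm.trans (sb E2635 (iv D3731)))).symm
theorem E2639 : n1939 = n807 := (((iv F3345)).symm.trans (sb E2243 (iv D1698)))
theorem F13036 : act 6 n1699 = n889 := (sb E1742 (iv D1832))
theorem E2643 : n2156 = n937 := (E1743).trans E2494
theorem E2644 : n3492 = n1910 := ((((iv F3287)).symm.trans (sb E2643 (tr (iv F7529) E2634)))).symm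
theorem E2645 : n1937 = n453 := ((D1937).symm.trans (sb E2643 (tr (iv F3790) E2638)))
theorem E2646 : n1059 = n450 := (E1902).trans E2262
theorem E2647 : n1938 = n1826 := ((D1938).symm.trans (sb E2643 F3789))
theorem F13037 : act 4 n189 = n245 := (sb E1752 (iv D505))
theorem E2658 : n3657 = n200 := (E2278).trans E2326
theorem E2663 : n3909 = n3520 := ((((iv F5984)).symm.trans (sb E1770 F6831))).symm
theorem E2671 : n298 = n68 := (E2456).trans E2596
theorem E2679 : n582 = n68 := (E1788).trans E2671
theorem E2680 : n621 = n134 := (((D134).symm.trans (sb E2679 (tr (iv F2215) E2062)))).symm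
theorem E2682 : n143 = n136 := (((D136).symm.trans (sb E2679 (tr F1127 E2309)))).symm
theorem E2683 : n1921 = n246 := (((D246).symm.trans (sb E2448 (iv F3307)))).symm
theorem E2684 : n451 = n247 := (((D247).symm.trans (sb E2448 (iv D940)))).symm
theorem E2685 : n519 = n248 := (((D248).symm.trans (sb E2448 (iv F1712)))).symm
theorem E2686 : n422 = n249 := (((D249).symm.trans (sb E2448 (tr F1713 E2310)))).symm
theorem E2690 : n282 = n136 := (E2309).trans E2682
theorem E2693 : n577 = n142 := (((D142).symm.trans (sb E1799 (iv F1118)))).symm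
theorem E2695 : n1269 = n142 := (((D142).symm.trans (sb E1800 (iv F2303)))).symm
theorem E2697 : n292 = n135 := (E2064).trans E2454
theorem E2726 : n6953 = n933 := (((F1752).symm.trans (sb E1833 (iv F12160)))).symm
theorem E2728 : n933 = n447 := ((((iv F869)).symm.trans (sb E2296 (tr (iv F12159) E2726)))).symm
theorem E2755 : n866 = n219 := (((E2511).symm.trans ((D1978).symm.trans (sb E1847 (iv D1795))))).symm
theorem E2763 : n1791 = n219 := (E1856).trans E2509
theorem E2767 : n864 = n454 := ((((iv F881)).symm.trans (sb E2763 (iv D1791)))).symm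
theorem E2768 : n3867 = n1695 := (E1910).trans E2590
theorem E2778 : n1696 = n398 := ((D1696).symm.trans (sb E2093 (tr (iv D3684) E1869)))
theorem E2783 : n1746 = n834 := (((D834).symm.trans (sb E1869 F3095))).symm
theorem F13045 : act 2 n399 = n399 := (sb E1870 (iv D837))
theorem E2787 : n667 = n319 := (((D319).symm.trans (sb E1882 D667))).symm
theorem E2788 : n668 = n273 := (E2067).trans E2126
theorem F13046 : act 5 n155 = n155 := (sb E1882 F622)
theorem E2789 : n3540 = n827 := (E1883).trans E2419
theorem F13047 : act 6 n827 = n6865 := (sb E2789 D6865)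
theorem E2792 : n1867 = n504 := (((E2123).symm.trans ((D829).symm.trans (sb E1884 (iv F3202))))).symm
theorem F13048 : act 6 n395 = n429 := (sb E1884 (iv D904))
theorem E2793 : n6865 = n899 := ((((iv F1624)).symm.trans (sb E1885 (iv F11965)))).symm
theorem E2796 : n3921 = n1695 := (E1913).trans E2590
theorem E2797 : n1944 = n1910 := (((E2644).symm.trans ((D3492).symm.trans (sb E2796 (iv D3921))))).symm
theorem E2798 : n3874 = n1918 := ((((iv F3301)).symm.trans (sb E1888 (iv F6777)))).symm
theorem E2800 : n1928 = n930 := ((((iv D1922)).symm.trans (sb E1889 (iv D3897)))).symm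
theorem E2801 : n3872 = n1916 := ((((iv F3299)).symm.trans (sb E1890 (iv F6773)))).symm
theorem F13049 : act 2 n942 = n942 := (sb E1893 F3336)
theorem F13050 : act 2 n217 = n217 := (sb E1894 (iv D449))
theorem E2805 : n935 = n247 := (E1896).trans E2684
theorem E2806 : n3520 = n889 := (((F13036).symm.trans (sb E1914 (tr (iv F6830) E2663)))).symm
theorem E2807 : n930 = n508 := ((((iv F994)).symm.trans (sb E2805 (tr (iv F3321) E2800)))).symm
theorem E2808 : n938 = n511 := (((D511).symm.trans (sb E2805 (tr (iv F3326) E1897)))).symm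
theorem E2812 : n4249 = n1739 := (((D1739).symm.trans (sb E1899 (iv F7568)))).symm
theorem E2813 : n1740 = n931 := ((D1740).symm.trans (sb E1899 (tr F3762 E2215)))
theorem E2814 : n1741 = n1053 := ((D1741).symm.trans (sb E1899 (iv D2147)))
theorem E2815 : n2143 = n1742 := (((D1742).symm.trans (sb E1899 F3763))).symm
theorem F13051 : act 4 n452 = n399 := (sb E1900 (iv D838))
theorem F13052 : act 5 n513 = n399 := (sb E1901 (iv D839))
theorem E2818 : n1742 = n929 := ((((iv F1692)).symm.trans (sb E2646 (tr (iv F3753) E2815)))).symm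
theorem E2819 : n6804 = n1695 := (E1903).trans E2768
theorem E2820 : n3494 = n1912 := (((E2636).symm.trans ((D3490).symm.trans (sb E2819 (iv D6804))))).symm
theorem F13053 : act 2 n945 = n807 := (sb E1904 (iv D1697))
theorem E2824 : n2201 = n1826 := (((E2647).symm.trans ((D1938).symm.trans (sb E1906 (iv D4343))))).symm
theorem E2827 : n1946 = n1826 := (((E2647).symm.trans ((D1938).symm.trans (sb E1915 D1946)))).symm
theorem E2829 : n557 = n81 := ((((iv F185)).symm.trans (sb E1918 D557))).symm
theorem E2831 : n1101 = n130 := ((((iv F299)).symm.trans (sb E1921 (iv F2045)))).symm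
theorem E2842 : n3724 = n184 := (E1926).trans E2520
theorem E2844 : n1829 = n382 := (((D382).symm.trans (sb E2842 F6436))).symm
theorem E2851 : n4226 = n4225 := ((D4226).symm.trans (sb E1936 (iv F7516)))
theorem E2852 : n4211 = n2126 := ((((iv F3719)).symm.trans (sb E1937 (iv F7490)))).symm
theorem E2853 : n4213 = n2128 := (((D2128).symm.trans (sb E1937 D4213))).symm
theorem E2854 : n3559 = n1043 := (((E2318).symm.trans ((D2129).symm.trans (sb E1937 (iv F6072))))).symm
theorem E2855 : n4214 = n2130 := (((D2130).symm.trans (sb E1937 D4214))).symm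
theorem E2856 : n2131 = n1043 := ((D2131).symm.trans (sb E1937 (tr (iv F6073) E2854)))
theorem E2858 : n674 = n567 := ((((iv F1107)).symm.trans (sb E2363 (tr (iv F7128) E2069)))).symm
theorem E2861 : n675 = n567 := (E2076).trans E2858
theorem F13057 : act 5 n506 = n393 := (sb E2132 (iv D825))
theorem E2864 : n5687 = n4965 := (((iv F10048)).symm.trans (sb E1952 F8829))
theorem E2865 : n1560 = n1420 := ((((iv D2909)).symm.trans (sb E1954 (tr (iv F8844) E2138)))).symm
theorem E2866 : n317 = n83 := ((((iv F188)).symm.trans (sb E1959 (iv F621)))).symm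
theorem E2869 : n310 = n66 := ((((iv D131)).symm.trans (sb E1962 (tr (iv F2240) E2057)))).symm
theorem E2872 : n1260 = n81 := (E1980).trans E2829
theorem E2873 : n311 = n157 := ((((iv F334)).symm.trans (sb E1967 D311))).symm
theorem F13060 : act 3 n131 = n75 := (sb E1967 (iv D151))
theorem E2874 : n2564 = n1150 := ((((iv F2131)).symm.trans (sb E1968 F4785))).symm
theorem E2875 : n5284 = n1362 := (((D1362).symm.trans (sb E1968 D5284))).symm
theorem E2885 : n2560 = n1146 := ((((iv F2123)).symm.trans (sb E1971 (iv F4499)))).symm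
theorem E2886 : n4849 = n1355 := (((D1355).symm.trans (sb E1971 D4849))).symm
theorem E2900 : n1150 = n163 := (((D163).symm.trans (sb E2872 (tr D2564 E2874)))).symm
theorem E2901 : n1146 = n37 := ((((iv D81)).symm.trans (sb E2872 (tr (iv F4500) E2885)))).symm
theorem E2902 : n2564 = n163 := (E2874).trans E2900
theorem E2909 : n2560 = n37 := (E2885).trans E2901
theorem E2910 : n2316 = n40 := ((((iv F88)).symm.trans (iv (sb E1983 (tr F8895 E2909))))).symm
theorem E2928 : n2318 = n40 := (E1992).trans E2910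
theorem E2929 : n4515 = n86 := (((D86).symm.trans (sb E2928 (iv F8140)))).symm
theorem E2936 : n5007 = n80 := (((F197).symm.trans (iv (sb E1996 (tr F9618 E2929))))).symm
theorem E2946 : n791 = n770 := (((D770).symm.trans (sb E2012 (iv F1412)))).symm
theorem E2947 : n798 = n771 := (((D771).symm.trans (sb E2012 D798))).symm
theorem F13071 : act 5 n367 = n181 := (sb E2012 (iv D379))
theorem E2949 : n6104 = n3459 := (((iv F10751)).symm.trans (sb E2203 F8243))
theorem E2950 : n1565 = n1530 := (((F5411).symm.trans (sb E2203 (tr (iv F9859) E2194)))).symm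
theorem E2954 : n3307 = n3296 := ((F8215).symm.trans (sb E2029 (iv D6437)))
theorem F13087 : act 0 n376 = n770 := (sb E2032 F1409)
theorem E2957 : n1665 = n789 := (((D789).symm.trans (sb E2032 D1665))).symm
theorem F13088 : act 4 n376 = n376 := (sb E2032 (iv D790))
theorem E2958 : n1678 = n792 := (((D792).symm.trans (sb E2033 D1678))).symm
theorem E2959 : n1672 = n793 := (((D793).symm.trans (sb E2033 (iv F2827)))).symm
theorem E2961 : n1680 = n795 := (((D795).symm.trans (sb E2033 D1680))).symm
theorem E2963 : n1157 = n326 := (((D326).symm.trans (sb E2035 D1157))).symm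
theorem E2966 : n1162 = n329 := (((D329).symm.trans (sb E2036 D1162))).symm
theorem E2969 : n1163 = n565 := (((D565).symm.trans (sb E2038 D1163))).symm
theorem F13089 : act 5 n273 = n273 := (sb E2038 F1101)
theorem E2974 : n1205 = n134 := (E2062).trans E2680
theorem E2980 : n2438 = n274 := (((D274).symm.trans (sb E2974 (iv F4330)))).symm
theorem E2981 : n2444 = n275 := (((D275).symm.trans (sb E2974 D2444))).symm
theorem E2982 : n581 = n276 := (((D276).symm.trans (sb E2974 (iv D1205)))).symm
theorem E2983 : n1221 = n266 := ((((iv F540)).symm.trans (sb E2974 (iv F2236)))).symm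
theorem E2984 : n587 = n277 := (((D277).symm.trans (sb E2974 F2216))).symm
theorem E2985 : n610 = n276 := ((((iv F558)).symm.trans (sb E2697 (iv F1166)))).symm
theorem E2987 : n1398 = n565 := (((D565).symm.trans (sb E2788 (iv F2473)))).symm
theorem E2991 : n2364 = n673 := (E2073).trans E2403
theorem E2993 : n672 = n565 := ((F2164).symm.trans (sb E2072 (tr F4209 E2987)))
theorem E2994 : n4584 = n2361 := (((D2361).symm.trans (sb E2072 (iv F8269)))).symm
theorem E2995 : n1411 = n1169 := ((((iv F2166)).symm.trans (sb E2991 F4228))).symm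
theorem E2996 : n4590 = n1403 := ((((iv F2481)).symm.trans (sb E2991 (iv F8275)))).symm
theorem E2997 : n2354 = n1410 := (((D1410).symm.trans (sb E2991 F4232))).symm
theorem E2998 : n1410 = n1409 := ((((iv F2483)).symm.trans (sb E2991 (tr F4230 E2997)))).symm
theorem E3002 : n1413 = n366 := (((F1108).symm.trans (sb E2861 D1413))).symm
theorem F13091 : act 5 n567 = n321 := (sb E2861 (iv D675))
theorem E3007 : n2354 = n1409 := (E2997).trans E2998
theorem E3008 : n1409 = n1169 := ((((iv F2167)).symm.trans (sb E2078 (tr (iv F4213) E3007)))).symm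
theorem E3009 : n1254 = n366 := (((F1108).symm.trans (sb E2078 (iv F2279)))).symm
theorem E3012 : n1168 = n319 := (((D319).symm.trans (sb E2089 (iv F2165)))).symm
theorem F13092 : act 3 n395 = n395 := (sb E2096 (iv D828))
theorem E3020 : n1928 = n508 := (E2800).trans E2807
theorem E3021 : n6782 = n508 := (((E3020).symm.trans (((iv D3896)).symm.trans (sb E2104 (iv F11737))))).symm
theorem E3022 : n3896 = n246 := (((E2683).symm.trans ((F3309).symm.trans (iv (sb E2104 (tr F7945 E2339)))))).symm
theorem E3023 : n4424 = n246 := (E2104).trans E3022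
theorem E3024 : n2266 = n491 := ((((iv F965)).symm.trans (sb E3023 F7946))).symm
theorem E3025 : n3513 = n510 := (((D510).symm.trans (sb E3023 F7947))).symm
theorem E3032 : n492 = n219 := ((D492).symm.trans (sb E2271 (tr (iv D1975) E2509)))
theorem E3034 : n2268 = n409 := (E2277).trans E2506
theorem E3041 : n2171 = n889 := (((E2806).symm.trans (((iv F5984)).symm.trans (sb E2117 (iv D4295))))).symm
theorem E3042 : n1707 = n248 := (E2299).trans E2685
theorem E3043 : n6969 = n248 := (E2118).trans E3042
theorem E3044 : n817 = n514 := (((D514).symm.trans (sb E3043 (tr (iv F12206) E2468)))).symm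
theorem E3047 : n1325 = n163 := (((D163).symm.trans (sb E2121 D1325))).symm
theorem F13094 : act 4 n504 = n395 := (sb E2123 (iv D829))
theorem F13095 : act 4 n273 = n155 := (sb E2126 (iv D320))
theorem F13096 : act 4 n506 = n393 := (sb E2128 (iv D824))
theorem F13097 : act 5 n395 = n395 := (sb E2129 (iv D830))
theorem E3053 : n1835 = n391 := (E2567).trans E2569
theorem F13099 : act 6 n4966 = n2896 := (sb E2134 (iv D5677))
theorem E3055 : n4971 = n1420 := (E2138).trans E2865
theorem E3057 : n2539 = n677 := ((((iv D1420)).symm.trans (sb E3055 (iv D4971)))).symm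
theorem F13106 : act 3 n4968 = n2897 := (sb E2139 (iv D5678))
theorem E3058 : n2541 = n679 := ((((iv D1423)).symm.trans (sb E2144 (iv D4974)))).symm
theorem F13107 : act 3 n4973 = n3193 := (sb E2141 F10102)
theorem E3059 : n2904 = n2897 := (((iv F5062)).symm.trans (sb E2142 (iv F5048)))
theorem E3060 : n2544 = n682 := (((iv F4470)).symm.trans (sb E2142 F2512))
theorem E3061 : n2915 = n745 := ((D2915).symm.trans (sb E2142 F2513))
theorem E3062 : n2909 = n744 := (((iv F5072)).symm.trans (sb E2142 F2514))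
theorem E3063 : n5830 = n1466 := (((F5241).symm.trans (sb E2145 (iv F10364)))).symm
theorem E3065 : n1466 = n1459 := ((((iv D2980)).symm.trans (sb E2147 (tr (iv F10363) E3063)))).symm
theorem E3066 : n5869 = n5829 := (((D5829).symm.trans (sb E2147 (iv F10425)))).symm
theorem E3067 : n5830 = n1459 := (E3063).trans E3065
theorem E3069 : n5930 = n1590 := ((D5930).symm.trans (sb E2152 F5285))
theorem E3070 : n1483 = n333 := ((((iv D706)).symm.trans (sb E2156 (iv D3030)))).symm
theorem E3071 : n1481 = n336 := ((D1481).symm.trans (sb E2154 F1309))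
theorem E3072 : n1482 = n359 := ((D1482).symm.trans (sb E2154 F1310))
theorem E3073 : n1475 = n358 := (((iv F2614)).symm.trans (sb E2154 F1311))
theorem E3074 : n1463 = n1458 := (((iv F2598)).symm.trans (sb E2155 (iv F2591)))
theorem E3075 : n1586 = n1470 := ((((iv F2609)).symm.trans (sb E2155 D1586))).symm
theorem E3076 : n1580 = n1473 := ((((iv F2612)).symm.trans (sb E2155 (iv F2731)))).symm
theorem E3077 : n1587 = n1476 := (((D1476).symm.trans (sb E2155 D1587))).symm
theorem E3079 : n723 = n687 := ((((iv F1275)).symm.trans (sb E2158 F2459))).symm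
theorem E3081 : n2830 = n725 := (((D725).symm.trans (sb E2158 D2830))).symm
theorem E3082 : n2949 = n1527 := (((iv F5161)).symm.trans (sb E2185 (tr (iv F9845) E2189)))
theorem E3083 : n3289 = n3287 := (((iv F5623)).symm.trans (sb E2161 F8219))
theorem E3084 : n3305 = n761 := ((((iv D1604)).symm.trans (sb E2161 (iv F8216)))).symm
theorem F13119 : act 3 n4557 = n6447 := (sb E2162 (iv F11185))
theorem E3086 : n6034 = n3105 := (((D3105).symm.trans (sb E2165 (iv F10635)))).symm
theorem E3087 : n6052 = n3087 := ((((iv F5366)).symm.trans (sb E2165 (iv F10667)))).symm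
theorem E3088 : n3107 = n3096 := ((D3107).symm.trans (sb E2165 (iv F5380)))
theorem E3089 : n3110 = n1527 := (((D1527).symm.trans (sb E2166 D3110))).symm
theorem E3090 : n1526 = n1441 := (E2167).trans E2182
theorem E3091 : n3096 = n2943 := ((((iv F5148)).symm.trans (sb E3090 (iv F5379)))).symm
theorem F13120 : act 2 n724 = n726 := (sb E2168 F2667)
theorem E3093 : n5764 = n720 := (E2169).trans E2174
theorem E3094 : n2944 = n1512 := (((D1512).symm.trans (sb E3093 F10221))).symm
theorem E3095 : n5766 = n1513 := (((D1513).symm.trans (sb E3093 (iv F10227)))).symm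
theorem E3096 : n2942 = n1514 := (((D1514).symm.trans (sb E3093 (iv D5764)))).symm
theorem E3097 : n5530 = n1512 := (E2171).trans E2179
theorem E3098 : n3304 = n3083 := ((((iv F5357)).symm.trans (sb E3097 F9810))).symm
theorem E3099 : n3107 = n2943 := (E3088).trans E3091
theorem E3102 : n5526 = n1509 := ((((iv F2648)).symm.trans (sb E2174 (iv F9804)))).symm
theorem E3103 : n5529 = n1511 := (((D1511).symm.trans (sb E2174 D5529))).symm
theorem E3105 : n2953 = n1523 := (((D1523).symm.trans (sb E2175 D2953))).symm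
theorem F13122 : act 6 n724 = n687 := (sb E2175 (iv D1442))
theorem F13123 : act 6 n725 = n1441 := (sb E2176 (iv D2952))
theorem F13124 : act 0 n726 = n724 := (sb E2177 F2551)
theorem E3107 : n2948 = n763 := ((((iv F1374)).symm.trans (sb E2177 D2948))).symm
theorem F13125 : act 4 n726 = n687 := (sb E2177 (iv D1440))
theorem E3108 : n6083 = n3083 := ((((iv F5357)).symm.trans (sb E2179 (iv F10726)))).symm
theorem F13126 : act 6 n1512 = n1518 := (sb E2179 (iv D3108))
theorem E3112 : n3441 = n3116 := (((D3116).symm.trans (sb E2180 F9850))).symm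
theorem E3113 : n2832 = n727 := (((F2668).symm.trans (sb E2180 F9827))).symm
theorem E3115 : n6081 = n3085 := ((((iv F5362)).symm.trans (sb E2187 (iv F10723)))).symm
theorem E3116 : n6043 = n3091 := ((((iv F5369)).symm.trans (sb E2187 (iv F10660)))).symm
theorem F13127 : act 4 n1514 = n1518 := (sb E2187 (iv D3106))
theorem E3120 : n3201 = n3126 := ((F9848).symm.trans (sb E2191 (iv D6123)))
theorem E3121 : n3203 = n3116 := (((E3112).symm.trans (((iv F9849)).symm.trans (sb E2191 (iv F10770))))).symm
theorem E3122 : n3126 = n3124 := (((F9854).symm.trans (sb E2191 (tr F10769 E3120)))).symm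
theorem E3123 : n3198 = n3092 := ((((iv F5371)).symm.trans (sb E2192 (iv F5503)))).symm
theorem E3125 : n3118 = n747 := ((D3118).symm.trans (sb E2192 (iv D1567)))
theorem E3126 : n3208 = n1529 := (((D1529).symm.trans (iv (sb E2193 (tr (iv D5548) E3113))))).symm
theorem E3127 : n5549 = n1530 := (E2194).trans E2950
theorem E3128 : n2956 = n761 := (((iv F5176)).symm.trans (sb E3127 (tr F9857 E3084)))
theorem E3129 : n3210 = n1610 := ((((iv F2756)).symm.trans (sb E3127 (iv F9860)))).symm
theorem E3134 : n3212 = n1602 := ((((iv D3294)).symm.trans (sb E2200 F9863))).symm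
theorem E3137 : n5556 = n760 := ((((iv D1598)).symm.trans (iv (sb E2204 (tr F9900 E2599))))).symm
theorem E3138 : n5581 = n760 := (E2204).trans E3137
theorem E3139 : n5781 = n1599 := (((D1599).symm.trans (sb E3138 F10257))).symm
theorem E3140 : n6091 = n1601 := (((D1601).symm.trans (sb E3138 (iv F10743)))).symm
theorem E3149 : n3979 = n453 := (((F1704).symm.trans (sb E2212 F11955))).symm
theorem E3150 : n3538 = n1826 := (((E2647).symm.trans ((D1938).symm.trans (sb E2212 (iv D6861))))).symm
theorem E3152 : n4233 = n1912 := (E2632).trans E2636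
theorem E3153 : n4247 = n1918 := ((((iv F3301)).symm.trans (sb E2215 (iv F7564)))).symm
theorem E3154 : n2144 = n1923 := (((D1923).symm.trans (sb E2215 F3758))).symm
theorem E3155 : n1052 = n447 := ((((iv D931)).symm.trans (sb E2215 (iv D2145)))).symm
theorem E3156 : n2157 = n1943 := (((D1943).symm.trans (sb E2216 D2157))).symm
theorem E3158 : n3918 = n2271 := ((D3918).symm.trans (sb E2218 F8006))
theorem E3159 : n2286 = n511 := (E2219).trans E2808
theorem F13142 : act 6 n511 = n3595 := (sb E3159 (iv F6143))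
theorem E3170 : n4255 = n1745 := ((((iv D3582)).symm.trans (sb E2225 (iv F7581)))).symm
theorem E3172 : n6948 = n2153 := ((D6948).symm.trans (sb E2225 F6166))
theorem E3173 : n2161 = n807 := (E2226).trans E2254
theorem E3174 : n1745 = n1695 := ((((iv F2852)).symm.trans (sb E3173 (tr (iv F7580) E3170)))).symm
theorem F13144 : act 4 n807 = n1760 := (sb E3173 F3803)
theorem E3175 : n1699 = n1062 := ((D1699).symm.trans (sb E3173 (iv D2161)))
theorem E3176 : n2172 = n937 := (((E2494).symm.trans ((D1700).symm.trans (sb E3173 (iv F3821))))).symm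
theorem E3179 : n6836 = n1070 := (((F2992).symm.trans (sb E2227 (iv F11880)))).symm
theorem E3180 : n4277 = n4271 := ((D4277).symm.trans (sb E2228 (iv F7608)))
theorem E3182 : n1762 = n937 := (((iv F2995)).symm.trans (sb E2229 (tr F6169 E3176)))
theorem E3184 : n889 = n516 := ((((iv D1070)).symm.trans (sb E2229 (tr F6171 E3041)))).symm
theorem E3185 : n3433 = n1621 := (((D1621).symm.trans (sb E2231 D3433))).symm
theorem E3186 : n3465 = n1598 := ((((iv F2745)).symm.trans (sb E2232 D3465))).symm
theorem E3189 : n3467 = n1625 := (((D1625).symm.trans (sb E2232 D3467))).symm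
theorem E3190 : n1738 = n398 := (E2238).trans E2778
theorem E3191 : n1660 = n376 := (E2598).trans E2603
theorem E3192 : n3565 = n834 := (((D834).symm.trans (sb E3190 D3565))).symm
theorem E3193 : n3493 = n834 := (((iv F5923)).symm.trans (sb E2239 (tr (iv F6086) E3192)))
theorem F13146 : act 0 n398 = n806 := (sb E2240 F1493)
theorem F13147 : act 4 n398 = n398 := (sb E2240 (iv D835))
theorem E3199 : n3563 = n2136 := (((E2633).symm.trans ((D3491).symm.trans (sb E2241 D3563)))).symm
theorem E3202 : n6811 = n1949 := (((D1949).symm.trans (sb E2242 D6811))).symm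
theorem E3203 : n6807 = n1949 := (((D1949).symm.trans (sb E2244 D6807))).symm
theorem E3204 : n3503 = n1062 := (E2245).trans E3175
theorem E3205 : n2146 = n2136 := (((iv F3759)).symm.trans (sb E3204 (tr (iv F6082) E3199)))
theorem E3206 : n2159 = n1949 := ((D2159).symm.trans (sb E3204 (tr (iv F11799) E3202)))
theorem F13148 : act 4 n1062 = n1949 := (sb E3204 (tr (iv F11792) E3203))
theorem E3210 : n6985 = n834 := (E2248).trans E3193
theorem E3211 : n4255 = n1695 := (E3170).trans E3174
theorem E3213 : n4234 = n1053 := (((E2814).symm.trans ((D1741).symm.trans (sb E3210 F12243)))).symm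
theorem E3227 : n1760 = n945 := ((((iv F13053)).symm.trans (sb E2254 D1760))).symm
theorem F13150 : act 5 n190 = n385 := (sb E2257 (iv D809))
theorem E3233 : n3881 = n1739 := (((D1739).symm.trans (sb E2260 (iv F6780)))).symm
theorem E3234 : n1922 = n1053 := (((E2814).symm.trans ((D1741).symm.trans (sb E2260 (iv F3312))))).symm
theorem F13151 : act 4 n513 = n942 := (sb E2261 (iv F1717))
theorem F13152 : act 6 n450 = n399 := (sb E2262 (iv D840))
theorem E3236 : n4158 = n858 := ((((iv F1544)).symm.trans (iv (sb E2265 (tr (iv D4438) E3024))))).symm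
theorem E3237 : n4438 = n858 := (E2265).trans E3236
theorem E3238 : n2089 = n410 := (((F1545).symm.trans (sb E3237 (tr F7981 E2323)))).symm
theorem E3239 : n3514 = n408 := ((((iv D858)).symm.trans (sb E3237 (iv F7982)))).symm
theorem E3240 : n510 = n507 := (((F1547).symm.trans (sb E3237 (tr F7980 E3025)))).symm
theorem E3245 : n3646 = n408 := (E2267).trans E3239
theorem E3248 : n1787 = n856 := ((((iv F2003)).symm.trans (sb E3245 (iv D3646)))).symm
theorem E3255 : n3523 = n410 := (E2323).trans E3238
theorem E3263 : n517 = n410 := (((iv F2006)).symm.trans (sb E3034 (tr (iv F5993) E3255)))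
theorem E3264 : n421 = n391 := ((D421).symm.trans (sb E2658 (tr F6281 E3053)))
theorem E3269 : n1086 = n514 := (E2617).trans E3044
theorem E3270 : n2190 = n1054 := ((((iv F1931)).symm.trans (sb E3269 (iv F3854)))).symm
theorem E3271 : n1058 = n805 := (((iv F1942)).symm.trans (sb E3269 (tr (iv F3879) E2549)))
theorem E3272 : n2066 = n249 := (E2290).trans E2686
theorem E3274 : n3519 = n516 := (((D516).symm.trans (sb E3272 F6156))).symm
theorem E3275 : n589 = n149 := (((F388).symm.trans (sb E2291 (iv F1133)))).symm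
theorem E3280 : n3594 = n511 := (E2295).trans E2808
theorem E3282 : n3526 = n805 := (E2544).trans E2627
theorem E3283 : n3595 = n3589 := ((F13142).symm.trans (sb E3280 F6138))
theorem E3285 : n3589 = n942 := (((F13151).symm.trans (sb E2297 (iv F6124)))).symm
theorem E3286 : n1075 = n509 := ((((iv F996)).symm.trans (sb E3042 (tr (iv F5957) E2339)))).symm
theorem E3290 : n1080 = n509 := (E2446).trans E3286
theorem E3291 : n2436 = n585 := ((((iv F1130)).symm.trans (sb E2307 (iv F4324)))).symm
theorem E3297 : n280 = n149 := ((D280).symm.trans (sb E2690 (tr D589 E3275)))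
theorem E3299 : n423 = n248 := ((((iv F506)).symm.trans (sb E2311 (iv F811)))).symm
theorem F13153 : act 6 n123 = n100 := (sb E2311 (iv D202))
theorem E3301 : n4216 = n2126 := (((D2126).symm.trans (sb E2317 F11962))).symm
theorem F13154 : act 6 n1042 = n6872 := (sb E2317 (iv F11978))
theorem E3302 : n4220 = n2128 := (((D2128).symm.trans (sb E2318 (iv F7505)))).symm
theorem F13155 : act 4 n1043 = n1043 := (sb E2318 (iv D2129))
theorem E3303 : n4223 = n2130 := (((D2130).symm.trans (sb E2318 D4223))).symm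
theorem F13156 : act 5 n504 = n504 := (sb E2319 F1905)
theorem E3304 : n6872 = n1858 := ((((iv F3183)).symm.trans (sb E2376 (iv F11976)))).symm
theorem F13157 : act 2 n393 = n429 := (sb E2321 (iv D901))
theorem E3318 : n5278 = n777 := (((F1448).symm.trans (sb E2332 F12056))).symm
theorem E3320 : n3508 = n509 := (E2339).trans E3286
theorem E3329 : n1703 = n1054 := (((D1054).symm.trans (sb E3320 (iv D3508)))).symm
theorem E3334 : n1049 = n246 := (((D246).symm.trans (sb E2346 (iv F1923)))).symm
theorem E3335 : n411 = n238 := ((((iv F492)).symm.trans (sb E2346 (iv D867)))).symm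
theorem E3340 : n1925 = n856 := ((((iv F2002)).symm.trans (sb E2350 (iv F3318)))).symm
theorem E3346 : n150 = n130 := ((D150).symm.trans (sb E2356 (tr F3930 E2831)))
theorem E3347 : n4030 = n1403 := (E2358).trans E2401
theorem F13158 : act 0 n1403 = n1403 := (sb E3347 (tr F7100 E2401))
theorem F13159 : act 0 n827 = n827 := (sb E2365 (iv D1724))
theorem F13160 : act 6 n428 = n428 := (sb E2369 (iv D900))
theorem F13161 : act 2 n902 = n506 := (sb E2372 (iv F12918))
theorem E3358 : n1396 = n670 := (((F1475).symm.trans (sb E2395 F2928))).symm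
theorem F13162 : act 5 n827 = n827 := (sb E2395 (iv D1727))
theorem F13163 : act 2 n1403 = n899 := (sb E2397 (iv D1857))
theorem E3363 : n1410 = n1169 := (E2998).trans E3008
theorem F13165 : act 0 n2356 = n2356 := (sb E2405 F5020)
theorem F13166 : act 4 n2356 = n1403 := (sb E2405 F5022)
theorem E3367 : n1402 = n1166 := ((((iv D2356)).symm.trans (sb E2405 (iv D2874)))).symm
theorem E3368 : n4580 = n2356 := (E2406).trans E2414
theorem E3370 : n2351 = n1166 := ((((iv D2356)).symm.trans (sb E3368 (iv D4580)))).symm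
theorem F13167 : act 0 n670 = n670 := (sb E2407 (iv D1400))
theorem E3371 : n2867 = n1401 := (((D1401).symm.trans (sb E2407 D2867))).symm
theorem F13168 : act 2 n2356 = n1858 := (sb E2409 F6556)
theorem F13169 : act 0 n1042 = n1042 := (sb E2412 F2924)
theorem E3372 : n3545 = n2126 := (((D2126).symm.trans (sb E2412 D3545))).symm
theorem F13170 : act 4 n1042 = n827 := (sb E2412 (iv D1726))
theorem F13171 : act 5 n1042 = n1042 := (sb E2416 F3713)
theorem E3374 : n5597 = n1401 := (((D1401).symm.trans (sb E2418 D5597))).symm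
theorem F13172 : act 3 n827 = n827 := (sb E2419 (iv D1725))
theorem E3379 : n1064 = n394 := ((((iv F744)).symm.trans (sb E2429 F3776))).symm
theorem E3388 : n1210 = n570 := ((((iv F1115)).symm.trans (sb E3290 (iv F2222)))).symm
theorem E3391 : n1263 = n568 := ((((iv F1110)).symm.trans (sb E2453 (iv F2294)))).symm
theorem E3392 : n1270 = n620 := (((D620).symm.trans (sb E2453 D1270))).symm
theorem E3393 : n1271 = n308 := ((((iv F614)).symm.trans (sb E2453 D1271))).symm
theorem E3395 : n297 = n276 := ((((iv F558)).symm.trans (sb E2454 (iv F594)))).symm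
theorem E3396 : n299 = n267 := ((((iv F543)).symm.trans (sb E2454 D299))).symm
theorem F13173 : act 6 n135 = n72 := (sb E2454 (iv D144))
theorem E3397 : n1273 = n179 := ((((iv F364)).symm.trans (sb E2455 D1273))).symm
theorem E3398 : n1911 = n1048 := (((D1048).symm.trans (sb E2458 F3291))).symm
theorem E3399 : n1913 = n858 := ((((iv F1547)).symm.trans (sb E2458 (iv F3297)))).symm
theorem E3400 : n944 = n516 := (E2459).trans E3184
theorem E3401 : n1056 = n1048 := (((iv F1936)).symm.trans (sb E3400 (tr (iv F3290) E3398)))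
theorem E3402 : n1826 = n1068 := (((D1068).symm.trans (sb E3400 (tr (iv F3359) E2827)))).symm
theorem E3403 : n1938 = n1068 := (E2647).trans E3402
theorem E3404 : n1070 = n453 := ((D1070).symm.trans (sb E3400 (iv D944)))
theorem E3409 : n2554 = n1213 := ((((iv F2230)).symm.trans (sb E2469 (iv F4490)))).symm
theorem F13174 : act 3 n124 = n123 := (sb E2474 F402)
theorem F13175 : act 4 n124 = n100 := (sb E2474 (iv D201))
theorem E3416 : n3595 = n942 := (E3283).trans E3285
theorem E3426 : n2201 = n1068 := (E2824).trans E3402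
theorem E3427 : n1710 = n1068 := ((D1710).symm.trans (sb E2493 (tr D2201 E3426)))
theorem E3428 : n2203 = n390 := ((((iv D819)).symm.trans (sb E2493 D2203))).symm
theorem E3437 : n2458 = n640 := (((F1546).symm.trans (sb E2503 (iv F4361)))).symm
theorem F13176 : act 3 n219 = n3987 := (sb E2511 D3987)
theorem E3446 : n3926 = n818 := (((D818).symm.trans (iv (sb E2513 (tr (iv D4344) E3428))))).symm
theorem E3447 : n4344 = n818 := (E2513).trans E3446
theorem E3448 : n2271 = n803 := (((F2020).symm.trans (sb E3447 (tr F7772 E3158)))).symm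
theorem E3449 : n3918 = n803 := (E3158).trans E3448
theorem E3450 : n3917 = n1709 := (((D1709).symm.trans (sb E3447 F7774))).symm
theorem E3463 : n2180 = n1054 := ((E2542).symm.trans ((F6300).symm.trans (sb E2525 (tr (iv D4325) E3270))))
theorem E3468 : n1206 = n554 := ((((iv F1078)).symm.trans (sb E2530 (iv F2217)))).symm
theorem F13179 : act 6 n118 = n98 := (sb E2532 (iv D196))
theorem F13180 : act 5 n195 = n124 := (sb E2533 (iv D252))
theorem F13181 : act 6 n195 = n239 := (sb E2533 F516)
theorem E3475 : n3524 = n1054 := (E2542).trans E3463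
theorem E3478 : n6841 = n2142 := ((((iv F3751)).symm.trans (sb E3475 D6841))).symm
theorem E3479 : n6842 = n883 := (((F2016).symm.trans (sb E3475 D6842))).symm
theorem E3484 : n2142 = n1691 := ((((iv F2845)).symm.trans (sb E3282 (tr (iv F11896) E3478)))).symm
theorem E3485 : n883 = n813 := ((((iv F1447)).symm.trans (sb E2545 (tr (iv F11899) E3479)))).symm
theorem E3488 : n786 = n375 := ((((iv F704)).symm.trans (sb E2548 F2489))).symm
theorem E3490 : n3410 = n373 := ((((iv F700)).symm.trans (sb E2550 (iv F5801)))).symm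
theorem E3503 : n4445 = n2149 := ((F8000).symm.trans (sb E2564 (iv D4260)))
theorem E3505 : n2272 = n389 := (E2565).trans E2628
theorem E3506 : n2149 = n810 := ((((iv F2008)).symm.trans (sb E3505 (tr (iv F7998) E3503)))).symm
theorem F13186 : act 3 n392 = n394 := (sb E2581 (iv D826))
theorem E3533 : n3415 = n3332 := (((D3332).symm.trans (sb E2597 D3415))).symm
theorem E3534 : n3416 = n3333 := (((D3333).symm.trans (sb E2597 D3416))).symm
theorem E3536 : n3418 = n789 := (((D789).symm.trans (sb E3191 D3418))).symm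
theorem E3537 : n6513 = n3280 := ((((iv F5611)).symm.trans (sb E2599 D6513))).symm
theorem F13187 : act 3 n1623 = n1623 := (sb E2600 (iv D3336))
theorem E3543 : n3475 = n3339 := (((D3339).symm.trans (sb E2601 (iv F5893)))).symm
theorem E3549 : n3339 = n794 := (((D794).symm.trans (sb E2604 (tr D3475 E3543)))).symm
theorem E3555 : n3265 = n792 := (((D792).symm.trans (sb E2609 (iv F5591)))).symm
theorem E3557 : n3263 = n795 := (((D795).symm.trans (sb E2609 F5587))).symm
theorem E3560 : n1399 = n673 := ((((iv F1246)).symm.trans (sb E2618 (iv F2475)))).symm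
theorem F13188 : act 0 n834 = n1695 := (sb E2631 F2960)
theorem E3568 : n3577 = n1739 := (((D1739).symm.trans (sb E2631 D3577))).symm
theorem E3571 : n4232 = n3869 := (((D3869).symm.trans (sb E3152 F7537))).symm
theorem E3572 : n2135 = n926 := ((((iv D1912)).symm.trans (sb E3152 (iv D4233)))).symm
theorem E3573 : n6796 = n4230 := ((((iv F7527)).symm.trans (sb E2633 (iv F11766)))).symm
theorem F13189 : act 5 n2136 = n1695 := (sb E2633 (iv D3491))
theorem E3574 : n4231 = n1910 := (E2634).trans E2644
theorem E3575 : n2143 = n929 := (E2815).trans E2818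
theorem E3576 : n3866 = n2134 := ((D3866).symm.trans (sb E3574 (iv D4231)))
theorem E3577 : n6795 = n3865 := ((((iv F6752)).symm.trans (sb E2636 (iv F11765)))).symm
theorem F13190 : act 4 n1912 = n1695 := (sb E2636 (iv D3490))
theorem F13191 : act 6 n807 = n937 := (sb E2639 (iv D1939))
theorem E3582 : n6797 = n3863 := ((((iv F6748)).symm.trans (sb E2644 (iv F11767)))).symm
theorem F13192 : act 6 n1910 = n1695 := (sb E2644 (iv D3492))
theorem E3583 : n1926 = n926 := ((((iv F1686)).symm.trans (sb E2645 (iv F3341)))).symm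
theorem F13193 : act 2 n453 = n937 := (sb E2645 (iv D1937))
theorem E3586 : n2169 = n2134 := ((D2169).symm.trans (sb E3403 (tr (iv F6754) E3576)))
theorem E3601 : n1293 = n275 := (((D275).symm.trans (sb E2680 D1293))).symm
theorem E3603 : n296 = n277 := (((D277).symm.trans (sb E2680 (iv D621)))).symm
theorem F13195 : act 0 n136 = n135 := (sb E2682 F319)
theorem F13196 : act 3 n136 = n135 := (sb E2682 F320)
theorem F13197 : act 4 n136 = n72 := (sb E2682 (iv D143))
theorem F13198 : act 5 n247 = n217 := (sb E2684 (iv D451))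
theorem F13199 : act 4 n249 = n200 := (sb E2686 (iv D422))
theorem E3604 : n1179 = n294 := (((D294).symm.trans (sb E2693 (iv F2189)))).symm
theorem E3605 : n1195 = n295 := (((D295).symm.trans (sb E2693 D1195))).symm
theorem E3606 : n555 = n148 := ((((iv F326)).symm.trans (sb E2693 F1120))).symm
theorem E3607 : n585 = n294 := (((D294).symm.trans (sb E2695 (tr (iv F4326) E3291)))).symm
theorem E3608 : n2584 = n295 := (((D295).symm.trans (sb E2695 D2584))).symm
theorem E3609 : n1258 = n148 := ((((iv F326)).symm.trans (sb E2695 F2305))).symm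
theorem E3628 : n1914 = n928 := (((D928).symm.trans (sb E2728 (iv F3298)))).symm
theorem E3656 : n3987 = n238 := ((F13176).symm.trans (sb E2755 (tr (iv D866) E3335)))
theorem F13209 : act 3 n454 = n410 := (sb E2767 (iv D864))
theorem F13210 : act 5 n398 = n806 := (sb E2778 (iv D1696))
theorem E3669 : n3566 = n1739 := (((D1739).symm.trans (sb E2783 (iv F6087)))).symm
theorem E3674 : n1397 = n671 := (((D671).symm.trans (sb E2787 D1397))).symm
theorem F13211 : act 5 n319 = n319 := (sb E2787 F1243)
theorem F13212 : act 6 n504 = n902 := (sb E2792 (iv D1867))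
theorem F13213 : act 6 n899 = n827 := (sb E2793 (iv F13047))
theorem E3679 : n3863 = n3861 := (((iv F6748)).symm.trans (sb E2797 (iv F6745)))
theorem F13214 : act 1 n1918 = n1918 := (sb E2798 F6776)
theorem F13215 : act 1 n1916 = n1916 := (sb E2801 F6772)
theorem F13216 : act 5 n511 = n450 := (sb E2808 (iv D938))
theorem E3690 : n3568 = n1918 := ((D3568).symm.trans (sb E2812 (tr F7569 E3153)))
theorem E3691 : n3569 = n2141 := ((D3569).symm.trans (sb E2812 (iv D4249)))
theorem E3692 : n4244 = n3570 := (((D3570).symm.trans (sb E2812 F7570))).symm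
theorem F13217 : act 4 n931 = n834 := (sb E2813 (iv D1740))
theorem F13218 : act 5 n1053 = n834 := (sb E2814 (iv D1741))
theorem E3695 : n3570 = n1916 := ((((iv F3299)).symm.trans (sb E3575 (tr (iv F7557) E3692)))).symm
theorem F13219 : act 5 n929 = n1051 := (sb E3575 (iv D2143))
theorem F13220 : act 6 n929 = n834 := (sb E2818 (iv D1742))
theorem E3699 : n6793 = n3865 := ((((iv F6752)).symm.trans (sb E2820 (iv F11764)))).symm
theorem E3707 : n3730 = n803 := (((D803).symm.trans (sb E2844 D3730))).symm
theorem E3710 : n4225 = n2130 := (((D2130).symm.trans (iv (sb E2851 (tr (iv D4226) E2856))))).symm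
theorem E3712 : n6876 = n2126 := (((E3372).symm.trans (((iv F6039)).symm.trans (sb E2852 (iv F11985))))).symm
theorem E3713 : n4215 = n2126 := ((D4215).symm.trans (sb E2852 (tr F12055 E2852)))
theorem E3714 : n4218 = n2126 := ((D4218).symm.trans (sb E2852 (tr (iv F11988) E3712)))
theorem E3715 : n4219 = n2128 := ((D4219).symm.trans (sb E2853 (tr F12054 E2853)))
theorem E3716 : n6898 = n2128 := (((E3302).symm.trans ((D4220).symm.trans (sb E2853 (iv F12048))))).symm
theorem E3717 : n4222 = n2128 := ((D4222).symm.trans (sb E2853 (tr (iv F12050) E3716)))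
theorem F13222 : act 3 n2130 = n2130 := (sb E2855 F7498)
theorem F13223 : act 6 n1043 = n1043 := (sb E2856 (iv D2131))
theorem F13224 : act 4 n567 = n321 := (sb E2858 F1247)
theorem E3720 : n4965 = n1414 := ((((iv F2492)).symm.trans (iv (sb E2864 (tr F10045 E3062))))).symm
theorem E3721 : n5687 = n1414 := (E2864).trans E3720
theorem E3722 : n2901 = n2896 := (((D2896).symm.trans (sb E3721 (iv D5687)))).symm
theorem E3725 : n3189 = n2738 := ((((iv F4835)).symm.trans (sb E2865 D3189))).symm
theorem E3726 : n3183 = n2907 := ((((iv F5068)).symm.trans (sb E2865 (iv F5479)))).symm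
theorem E3727 : n3190 = n2910 := (((D2910).symm.trans (sb E2865 D3190))).symm
theorem E3728 : n666 = n167 := (((D167).symm.trans (sb E2866 D666))).symm
theorem E3730 : n648 = n78 := ((((iv F181)).symm.trans (sb E2869 D648))).symm
theorem E3731 : n652 = n325 := (((D325).symm.trans (sb E2873 D652))).symm
theorem E3732 : n5010 = n337 := (((D337).symm.trans (sb E2902 D5010))).symm
theorem E3736 : n2322 = n337 := (((iv F4155)).symm.trans (sb E2875 (tr F9412 E3732)))
theorem E3747 : n2317 = n80 := (((iv F4146)).symm.trans (sb E2886 (tr (iv F8897) E2936)))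
theorem E3748 : n5944 = n2770 := (((D2770).symm.trans (sb E2886 (iv F10520)))).symm
theorem E3778 : n1667 = n1621 := (((D1621).symm.trans (sb E2946 D1667))).symm
theorem F13231 : act 5 n770 = n376 := (sb E2946 (iv D791))
theorem E3779 : n1682 = n1598 := ((((iv F2745)).symm.trans (sb E2947 D1682))).symm
theorem E3780 : n1683 = n1623 := (((D1623).symm.trans (sb E2947 D1683))).symm
theorem E3781 : n1675 = n1624 := (((D1624).symm.trans (sb E2947 (iv F2830)))).symm
theorem E3782 : n1684 = n1625 := (((D1625).symm.trans (sb E2947 D1684))).symm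
theorem E3783 : n3459 = n1564 := (((D1564).symm.trans (iv (sb E2949 (tr F10751 E3125))))).symm
theorem E3785 : n3201 = n3124 := (E3120).trans E3122
theorem E3787 : n3196 = n3100 := ((((iv F5388)).symm.trans (sb E2950 (iv F5501)))).symm
theorem E3788 : n3204 = n1610 := ((((iv F2756)).symm.trans (sb E2950 D3204))).symm
theorem E3789 : n3205 = n3129 := (((D3129).symm.trans (sb E2950 D3205))).symm
theorem E3795 : n1608 = n1602 := ((((iv D3296)).symm.trans (sb E2954 (iv D3307)))).symm
theorem F13234 : act 0 n789 = n1621 := (sb E2957 F2817)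
theorem E3798 : n3430 = n1661 := (((D1661).symm.trans (sb E2957 D3430))).symm
theorem E3799 : n3424 = n1662 := (((D1662).symm.trans (sb E2957 (iv F5823)))).symm
theorem E3800 : n3431 = n1663 := (((D1663).symm.trans (sb E2957 D3431))).symm
theorem E3801 : n3432 = n1664 := (((D1664).symm.trans (sb E2957 D3432))).symm
theorem E3802 : n3458 = n1668 := (((D1668).symm.trans (sb E2958 D3458))).symm
theorem E3803 : n3448 = n1669 := (((D1669).symm.trans (sb E2958 (iv F5857)))).symm
theorem E3805 : n3461 = n1671 := (((D1671).symm.trans (sb E2958 D3461))).symm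
theorem F13235 : act 3 n793 = n793 := (sb E2959 (iv D1672))
theorem E3806 : n3449 = n1673 := (((D1673).symm.trans (sb E2959 D3449))).symm
theorem E3807 : n3450 = n1674 := (((D1674).symm.trans (sb E2959 D3450))).symm
theorem E3809 : n3464 = n1677 := (((D1677).symm.trans (sb E2961 D3464))).symm
theorem E3811 : n2336 = n688 := (((D688).symm.trans (sb E2963 D2336))).symm
theorem E3816 : n2348 = n693 := (((D693).symm.trans (sb E2966 D2348))).symm
theorem E3818 : n2350 = n695 := (((D695).symm.trans (sb E2966 D2350))).symm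
theorem E3821 : n2352 = n1167 := (((D1167).symm.trans (sb E2969 D2352))).symm
theorem F13236 : act 5 n565 = n565 := (sb E2969 F2156)
theorem E3827 : n1924 = n552 := ((((iv F1075)).symm.trans (sb E2980 F4333))).symm
theorem E3828 : n1212 = n571 := (((D571).symm.trans (sb E2980 F4332))).symm
theorem E3829 : n4773 = n572 := (((D572).symm.trans (sb E2981 D4773))).symm
theorem E3830 : n4768 = n573 := (((D573).symm.trans (sb E2981 (iv F8545)))).symm
theorem E3831 : n2975 = n574 := (((D574).symm.trans (sb E2981 (iv F5216)))).symm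
theorem E3832 : n4774 = n575 := (((D575).symm.trans (sb E2981 D4774))).symm
theorem E3833 : n1204 = n576 := (((D576).symm.trans (sb E2982 D1204))).symm
theorem E3834 : n2477 = n553 := (((D553).symm.trans (sb E2983 D2477))).symm
theorem E3835 : n1218 = n578 := (((D578).symm.trans (sb E2984 D1218))).symm
theorem E3836 : n1219 = n579 := (((D579).symm.trans (sb E2984 D1219))).symm
theorem E3837 : n1268 = n576 := (((D576).symm.trans (sb E2985 D1268))).symm
theorem E3838 : n1257 = n554 := ((((iv F1079)).symm.trans (sb E2985 (iv F2285)))).symm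
theorem E3839 : n2866 = n1167 := (((D1167).symm.trans (sb E2987 (iv F5009)))).symm
theorem E3840 : n1408 = n1167 := (((D1167).symm.trans (sb E2993 D1408))).symm
theorem E3841 : n4603 = n1167 := ((D4603).symm.trans (sb E2994 (tr (iv D4584) E3821)))
theorem E3842 : n2363 = n673 := ((D2363).symm.trans (sb E2995 (tr F2488 E3560)))
theorem F13237 : act 5 n1169 = n673 := (sb E2995 (iv D1411))
theorem F13238 : act 5 n1403 = n2356 := (sb E2996 (iv D4590))
theorem E3843 : n2875 = n2356 := ((((iv F4215)).symm.trans (sb E3363 (iv F5024)))).symm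
theorem F13239 : act 4 n1169 = n2893 := (sb E3363 D2893)
theorem E3849 : n2895 = n769 := ((((iv F1381)).symm.trans (sb E3002 D2895))).symm
theorem E3854 : n2893 = n673 := ((F13239).symm.trans (sb E3008 F2483))
theorem E3855 : n2551 = n769 := ((((iv F1381)).symm.trans (sb E3009 (iv F4482)))).symm
theorem E3856 : n2361 = n671 := (((D671).symm.trans (sb E3012 D2361))).symm
theorem F13240 : act 4 n319 = n565 := (sb E3012 (iv D1168))
theorem E3857 : n3482 = n1051 := (((D1051).symm.trans (sb E3021 (iv D6782)))).symm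
theorem E3866 : n1015 = n448 := ((((iv F870)).symm.trans (sb E3032 (iv F1869)))).symm
theorem F13241 : act 6 n514 = n389 := (sb E3044 (iv D817))
theorem E3881 : n2702 = n337 := (((D337).symm.trans (sb E3047 D2702))).symm
theorem E3888 : n4966 = n1415 := ((((iv F2495)).symm.trans (sb E3057 (iv F8830)))).symm
theorem E3893 : n4968 = n1417 := ((((iv F2500)).symm.trans (sb E3058 (iv F8833)))).symm
theorem E3895 : n4973 = n1422 := ((((iv F2508)).symm.trans (sb E3058 (iv F8837)))).symm
theorem F13242 : act 5 n679 = n1423 := (sb E3058 F4465)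
theorem F13243 : act 1 n2897 = n1423 := (sb E3059 F5062)
theorem F13244 : act 2 n682 = n1423 := (sb E3060 F4470)
theorem E3899 : n4976 = n1429 := (((D1429).symm.trans (sb E3060 D4976))).symm
theorem F13245 : act 4 n745 = n1423 := (sb E3061 (iv D2915))
theorem F13246 : act 3 n744 = n1420 := (sb E3062 (iv D2909))
theorem F13247 : act 6 n744 = n1423 := (sb E3062 F5072)
theorem E3905 : n2980 = n699 := (((F2595).symm.trans (sb E3067 (iv D5830)))).symm
theorem F13251 : act 1 n1459 = n706 := (sb E3065 F2606)
theorem E3907 : n2997 = n751 := (((F2594).symm.trans (sb E3065 D2997))).symm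
theorem E3909 : n5829 = n1465 := ((((iv F2605)).symm.trans (iv (sb E3066 (tr (iv D5869) E3907))))).symm
theorem F13254 : act 3 n1590 = n3029 := (sb E3069 (iv D5930))
theorem E3913 : n3029 = n705 := ((((iv F1307)).symm.trans (sb E3070 (iv F5281)))).symm
theorem F13255 : act 5 n333 = n706 := (sb E3070 (iv D1483))
theorem F13256 : act 2 n336 = n706 := (sb E3071 (iv D1481))
theorem E3916 : n3028 = n712 := (((D712).symm.trans (sb E3071 D3028))).symm
theorem E3919 : n3025 = n757 := (((D757).symm.trans (sb E3072 (iv F5277)))).symm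
theorem F13257 : act 4 n359 = n706 := (sb E3072 (iv D1482))
theorem F13258 : act 3 n358 = n703 := (sb E3073 (iv D1475))
theorem F13259 : act 6 n358 = n706 := (sb E3073 F2614)
theorem E3922 : n2979 = n697 := (((F2590).symm.trans (sb E3074 (iv F5223)))).symm
theorem F13260 : act 1 n1458 = n703 := (sb E3074 F2598)
theorem E3923 : n2985 = n2976 := (((D2976).symm.trans (sb E3074 (iv F5230)))).symm
theorem E3924 : n2988 = n2977 := (((D2977).symm.trans (sb E3074 (iv F5237)))).symm
theorem E3925 : n2991 = n2978 := (((D2978).symm.trans (sb E3074 D2991))).symm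
theorem E3926 : n3254 = n3002 := ((((iv F5258)).symm.trans (sb E3075 D3254))).symm
theorem E3927 : n3255 = n3008 := (((D3008).symm.trans (sb E3075 D3255))).symm
theorem E3928 : n3244 = n3005 := ((((iv F5262)).symm.trans (sb E3075 (iv F5572)))).symm
theorem E3929 : n3256 = n3009 := (((D3009).symm.trans (sb E3075 D3256))).symm
theorem E3931 : n3014 = n753 := ((D3014).symm.trans (sb E3076 (iv D1580)))
theorem E3932 : n3245 = n1474 := ((((iv F2613)).symm.trans (sb E3076 D3245))).symm
theorem E3934 : n3016 = n1478 := ((D3016).symm.trans (sb E3077 F2738))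
theorem E3937 : n1518 = n1437 := ((((iv F2544)).symm.trans (sb E3079 D1518))).symm
theorem F13261 : act 2 n687 = n341 := (sb E3079 (iv D723))
theorem F13262 : act 2 n725 = n1441 := (sb E3081 F4958)
theorem E3941 : n5763 = n3097 := ((((iv F5381)).symm.trans (sb E3082 (iv F10218)))).symm
theorem E3942 : n5777 = n3122 := (((D3122).symm.trans (sb E3082 D5777))).symm
theorem F13263 : act 4 n1527 = n1441 := (sb E3082 F5161)
theorem E3943 : n6413 = n6411 := ((((iv F11145)).symm.trans (sb E3083 (iv F11148)))).symm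
theorem E3944 : n5783 = n1599 := ((((iv D3287)).symm.trans (sb E3083 (iv F10263)))).symm
theorem E3945 : n6424 = n3291 := ((D6424).symm.trans (sb E3083 (iv F5626)))
theorem E3953 : n6082 = n6036 := ((D6082).symm.trans (sb E3086 (iv F10644)))
theorem E3954 : n6054 = n6044 := (((D6044).symm.trans (sb E3087 (iv F10670)))).symm
theorem E3955 : n6036 = n5755 := ((((iv F10206)).symm.trans (sb E3099 (tr (iv F10725) E3953)))).symm
theorem E3956 : n6044 = n5760 := ((((iv F10213)).symm.trans (sb E3099 (iv F10662)))).symm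
theorem F13266 : act 2 n1527 = n1523 := (sb E3089 F5398)
theorem E3959 : n6054 = n5760 := (E3954).trans E3956
theorem E3965 : n5761 = n3089 := ((((iv F5367)).symm.trans (sb E3094 (iv F10214)))).symm
theorem F13267 : act 6 n1513 = n2943 := (sb E3095 (iv D5766))
theorem E3968 : n5759 = n3091 := ((((iv F5369)).symm.trans (sb E3096 (iv F10212)))).symm
theorem E3969 : n5762 = n1595 := ((((iv F2742)).symm.trans (sb E3096 D5762))).symm
theorem E3970 : n6030 = n6028 := (((iv F10627)).symm.trans (sb E3098 (iv F10624)))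
theorem E3972 : n3294 = n764 := (((F2649).symm.trans (sb E3102 F9805))).symm
theorem E3974 : n3087 = n2941 := ((D3087).symm.trans (sb E3103 F9809))
theorem F13268 : act 0 n1523 = n1527 := (sb E3105 F5171)
theorem E3979 : n5779 = n3119 := (((D3119).symm.trans (sb E3105 D5779))).symm
theorem F13269 : act 0 n763 = n1522 := (sb E3107 F5158)
theorem E3981 : n5774 = n1601 := ((((iv F2748)).symm.trans (sb E3107 D5774))).symm
theorem E3982 : n1604 = n1443 := (((iv F2751)).symm.trans (sb E3107 F5159))
theorem E3983 : n5775 = n1607 := (((D1607).symm.trans (sb E3107 D5775))).symm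
theorem F13270 : act 6 n3083 = n3105 := (sb E3108 (iv D6083))
theorem E3985 : n5547 = n1528 := (((F5409).symm.trans (sb E3112 F9849))).symm
theorem F13271 : act 4 n3085 = n3105 := (sb E3115 (iv D6081))
theorem F13272 : act 1 n3091 = n3089 := (sb E3116 F10659)
theorem E3989 : n6117 = n6116 := (((iv F10762)).symm.trans (sb E3785 (iv F10760)))
theorem E3990 : n6262 = n6120 := (((D6120).symm.trans (sb E3785 D6262))).symm
theorem E3991 : n6261 = n6102 := (((D6102).symm.trans (sb E3121 (iv F10952)))).symm
theorem F13273 : act 6 n3116 = n1564 := (sb E3121 (iv D3203))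
theorem E3994 : n6119 = n6116 := (((E3989).symm.trans (((iv F10762)).symm.trans (sb E3122 (iv F10764))))).symm
theorem F13274 : act 2 n3124 = n1530 := (sb E3122 F5414)
theorem E3995 : n6124 = n6120 := (((D6120).symm.trans (sb E3122 D6124))).symm
theorem E3997 : n6251 = n6057 := (((D6057).symm.trans (sb E3123 (iv F10936)))).symm
theorem E3999 : n6059 = n1562 := ((D6059).symm.trans (sb E3123 (iv D3198)))
theorem F13275 : act 4 n747 = n1530 := (sb E3125 F5411)
theorem E4001 : n3128 = n1566 := (((D1566).symm.trans (sb E3125 (iv F5416)))).symm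
theorem F13276 : act 6 n747 = n1522 := (sb E3125 (iv D3118))
theorem E4002 : n2955 = n1606 := (((iv F5175)).symm.trans (sb E3126 F5521))
theorem E4004 : n6264 = n3125 := ((((iv F5413)).symm.trans (sb E3126 (iv F10959)))).symm
theorem F13277 : act 0 n761 = n1530 := (sb E3128 F5176)
theorem E4006 : n5786 = n1603 := (((D1603).symm.trans (sb E3128 D5786))).symm
theorem F13278 : act 2 n1610 = n1568 := (sb E3129 (iv D3210))
theorem E4007 : n6272 = n3309 := (((D3309).symm.trans (sb E3129 D6272))).symm
theorem E4011 : n3296 = n1568 := ((D3296).symm.trans (sb E3134 (iv D3212)))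
theorem F13281 : act 0 n1599 = n3124 := (sb E3139 F10255)
theorem E4013 : n3287 = n2954 := ((D3287).symm.trans (sb E3139 (iv D5781)))
theorem E4014 : n3292 = n3284 := ((D3292).symm.trans (sb E3140 F10744))
theorem F13282 : act 5 n453 = n6860 := (sb E3149 (iv F11951))
theorem E4019 : n3538 = n1068 := (E3150).trans E3402
theorem F13283 : act 4 n1068 = n6860 := (sb E4019 D6860)
theorem E4022 : n4245 = n3885 := (((D3885).symm.trans (sb E3153 F7565))).symm
theorem E4023 : n2140 = n928 := ((((iv D1918)).symm.trans (sb E3153 (iv D4247)))).symm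
theorem F13284 : act 6 n1923 = n1051 := (sb E3154 (iv D2144))
theorem F13285 : act 5 n447 = n508 := (sb E3155 (iv D1052))
theorem E4026 : n4270 = n3916 := (((D3916).symm.trans (sb E3156 D4270))).symm
theorem E4027 : n4271 = n1709 := (((E3450).symm.trans ((D3917).symm.trans (sb E3156 D4271)))).symm
theorem E4029 : n1943 = n1693 := (((D1693).symm.trans (sb E3449 (iv D3918)))).symm
theorem E4033 : n4268 = n1910 := ((((iv F13192)).symm.trans (sb E3211 (iv F7603)))).symm
theorem E4037 : n3583 = n1910 := (((E4033).symm.trans (((iv F7602)).symm.trans (sb E3172 F12149)))).symm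
theorem F13289 : act 5 n1062 = n807 := (sb E3175 (iv D1699))
theorem E4042 : n6836 = n453 := (E3179).trans E3404
theorem E4043 : n6860 = n516 := ((F13282).symm.trans (sb E4042 (tr (iv D6836) E3274)))
theorem E4044 : n4277 = n1709 := (E3180).trans E4027
theorem E4045 : n3518 = n1949 := ((D3518).symm.trans (sb E4044 (tr (iv D4277) E3206)))
theorem F13290 : act 5 n937 = n1068 := (sb E3182 (iv F2996))
theorem E4054 : n6697 = n3334 := (((D3334).symm.trans (sb E3185 D6697))).symm
theorem E4055 : n6749 = n3280 := ((((iv F5611)).symm.trans (sb E3186 D6749))).symm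
theorem E4057 : n6751 = n3284 := (((D3284).symm.trans (sb E3186 D6751))).symm
theorem E4058 : n5706 = n3285 := (((D3285).symm.trans (sb E3186 F10090))).symm
theorem E4059 : n6752 = n3286 := (((D3286).symm.trans (sb E3186 D6752))).symm
theorem E4062 : n3475 = n794 := (E3543).trans E3549
theorem E4064 : n6754 = n3341 := (((D3341).symm.trans (sb E3189 D6754))).symm
theorem E4078 : n6797 = n3861 := (E3582).trans E3679
theorem F13291 : act 1 n2136 = n1062 := (sb E3205 F3759)
theorem F13292 : act 2 n1949 = n1062 := (sb E3206 (iv D2159))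
theorem F13293 : act 6 n1949 = n1068 := (sb E3206 F3794)
theorem F13294 : act 3 n1053 = n2136 := (sb E3213 (iv D4234))
theorem F13295 : act 4 n945 = n807 := (sb E3227 (iv F13144))
theorem E4096 : n3883 = n2141 := (((E3691).symm.trans ((D3569).symm.trans (sb E3233 (iv F6783))))).symm
theorem F13296 : act 4 n1053 = n1923 := (sb E3234 (iv F3314))
theorem F13297 : act 1 n507 = n249 := (sb E3240 F997)
theorem E4098 : n571 = n568 := ((((iv F1109)).symm.trans (sb E3240 (iv F1117)))).symm
theorem E4099 : n1057 = n858 := ((((iv F1547)).symm.trans (sb E3240 D1057))).symm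
theorem E4101 : n1279 = n638 := (((F1539).symm.trans (sb E3248 F3060))).symm
theorem E4102 : n859 = n491 := ((((iv F1542)).symm.trans (sb E3248 F3061))).symm
theorem E4103 : n884 = n509 := (((F1540).symm.trans (sb E3248 F3062))).symm
theorem F13298 : act 5 n410 = n249 := (sb E3263 (iv D517))
theorem F13299 : act 6 n410 = n409 := (sb E3263 F2006)
theorem F13300 : act 3 n391 = n200 := (sb E3264 (iv D421))
theorem F13301 : act 5 n391 = n514 := (sb E3264 F2015)
theorem F13302 : act 3 n805 = n511 := (sb E3271 (iv D1058))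
theorem F13303 : act 4 n805 = n514 := (sb E3271 F1942)
theorem E4119 : n579 = n308 := ((((iv F613)).symm.trans (sb E3275 (tr (iv F2231) E3836)))).symm
theorem F13304 : act 6 n942 = n511 := (sb E3416 (iv F13142))
theorem E4132 : n2436 = n294 := (E3291).trans E3607
theorem E4133 : n4757 = n614 := (((D614).symm.trans (sb E4132 D4757))).symm
theorem E4134 : n1213 = n306 := ((((iv F612)).symm.trans (sb E4132 (tr (iv F4491) E3409)))).symm
theorem E4135 : n615 = n570 := ((D615).symm.trans (sb E4132 (tr F4325 E3388)))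
theorem E4136 : n1212 = n568 := (E3828).trans E4098
theorem F13305 : act 5 n149 = n136 := (sb E3297 (iv D280))
theorem F13306 : act 6 n248 = n200 := (sb E3299 (iv D423))
theorem F13307 : act 4 n2126 = n2126 := (sb E3301 (iv D4216))
theorem F13308 : act 4 n2128 = n2128 := (sb E3302 (iv D4220))
theorem F13309 : act 4 n2130 = n2130 := (sb E3303 F7511)
theorem F13310 : act 6 n1858 = n1042 := (sb E3304 (iv F13154))
theorem E4145 : n2707 = n373 := (((F1395).symm.trans (sb E3318 F9405))).symm
theorem E4150 : n2148 = n1629 := ((D2148).symm.trans (sb E3329 F2865))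
theorem F13311 : act 6 n246 = n507 := (sb E3334 (iv D1049))
theorem F13312 : act 6 n238 = n194 := (sb E3335 (iv D411))
theorem E4151 : n2439 = n638 := (((F1539).symm.trans (sb E3340 (iv F4335)))).symm
theorem F13313 : act 6 n130 = n74 := (sb E3346 (iv D150))
theorem E4159 : n2860 = n1401 := (((D1401).symm.trans (sb E3358 D2860))).symm
theorem F13314 : act 5 n670 = n670 := (sb E3358 F2472)
theorem F13315 : act 0 n1166 = n1166 := (sb E3367 F2479)
theorem E4162 : n2873 = n2355 := (((D2355).symm.trans (sb E3367 D2873))).symm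
theorem F13316 : act 4 n1166 = n670 := (sb E3367 (iv D1402))
theorem E4163 : n4579 = n2355 := (((D2355).symm.trans (sb E3370 D4579))).symm
theorem F13317 : act 5 n1166 = n1166 := (sb E3370 F4207)
theorem F13318 : act 0 n1401 = n1401 := (sb E3371 F5010)
theorem E4164 : n5611 = n2869 := (((D2869).symm.trans (sb E3371 D5611))).symm
theorem E4165 : n5612 = n2870 := (((D2870).symm.trans (sb E3371 D5612))).symm
theorem E4166 : n5613 = n2871 := (((D2871).symm.trans (sb E3371 D5613))).symm
theorem F13319 : act 0 n2126 = n2126 := (sb E3372 F6039)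
theorem E4169 : n6874 = n4217 := (((D4217).symm.trans (sb E3372 D6874))).symm
theorem E4171 : n2872 = n2355 := ((D2872).symm.trans (sb E3374 (tr F9921 E4163)))
theorem F13320 : act 2 n394 = n514 := (sb E3379 (iv D1064))
theorem E4183 : n2569 = n1172 := (((D1172).symm.trans (sb E3391 D2569))).symm
theorem E4184 : n2570 = n640 := ((((iv F1223)).symm.trans (sb E3391 D2570))).symm
theorem E4185 : n2585 = n1290 := (((D1290).symm.trans (sb E3392 D2585))).symm
theorem E4186 : n2586 = n1284 := ((((iv F2334)).symm.trans (sb E3392 D2586))).symm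
theorem E4187 : n2587 = n1291 := (((D1291).symm.trans (sb E3392 D2587))).symm
theorem E4189 : n2588 = n646 := (((D646).symm.trans (sb E3393 D2588))).symm
theorem E4190 : n623 = n554 := (((iv F1193)).symm.trans (sb E3393 (tr F2310 E3838)))
theorem E4192 : n622 = n576 := (((D576).symm.trans (sb E3395 D622))).symm
theorem F13321 : act 6 n276 = n142 := (sb E3395 (iv D297))
theorem F13322 : act 6 n267 = n149 := (sb E3396 F600)
theorem E4194 : n2590 = n372 := ((((iv F699)).symm.trans (sb E3397 D2590))).symm
theorem F13323 : act 3 n858 = n927 := (sb E3399 (iv D1913))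
theorem F13324 : act 1 n1048 = n516 := (sb E3401 F1936)
theorem E4197 : n2554 = n306 := (E3409).trans E4134
theorem E4198 : n3157 = n639 := (((D639).symm.trans (sb E4197 F5453))).symm
theorem E4208 : n3511 = n2134 := (((E3586).symm.trans ((D2169).symm.trans (sb E3427 (iv F5967))))).symm
theorem F13325 : act 3 n1068 = n819 := (sb E3427 (iv D1710))
theorem E4211 : n1219 = n308 := (E3836).trans E4119
theorem E4212 : n4806 = n1335 := (((D1335).symm.trans (sb E3437 D4806))).symm
theorem E4214 : n1950 = n1708 := (((D1708).symm.trans (sb E3446 (iv D3926)))).symm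
theorem E4228 : n1506 = n1144 := (((D1144).symm.trans (sb E3468 F2645))).symm
theorem F13326 : act 4 n1691 = n1054 := (sb E3484 F3751)
theorem F13327 : act 0 n813 = n1054 := (sb E3485 (iv F1930))
theorem F13328 : act 3 n813 = n420 := (sb E3485 (iv D883))
theorem F13329 : act 5 n813 = n1054 := (sb E3485 (iv F2016))
theorem F13330 : act 3 n375 = n374 := (sb E3488 (iv D786))
theorem E4242 : n6642 = n784 := (((D784).symm.trans (sb E3490 D6642))).symm
theorem F13331 : act 6 n810 = n1054 := (sb E3506 (iv D2149))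
theorem F13332 : act 3 n3332 = n3332 := (sb E3533 F5810)
theorem E4286 : n6656 = n6501 := (((D6501).symm.trans (sb E3534 D6656))).symm
theorem E4291 : n6501 = n1663 := (((D1663).symm.trans (sb E3536 (tr (iv F11537) E4286)))).symm
theorem E4293 : n6408 = n6404 := ((((iv F11138)).symm.trans (sb E3537 F11297))).symm
theorem E4296 : n3022 = n1670 := ((((iv F2825)).symm.trans (sb E4062 F5895))).symm
theorem E4320 : n3252 = n1669 := (((D1669).symm.trans (sb E3555 F5592))).symm
theorem E4321 : n1671 = n1591 := ((D1671).symm.trans (sb E3555 (iv D3265)))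
theorem E4323 : n1677 = n1589 := ((D1677).symm.trans (sb E3557 (iv D3263)))
theorem F13333 : act 0 n1739 = n3489 := (sb E3568 F6105)
theorem E4330 : n6937 = n3567 := (((D3567).symm.trans (sb E3568 D6937))).symm
theorem F13334 : act 4 n3869 = n2136 := (sb E3571 F7534)
theorem E4333 : n4229 = n1909 := (((D1909).symm.trans (sb E3572 (iv F7525)))).symm
theorem F13335 : act 5 n926 = n1048 := (sb E3572 (iv D2135))
theorem F13336 : act 5 n4230 = n3489 := (sb E3573 (iv D6796))
theorem F13337 : act 5 n2134 = n1910 := (sb E3576 (iv D3866))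
theorem F13338 : act 6 n2134 = n3869 := (sb E3576 (iv F6766))
theorem F13339 : act 4 n3865 = n3489 := (sb E3577 (iv D6795))
theorem F13340 : act 6 n3861 = n3489 := (sb E4078 (iv D6797))
theorem E4336 : n3870 = n1909 := (((D1909).symm.trans (sb E3583 (iv F6767)))).symm
theorem F13341 : act 1 n2134 = n1068 := (sb E3586 (iv D2169))
theorem E4338 : n4264 = n4227 := ((((iv F7520)).symm.trans (sb E3586 (iv F7598)))).symm
theorem E4351 : n2635 = n572 := (((D572).symm.trans (sb E3601 D2635))).symm
theorem E4354 : n2633 = n575 := (((D575).symm.trans (sb E3601 (iv F4646)))).symm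
theorem F13342 : act 0 n277 = n276 := (sb E3603 F591)
theorem E4356 : n620 = n578 := (((D578).symm.trans (sb E3603 D620))).symm
theorem F13343 : act 4 n277 = n142 := (sb E3603 (iv D296))
theorem E4358 : n1139 = n306 := ((((iv F612)).symm.trans (sb E3604 F2192))).symm
theorem E4359 : n2417 = n616 := (((D616).symm.trans (sb E3605 D2417))).symm
theorem E4363 : n1145 = n307 := (((D307).symm.trans (sb E3606 D1145))).symm
theorem F13344 : act 6 n148 = n266 := (sb E3606 (iv D555))
theorem E4365 : n5056 = n616 := (((D616).symm.trans (sb E3608 D5056))).symm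
theorem E4366 : n5057 = n617 := (((D617).symm.trans (sb E3608 D5057))).symm
theorem E4367 : n1552 = n618 := (((D618).symm.trans (sb E3608 F4545))).symm
theorem E4369 : n1553 = n307 := (((D307).symm.trans (sb E3609 (iv F2698)))).symm
theorem F13345 : act 1 n928 = n928 := (sb E3628 (iv D1914))
theorem E4381 : n3871 = n1915 := (((D1915).symm.trans (sb E3628 D3871))).symm
theorem F13346 : act 3 n238 = n219 := (sb E3656 (iv F13176))
theorem F13347 : act 1 n1739 = n1739 := (sb E3669 (iv D3566))
theorem E4395 : n6914 = n3567 := (((D3567).symm.trans (sb E3669 D6914))).symm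
theorem E4396 : n2863 = n1404 := (((D1404).symm.trans (sb E3674 D2863))).symm
theorem E4397 : n2864 = n1405 := (((D1405).symm.trans (sb E3674 D2864))).symm
theorem E4398 : n2865 = n1406 := (((D1406).symm.trans (sb E3674 D2865))).symm
theorem F13348 : act 0 n3861 = n1916 := (sb E3679 F6747)
theorem F13349 : act 2 n3861 = n1910 := (sb E3679 F6748)
theorem E4401 : n4244 = n1916 := (E3692).trans E3695
theorem F13350 : act 4 n1918 = n1739 := (sb E3690 (iv D3568))
theorem F13351 : act 5 n2141 = n1739 := (sb E3691 (iv D3569))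
theorem F13352 : act 5 n1916 = n2139 := (sb E4401 (iv D4244))
theorem F13353 : act 6 n1916 = n1739 := (sb E3695 (iv D3570))
theorem F13354 : act 1 n3865 = n3489 := (sb E3699 (iv D6793))
theorem E4421 : n7142 = n1692 := (((D1692).symm.trans (sb E3707 D7142))).symm
theorem F13355 : act 6 n2130 = n2130 := (sb E3710 (iv D4225))
theorem F13356 : act 2 n2126 = n2126 := (sb E3713 (iv D4215))
theorem F13357 : act 6 n2126 = n2126 := (sb E3714 (iv D4218))
theorem F13358 : act 1 n2128 = n2128 := (sb E3715 (iv D4219))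
theorem E4423 : n6785 = n4221 := (((D4221).symm.trans (sb E3716 F12049))).symm
theorem F13359 : act 6 n2128 = n2128 := (sb E3717 (iv D4222))
theorem F13360 : act 1 n2896 = n1420 := (sb E3722 F5054)
theorem E4425 : n5682 = n5674 := (((D5674).symm.trans (sb E3722 (iv F10035)))).symm
theorem E4426 : n5685 = n5675 := (((D5675).symm.trans (sb E3722 (iv F10042)))).symm
theorem E4427 : n5688 = n5676 := (((D5676).symm.trans (sb E3722 D5688))).symm
theorem E4429 : n5356 = n5353 := (((D5353).symm.trans (sb E3725 F9562))).symm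
theorem E4432 : n5698 = n1557 := ((D5698).symm.trans (sb E3726 (iv D3183)))
theorem E4434 : n5700 = n2912 := ((D5700).symm.trans (sb E3727 F5493))
theorem E4436 : n1393 = n347 := (((D347).symm.trans (sb E3728 D1393))).symm
theorem E4437 : n1394 = n348 := (((D348).symm.trans (sb E3728 D1394))).symm
theorem E4438 : n1387 = n345 := ((((iv F653)).symm.trans (sb E3728 (iv F2467)))).symm
theorem E4441 : n1355 = n156 := (((D156).symm.trans (sb E3730 D1355))).symm
theorem E4442 : n1362 = n683 := (((D683).symm.trans (sb E3731 D1362))).symm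
theorem E4443 : n1363 = n684 := (((D684).symm.trans (sb E3731 D1363))).symm
theorem E4445 : n1365 = n681 := ((((iv F1263)).symm.trans (sb E3731 D1365))).symm
theorem E4456 : n4523 = n713 := (((D713).symm.trans (sb E3736 D4523))).symm
theorem E4457 : n1499 = n714 := (((D714).symm.trans (sb E3736 F4156))).symm
theorem E4465 : n4513 = n160 := (((D160).symm.trans (sb E3747 D4513))).symm
theorem E4467 : n5411 = n3037 := ((D5411).symm.trans (sb E3748 (iv D5944)))
theorem E4482 : n3435 = n3332 := (((D3332).symm.trans (sb E3778 D3435))).symm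
theorem E4483 : n3427 = n3333 := (((D3333).symm.trans (sb E3778 (iv F5829)))).symm
theorem E4485 : n3468 = n3280 := ((((iv F5611)).symm.trans (sb E3779 D3468))).symm
theorem E4487 : n3470 = n3284 := (((D3284).symm.trans (sb E3779 D3470))).symm
theorem E4488 : n3453 = n3285 := (((D3285).symm.trans (sb E3779 (iv F5862)))).symm
theorem E4489 : n3286 = n3194 := ((D3286).symm.trans (sb E3779 F5498))
theorem E4490 : n3454 = n3337 := (((D3337).symm.trans (sb E3780 (iv F5867)))).symm
theorem F13369 : act 3 n1624 = n794 := (sb E3781 (iv D1675))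
theorem E4492 : n3455 = n3340 := (((D3340).symm.trans (sb E3781 D3455))).symm
theorem E4493 : n3341 = n3192 := ((D3341).symm.trans (sb E3782 F5500))
theorem F13370 : act 4 n1564 = n3124 := (sb E3783 (iv F9853))
theorem E4495 : n6742 = n3202 := (((D3202).symm.trans (sb E3783 D6742))).symm
theorem E4496 : n6249 = n6068 := ((((iv F10692)).symm.trans (sb E3787 (iv F10934)))).symm
theorem F13371 : act 0 n1610 = n1602 := (sb E3788 F5513)
theorem E4498 : n6267 = n3309 := (((D3309).symm.trans (sb E3788 D6267))).symm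
theorem E4499 : n6269 = n6127 := (((D6127).symm.trans (sb E3789 D6269))).symm
theorem E4502 : n3306 = n3295 := (((D3295).symm.trans (sb E3795 D3306))).symm
theorem F13372 : act 0 n1661 = n3331 := (sb E3798 F5835)
theorem E4503 : n6688 = n3419 := (((D3419).symm.trans (sb E3798 D6688))).symm
theorem E4504 : n6689 = n3420 := (((D3420).symm.trans (sb E3798 D6689))).symm
theorem E4505 : n6678 = n3421 := (((D3421).symm.trans (sb E3798 (iv F11572)))).symm
theorem E4506 : n6690 = n3422 := (((D3422).symm.trans (sb E3798 D6690))).symm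
theorem E4507 : n6691 = n3423 := (((D3423).symm.trans (sb E3798 D6691))).symm
theorem F13373 : act 0 n1662 = n3332 := (sb E3799 F5821)
theorem F13374 : act 3 n1662 = n1662 := (sb E3799 (iv D3424))
theorem E4508 : n6679 = n3425 := (((D3425).symm.trans (sb E3799 D6679))).symm
theorem E4509 : n6680 = n3426 := (((D3426).symm.trans (sb E3799 D6680))).symm
theorem F13375 : act 0 n1663 = n3333 := (sb E3800 F5836)
theorem E4510 : n6693 = n3428 := (((D3428).symm.trans (sb E3800 D6693))).symm
theorem F13376 : act 0 n1664 = n3334 := (sb E3801 F5838)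
theorem E4511 : n6694 = n3429 := (((D3429).symm.trans (sb E3801 D6694))).symm
theorem E4512 : n3438 = n3437 := (((D3437).symm.trans (sb E3802 (iv F5873)))).symm
theorem E4514 : n6741 = n3440 := (((D3440).symm.trans (sb E3802 D6741))).symm
theorem F13377 : act 3 n1669 = n3116 := (sb E3803 F9852)
theorem E4515 : n6722 = n3442 := (((D3442).symm.trans (sb E3803 D6722))).symm
theorem E4516 : n6723 = n3443 := (((D3443).symm.trans (sb E3803 D6723))).symm
theorem E4519 : n3461 = n1591 := (E3805).trans E4321
theorem E4520 : n3440 = n3228 := ((((iv F5552)).symm.trans (sb E4519 (tr (iv F11668) E4514)))).symm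
theorem E4521 : n3443 = n3026 := ((((iv F5278)).symm.trans (sb E4519 F9855))).symm
theorem E4522 : n6723 = n3026 := (E4516).trans E4521
theorem E4523 : n3264 = n3026 := (((iv F5588)).symm.trans (sb E4519 (tr (iv F11642) E4522)))
theorem E4525 : n6724 = n3451 := (((D3451).symm.trans (sb E3806 D6724))).symm
theorem E4526 : n3464 = n1589 := (E3809).trans E4323
theorem E4527 : n6725 = n3452 := (((D3452).symm.trans (sb E3807 D6725))).symm
theorem E4529 : n3429 = n3260 := (((D3260).symm.trans (sb E4526 (tr (iv F11605) E4511)))).symm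
theorem E4534 : n4557 = n1444 := (((D1444).symm.trans (sb E3811 D4557))).symm
theorem E4541 : n4576 = n1452 := (((D1452).symm.trans (sb E3816 D4576))).symm
theorem E4543 : n2754 = n1454 := (((D1454).symm.trans (sb E3816 (iv F4858)))).symm
theorem E4544 : n1455 = n1353 := ((D1455).symm.trans (sb E3816 F4201))
theorem E4546 : n1457 = n1351 := ((D1457).symm.trans (sb E3818 (iv F4205)))
theorem E4550 : n4583 = n2359 := (((D2359).symm.trans (sb E3821 D4583))).symm
theorem E4557 : n3890 = n1138 := (((D1138).symm.trans (sb E3827 D3890))).symm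
theorem E4558 : n2457 = n1172 := (((D1172).symm.trans (sb E4136 D2457))).symm
theorem E4559 : n5816 = n1184 := (((D1184).symm.trans (sb E3829 (iv F10329)))).symm
theorem E4560 : n2441 = n1186 := (((D1186).symm.trans (sb E3830 (iv D4768)))).symm
theorem E4561 : n5817 = n1187 := (((D1187).symm.trans (sb E3830 (iv F10331)))).symm
theorem E4562 : n1353 = n1142 := ((((iv F2119)).symm.trans (sb E3831 (tr (iv D2975) E4544)))).symm
theorem E4563 : n5811 = n1189 := (((D1189).symm.trans (sb E3831 (iv F10320)))).symm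
theorem E4564 : n2472 = n1190 := (((D1190).symm.trans (sb E3832 F8553))).symm
theorem E4566 : n2442 = n1193 := (((D1193).symm.trans (sb E3833 D2442))).symm
theorem E4568 : n1351 = n1140 := (((D1140).symm.trans (sb E3834 (tr F4378 E4546)))).symm
theorem E4569 : n2965 = n1141 := (((D1141).symm.trans (sb E3834 (iv F5197)))).symm
theorem E4570 : n1455 = n1142 := (E4544).trans E4562
theorem E4571 : n2964 = n1143 := (((D1143).symm.trans (sb E3834 F5193))).symm
theorem E4572 : n1180 = n1172 := (((iv F2193)).symm.trans (sb E3835 (tr (iv F4358) E4558)))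
theorem E4573 : n2470 = n1196 := (((D1196).symm.trans (sb E3835 D2470))).symm
theorem E4575 : n2471 = n1198 := (((D1198).symm.trans (sb E3835 D2471))).symm
theorem E4576 : n2473 = n646 := (((D646).symm.trans (sb E4211 D2473))).symm
theorem E4577 : n2581 = n1192 := (((D1192).symm.trans (sb E3837 D2581))).symm
theorem E4581 : n2559 = n1144 := (((D1144).symm.trans (sb E3838 D2559))).symm
theorem E4582 : n5606 = n2357 := (((D2357).symm.trans (sb E3839 (iv F9932)))).symm
theorem E4583 : n5607 = n2358 := (((D2358).symm.trans (sb E3839 (iv F9933)))).symm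
theorem E4584 : n5610 = n2359 := (((D2359).symm.trans (sb E3839 D5610))).symm
theorem E4585 : n2888 = n2357 := (((D2357).symm.trans (sb E3840 D2888))).symm
theorem E4586 : n2882 = n2358 := (((D2358).symm.trans (sb E3840 (iv F5034)))).symm
theorem E4588 : n2890 = n2360 := (((D2360).symm.trans (sb E3840 D2890))).symm
theorem E4589 : n2360 = n671 := (((F2163).symm.trans (sb E3841 (tr F8302 E4588)))).symm
theorem F13378 : act 3 n673 = n1169 := (sb E3842 (iv D2363))
theorem F13379 : act 4 n673 = n4606 := (sb E3842 D4606)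
theorem F13380 : act 3 n2356 = n1403 := (sb E3843 (iv D2875))
theorem E4609 : n5673 = n1620 := (((D1620).symm.trans (sb E3849 D5673))).symm
theorem E4611 : n4606 = n1169 := ((((iv F2166)).symm.trans (sb E3854 (iv F8306)))).symm
theorem E4613 : n4989 = n1620 := (((D1620).symm.trans (sb E3855 D4989))).symm
theorem E4615 : n4595 = n1405 := (((D1405).symm.trans (sb E3856 (iv F8288)))).symm
theorem F13381 : act 3 n1051 = n1691 := (sb E3857 (iv D3482))
theorem E4618 : n6780 = n1923 := ((((iv F13284)).symm.trans (sb E3857 (iv F11735)))).symm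
theorem F13382 : act 3 n448 = n491 := (sb E3866 (iv D1015))
theorem E4633 : n5274 = n713 := (((D713).symm.trans (sb E3881 D5274))).symm
theorem F13383 : act 6 n1415 = n2896 := (sb E3888 F13099)
theorem F13384 : act 3 n1417 = n2897 := (sb E3893 F13106)
theorem E4647 : n3193 = n2914 := (((D2914).symm.trans (sb E3895 F13107))).symm
theorem E4648 : n5952 = n2925 := (((D2925).symm.trans (sb E3899 (iv F10534)))).symm
theorem E4649 : n6754 = n3192 := (E4064).trans E4493
theorem E4650 : n6752 = n3194 := (E4059).trans E4489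
theorem F13385 : act 3 n699 = n1459 := (sb E3905 (iv D2980))
theorem E4661 : n3227 = n2995 := (((D2995).symm.trans (sb E3909 F10360))).symm
theorem E4663 : n1590 = n1480 := (((D1480).symm.trans (sb E3913 (iv F13254)))).symm
theorem E4666 : n5926 = n1493 := (((D1493).symm.trans (sb E3916 D5926))).symm
theorem E4672 : n5916 = n1584 := ((((iv F2735)).symm.trans (sb E3919 (iv F10486)))).symm
theorem E4676 : n5824 = n1461 := (((D1461).symm.trans (sb E3922 (iv F10345)))).symm
theorem F13386 : act 6 n697 = n1458 := (sb E3922 (iv D2979))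
theorem E4680 : n5842 = n5820 := (((D5820).symm.trans (sb E3923 (iv F10376)))).symm
theorem F13387 : act 1 n2977 = n1473 := (sb E3924 F5236)
theorem E4683 : n5823 = n2989 := ((D5823).symm.trans (sb E3924 (iv F5239)))
theorem F13388 : act 1 n2978 = n1476 := (sb E3925 F5242)
theorem E4685 : n5825 = n2987 := ((D5825).symm.trans (sb E3925 F5244))
theorem E4687 : n6354 = n5879 := (((D5879).symm.trans (sb E3926 D6354))).symm
theorem E4691 : n5888 = n5702 := ((D5888).symm.trans (sb E3927 (iv F10077)))
theorem E4692 : n5889 = n2757 := ((D5889).symm.trans (sb E3927 F9374))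
theorem E4694 : n6357 = n4493 := ((((iv F8095)).symm.trans (sb E3927 D6357))).symm
theorem E4695 : n5883 = n2746 := ((D5883).symm.trans (sb E3928 (iv F9375)))
theorem E4698 : n5891 = n4489 := ((D5891).symm.trans (sb E3929 F9372))
theorem F13389 : act 3 n753 = n1473 := (sb E3931 (iv D3014))
theorem E4703 : n5899 = n1581 := (((D1581).symm.trans (sb E3931 D5899))).symm
theorem E4704 : n5896 = n1582 := (((D1582).symm.trans (sb E3931 (iv F10467)))).symm
theorem E4705 : n6339 = n3015 := (((D3015).symm.trans (sb E3932 D6339))).symm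
theorem F13390 : act 3 n1478 = n1476 := (sb E3934 (iv D3016))
theorem E4709 : n5905 = n3021 := (((D3021).symm.trans (sb E3934 D5905))).symm
theorem E4712 : n3105 = n2939 := ((((iv F5140)).symm.trans (sb E3937 D3105))).symm
theorem F13391 : act 4 n1437 = n1514 := (sb E3937 (iv F13127))
theorem F13392 : act 6 n1437 = n1512 := (sb E3937 (iv F13126))
theorem F13393 : act 4 n3097 = n2943 := (sb E3941 F10219)
theorem E4716 : n6114 = n4700 := ((D6114).symm.trans (sb E3942 F10249))
theorem F13395 : act 5 n6411 = n6415 := (sb E3943 (iv F11152))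
theorem F13396 : act 6 n6411 = n3281 := (sb E3943 (iv D6413))
theorem F13397 : act 6 n1599 = n2954 := (sb E3944 (iv D5783))
theorem E4717 : n5782 = n3291 := ((D5782).symm.trans (iv (sb E3945 (tr (iv D6424) E4013))))
theorem F13398 : act 4 n5760 = n6056 := (sb E3959 (iv F10672))
theorem F13399 : act 6 n5760 = n3090 := (sb E3959 (iv D6054))
theorem E4719 : n3308 = n3211 := (((F10207).symm.trans (sb E3955 F10643))).symm
theorem F13400 : act 4 n5755 = n6037 := (sb E3955 (iv F10647))
theorem F13401 : act 6 n5755 = n3084 := (sb E3955 (iv D6036))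
theorem F13402 : act 1 n5760 = n3090 := (sb E3956 F10661)
theorem F13403 : act 6 n3089 = n2941 := (sb E3965 (iv D5761))
theorem F13404 : act 4 n3091 = n2941 := (sb E3968 (iv D5759))
theorem E4720 : n3272 = n2945 := (((iv F5601)).symm.trans (sb E3969 F10217))
theorem F13405 : act 0 n6028 = n3089 := (sb E3970 F10626)
theorem F13406 : act 2 n6028 = n3083 := (sb E3970 F10627)
theorem F13407 : act 4 n6028 = n3082 := (sb E3970 (iv D6030))
theorem F13408 : act 2 n764 = n1602 := (sb E3972 (iv D3294))
theorem F13409 : act 1 n2941 = n1511 := (sb E3974 (iv D3087))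
theorem E4723 : n6042 = n5758 := (((D5758).symm.trans (sb E3974 D6042))).symm
theorem F13410 : act 0 n3119 = n3122 := (sb E3979 F10252)
theorem F13412 : act 0 n1601 = n3116 := (sb E3981 F10241)
theorem E4730 : n3283 = n3279 := (((iv F5614)).symm.trans (sb E3981 (iv F10243)))
theorem F13413 : act 4 n1601 = n2954 := (sb E3981 F10242)
theorem F13414 : act 4 n1443 = n763 := (sb E3982 F2751)
theorem F13415 : act 6 n1443 = n761 := (sb E3982 (iv D1604))
theorem F13416 : act 0 n1607 = n3117 := (sb E3983 F10244)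
theorem F13417 : act 6 n1528 = n3124 := (sb E3985 F9854)
theorem F13418 : act 1 n6116 = n3124 := (sb E3989 F10762)
theorem F13419 : act 3 n6116 = n3123 := (sb E3989 (iv D6117))
theorem F13420 : act 0 n6120 = n3288 := (sb E3990 F10953)
theorem F13421 : act 6 n6102 = n3200 := (sb E3991 (iv D6261))
theorem F13423 : act 6 n6116 = n3123 := (sb E3994 (iv D6119))
theorem F13424 : act 2 n6120 = n3129 := (sb E3995 F10771)
theorem F13425 : act 6 n6120 = n6103 := (sb E3995 F10773)
theorem F13426 : act 6 n6057 = n3195 := (sb E3997 (iv D6251))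
theorem F13427 : act 4 n1562 = n3100 := (sb E3999 F10681)
theorem E4732 : n6070 = n3197 := (((D3197).symm.trans (sb E3999 (iv F10698)))).symm
theorem F13428 : act 6 n1562 = n3092 := (sb E3999 (iv D6059))
theorem E4733 : n6126 = n3207 := (((D3207).symm.trans (sb E4001 D6126))).symm
theorem F13430 : act 4 n1566 = n3129 := (sb E4001 (iv F5417))
theorem F13431 : act 6 n1566 = n1529 := (sb E4001 (iv D3128))
theorem F13432 : act 0 n1606 = n1529 := (sb E4002 F5175)
theorem E4734 : n5769 = n3274 := ((((iv F5604)).symm.trans (sb E4002 (iv F10233)))).symm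
theorem E4735 : n5784 = n3302 := (((D3302).symm.trans (sb E4002 D5784))).symm
theorem F13433 : act 5 n1606 = n1443 := (sb E4002 (iv D2955))
theorem F13434 : act 6 n3125 = n3202 := (sb E4004 (iv D6264))
theorem F13435 : act 0 n1603 = n3129 := (sb E4006 F10270)
theorem F13436 : act 2 n3309 = n3211 := (sb E4007 F10976)
theorem F13437 : act 4 n1568 = n1610 := (sb E4011 F5632)
theorem F13438 : act 6 n1568 = n1602 := (sb E4011 (iv D3296))
theorem E4737 : n6411 = n5780 := (((D5780).symm.trans (sb E4013 (iv F11145)))).symm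
theorem F13439 : act 3 n2954 = n1599 := (sb E4013 (iv D3287))
theorem F13440 : act 3 n3284 = n1601 := (sb E4014 (iv D3292))
theorem F13441 : act 1 n3885 = n3885 := (sb E4022 (tr F7559 E4022))
theorem F13442 : act 6 n3885 = n2139 := (sb E4022 (iv D4245))
theorem F13443 : act 5 n928 = n1050 := (sb E4023 (iv D2140))
theorem E4745 : n3916 = n3484 := (((D3484).symm.trans (iv (sb E4026 (tr (iv F12631) E4421))))).symm
theorem F13444 : act 3 n1693 = n942 := (sb E4029 (iv D1943))
theorem E4749 : n6947 = n3861 := ((((iv F13349)).symm.trans (sb E4037 (iv F12146)))).symm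
theorem F13445 : act 4 n516 = n1068 := (sb E4043 (iv F13283))
theorem F13446 : act 5 n516 = n453 := (sb E4043 (iv F13282))
theorem E4753 : n6821 = n3869 := ((((iv F6764)).symm.trans (sb E4045 (iv F11827)))).symm
theorem F13447 : act 3 n1949 = n1709 := (sb E4045 (iv D3518))
theorem E4755 : n6503 = n6363 := ((D6503).symm.trans (sb E4054 (iv F11615)))
theorem E4756 : n6757 = n6404 := ((((iv F11138)).symm.trans (sb E4055 (iv F11698)))).symm
theorem E4759 : n6419 = n5710 := ((D6419).symm.trans (sb E4057 (iv F11680)))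
theorem E4760 : n6420 = n2913 := ((D6420).symm.trans (sb E4058 (iv D5706)))
theorem E4761 : n6421 = n2914 := ((D6421).symm.trans (sb E4058 F10088))
theorem E4762 : n6246 = n5710 := (((iv F10931)).symm.trans (sb E4650 F11683))
theorem E4763 : n6363 = n6244 := (((D6244).symm.trans (sb E4649 F11690))).symm
theorem E4764 : n6369 = n6245 := (((D6245).symm.trans (sb E4649 F11692))).symm
theorem E4767 : n4248 = n3885 := ((D4248).symm.trans (sb E4096 (iv F6787)))
theorem F13448 : act 4 n2141 = n3885 := (sb E4096 (iv F6785))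
theorem F13449 : act 1 n568 = n277 := (sb E4098 F1116)
theorem E4768 : n1181 = n640 := ((((iv F1223)).symm.trans (sb E4098 D1181))).symm
theorem F13450 : act 6 n568 = n274 := (sb E4098 (iv D571))
theorem F13451 : act 6 n858 = n856 := (sb E4099 F1940)
theorem E4769 : n2606 = n1330 := (((D1330).symm.trans (sb E4101 D2606))).symm
theorem F13452 : act 6 n491 = n408 := (sb E4102 (iv D859))
theorem F13453 : act 6 n509 = n420 := (sb E4103 (iv D884))
theorem E4776 : n1457 = n1140 := (E4546).trans E4568
theorem F13454 : act 5 n308 = n277 := (sb E4119 (iv D579))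
theorem E4780 : n3156 = n1276 := (((D1276).symm.trans (sb E4133 F8531))).symm
theorem E4782 : n1278 = n1178 := (((D1178).symm.trans (sb E4135 D1278))).symm
theorem F13455 : act 6 n570 = n294 := (sb E4135 (iv D615))
theorem E4785 : n5283 = n784 := (((D784).symm.trans (sb E4145 D5283))).symm
theorem F13456 : act 2 n1629 = n1054 := (sb E4150 (iv D2148))
theorem E4790 : n3061 = n1330 := (((D1330).symm.trans (sb E4151 F5335))).symm
theorem E4796 : n5600 = n2871 := (((D2871).symm.trans (sb E4159 D5600))).symm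
theorem F13457 : act 0 n2355 = n2355 := (sb E4162 F5018)
theorem E4797 : n5627 = n4585 := (((D4585).symm.trans (sb E4162 D5627))).symm
theorem E4798 : n5621 = n4586 := (((D4586).symm.trans (sb E4162 (iv F9957)))).symm
theorem F13458 : act 0 n2869 = n2869 := (sb E4164 F9940)
theorem F13459 : act 0 n2870 = n2870 := (sb E4165 F9941)
theorem F13460 : act 0 n2871 = n2871 := (sb E4166 F9944)
theorem F13461 : act 0 n4217 = n4217 := (sb E4169 F11980)
theorem E4801 : n5620 = n4585 := (((D4585).symm.trans (sb E4171 (iv F9954)))).symm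
theorem E4802 : n5623 = n4586 := (((D4586).symm.trans (sb E4171 (iv F9961)))).symm
theorem E4803 : n5626 = n4587 := (((D4587).symm.trans (sb E4171 D5626))).symm
theorem E4804 : n4588 = n1401 := ((D4588).symm.trans (sb E4171 (iv D2872)))
theorem E4814 : n5026 = n2367 := (((D2367).symm.trans (sb E4183 D5026))).symm
theorem E4816 : n5027 = n1335 := (((D1335).symm.trans (sb E4184 D5027))).symm
theorem E4818 : n4729 = n2629 := (((D2629).symm.trans (sb E4185 (iv F8481)))).symm
theorem E4822 : n5061 = n2619 := (((D2619).symm.trans (sb E4186 D5061))).symm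
theorem E4824 : n2922 = n1349 := ((((iv F2429)).symm.trans (sb E4187 F5101))).symm
theorem E4828 : n1435 = n1348 := (((D1348).symm.trans (sb E4189 F4550))).symm
theorem E4829 : n2923 = n1342 := ((((iv F2422)).symm.trans (sb E4189 (iv F5104)))).symm
theorem E4830 : n1433 = n1350 := (((D1350).symm.trans (sb E4189 (iv F4551)))).symm
theorem F13462 : act 6 n554 = n308 := (sb E4190 F1193)
theorem E4835 : n1294 = n1192 := (((D1192).symm.trans (sb E4192 D1294))).symm
theorem E4836 : n1295 = n1186 := ((((iv F2202)).symm.trans (sb E4192 D1295))).symm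
theorem E4837 : n1296 = n1193 := (((D1193).symm.trans (sb E4192 D1296))).symm
theorem E4838 : n1288 = n1194 := (((D1194).symm.trans (sb E4192 (iv F2342)))).symm
theorem E4841 : n5065 = n782 := (((D782).symm.trans (sb E4194 D5065))).symm
theorem E4843 : n3043 = n1331 := (((D1331).symm.trans (sb E4198 F5450))).symm
theorem E4844 : n3144 = n1332 := (((D1332).symm.trans (sb E4198 F5451))).symm
theorem E4845 : n1545 = n1333 := (((D1333).symm.trans (sb E4198 (iv D3157)))).symm
theorem E4846 : n3053 = n1334 := (((D1334).symm.trans (sb E4198 F5452))).symm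
theorem F13463 : act 3 n2134 = n1705 := (sb E4208 (iv D3511))
theorem E4852 : n3060 = n2727 := (((D2727).symm.trans (sb E4212 F8604))).symm
theorem E4853 : n3516 = n948 := ((D3516).symm.trans (sb E4214 (iv D1950)))
theorem E4856 : n3929 = n3517 := (((D3517).symm.trans (sb E4214 D3929))).symm
theorem E4863 : n2310 = n718 := ((D2310).symm.trans (sb E4228 F2642))
theorem E4864 : n2304 = n1491 := (((iv F4122)).symm.trans (sb E4228 F2643))
theorem E4865 : n2311 = n1490 := ((D2311).symm.trans (sb E4228 F2644))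
theorem E4866 : n2312 = n716 := ((D2312).symm.trans (sb E4228 (iv D1506)))
theorem E4871 : n1651 = n784 := ((D1651).symm.trans (sb E4242 (tr F11513 E4785)))
theorem E4905 : n6503 = n6244 := (E4755).trans E4763
theorem E4908 : n6348 = n3425 := ((((iv F5825)).symm.trans (sb E4291 (iv F11271)))).symm
theorem E4909 : n6365 = n3428 := (((D3428).symm.trans (sb E4291 F11272))).symm
theorem F13464 : act 1 n6404 = n3284 := (sb E4293 F11142)
theorem F13465 : act 4 n6404 = n3280 := (sb E4293 (iv D6408))
theorem E4911 : n5860 = n3439 := ((((iv F5846)).symm.trans (sb E4296 (iv F10405)))).symm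
theorem E4912 : n3444 = n1479 := ((D3444).symm.trans (sb E4296 (iv D3022)))
theorem E4913 : n3442 = n1584 := (((iv F5849)).symm.trans (sb E4296 (tr D5916 E4672)))
theorem E4914 : n3445 = n1480 := ((D3445).symm.trans (sb E4296 F5274))
theorem E4931 : n6350 = n3116 := (((F13377).symm.trans (sb E4320 D6350))).symm
theorem F13466 : act 2 n1591 = n795 := (sb E4321 F2826)
theorem F13467 : act 6 n1591 = n792 := (sb E4321 (iv D1671))
theorem E4933 : n3457 = n3261 := (((D3261).symm.trans (sb E4323 D3457))).symm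
theorem F13468 : act 4 n1589 = n1676 := (sb E4323 F2832)
theorem F13469 : act 5 n1589 = n795 := (sb E4323 (iv D1677))
theorem F13470 : act 6 n1589 = n1673 := (sb E4323 F2833)
theorem F13471 : act 0 n3567 = n6794 := (sb E4330 F12124)
theorem F13472 : act 5 n1909 = n2133 := (sb E4333 (iv D4229))
theorem F13473 : act 4 n1909 = n3861 := (sb E4336 (iv F6769))
theorem F13474 : act 5 n4227 = n3861 := (sb E4338 (tr F12147 E4749))
theorem E4944 : n5147 = n1182 := (((D1182).symm.trans (sb E4351 D5147))).symm
theorem E4946 : n5149 = n1183 := (((D1183).symm.trans (sb E4351 D5149))).symm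
theorem E4947 : n5150 = n1184 := (((D1184).symm.trans (sb E4351 D5150))).symm
theorem E4948 : n3139 = n1185 := (((D1185).symm.trans (sb E4351 F5428))).symm
theorem E4952 : n1292 = n1190 := (((D1190).symm.trans (sb E4354 (iv D2633)))).symm
theorem F13475 : act 0 n578 = n576 := (sb E4356 F1184)
theorem E4956 : n1290 = n1196 := (((D1196).symm.trans (sb E4356 D1290))).symm
theorem E4957 : n1284 = n1197 := (((D1197).symm.trans (sb E4356 (iv F2334)))).symm
theorem E4958 : n1291 = n1198 := (((D1198).symm.trans (sb E4356 D1291))).symm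
theorem E4963 : n2299 = n639 := (((D639).symm.trans (sb E4358 D2299))).symm
theorem F13476 : act 6 n306 = n552 := (sb E4358 (iv D1139))
theorem E4964 : n4719 = n1280 := (((D1280).symm.trans (sb E4359 D4719))).symm
theorem E4966 : n4721 = n1281 := (((D1281).symm.trans (sb E4359 D4721))).symm
theorem E4967 : n4722 = n1282 := (((D1282).symm.trans (sb E4359 D4722))).symm
theorem E4968 : n4715 = n1283 := (((D1283).symm.trans (sb E4359 (iv F8462)))).symm
theorem E4974 : n2313 = n642 := (((D642).symm.trans (sb E4363 D2313))).symm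
theorem E4975 : n2314 = n643 := (((D643).symm.trans (sb E4363 D2314))).symm
theorem E4976 : n2308 = n645 := (((D645).symm.trans (sb E4363 (iv F4130)))).symm
theorem E4981 : n3172 = n1282 := (((D1282).symm.trans (sb E4365 F8984))).symm
theorem E4982 : n3173 = n1285 := (((D1285).symm.trans (sb E4366 F8987))).symm
theorem E4984 : n739 = n644 := ((((iv F1225)).symm.trans (sb E4367 (iv D1552)))).symm
theorem E4985 : n3166 = n1287 := (((D1287).symm.trans (sb E4367 (iv F5461)))).symm
theorem E4987 : n741 = n642 := (((D642).symm.trans (sb E4369 F2695))).symm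
theorem F13477 : act 1 n1915 = n1915 := (sb E4381 F6770)
theorem F13478 : act 1 n3567 = n3567 := (sb E4395 F12094)
theorem E5011 : n2881 = n2357 := ((D2881).symm.trans (sb E4396 (tr D5606 E4582)))
theorem E5012 : n5608 = n2883 := (((D2883).symm.trans (sb E4397 D5608))).symm
theorem F13479 : act 3 n1406 = n1406 := (sb E4398 F5008)
theorem E5014 : n5609 = n2885 := (((D2885).symm.trans (sb E4398 D5609))).symm
theorem F13480 : act 1 n4221 = n4221 := (sb E4423 (tr F11869 E4423))
theorem F13481 : act 6 n4221 = n4221 := (sb E4423 (tr F11743 E4423))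
theorem F13482 : act 6 n5674 = n2898 := (sb E4425 (iv D5682))
theorem F13483 : act 1 n5675 = n2907 := (sb E4426 F10041)
theorem F13486 : act 1 n5676 = n2910 := (sb E4427 F10049)
theorem F13487 : act 4 n5676 = n5686 := (sb E4427 F10050)
theorem F13488 : act 6 n5676 = n5684 := (sb E4427 F10051)
theorem F13492 : act 4 n5353 = n4503 := (sb E4429 F9561)
theorem F13497 : act 3 n1557 = n2907 := (sb E4432 (iv D5698))
theorem F13498 : act 3 n2912 = n2910 := (sb E4434 (iv D5700))
theorem E5020 : n2857 = n738 := (((D738).symm.trans (sb E4436 D2857))).symm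
theorem E5021 : n2844 = n732 := ((((iv F1336)).symm.trans (sb E4436 (iv F4976)))).symm
theorem E5022 : n2845 = n733 := ((((iv F1338)).symm.trans (sb E4437 (iv F4981)))).symm
theorem E5024 : n2846 = n734 := (((D734).symm.trans (sb E4438 D2846))).symm
theorem E5025 : n2770 = n322 := (((D322).symm.trans (sb E4441 D2770))).symm
theorem E5029 : n2785 = n1431 := (((D1431).symm.trans (sb E4442 D2785))).symm
theorem E5030 : n2786 = n1432 := (((D1432).symm.trans (sb E4442 D2786))).symm
theorem E5031 : n2787 = n1350 := (((E4830).symm.trans ((D1433).symm.trans (sb E4442 D2787)))).symm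
theorem E5032 : n2788 = n1426 := ((((iv F2518)).symm.trans (sb E4442 D2788))).symm
theorem E5034 : n2791 = n1427 := ((((iv F2521)).symm.trans (sb E4443 D2791))).symm
theorem E5036 : n2794 = n1428 := (((D1428).symm.trans (sb E4445 D2794))).symm
theorem E5037 : n3062 = n1496 := (((D1496).symm.trans (sb E4456 F8153))).symm
theorem F13499 : act 2 n714 = n714 := (sb E4457 (iv D1499))
theorem E5038 : n3063 = n1500 := (((D1500).symm.trans (sb E4457 D3063))).symm
theorem E5040 : n3065 = n1502 := (((D1502).symm.trans (sb E4457 D3065))).symm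
theorem E5042 : n5399 = n331 := (((D331).symm.trans (sb E4465 (iv F9614)))).symm
theorem E5043 : n5715 = n331 := (((iv F10108)).symm.trans (sb E4467 (tr F9626 E5042)))
theorem E5044 : n4509 = n1487 := (((F5294).symm.trans (sb E4467 F9627))).symm
theorem E5045 : n3037 = n677 := (((D677).symm.trans (iv (sb E4467 (tr (iv D5411) E5025))))).symm
theorem E5061 : n6684 = n6499 := (((D6499).symm.trans (sb E4482 (iv F11583)))).symm
theorem F13500 : act 3 n3333 = n1663 := (sb E4483 (iv D3427))
theorem E5063 : n6685 = n6502 := (((D6502).symm.trans (sb E4483 D6685))).symm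
theorem E5065 : n6730 = n6409 := (((D6409).symm.trans (sb E4485 (iv F11651)))).symm
theorem E5066 : n6410 = n6228 := ((D6410).symm.trans (sb E4485 F10894))
theorem E5069 : n6762 = n1601 := (((F13440).symm.trans (sb E4487 D6762))).symm
theorem E5070 : n6418 = n3187 := ((D6418).symm.trans (sb E4487 F5884))
theorem E5071 : n6731 = n2913 := (((E4760).symm.trans ((D6420).symm.trans (sb E4488 D6731)))).symm
theorem F13501 : act 2 n3194 = n1625 := (sb E4489 F5620)
theorem F13502 : act 6 n3194 = n1598 := (sb E4489 (iv D3286))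
theorem E5073 : n6727 = n6509 := (((D6509).symm.trans (sb E4490 (iv F11648)))).symm
theorem E5075 : n6732 = n6511 := (((D6511).symm.trans (sb E4492 D6732))).symm
theorem F13503 : act 4 n3192 = n3340 := (sb E4493 F5699)
theorem F13504 : act 5 n3192 = n1625 := (sb E4493 (iv D3341))
theorem F13505 : act 6 n3192 = n3337 := (sb E4493 F5700)
theorem F13506 : act 4 n3202 = n6120 := (sb E4495 F11671)
theorem F13507 : act 4 n6068 = n3195 := (sb E4496 (iv D6249))
theorem F13508 : act 0 n3309 = n3295 := (sb E4498 F10967)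
theorem F13510 : act 4 n6127 = n6602 := (sb E4499 (iv F11447))
theorem F13511 : act 2 n3295 = n1609 := (sb E4502 F5637)
theorem E5078 : n6664 = n6662 := (((D6662).symm.trans (sb E4503 (iv F11592)))).symm
theorem F13512 : act 0 n3420 = n6495 := (sb E4504 F11593)
theorem F13513 : act 0 n3421 = n6496 := (sb E4505 F11570)
theorem F13514 : act 0 n3422 = n6497 := (sb E4506 F11594)
theorem F13515 : act 0 n3423 = n6498 := (sb E4507 F11596)
theorem F13516 : act 0 n3425 = n6499 := (sb E4508 F11573)
theorem F13517 : act 0 n3426 = n6500 := (sb E4509 F11576)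
theorem F13518 : act 0 n3428 = n6502 := (sb E4510 F11601)
theorem F13519 : act 1 n3437 = n1669 := (sb E4512 F5845)
theorem F13520 : act 4 n3437 = n1668 := (sb E4512 (iv D3438))
theorem E5080 : n6706 = n6703 := (((D6703).symm.trans (sb E4512 D6706))).symm
theorem E5081 : n6707 = n6704 := (((D6704).symm.trans (sb E4512 D6707))).symm
theorem E5082 : n6741 = n3228 := (E4514).trans E4520
theorem E5083 : n6704 = n5864 := ((((iv F10415)).symm.trans (sb E5082 (tr F11667 E5081)))).symm
theorem E5085 : n6305 = n5864 := (((iv F11020)).symm.trans (sb E5082 (tr F11670 E5083)))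
theorem E5086 : n6722 = n1584 := (E4515).trans E4913
theorem E5087 : n6703 = n3224 := ((((iv F5546)).symm.trans (sb E5086 F11637))).symm
theorem E5090 : n6666 = n6304 := ((((iv F11018)).symm.trans (sb E4520 (iv F11560)))).symm
theorem F13521 : act 6 n3228 = n1668 := (sb E4520 (iv D3440))
theorem F13522 : act 2 n3026 = n1674 := (sb E4521 F5850)
theorem F13523 : act 6 n3026 = n1669 := (sb E4521 (iv D3443))
theorem F13524 : act 4 n3026 = n1591 := (sb E4523 F5588)
theorem F13525 : act 5 n3451 = n3451 := (sb E4525 F11644)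
theorem F13526 : act 6 n3452 = n3452 := (sb E4527 F11645)
theorem E5094 : n6677 = n6301 := ((((iv F11016)).symm.trans (sb E4529 (iv F11567)))).symm
theorem F13527 : act 5 n3260 = n1664 := (sb E4529 (iv D3429))
theorem E5096 : n6447 = n2957 := (((D2957).symm.trans (sb E4534 F13119))).symm
theorem E5101 : n5321 = n2927 := (((F5117).symm.trans (sb E4541 (iv F9483)))).symm
theorem E5102 : n2969 = n2730 := ((D2969).symm.trans (sb E4541 F8253))
theorem E5104 : n2974 = n2765 := ((D2974).symm.trans (sb E4543 (iv F4869)))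
theorem E5105 : n2730 = n2297 := ((((iv F4110)).symm.trans (sb E4570 (tr (iv F5205) E5102)))).symm
theorem E5106 : n2302 = n695 := (((iv F4118)).symm.trans (sb E4570 F2581))
theorem E5107 : n2765 = n2305 := ((((iv F4124)).symm.trans (sb E4570 (tr (iv F5213) E5104)))).symm
theorem E5108 : n2307 = n693 := ((D2307).symm.trans (sb E4570 (iv D1455)))
theorem E5109 : n2974 = n2305 := (E5104).trans E5107
theorem E5110 : n2300 = n1140 := ((D2300).symm.trans (sb E4776 (tr F2587 E4776)))
theorem E5111 : n2919 = n700 := (((F2116).symm.trans (sb E4776 (iv F5093)))).symm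
theorem E5112 : n2301 = n1450 := ((D2301).symm.trans (sb E4776 F2588))
theorem E5113 : n2303 = n1449 := ((D2303).symm.trans (sb E4776 F2589))
theorem F13528 : act 3 n2359 = n2359 := (sb E4550 F8267)
theorem E5124 : n2969 = n2297 := (E5102).trans E5105
theorem E5129 : n2295 = n1138 := ((D2295).symm.trans (sb E4557 (tr F6798 E4557)))
theorem E5130 : n5795 = n2296 := (((D2296).symm.trans (sb E4557 (iv F10292)))).symm
theorem E5131 : n5730 = n2298 := (((D2298).symm.trans (sb E4557 (iv F10152)))).symm
theorem E5135 : n4805 = n2368 := (((D2368).symm.trans (sb E4558 D4805))).symm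
theorem E5136 : n6367 = n2396 := (((D2396).symm.trans (sb E4559 (iv F11095)))).symm
theorem E5138 : n4769 = n2401 := (((D2401).symm.trans (sb E4560 D4769))).symm
theorem E5140 : n5956 = n2403 := (((D2403).symm.trans (sb E4561 (iv F10538)))).symm
theorem E5141 : n2972 = n2405 := (((D2405).symm.trans (sb E4563 (iv D5811)))).symm
theorem E5142 : n2379 = n2368 := (((iv F4256)).symm.trans (sb E4564 (tr (iv F8601) E5135)))
theorem E5150 : n4771 = n2414 := (((D2414).symm.trans (sb E4566 D4771))).symm
theorem E5153 : n2306 = n1448 := ((D2306).symm.trans (sb E4569 (iv D2965)))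
theorem E5154 : n2309 = n1454 := ((D2309).symm.trans (sb E4571 F5192))
theorem F13529 : act 1 n1172 = n578 := (sb E4572 F2193)
theorem E5155 : n2385 = n2365 := (((D2365).symm.trans (sb E4572 D2385))).symm
theorem E5156 : n2386 = n2366 := (((D2366).symm.trans (sb E4572 D2386))).symm
theorem E5157 : n2387 = n2367 := (((D2367).symm.trans (sb E4572 D2387))).symm
theorem E5159 : n4832 = n2421 := (((D2421).symm.trans (sb E4573 D4832))).symm
theorem E5163 : n4835 = n2425 := (((D2425).symm.trans (sb E4575 D4835))).symm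
theorem E5167 : n2425 = n1349 := (((D1349).symm.trans (sb E4576 (tr (iv F8630) E5163)))).symm
theorem E5168 : n1505 = n1350 := (((D1350).symm.trans (sb E4576 F4375))).symm
theorem E5170 : n5050 = n2411 := (((D2411).symm.trans (sb E4577 D5050))).symm
theorem E5180 : n4999 = n1491 := (((E4864).symm.trans (((iv F4122)).symm.trans (sb E4581 (iv F8877))))).symm
theorem E5181 : n2936 = n716 := (((E4866).symm.trans ((D2312).symm.trans (sb E4581 (iv F5133))))).symm
theorem E5182 : n4596 = n2885 := ((D4596).symm.trans (sb E4583 (tr (iv F9936) E5014)))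
theorem E5183 : n4598 = n2883 := ((D4598).symm.trans (sb E4584 (tr F9939 E5012)))
theorem E5184 : n5658 = n4591 := (((D4591).symm.trans (sb E4585 D5658))).symm
theorem E5186 : n5648 = n4592 := (((D4592).symm.trans (sb E4585 (iv F9997)))).symm
theorem E5188 : n5661 = n4594 := (((D4594).symm.trans (sb E4585 D5661))).symm
theorem E5190 : n5650 = n4597 := (((D4597).symm.trans (sb E4586 D5650))).symm
theorem E5192 : n2890 = n671 := (E4588).trans E4589
theorem E5194 : n4594 = n1404 := (((D1404).symm.trans (sb E5192 (tr (iv F10006) E5188)))).symm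
theorem E5195 : n4597 = n1405 := (((D1405).symm.trans (sb E5192 (tr (iv F10000) E5190)))).symm
theorem F13530 : act 6 n671 = n1167 := (sb E4589 (iv D2360))
theorem E5206 : n3315 = n1620 := (((iv F5649)).symm.trans (sb E4609 (tr F10022 E4613)))
theorem F13531 : act 4 n1169 = n673 := (sb E4611 (iv F13379))
theorem F13532 : act 3 n1405 = n2358 := (sb E4615 (iv D4595))
theorem F13533 : act 3 n1923 = n3481 := (sb E4618 (iv D6780))
theorem E5215 : n5099 = n1498 := (((D1498).symm.trans (sb E4633 F9398))).symm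
theorem E5229 : n6227 = n5692 := ((((iv F10059)).symm.trans (sb E4647 (iv F10892)))).symm
theorem F13534 : act 4 n2914 = n1561 := (sb E4647 (iv D3193))
theorem E5230 : n5727 = n3044 := ((D5727).symm.trans (sb E4648 (iv D5952)))
theorem E5231 : n6303 = n5862 := (((D5862).symm.trans (sb E4661 (iv F11017)))).symm
theorem F13535 : act 4 n2995 = n1574 := (sb E4661 (iv D3227))
theorem F13536 : act 4 n1480 = n757 := (sb E4663 (iv D1590))
theorem E5233 : n5722 = n3050 := (((D3050).symm.trans (sb E4666 F10501))).symm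
theorem F13538 : act 6 n1461 = n2977 := (sb E4676 (iv D5824))
theorem F13541 : act 5 n5820 = n5844 := (sb E4680 (iv F10378))
theorem F13545 : act 4 n2989 = n2978 := (sb E4683 F10342)
theorem F13546 : act 5 n2989 = n2977 := (sb E4683 (iv D5823))
theorem F13547 : act 0 n2987 = n2989 := (sb E4685 F10346)
theorem F13548 : act 6 n2987 = n2978 := (sb E4685 (iv D5825))
theorem F13551 : act 4 n5879 = n5386 := (sb E4687 F11078)
theorem F13556 : act 2 n5702 = n3008 := (sb E4691 (iv D5888))
theorem F13557 : act 4 n2757 = n3008 := (sb E4692 (iv D5889))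
theorem F13560 : act 5 n4493 = n5882 := (sb E4694 F11082)
theorem F13561 : act 3 n2746 = n3005 := (sb E4695 (iv D5883))
theorem F13562 : act 3 n4489 = n3009 := (sb E4698 (iv D5891))
theorem E5239 : n5902 = n3247 := (((D3247).symm.trans (sb E4703 (iv F10469)))).symm
theorem E5240 : n3248 = n3012 := ((D3248).symm.trans (sb E4704 (iv D5896)))
theorem E5241 : n5901 = n5895 := ((D5901).symm.trans (sb E4705 F11065))
theorem E5242 : n5915 = n5897 := ((D5915).symm.trans (sb E4709 F10471))
theorem F13563 : act 4 n2939 = n3085 := (sb E4712 (iv F13271))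
theorem F13564 : act 6 n2939 = n3083 := (sb E4712 (iv F13270))
theorem F13565 : act 4 n4700 = n3122 := (sb E4716 (iv D6114))
theorem F13566 : act 5 n4700 = n6449 := (sb E4716 (iv F11188))
theorem F13567 : act 0 n3291 = n3125 := (sb E4717 F10259)
theorem F13568 : act 5 n3291 = n2954 := (sb E4717 (iv D5782))
theorem F13569 : act 4 n3211 = n3309 := (sb E4719 (iv F5640))
theorem F13570 : act 6 n3211 = n1609 := (sb E4719 (iv D3308))
theorem E5249 : n6386 = n5768 := (((D5768).symm.trans (sb E4720 (iv F11112)))).symm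
theorem F13571 : act 4 n2945 = n1595 := (sb E4720 F5601)
theorem F13572 : act 6 n2945 = n1593 := (sb E4720 (iv D3272))
theorem F13573 : act 1 n5758 = n3088 := (sb E4723 F10658)
theorem E5250 : n6406 = n1597 := ((((iv D3279)).symm.trans (sb E4730 (iv F11140)))).symm
theorem F13574 : act 1 n3279 = n1601 := (sb E4730 F5614)
theorem E5251 : n6379 = n6375 := ((((iv F11102)).symm.trans (sb E4730 (iv F11109)))).symm
theorem E5252 : n6417 = n6405 := (((D6405).symm.trans (sb E4730 D6417))).symm
theorem F13575 : act 4 n3197 = n6071 := (sb E4732 (iv F10701))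
theorem F13576 : act 6 n3197 = n3099 := (sb E4732 (iv D6070))
theorem E5255 : n6633 = n3402 := ((((iv F5786)).symm.trans (sb E4733 (iv F11501)))).symm
theorem F13577 : act 0 n3274 = n3197 := (sb E4734 F10232)
theorem F13578 : act 5 n3274 = n2945 := (sb E4734 (iv D5769))
theorem F13579 : act 0 n3302 = n3127 := (sb E4735 F10264)
theorem E5256 : n6445 = n3395 := ((D6445).symm.trans (sb E4735 F10266))
theorem E5257 : n6444 = n3397 := (((iv F11184)).symm.trans (sb E4735 (iv F10267)))
theorem F13580 : act 3 n5780 = n3281 := (sb E4737 (iv D6411))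
theorem F13581 : act 5 n5780 = n6415 := (sb E4737 F13395)
theorem F13582 : act 6 n5780 = n3281 := (sb E4737 F13396)
theorem F13583 : act 3 n3484 = n4221 := (sb E4745 (iv F7775))
theorem F13584 : act 3 n3869 = n3510 := (sb E4753 (iv D6821))
theorem F13585 : act 5 n6244 = n3334 := (sb E4905 (iv D6503))
theorem F13586 : act 5 n6404 = n6224 := (sb E4756 F11700)
theorem F13587 : act 2 n5710 = n3338 := (sb E4759 F11161)
theorem F13588 : act 6 n5710 = n3284 := (sb E4759 (iv D6419))
theorem F13589 : act 3 n2913 = n3285 := (sb E4760 (iv D6420))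
theorem E5258 : n5707 = n3290 := ((D5707).symm.trans (sb E4760 F11164))
theorem F13590 : act 2 n2914 = n3340 := (sb E4761 F11166)
theorem F13591 : act 6 n2914 = n3285 := (sb E4761 (iv D6421))
theorem F13592 : act 4 n5710 = n3194 := (sb E4762 F10931)
theorem F13593 : act 0 n6244 = n3260 := (sb E4763 (iv D6363))
theorem F13594 : act 5 n6245 = n3261 := (sb E4764 (iv D6369))
theorem F13595 : act 3 n3885 = n2141 := (sb E4767 (iv D4248))
theorem F13596 : act 6 n640 = n638 := (sb E4768 F2198)
theorem E5263 : n2713 = n1498 := ((D2713).symm.trans (sb E4769 (tr D5099 E5215)))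
theorem E5269 : n6179 = n2600 := (((D2600).symm.trans (sb E4780 (iv F10839)))).symm
theorem E5274 : n2603 = n2381 := (((D2381).symm.trans (sb E4782 D2603))).symm
theorem E5276 : n2605 = n2382 := (((D2382).symm.trans (sb E4782 D2605))).symm
theorem E5277 : n2601 = n2383 := (((D2383).symm.trans (sb E4782 (iv F4578)))).symm
theorem E5279 : n2710 = n1332 := ((D2710).symm.trans (sb E4790 (tr (iv F5436) E4844)))
theorem E5280 : n2711 = n1331 := ((D2711).symm.trans (sb E4790 (tr F5333 E4843)))
theorem E5281 : n3042 = n2712 := (((D2712).symm.trans (sb E4790 F5334))).symm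
theorem F13597 : act 3 n2871 = n2871 := (sb E4796 F9924)
theorem F13598 : act 0 n4585 = n4585 := (sb E4797 F9969)
theorem F13599 : act 0 n4586 = n4586 := (sb E4798 F9955)
theorem F13600 : act 3 n4586 = n2870 := (sb E4798 (iv D5621))
theorem F13602 : act 6 n4585 = n2869 := (sb E4801 (iv D5620))
theorem F13603 : act 5 n4586 = n5624 := (sb E4802 (iv F9963))
theorem F13604 : act 6 n4586 = n2870 := (sb E4802 (iv D5623))
theorem F13605 : act 4 n4587 = n5624 := (sb E4803 F9967)
theorem F13606 : act 6 n4587 = n5622 := (sb E4803 F9968)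
theorem F13607 : act 6 n1401 = n2355 := (sb E4804 (iv D4588))
theorem E5289 : n5720 = n2726 := ((((iv F4821)).symm.trans (sb E4814 F10128))).symm
theorem E5290 : n2725 = n1335 := ((D2725).symm.trans (sb E4816 (tr F8923 E4816)))
theorem E5291 : n5721 = n2719 := ((((iv F4806)).symm.trans (sb E4816 (iv F10131)))).symm
theorem E5292 : n2930 = n2727 := (((D2727).symm.trans (sb E4816 (iv F8924)))).symm
theorem E5293 : n2629 = n2421 := ((F4637).symm.trans (sb E4818 (iv D4729)))
theorem E5294 : n5723 = n5121 := (((D5121).symm.trans (sb E4822 (iv F10135)))).symm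
theorem E5295 : n2758 = n1427 := (((iv F4861)).symm.trans (sb E4824 F5098))
theorem E5296 : n2747 = n1426 := (((iv F4847)).symm.trans (sb E4824 (iv D2922)))
theorem E5297 : n2760 = n1432 := ((D2760).symm.trans (sb E4824 F5099))
theorem E5302 : n2756 = n1348 := ((D2756).symm.trans (sb E4828 (tr F2538 E4828)))
theorem E5303 : n2938 = n2757 := (((D2757).symm.trans (sb E4828 D2938))).symm
theorem E5304 : n2746 = n1428 := (((iv F4845)).symm.trans (sb E4828 F2539))
theorem E5305 : n2759 = n685 := ((D2759).symm.trans (sb E4828 (iv D1435)))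
theorem E5306 : n2935 = n2748 := (((D2748).symm.trans (sb E4829 (iv F5131)))).symm
theorem E5307 : n2761 = n683 := ((D2761).symm.trans (sb E4830 (iv D1433)))
theorem E5313 : n2638 = n2410 := (((D2410).symm.trans (sb E4835 D2638))).symm
theorem E5314 : n2639 = n2411 := (((D2411).symm.trans (sb E4835 D2639))).symm
theorem E5315 : n2640 = n2400 := ((((iv F4284)).symm.trans (sb E4835 D2640))).symm
theorem E5316 : n2412 = n1534 := ((D2412).symm.trans (sb E4835 F2677))
theorem E5317 : n2624 = n2413 := (((D2413).symm.trans (sb E4835 (iv F4623)))).symm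
theorem E5318 : n2641 = n2401 := (((D2401).symm.trans (sb E4836 D2641))).symm
theorem E5319 : n2625 = n2402 := (((D2402).symm.trans (sb E4836 (iv F4628)))).symm
theorem E5320 : n2414 = n1532 := ((D2414).symm.trans (sb E4837 (iv F2675)))
theorem F13608 : act 3 n1194 = n619 := (sb E4838 (iv D1288))
theorem E5321 : n2626 = n2416 := (((D2416).symm.trans (sb E4838 D2626))).symm
theorem E5323 : n6026 = n1647 := (((D1647).symm.trans (sb E4841 (iv F10620)))).symm
theorem E5324 : n2714 = n1491 := ((D2714).symm.trans (sb E4843 F5308))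
theorem E5325 : n2715 = n2296 := ((D2715).symm.trans (sb E4843 (tr F10294 E5130)))
theorem E5326 : n2717 = n1488 := ((D2717).symm.trans (sb E4843 (iv D3043)))
theorem E5327 : n3059 = n2718 := (((D2718).symm.trans (sb E4843 (iv F5330)))).symm
theorem E5328 : n3040 = n2720 := (((D2720).symm.trans (sb E4844 F5437))).symm
theorem E5329 : n2721 = n1538 := ((D2721).symm.trans (sb E4844 (iv D3144)))
theorem E5330 : n2722 = n736 := ((D2722).symm.trans (sb E4845 (iv D1545)))
theorem E5332 : n2724 = n1495 := ((D2724).symm.trans (sb E4846 (iv D3053)))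
theorem E5343 : n5980 = n5328 := (((D5328).symm.trans (sb E4852 (iv F10569)))).symm
theorem F13609 : act 3 n948 = n1708 := (sb E4853 (iv D3516))
theorem E5345 : n6832 = n3517 := ((D6832).symm.trans (sb E4856 (tr F6886 E4856)))
theorem F13610 : act 0 n718 = n1348 := (sb E4863 F4134)
theorem F13611 : act 2 n718 = n1144 := (sb E4863 (iv D2310))
theorem E5348 : n4503 = n1508 := (((D1508).symm.trans (sb E4863 D4503))).symm
theorem E5350 : n4504 = n710 := (((F1321).symm.trans (sb E4863 D4504))).symm
theorem F13612 : act 0 n1491 = n1342 := (sb E4864 F4121)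
theorem F13613 : act 3 n1491 = n1141 := (sb E4864 (iv D2304))
theorem F13614 : act 4 n1491 = n1144 := (sb E4864 F4122)
theorem E5353 : n4497 = n1504 := ((((iv F2641)).symm.trans (sb E4864 D4497))).symm
theorem F13615 : act 0 n1490 = n1349 := (sb E4865 F4135)
theorem F13616 : act 3 n1490 = n1193 := (sb E4865 F4136)
theorem F13617 : act 5 n1490 = n1144 := (sb E4865 (iv D2311))
theorem F13618 : act 0 n716 = n1350 := (sb E4866 F4137)
theorem F13619 : act 6 n716 = n1144 := (sb E4866 (iv D2312))
theorem E5364 : n3400 = n1636 := ((((iv F2788)).symm.trans (sb E4871 D3400))).symm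
theorem F13620 : act 2 n784 = n784 := (sb E4871 (iv D1651))
theorem E5366 : n3402 = n1652 := (((D1652).symm.trans (sb E4871 D3402))).symm
theorem E5367 : n3215 = n1653 := (((D1653).symm.trans (sb E4871 F5535))).symm
theorem E5368 : n3386 = n1645 := ((((iv F2796)).symm.trans (sb E4871 (iv F5764)))).symm
theorem F13621 : act 6 n3425 = n3260 := (sb E4908 F11073)
theorem F13622 : act 4 n3428 = n3260 := (sb E4909 (iv D6365))
theorem E5373 : n6708 = n2994 := ((D6708).symm.trans (sb E4911 (iv D5860)))
theorem E5374 : n6709 = n2995 := ((D6709).symm.trans (sb E4911 F10406))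
theorem F13623 : act 3 n1479 = n1670 := (sb E4912 (iv D3444))
theorem E5377 : n6263 = n3023 := (((D3023).symm.trans (sb E4912 (iv F10957)))).symm
theorem E5379 : n6706 = n3224 := (E5080).trans E5087
theorem F13624 : act 2 n1584 = n1673 := (sb E4913 F5848)
theorem F13625 : act 4 n1584 = n1670 := (sb E4913 F5849)
theorem F13626 : act 5 n1584 = n1669 := (sb E4913 (iv D3442))
theorem F13627 : act 2 n1480 = n1676 := (sb E4914 F5852)
theorem F13628 : act 6 n1480 = n1670 := (sb E4914 (iv D3445))
theorem E5385 : n6103 = n3253 := ((D6103).symm.trans (sb E4931 F11074))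
theorem E5388 : n6737 = n6368 := (((D6368).symm.trans (sb E4933 D6737))).symm
theorem E5389 : n6738 = n6370 := (((D6370).symm.trans (sb E4933 D6738))).symm
theorem E5393 : n5155 = n2389 := (((D2389).symm.trans (sb E4944 (iv F9171)))).symm
theorem E5394 : n5153 = n2390 := (((D2390).symm.trans (sb E4944 F9169))).symm
theorem E5395 : n6035 = n2392 := (((D2392).symm.trans (sb E4944 F10641))).symm
theorem E5397 : n3136 = n2394 := (((D2394).symm.trans (sb E4946 F9155))).symm
theorem E5399 : n3138 = n2397 := (((D2397).symm.trans (sb E4947 F9159))).symm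
theorem E5400 : n2398 = n1609 := ((D2398).symm.trans (sb E4948 F5427))
theorem E5401 : n2399 = n1535 := ((D2399).symm.trans (sb E4948 (iv D3139)))
theorem F13629 : act 0 n1190 = n1194 := (sb E4952 F2348)
theorem E5402 : n2631 = n2406 := (((D2406).symm.trans (sb E4952 (iv F4642)))).symm
theorem E5403 : n2620 = n2407 := (((D2407).symm.trans (sb E4952 (iv F4618)))).symm
theorem E5404 : n2634 = n2408 := (((D2408).symm.trans (sb E4952 D2634))).symm
theorem F13630 : act 0 n1196 = n1192 := (sb E4956 F2346)
theorem E5406 : n2628 = n2420 := (((D2420).symm.trans (sb E4956 D2628))).symm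
theorem E5407 : n2618 = n2422 := (((D2422).symm.trans (sb E4956 (iv F4610)))).symm
theorem F13631 : act 0 n1197 = n1186 := (sb E4957 F2333)
theorem F13632 : act 3 n1197 = n617 := (sb E4957 (iv D1284))
theorem E5409 : n2619 = n2424 := (((D2424).symm.trans (sb E4957 D2619))).symm
theorem F13633 : act 0 n1198 = n1193 := (sb E4958 F2347)
theorem E5410 : n2632 = n2426 := (((D2426).symm.trans (sb E4958 D2632))).symm
theorem E5415 : n4479 = n1334 := (((D1334).symm.trans (sb E4963 (iv F8070)))).symm
theorem E5416 : n4727 = n2607 := (((D2607).symm.trans (sb E4964 (iv F8477)))).symm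
theorem E5417 : n4725 = n2608 := (((D2608).symm.trans (sb E4964 F8475))).symm
theorem E5418 : n4731 = n2611 := (((D2611).symm.trans (sb E4966 (iv F8491)))).symm
theorem E5419 : n4735 = n2612 := (((D2612).symm.trans (sb E4966 F8489))).symm
theorem E5420 : n5790 = n2615 := (((D2615).symm.trans (sb E4967 (iv F10282)))).symm
theorem E5421 : n3211 = n2616 := (((D2616).symm.trans (sb E4968 (iv F8464)))).symm
theorem E5422 : n2959 = n2617 := (((D2617).symm.trans (sb E4968 F8463))).symm
theorem E5425 : n1487 = n1338 := (((D1338).symm.trans (sb E4974 (tr D4509 E5044)))).symm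
theorem E5426 : n1339 = n734 := ((D1339).symm.trans (sb E4974 (tr (iv F4985) E5024)))
theorem E5427 : n1341 = n733 := ((D1341).symm.trans (sb E4974 (tr F4982 E5022)))
theorem E5428 : n1344 = n732 := ((D1344).symm.trans (sb E4975 (tr (iv F4978) E5021)))
theorem F13634 : act 3 n645 = n1143 := (sb E4976 (iv D2308))
theorem E5429 : n1347 = n738 := ((D1347).symm.trans (sb E4976 (tr (iv F4996) E5020)))
theorem E5440 : n6214 = n2614 := (((D2614).symm.trans (sb E4981 D6214))).symm
theorem E5443 : n6212 = n2621 := (((D2621).symm.trans (sb E4982 (iv F10874)))).symm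
theorem E5444 : n1340 = n349 := (((iv F2420)).symm.trans (sb E4984 F1344))
theorem E5445 : n1551 = n1343 := ((((iv F2423)).symm.trans (sb E4984 (iv F2693)))).symm
theorem E5446 : n1345 = n347 := ((D1345).symm.trans (sb E4984 (iv D739)))
theorem E5447 : n2623 = n1549 := ((D2623).symm.trans (sb E4985 (iv D3166)))
theorem E5448 : n1337 = n711 := ((D1337).symm.trans (sb E4987 F1348))
theorem E5475 : n5637 = n4591 := (((D4591).symm.trans (sb E5011 (iv F9981)))).symm
theorem E5477 : n5643 = n4592 := (((D4592).symm.trans (sb E5011 (iv F9991)))).symm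
theorem E5478 : n5647 = n4593 := (((D4593).symm.trans (sb E5011 D5647))).symm
theorem E5486 : n5595 = n1550 := (((D1550).symm.trans (sb E5020 D5595))).symm
theorem E5487 : n5570 = n1539 := (((D1539).symm.trans (sb E5021 D5570))).symm
theorem F13635 : act 2 n1431 = n1431 := (sb E5029 F4900)
theorem E5497 : n5446 = n2931 := (((D2931).symm.trans (sb E5029 D5446))).symm
theorem E5499 : n5448 = n2933 := (((D2933).symm.trans (sb E5029 D5448))).symm
theorem F13636 : act 6 n1432 = n5451 := (sb E5030 D5451)
theorem F13637 : act 3 n1350 = n5452 := (sb E5031 D5452)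
theorem F13638 : act 4 n1426 = n5451 := (sb E5032 (iv F9689))
theorem F13639 : act 5 n1426 = n5455 := (sb E5032 D5455)
theorem F13640 : act 2 n1427 = n5451 := (sb E5034 (iv F9688))
theorem F13641 : act 2 n1428 = n5455 := (sb E5036 (iv F9692))
theorem E5509 : n5972 = n3054 := (((D3054).symm.trans (sb E5037 (iv F10557)))).symm
theorem F13642 : act 2 n1500 = n1500 := (sb E5038 F5336)
theorem E5515 : n5995 = n3068 := (((D3068).symm.trans (sb E5038 D5995))).symm
theorem F13644 : act 2 n1502 = n1502 := (sb E5040 F5338)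
theorem E5519 : n5999 = n3071 := (((D3071).symm.trans (sb E5040 D5999))).symm
theorem E5521 : n2917 = n702 := (((D702).symm.trans (sb E5043 (iv D5715)))).symm
theorem E5523 : n5937 = n1415 := ((((iv F2495)).symm.trans (sb E5045 (iv F10516)))).symm
theorem E5524 : n5943 = n1418 := (((D1418).symm.trans (sb E5045 (iv F10518)))).symm
theorem E5525 : n1485 = n1419 := (((D1419).symm.trans (sb E5045 (iv D3037)))).symm
theorem E5526 : n5945 = n1420 := (((D1420).symm.trans (sb E5045 D5945))).symm
theorem F13645 : act 6 n6499 = n6244 := (sb E5061 (iv F11584))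
theorem F13646 : act 4 n6502 = n6244 := (sb E5063 F11587)
theorem F13647 : act 4 n6409 = n6224 := (sb E5065 F11650)
theorem F13648 : act 6 n6409 = n5692 := (sb E5065 (tr F11652 E5229))
theorem F13649 : act 6 n6228 = n3280 := (sb E5066 (iv D6410))
theorem E5528 : n6240 = n3293 := (((D3293).symm.trans (sb E5069 F11705))).symm
theorem F13650 : act 2 n3187 = n3337 := (sb E5070 F11158)
theorem F13651 : act 4 n3187 = n3285 := (sb E5070 F11159)
theorem F13652 : act 5 n3187 = n3284 := (sb E5070 (iv D6418))
theorem E5529 : n6238 = n5697 := ((((iv F10068)).symm.trans (sb E5071 F11654))).symm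
theorem F13653 : act 4 n6509 = n3451 := (sb E5073 (iv D6727))
theorem F13654 : act 6 n6511 = n3456 := (sb E5075 F11656)
theorem F13655 : act 1 n6662 = n3421 := (sb E5078 F11555)
theorem F13656 : act 4 n6662 = n3419 := (sb E5078 (iv D6664))
theorem F13657 : act 4 n3224 = n3439 := (sb E5379 F11626)
theorem F13658 : act 6 n5864 = n3437 := (sb E5083 (iv D6704))
theorem F13659 : act 4 n5864 = n3228 := (sb E5085 F11020)
theorem F13660 : act 0 n3224 = n3439 := (sb E5087 F11622)
theorem F13661 : act 5 n3224 = n3437 := (sb E5087 (iv D6703))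
theorem F13662 : act 1 n6304 = n3423 := (sb E5090 F11559)
theorem F13663 : act 6 n6304 = n3419 := (sb E5090 (iv D6666))
theorem F13664 : act 4 n6301 = n6675 := (sb E5094 F11568)
theorem F13665 : act 5 n6301 = n3423 := (sb E5094 (iv D6677))
theorem F13666 : act 6 n6301 = n6672 := (sb E5094 F11569)
theorem F13667 : act 5 n2957 = n3302 := (sb E5096 (iv D6447))
theorem E5531 : n5718 = n5333 := (((iv F10120)).symm.trans (sb E5101 (iv F9505)))
theorem E5532 : n4474 = n2297 := (((iv F8061)).symm.trans (sb E5124 (tr F5206 E5124)))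
theorem E5533 : n5333 = n4476 := ((((iv F8064)).symm.trans (sb E5124 (tr F10121 E5531)))).symm
theorem E5534 : n4478 = n1452 := ((D4478).symm.trans (sb E5124 (iv D2969)))
theorem E5536 : n5718 = n4476 := (E5531).trans E5533
theorem E5537 : n4489 = n1456 := (((iv F8084)).symm.trans (sb E5109 F5212))
theorem E5538 : n4498 = n3046 := ((D4498).symm.trans (sb E5109 (iv F5309)))
theorem F13668 : act 2 n695 = n1142 := (sb E5106 F4118)
theorem F13669 : act 5 n695 = n1140 := (sb E5106 (iv D2302))
theorem E5545 : n4500 = n1453 := (((D1453).symm.trans (sb E5108 D4500))).symm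
theorem F13670 : act 6 n693 = n1142 := (sb E5108 (iv D2307))
theorem F13671 : act 1 n1140 = n1140 := (sb E5110 (iv D2300))
theorem E5548 : n1467 = n700 := (((F2116).symm.trans (sb E5110 F4114))).symm
theorem E5552 : n1469 = n1425 := ((D1469).symm.trans (sb E5111 (iv D2919)))
theorem F13672 : act 2 n1450 = n1141 := (sb E5112 F4116)
theorem E5554 : n4488 = n2966 := (((D2966).symm.trans (sb E5112 D4488))).symm
theorem F13673 : act 4 n1450 = n1140 := (sb E5112 (iv D2301))
theorem F13674 : act 2 n1449 = n1143 := (sb E5113 F4120)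
theorem E5556 : n4493 = n2961 := ((((iv F5185)).symm.trans (sb E5113 D4493))).symm
theorem F13675 : act 6 n1449 = n1140 := (sb E5113 (iv D2303))
theorem F13676 : act 2 n1138 = n1138 := (sb E5129 (iv D2295))
theorem E5562 : n4473 = n2296 := (((D2296).symm.trans (sb E5129 D4473))).symm
theorem E5563 : n4475 = n2298 := (((D2298).symm.trans (sb E5129 D4475))).symm
theorem E5564 : n4477 = n2962 := ((D4477).symm.trans (sb E5130 (iv D5795)))
theorem E5565 : n4480 = n2927 := ((D4480).symm.trans (sb E5131 (iv D5730)))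
theorem E5566 : n4679 = n3261 := ((D4679).symm.trans (sb E5136 (iv D6367)))
theorem E5567 : n4689 = n3045 := ((D4689).symm.trans (sb E5138 (iv F8547)))
theorem E5568 : n4771 = n1532 := (E5150).trans E5320
theorem E5569 : n5959 = n4692 := (((D4692).symm.trans (sb E5140 (iv F10544)))).symm
theorem E5570 : n5805 = n4641 := ((((iv F8366)).symm.trans (sb E5141 (iv F10307)))).symm
theorem E5571 : n5640 = n4696 := (((D4696).symm.trans (sb E5141 (iv F9987)))).symm
theorem E5572 : n5809 = n4697 := (((D4697).symm.trans (sb E5141 (iv F10316)))).symm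
theorem E5573 : n5812 = n4698 := (((D4698).symm.trans (sb E5141 D5812))).symm
theorem F13677 : act 1 n2368 = n1190 := (sb E5142 F4256)
theorem F13678 : act 3 n2368 = n1177 := (sb E5142 (iv D2379))
theorem E5575 : n4643 = n4613 := ((((iv F8320)).symm.trans (sb E5142 D4643))).symm
theorem E5576 : n4644 = n4616 := (((D4616).symm.trans (sb E5142 D4644))).symm
theorem E5577 : n3134 = n3074 := ((D3134).symm.trans (sb E5568 F8549))
theorem E5580 : n4499 = n2963 := (((D2963).symm.trans (sb E5153 D4499))).symm
theorem F13679 : act 4 n1448 = n1143 := (sb E5153 F4126)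
theorem F13680 : act 6 n1448 = n1141 := (sb E5153 (iv D2306))
theorem E5581 : n4501 = n2973 := (((D2973).symm.trans (sb E5154 D4501))).symm
theorem F13681 : act 5 n1454 = n1143 := (sb E5154 (iv D2309))
theorem F13682 : act 6 n1454 = n2305 := (sb E5154 F4133)
theorem E5582 : n4656 = n4607 := (((D4607).symm.trans (sb E5155 D4656))).symm
theorem F13683 : act 1 n2366 = n1197 := (sb E5156 F4268)
theorem E5586 : n4660 = n4612 := (((D4612).symm.trans (sb E5156 D4660))).symm
theorem F13684 : act 1 n2367 = n1198 := (sb E5157 F4269)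
theorem E5587 : n4662 = n4614 := (((D4614).symm.trans (sb E5157 D4662))).symm
theorem F13685 : act 2 n2421 = n2421 := (sb E5159 (tr F8627 E5159))
theorem E5588 : n4730 = n2411 := ((D4730).symm.trans (sb E5159 (tr (iv F8971) E5170)))
theorem F13686 : act 3 n1349 = n1198 := (sb E5167 (iv D2425))
theorem E5596 : n5452 = n716 := ((F13637).symm.trans (sb E5168 (iv D1505)))
theorem E5597 : n3069 = n683 := (((E5307).symm.trans ((D2761).symm.trans (sb E5168 (iv F5342))))).symm
theorem E5601 : n5748 = n1504 := ((((iv F2641)).symm.trans (sb E5180 (iv F10187)))).symm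
theorem E5602 : n5741 = n337 := ((((iv D716)).symm.trans (sb E5181 (iv F10174)))).symm
theorem F13687 : act 4 n2885 = n2359 := (sb E5182 F8290)
theorem F13688 : act 5 n2885 = n2358 := (sb E5182 (iv D4596))
theorem F13689 : act 0 n2883 = n2885 := (sb E5183 F8293)
theorem F13690 : act 6 n2883 = n2359 := (sb E5183 (iv D4598))
theorem F13691 : act 0 n4591 = n5635 := (sb E5184 (iv F10004))
theorem F13692 : act 4 n4591 = n5633 := (sb E5184 F10003)
theorem F13693 : act 1 n4592 = n5633 := (sb E5186 (iv F9998))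
theorem F13694 : act 6 n1404 = n2357 := (sb E5194 (iv D4594))
theorem F13695 : act 6 n1405 = n2358 := (sb E5195 (iv D4597))
theorem E5608 : n6403 = n3320 := ((((iv F5656)).symm.trans (sb E5206 (iv F11135)))).symm
theorem F13696 : act 2 n1620 = n1620 := (sb E5206 F5649)
theorem E5609 : n3330 = n3301 := ((D3330).symm.trans (sb E5206 F5650))
theorem E5610 : n3313 = n1613 := (((iv F5645)).symm.trans (sb E5206 (iv D3315)))
theorem E5611 : n3325 = n3300 := (((iv F5666)).symm.trans (sb E5206 F5651))
theorem F13697 : act 3 n1498 = n2727 := (sb E5215 F9055)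
theorem F13698 : act 4 n5692 = n3178 := (sb E5229 (iv D6227))
theorem F13699 : act 3 n3044 = n2925 := (sb E5230 (iv D5727))
theorem F13700 : act 4 n5862 = n3226 := (sb E5231 (iv D6303))
theorem E5613 : n5963 = n2921 := ((D5963).symm.trans (sb E5233 (iv D5722)))
theorem E5614 : n6211 = n5965 := (((D5965).symm.trans (sb E5233 (iv F10872)))).symm
theorem F13702 : act 5 n3247 = n3015 := (sb E5239 (iv D5902))
theorem F13703 : act 3 n3012 = n1582 := (sb E5240 (iv D3248))
theorem E5617 : n6344 = n3021 := ((((iv F5273)).symm.trans (sb E5240 D6344))).symm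
theorem F13704 : act 4 n5895 = n3015 := (sb E5241 (iv D5901))
theorem F13705 : act 6 n5895 = n6346 := (sb E5241 (iv F11071))
theorem F13706 : act 3 n5897 = n3021 := (sb E5242 (iv D5915))
theorem F13707 : act 4 n5768 = n3270 := (sb E5249 F11113)
theorem F13708 : act 5 n5768 = n6388 := (sb E5249 (iv F11115))
theorem F13709 : act 6 n5768 = n3268 := (sb E5249 (iv D6386))
theorem F13710 : act 6 n1597 = n3279 := (sb E5250 (iv D6406))
theorem F13711 : act 1 n6375 = n3270 := (sb E5251 F11108)
theorem F13712 : act 6 n6375 = n3266 := (sb E5251 (iv D6379))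
theorem F13713 : act 1 n6405 = n3293 := (sb E5252 F11154)
theorem F13714 : act 4 n6405 = n6415 := (sb E5252 F11155)
theorem F13715 : act 6 n6405 = n6412 := (sb E5252 F11156)
theorem E5618 : n6633 = n1652 := (E5255).trans E5366
theorem E5619 : n6618 = n3301 := (((E5609).symm.trans (((iv F5677)).symm.trans (sb E5618 F11500)))).symm
theorem E5620 : n3405 = n3398 := ((((iv F5782)).symm.trans (sb E5618 (iv D6633)))).symm
theorem F13716 : act 2 n3395 = n3302 := (sb E5256 (iv D6445))
theorem F13717 : act 6 n3397 = n3302 := (sb E5257 F11184)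
theorem E5621 : n6427 = n5705 := ((D6427).symm.trans (sb E5258 F10092))
theorem F13718 : act 5 n3290 = n2913 := (sb E5258 (iv D5707))
theorem E5622 : n6428 = n5696 := ((D6428).symm.trans (sb E5258 F10093))
theorem F13719 : act 0 n1498 = n1334 := (sb E5263 F4797)
theorem E5626 : n5293 = n1538 := ((((iv F2681)).symm.trans (sb E5263 (iv F9429)))).symm
theorem F13720 : act 6 n1498 = n1330 := (sb E5263 (iv D2713))
theorem E5629 : n5086 = n3155 := ((D5086).symm.trans (sb E5269 (iv D6179)))
theorem E5630 : n5091 = n4646 := (((D4646).symm.trans (sb E5274 D5091))).symm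
theorem E5633 : n5094 = n4648 := (((D4648).symm.trans (sb E5274 D5094))).symm
theorem E5637 : n4650 = n3133 := ((D4650).symm.trans (sb E5276 (iv F5421)))
theorem F13721 : act 3 n2383 = n1277 := (sb E5277 (iv D2601))
theorem E5638 : n5089 = n4652 := (((D4652).symm.trans (sb E5277 D5089))).symm
theorem E5640 : n2716 = n1330 := (((iv F4801)).symm.trans (sb E5279 (iv D2710)))
theorem F13722 : act 0 n1331 = n1332 := (sb E5280 F4791)
theorem E5644 : n5294 = n1488 := (((E5326).symm.trans ((D2717).symm.trans (sb E5280 D5294)))).symm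
theorem F13723 : act 1 n2712 = n1490 := (sb E5281 F5305)
theorem E5645 : n5296 = n1497 := ((D5296).symm.trans (sb E5281 F5307))
theorem E5655 : n5325 = n2726 := (((iv F9490)).symm.trans (sb E5289 (tr F10125 E5289)))
theorem E5656 : n5314 = n2920 := (((iv F9468)).symm.trans (sb E5289 (iv D5720)))
theorem E5657 : n5327 = n2929 := ((D5327).symm.trans (sb E5289 F10126))
theorem F13724 : act 2 n1335 = n1335 := (sb E5290 (iv D2725))
theorem E5660 : n5313 = n2719 := ((((iv F4806)).symm.trans (sb E5290 (iv F9465)))).symm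
theorem E5661 : n5326 = n2727 := (((D2727).symm.trans (sb E5290 D5326))).symm
theorem E5662 : n5736 = n5315 := (((D5315).symm.trans (sb E5291 (iv F10163)))).symm
theorem E5663 : n5328 = n1430 := ((D5328).symm.trans (sb E5292 (iv D2930)))
theorem E5664 : n5137 = n4726 := ((((iv F8476)).symm.trans (sb E5293 (iv F9126)))).symm
theorem E5665 : n5140 = n4732 := (((D4732).symm.trans (sb E5293 D5140))).symm
theorem E5666 : n5370 = n2921 := (((iv F9572)).symm.trans (sb E5294 (iv D5723)))
theorem E5668 : n5451 = n1349 := ((F13640).symm.trans (sb E5295 F4861))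
theorem E5669 : n3004 = n2918 := ((((iv F5090)).symm.trans (sb E5295 F9189))).symm
theorem F13725 : act 5 n1427 = n1348 := (sb E5295 (iv D2758))
theorem E5672 : n5455 = n1342 := ((F13639).symm.trans (sb E5296 (iv D2747)))
theorem E5673 : n5394 = n2934 := (((D2934).symm.trans (sb E5297 D5394))).symm
theorem F13726 : act 1 n1348 = n1348 := (sb E5302 (iv D2756))
theorem E5682 : n5386 = n2757 := (((D2757).symm.trans (sb E5302 D5386))).symm
theorem E5685 : n5751 = n5389 := (((D5389).symm.trans (sb E5303 D5751))).symm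
theorem E5686 : n5752 = n3008 := (((F13557).symm.trans (sb E5303 D5752))).symm
theorem E5687 : n5750 = n3003 := ((((iv F9190)).symm.trans (sb E5303 (iv F10194)))).symm
theorem E5688 : n5390 = n1447 := ((D5390).symm.trans (sb E5303 F5139))
theorem E5689 : n3005 = n2924 := (((D2924).symm.trans (sb E5304 F13561))).symm
theorem F13727 : act 4 n1428 = n1348 := (sb E5304 F4845)
theorem E5690 : n5369 = n1434 := ((((iv F2536)).symm.trans (sb E5304 D5369))).symm
theorem F13728 : act 2 n685 = n1350 := (sb E5305 F4862)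
theorem F13729 : act 6 n685 = n1348 := (sb E5305 (iv D2759))
theorem E5693 : n5371 = n3148 := ((D5371).symm.trans (sb E5306 (iv F5440)))
theorem F13730 : act 5 n2748 = n1432 := (sb E5306 (iv D2935))
theorem F13731 : act 5 n683 = n1350 := (sb E5307 (iv D2761))
theorem E5702 : n4706 = n3104 := ((D4706).symm.trans (sb E5313 F5394))
theorem E5703 : n5131 = n4707 := (((D4707).symm.trans (sb E5313 (iv F9115)))).symm
theorem F13732 : act 0 n2411 = n2421 := (sb E5314 F4655)
theorem F13733 : act 4 n2411 = n5156 := (sb E5314 D5156)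
theorem E5704 : n5158 = n4709 := (((D4709).symm.trans (sb E5314 D5158))).symm
theorem E5705 : n4687 = n3135 := ((D4687).symm.trans (sb E5315 (iv F5424)))
theorem E5706 : n4688 = n1525 := ((D4688).symm.trans (sb E5315 F4658))
theorem F13734 : act 2 n1534 = n1193 := (sb E5316 F4293)
theorem F13735 : act 5 n1534 = n1192 := (sb E5316 (iv D2412))
theorem E5708 : n5132 = n4712 := (((D4712).symm.trans (sb E5317 D5132))).symm
theorem E5709 : n4713 = n1533 := ((D4713).symm.trans (sb E5317 (iv F4624)))
theorem E5710 : n5160 = n3045 := (((E5567).symm.trans ((D4689).symm.trans (sb E5318 D5160)))).symm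
theorem E5711 : n5126 = n4690 := (((D4690).symm.trans (sb E5319 (iv F9107)))).symm
theorem F13736 : act 5 n1532 = n2402 := (sb E5320 F4295)
theorem F13737 : act 6 n1532 = n1193 := (sb E5320 (iv D2414))
theorem E5712 : n5133 = n4718 := (((D4718).symm.trans (sb E5321 D5133))).symm
theorem F13738 : act 4 n2416 = n1532 := (sb E5321 F4632)
theorem E5717 : n3391 = n3080 := ((D3391).symm.trans (sb E5323 (iv D6026)))
theorem F13739 : act 1 n1491 = n1331 := (sb E5324 (iv D2714))
theorem E5722 : n5302 = n1504 := ((((iv F2641)).symm.trans (sb E5324 D5302))).symm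
theorem F13740 : act 3 n2296 = n1331 := (sb E5325 (iv D2715))
theorem F13741 : act 2 n1488 = n1333 := (sb E5326 F4802)
theorem F13742 : act 4 n1488 = n5307 := (sb E5326 (iv F9455))
theorem F13743 : act 5 n1488 = n1331 := (sb E5326 (iv D2717))
theorem E5728 : n5986 = n5311 := (((D5311).symm.trans (sb E5327 D5986))).symm
theorem E5729 : n5308 = n1498 := (((iv F9457)).symm.trans (sb E5327 F5329))
theorem E5730 : n5312 = n1497 := ((D5312).symm.trans (sb E5327 (iv D3059)))
theorem E5731 : n5946 = n5316 := (((D5316).symm.trans (sb E5328 D5946))).symm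
theorem F13744 : act 4 n1538 = n1334 := (sb E5329 F4810)
theorem F13745 : act 6 n1538 = n1332 := (sb E5329 (iv D2721))
theorem F13746 : act 6 n736 = n1333 := (sb E5330 (iv D2722))
theorem F13747 : act 5 n1495 = n1334 := (sb E5332 (iv D2724))
theorem F13748 : act 6 n1495 = n2720 := (sb E5332 F4817)
theorem E5738 : n5980 = n1430 := (E5343).trans E5663
theorem E5739 : n3056 = n2928 := (((D2928).symm.trans (sb E5738 (iv D5980)))).symm
theorem F13749 : act 3 n3517 = n3517 := (sb E5345 (iv D6832))
theorem F13750 : act 0 n1508 = n2757 := (sb E5348 F8115)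
theorem E5740 : n5353 = n3081 := (((D3081).symm.trans (sb E5348 (iv F13492)))).symm
theorem E5741 : n5348 = n3079 := ((((iv F5350)).symm.trans (sb E5348 F9530))).symm
theorem E5743 : n5349 = n1486 := ((((iv F2620)).symm.trans (sb E5350 (iv F9533)))).symm
theorem F13751 : act 0 n1504 = n2748 := (sb E5353 F8105)
theorem E5744 : n6623 = n3350 := ((((iv F5716)).symm.trans (sb E5364 D6623))).symm
theorem E5745 : n6566 = n3366 := (((D3366).symm.trans (sb E5364 (iv F11408)))).symm
theorem E5747 : n6625 = n3367 := (((D3367).symm.trans (sb E5364 D6625))).symm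
theorem E5748 : n6259 = n3368 := (((D3368).symm.trans (sb E5364 F10950))).symm
theorem E5749 : n6601 = n3360 := ((((iv F5733)).symm.trans (sb E5364 (iv F11445)))).symm
theorem F13752 : act 2 n1652 = n1652 := (sb E5366 F5785)
theorem E5753 : n6277 = n3403 := (((D3403).symm.trans (sb E5366 (iv F10988)))).symm
theorem E5754 : n3387 = n3207 := (((iv F5769)).symm.trans (sb E5366 F5786))
theorem F13753 : act 2 n1653 = n1653 := (sb E5367 F5534)
theorem E5755 : n5789 = n3404 := (((D3404).symm.trans (sb E5367 (iv F10278)))).symm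
theorem E5756 : n3213 = n1569 := (((iv F5531)).symm.trans (sb E5367 (iv D3215)))
theorem F13754 : act 2 n1645 = n1645 := (sb E5368 (iv D3386))
theorem E5757 : n6602 = n781 := ((((iv D1645)).symm.trans (sb E5368 D6602))).symm
theorem E5758 : n3388 = n3214 := ((D3388).symm.trans (sb E5368 (iv F5765)))
theorem F13755 : act 3 n2994 = n3439 := (sb E5373 (iv D6708))
theorem F13756 : act 6 n2995 = n3439 := (sb E5374 (iv D6709))
theorem F13757 : act 0 n3023 = n3290 := (sb E5377 F10956)
theorem F13758 : act 3 n3023 = n3202 := (sb E5377 (iv D6263))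
theorem E5759 : n6351 = n3117 := ((D6351).symm.trans (sb E5385 F10749))
theorem E5760 : n6352 = n3125 := ((D6352).symm.trans (sb E5385 F10750))
theorem F13759 : act 5 n3253 = n3116 := (sb E5385 (iv D6103))
theorem E5761 : n6353 = n6120 := ((D6353).symm.trans (sb E5385 (iv F13425)))
theorem F13760 : act 3 n6368 = n6734 := (sb E5388 F11658)
theorem F13761 : act 3 n6370 = n6728 := (sb E5389 F11659)
theorem E5762 : n6079 = n4666 := (((D4666).symm.trans (sb E5393 (iv F10718)))).symm
theorem E5763 : n4667 = n3095 := ((D4667).symm.trans (sb E5393 F9173))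
theorem E5764 : n6040 = n4669 := (((D4669).symm.trans (sb E5394 F10656))).symm
theorem E5765 : n4673 = n3084 := ((D4673).symm.trans (sb E5395 (iv D6035)))
theorem E5766 : n4674 = n3086 := ((D4674).symm.trans (sb E5395 F10640))
theorem F13762 : act 3 n2394 = n1534 := (sb E5397 (iv D3136))
theorem E5767 : n6039 = n4672 := ((((iv F8424)).symm.trans (sb E5399 (iv F10651)))).symm
theorem E5768 : n4682 = n1612 := ((D4682).symm.trans (sb E5399 F5426))
theorem F13763 : act 3 n1609 = n1185 := (sb E5400 (iv D2398))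
theorem F13764 : act 2 n1535 = n1191 := (sb E5401 F4281)
theorem F13765 : act 4 n1535 = n2397 := (sb E5401 F4282)
theorem F13766 : act 5 n1535 = n1185 := (sb E5401 (iv D2399))
theorem F13767 : act 6 n1535 = n2394 := (sb E5401 F4283)
theorem F13768 : act 0 n2406 = n2413 := (sb E5402 F4641)
theorem E5771 : n5139 = n4699 := (((D4699).symm.trans (sb E5402 (iv F9134)))).symm
theorem E5772 : n5142 = n4700 := (((D4700).symm.trans (sb E5402 D5142))).symm
theorem F13769 : act 0 n2407 = n2402 := (sb E5403 F4617)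
theorem E5775 : n5122 = n4694 := ((((iv F8440)).symm.trans (sb E5403 D5122))).symm
theorem F13770 : act 0 n2408 = n2416 := (sb E5404 F4647)
theorem E5776 : n5146 = n4701 := (((D4701).symm.trans (sb E5404 D5146))).symm
theorem E5777 : n5138 = n4728 := (((D4728).symm.trans (sb E5406 D5138))).symm
theorem F13771 : act 0 n2422 = n2400 := (sb E5407 F4609)
theorem F13772 : act 3 n2422 = n2400 := (sb E5407 F4612)
theorem E5778 : n5119 = n4734 := (((D4734).symm.trans (sb E5407 D5119))).symm
theorem F13773 : act 0 n2424 = n2401 := (sb E5409 F4615)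
theorem E5780 : n5121 = n4736 := (((D4736).symm.trans (sb E5409 D5121))).symm
theorem E5781 : n5144 = n4740 := (((D4740).symm.trans (sb E5410 D5144))).symm
theorem F13774 : act 3 n1334 = n2298 := (sb E5415 (iv D4479))
theorem F13775 : act 1 n2607 = n2422 := (sb E5416 F8478)
theorem F13776 : act 4 n2607 = n2420 := (sb E5416 (iv D4727))
theorem E5782 : n5765 = n5101 := (((D5101).symm.trans (sb E5416 (iv F10225)))).symm
theorem F13777 : act 0 n2608 = n2420 := (sb E5417 (iv D4725))
theorem F13778 : act 5 n2611 = n2421 := (sb E5418 (iv D4731))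
theorem F13779 : act 3 n2612 = n2423 := (sb E5419 (iv D4735))
theorem E5783 : n5114 = n3214 := ((D5114).symm.trans (sb E5420 F10281))
theorem F13780 : act 0 n2616 = n1609 := (sb E5421 F5527)
theorem E5784 : n5755 = n5107 := ((((iv F9068)).symm.trans (sb E5421 (iv F10207)))).symm
theorem E5785 : n5115 = n3309 := ((D5115).symm.trans (sb E5421 (iv F13436)))
theorem E5786 : n5116 = n3309 := ((D5116).symm.trans (sb E5421 F13569))
theorem F13781 : act 5 n2616 = n1568 := (sb E5421 (iv D3211))
theorem F13782 : act 6 n2616 = n1609 := (sb E5421 F13570)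
theorem F13783 : act 0 n2617 = n1535 := (sb E5422 F5181)
theorem E5787 : n5757 = n5108 := ((((iv F9070)).symm.trans (sb E5422 (iv F10211)))).symm
theorem F13784 : act 3 n2617 = n1446 := (sb E5422 (iv D2959))
theorem E5788 : n2732 = n1492 := (((iv F4826)).symm.trans (sb E5425 (iv F2626)))
theorem E5789 : n3038 = n2736 := (((D2736).symm.trans (sb E5425 (iv F5295)))).symm
theorem E5790 : n2737 = n708 := ((D2737).symm.trans (sb E5425 (iv D1487)))
theorem E5791 : n3039 = n2738 := (((D2738).symm.trans (sb E5425 D3039))).symm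
theorem F13785 : act 2 n734 = n643 := (sb E5426 F2419)
theorem E5792 : n2739 = n1542 := (((D1542).symm.trans (sb E5426 D2739))).symm
theorem F13786 : act 4 n734 = n642 := (sb E5426 (iv D1339))
theorem E5793 : n2740 = n740 := ((((iv F1347)).symm.trans (sb E5426 D2740))).symm
theorem F13787 : act 2 n733 = n645 := (sb E5427 F2421)
theorem F13788 : act 6 n733 = n642 := (sb E5427 (iv D1341))
theorem F13789 : act 4 n732 = n645 := (sb E5428 F2424)
theorem F13790 : act 6 n732 = n643 := (sb E5428 (iv D1344))
theorem F13791 : act 5 n738 = n645 := (sb E5429 (iv D1347))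
theorem E5800 : n6245 = n5111 := (((D5111).symm.trans (sb E5440 (iv F10928)))).symm
theorem E5801 : n3171 = n2749 := ((((iv F4849)).symm.trans (sb E5443 (iv D6212)))).symm
theorem F13792 : act 2 n349 = n644 := (sb E5444 F2420)
theorem F13793 : act 5 n349 = n642 := (sb E5444 (iv D1340))
theorem F13794 : act 6 n1343 = n738 := (sb E5445 (iv D1551))
theorem F13795 : act 6 n347 = n644 := (sb E5446 (iv D1345))
theorem F13796 : act 0 n1549 = n2405 := (sb E5447 F4621)
theorem E5806 : n5128 = n3161 := ((((iv F5456)).symm.trans (sb E5447 D5128))).symm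
theorem F13797 : act 3 n1549 = n1287 := (sb E5447 (iv D2623))
theorem E5807 : n5129 = n3164 := ((((iv F5459)).symm.trans (sb E5447 D5129))).symm
theorem E5808 : n5130 = n3167 := (((D3167).symm.trans (sb E5447 D5130))).symm
theorem F13798 : act 1 n711 = n642 := (sb E5448 (iv D1337))
theorem F13799 : act 6 n4591 = n2877 := (sb E5475 (iv D5637))
theorem F13800 : act 5 n4592 = n5645 := (sb E5477 (iv F9993))
theorem F13801 : act 6 n4592 = n2879 := (sb E5477 (iv D5643))
theorem F13802 : act 4 n4593 = n5645 := (sb E5478 F9995)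
theorem F13803 : act 6 n4593 = n5642 := (sb E5478 F9996)
theorem E5811 : n3169 = n2973 := ((D3169).symm.trans (sb E5486 (tr F9918 E5581)))
theorem E5812 : n3146 = n2963 := ((D3146).symm.trans (sb E5487 (tr F9883 E5580)))
theorem F13804 : act 2 n2931 = n2931 := (sb E5497 F9681)
theorem F13806 : act 2 n2933 = n2933 := (sb E5499 F9685)
theorem F13807 : act 1 n3054 = n3054 := (sb E5509 (iv D5972))
theorem F13809 : act 2 n3068 = n3068 := (sb E5515 F10589)
theorem F13811 : act 2 n3071 = n3071 := (sb E5519 F10593)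
theorem E5813 : n5712 = n1462 := ((((iv F2597)).symm.trans (sb E5521 D5712))).symm
theorem E5815 : n5714 = n1472 := ((((iv F2611)).symm.trans (sb E5521 D5714))).symm
theorem E5816 : n2925 = n1474 := (((D1474).symm.trans (sb E5521 (iv F5110)))).symm
theorem E5817 : n5960 = n2898 := (((D2898).symm.trans (sb E5523 (iv F10545)))).symm
theorem E5818 : n3034 = n2900 := (((D2900).symm.trans (sb E5523 (iv D5937)))).symm
theorem E5819 : n3036 = n2906 := (((D2906).symm.trans (sb E5524 (iv D5943)))).symm
theorem E5820 : n3048 = n2907 := (((D2907).symm.trans (sb E5524 F10519))).symm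
theorem E5821 : n3035 = n1558 := ((((iv F2706)).symm.trans (sb E5525 D3035))).symm
theorem E5822 : n2908 = n1493 := ((D2908).symm.trans (sb E5525 (iv F2628)))
theorem E5823 : n3051 = n2910 := (((D2910).symm.trans (sb E5526 F10523))).symm
theorem F13812 : act 0 n3293 = n3253 := (sb E5528 F10918)
theorem E5824 : n6433 = n3188 := ((D6433).symm.trans (sb E5528 (iv D6240)))
theorem F13813 : act 3 n5697 = n3185 := (sb E5529 (iv D6238))
theorem F13814 : act 2 n4476 = n4476 := (sb E5536 (tr F10119 E5536))
theorem F13815 : act 3 n4476 = n5949 := (sb E5536 (iv F10530))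
theorem F13816 : act 2 n2297 = n2297 := (sb E5532 F8061)
theorem F13817 : act 6 n1452 = n2297 := (sb E5534 (iv D4478))
theorem F13818 : act 2 n1456 = n2305 := (sb E5537 F8084)
theorem E5826 : n3009 = n2926 := ((((iv F5113)).symm.trans (sb E5537 F13562))).symm
theorem E5827 : n5954 = n3247 := (((iv F10536)).symm.trans (sb E5538 F9194))
theorem F13819 : act 3 n3046 = n2305 := (sb E5538 (iv D4498))
theorem F13820 : act 4 n3046 = n2403 := (sb E5538 F8108)
theorem F13821 : act 6 n1453 = n2405 := (sb E5545 F8111)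
theorem F13822 : act 1 n700 = n700 := (sb E5548 (iv D1467))
theorem E5830 : n2981 = n331 := ((((iv D700)).symm.trans (sb E5548 (iv F5227)))).symm
theorem E5831 : n3000 = n1468 := (((D1468).symm.trans (sb E5548 D3000))).symm
theorem E5833 : n3002 = n1470 := (((D1470).symm.trans (sb E5548 D3002))).symm
theorem F13823 : act 2 n1425 = n702 := (sb E5552 F2608)
theorem F13824 : act 5 n1425 = n700 := (sb E5552 (iv D1469))
theorem E5834 : n3007 = n1429 := ((((iv F2526)).symm.trans (sb E5552 D3007))).symm
theorem E5835 : n5799 = n3237 := ((D5799).symm.trans (sb E5554 (iv F9376)))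
theorem E5836 : n5882 = n2937 := (((F5186).symm.trans (sb E5556 F13560))).symm
theorem F13825 : act 2 n2296 = n2296 := (sb E5562 F8060)
theorem F13826 : act 2 n2298 = n2298 := (sb E5563 F8062)
theorem F13827 : act 4 n2962 = n2298 := (sb E5564 F8066)
theorem F13828 : act 6 n2962 = n2296 := (sb E5564 (iv D4477))
theorem F13829 : act 5 n2927 = n2298 := (sb E5565 (iv D4480))
theorem F13830 : act 6 n2927 = n4476 := (sb E5565 F8073)
theorem F13831 : act 2 n3261 = n2396 := (sb E5566 (iv D4679))
theorem E5837 : n5953 = n5895 := (((iv F10535)).symm.trans (sb E5567 F10466))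
theorem F13832 : act 3 n3045 = n2401 := (sb E5567 (iv D4689))
theorem F13833 : act 5 n3045 = n2403 := (sb E5567 F8438)
theorem F13834 : act 4 n4692 = n5958 := (sb E5569 F10543)
theorem F13835 : act 5 n4692 = n3047 := (sb E5569 (iv D5959))
theorem F13836 : act 6 n4641 = n2968 := (sb E5570 (iv D5805))
theorem F13837 : act 6 n4696 = n2878 := (sb E5571 (iv D5640))
theorem F13838 : act 5 n4697 = n5810 := (sb E5572 (iv F10318))
theorem F13839 : act 6 n4697 = n2970 := (sb E5572 (iv D5809))
theorem F13840 : act 4 n4698 = n5810 := (sb E5573 F10322)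
theorem F13841 : act 6 n4698 = n5808 := (sb E5573 F10323)
theorem F13842 : act 1 n4613 = n2407 := (sb E5575 F8368)
theorem F13843 : act 1 n4616 = n2408 := (sb E5576 F8370)
theorem F13844 : act 0 n3074 = n4740 := (sb E5577 (iv F8507))
theorem E5838 : n6135 = n5985 := ((((iv F10579)).symm.trans (sb E5577 (iv F10788)))).symm
theorem E5839 : n6136 = n6013 := ((((iv F10605)).symm.trans (sb E5577 D6136))).symm
theorem F13845 : act 3 n3074 = n1532 := (sb E5577 (iv D3134))
theorem F13846 : act 2 n4607 = n2420 := (sb E5582 F8397)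
theorem F13847 : act 1 n4612 = n2424 := (sb E5586 F8400)
theorem F13848 : act 1 n4614 = n2426 := (sb E5587 F8406)
theorem E5842 : n5156 = n2421 := (((F13732).symm.trans (sb E5588 (iv F9174)))).symm
theorem F13849 : act 3 n716 = n1350 := (sb E5596 (iv F13637))
theorem E5847 : n1501 = n1431 := (((D1431).symm.trans (sb E5597 (iv D3069)))).symm
theorem E5849 : n6161 = n3075 := (((D3075).symm.trans (sb E5601 (iv F10816)))).symm
theorem E5850 : n2932 = n714 := (((D714).symm.trans (sb E5602 (iv D5741)))).symm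
theorem E5851 : n6482 = n6395 := ((D6482).symm.trans (sb E5608 F11136))
theorem E5852 : n6463 = n3278 := ((F11206).symm.trans (sb E5608 (iv D6403)))
theorem E5853 : n6479 = n6394 := (((iv F11225)).symm.trans (sb E5608 F11137))
theorem F13850 : act 0 n3301 = n1652 := (sb E5609 F5677)
theorem F13851 : act 2 n3301 = n3301 := (sb E5609 F5678)
theorem F13852 : act 3 n3301 = n3406 := (sb E5609 (iv F5794))
theorem F13853 : act 4 n3301 = n1620 := (sb E5609 (iv D3330))
theorem E5854 : n6469 = n3314 := ((((iv F5647)).symm.trans (sb E5609 (iv F11212)))).symm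
theorem E5855 : n3299 = n1605 := ((((iv D3301)).symm.trans (sb E5609 F5679))).symm
theorem F13854 : act 0 n1613 = n1653 := (sb E5610 F5643)
theorem F13855 : act 2 n1613 = n1613 := (sb E5610 F5644)
theorem E5856 : n3399 = n3132 := ((((iv F5420)).symm.trans (sb E5610 (iv F5783)))).symm
theorem F13856 : act 5 n1613 = n1620 := (sb E5610 F5645)
theorem E5857 : n1611 = n765 := ((((iv D1613)).symm.trans (sb E5610 (iv D3313)))).symm
theorem F13857 : act 0 n3300 = n1645 := (sb E5611 F5665)
theorem F13858 : act 2 n3300 = n3300 := (sb E5611 (iv F5667))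
theorem E5858 : n6439 = n1618 := (((iv F11181)).symm.trans (sb E5611 (iv D3325)))
theorem E5859 : n3312 = n1612 := (((F5635).symm.trans (sb E5611 (iv F5668)))).symm
theorem F13859 : act 6 n3300 = n1620 := (sb E5611 F5666)
theorem F13860 : act 2 n2921 = n3050 := (sb E5613 (iv D5963))
theorem E5860 : n5965 = n5372 := ((((iv F9575)).symm.trans (iv (sb E5614 (tr F10871 E5827))))).symm
theorem E5862 : n6347 = n5897 := ((((iv F13706)).symm.trans (sb E5617 (iv F11072)))).symm
theorem E5863 : n3406 = n3397 := ((F13852).symm.trans (sb E5619 (iv D6618)))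
theorem E5864 : n6632 = n6564 := ((((iv F11402)).symm.trans (sb E5620 D6632))).symm
theorem E5865 : n6619 = n1654 := (((iv F11471)).symm.trans (sb E5620 (iv D3405)))
theorem E5866 : n6133 = n1650 := ((((iv D3398)).symm.trans (sb E5620 (iv F10784)))).symm
theorem E5867 : n6621 = n6132 := ((D6621).symm.trans (sb E5620 (iv F10782)))
theorem E5868 : n6615 = n3127 := (((iv F11469)).symm.trans (sb E5620 F5792))
theorem F13862 : act 4 n5705 = n3290 := (sb E5621 (iv D6427))
theorem F13863 : act 6 n5696 = n3290 := (sb E5622 (iv D6428))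
theorem F13864 : act 0 n1538 = n2718 := (sb E5626 F9428)
theorem F13865 : act 3 n3155 = n2600 := (sb E5629 (iv D5086))
theorem F13866 : act 5 n4646 = n6078 := (sb E5630 F10715)
theorem F13867 : act 1 n4648 = n6078 := (sb E5633 (iv F10713))
theorem F13868 : act 6 n4648 = n6075 := (sb E5633 F10711)
theorem F13869 : act 0 n3133 = n2600 := (sb E5637 F8380)
theorem F13870 : act 5 n3133 = n4638 := (sb E5637 F8382)
theorem F13871 : act 6 n3133 = n2382 := (sb E5637 (iv D4650))
theorem F13872 : act 4 n4652 = n3133 := (sb E5638 F9038)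
theorem F13873 : act 2 n1330 = n1332 := (sb E5640 F4801)
theorem F13874 : act 4 n1330 = n1331 := (sb E5640 (iv D2716))
theorem E5870 : n5307 = n2712 := (((D2712).symm.trans (sb E5640 D5307))).symm
theorem F13875 : act 0 n1488 = n2720 := (sb E5644 F9430)
theorem F13876 : act 6 n1497 = n2712 := (sb E5645 (iv D5296))
theorem F13877 : act 2 n2726 = n2726 := (sb E5655 F9490)
theorem F13878 : act 0 n2920 = n4476 := (sb E5656 F9466)
theorem F13879 : act 4 n2920 = n2726 := (sb E5656 F9468)
theorem F13880 : act 5 n2920 = n2719 := (sb E5656 (iv D5314))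
theorem F13881 : act 6 n2929 = n2726 := (sb E5657 (iv D5327))
theorem F13882 : act 2 n2719 = n2719 := (sb E5660 (iv D5313))
theorem F13883 : act 2 n2727 = n2727 := (sb E5661 F9492)
theorem F13884 : act 0 n5315 = n2962 := (sb E5662 F10159)
theorem F13885 : act 2 n5315 = n5315 := (sb E5662 (tr F10161 E5662))
theorem F13886 : act 3 n5315 = n6154 := (sb E5662 (iv F10807))
theorem F13887 : act 5 n5315 = n2929 := (sb E5662 (iv D5736))
theorem F13888 : act 5 n1430 = n2727 := (sb E5663 (iv D5328))
theorem F13889 : act 0 n4726 = n5102 := (sb E5664 F9125)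
theorem F13890 : act 4 n4726 = n4705 := (sb E5664 F9127)
theorem F13891 : act 5 n4726 = n5102 := (sb E5664 (iv F9128))
theorem F13892 : act 2 n4732 = n4732 := (sb E5665 (tr F9137 E5665))
theorem F13893 : act 4 n4732 = n4709 := (sb E5665 F9138)
theorem F13894 : act 5 n4732 = n4676 := (sb E5665 F9139)
theorem F13895 : act 4 n2921 = n4736 := (sb E5666 (tr F9572 E5780))
theorem F13896 : act 2 n1349 = n1427 := (sb E5668 (iv F13640))
theorem F13897 : act 4 n1349 = n1426 := (sb E5668 (iv F13638))
theorem F13898 : act 6 n1349 = n1432 := (sb E5668 (iv F13636))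
theorem F13899 : act 5 n2918 = n1468 := (sb E5669 (iv D3004))
theorem F13900 : act 2 n1342 = n1428 := (sb E5672 (iv F13641))
theorem F13901 : act 5 n1342 = n1426 := (sb E5672 (iv F13639))
theorem F13902 : act 6 n2934 = n4740 := (sb E5673 (tr F9605 E5781))
theorem F13903 : act 1 n2757 = n2757 := (sb E5682 F9591)
theorem E5877 : n5879 = n3008 := (((F13557).symm.trans (sb E5682 (iv F13551)))).symm
theorem E5878 : n5874 = n3003 := ((((iv F9190)).symm.trans (sb E5682 F10436))).symm
theorem F13904 : act 6 n5389 = n2960 := (sb E5685 F10196)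
theorem F13905 : act 5 n3008 = n2966 := (sb E5686 F10200)
theorem F13906 : act 6 n3008 = n2961 := (sb E5686 F10201)
theorem F13907 : act 4 n3003 = n2966 := (sb E5687 F10193)
theorem F13908 : act 6 n1447 = n2757 := (sb E5688 (iv D5390))
theorem E5881 : n5725 = n1473 := ((D5725).symm.trans (sb E5689 F5261))
theorem F13909 : act 4 n2924 = n1470 := (sb E5689 F5262)
theorem F13910 : act 6 n2924 = n1468 := (sb E5689 (iv D3005))
theorem F13911 : act 2 n1434 = n2748 := (sb E5690 F9570)
theorem F13912 : act 3 n3148 = n2748 := (sb E5693 (iv D5371))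
theorem F13913 : act 5 n3104 = n2410 := (sb E5702 (iv D4706))
theorem F13914 : act 5 n4707 = n3103 := (sb E5703 F9114)
theorem F13915 : act 0 n4709 = n4732 := (sb E5704 F9177)
theorem F13916 : act 2 n3135 = n2401 := (sb E5705 F8433)
theorem E5882 : n6140 = n4680 := ((D6140).symm.trans (sb E5705 (iv F8495)))
theorem F13917 : act 5 n3135 = n2400 := (sb E5705 (iv D4687))
theorem F13918 : act 2 n1525 = n2402 := (sb E5706 F8436)
theorem F13919 : act 4 n1525 = n2413 := (sb E5706 F8437)
theorem F13920 : act 6 n1525 = n2400 := (sb E5706 (iv D4688))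
theorem F13921 : act 4 n4712 = n3119 := (sb E5708 F9117)
theorem F13922 : act 2 n1533 = n2416 := (sb E5709 F8458)
theorem F13923 : act 5 n1533 = n2413 := (sb E5709 (iv D4713))
theorem F13924 : act 0 n3045 = n4736 := (sb E5710 F9180)
theorem F13925 : act 4 n4690 = n2622 := (sb E5711 (iv D5126))
theorem F13926 : act 5 n4718 = n2627 := (sb E5712 F9119)
theorem F13927 : act 0 n3080 = n5389 := (sb E5717 (iv F9598))
theorem E5883 : n6607 = n6025 := (((D6025).symm.trans (sb E5717 (iv F11453)))).symm
theorem F13928 : act 3 n3080 = n1647 := (sb E5717 (iv D3391))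
theorem E5884 : n6027 = n3018 := ((D6027).symm.trans (sb E5717 (iv F9555)))
theorem E5885 : n6024 = n3373 := (((iv F10618)).symm.trans (sb E5717 (iv F9553)))
theorem F13929 : act 1 n1504 = n2718 := (sb E5722 F9449)
theorem F13930 : act 0 n5311 = n3143 := (sb E5728 F10580)
theorem F13931 : act 1 n5311 = n3075 := (sb E5728 F10581)
theorem F13932 : act 6 n5311 = n5794 := (sb E5728 F10582)
theorem F13933 : act 4 n1498 = n2718 := (sb E5729 F9457)
theorem F13934 : act 5 n1497 = n2718 := (sb E5730 (iv D5312))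
theorem F13935 : act 0 n5316 = n3041 := (sb E5731 F10524)
theorem F13936 : act 5 n5316 = n5719 := (sb E5731 F10526)
theorem E5887 : n5970 = n5729 := ((((iv F10146)).symm.trans (sb E5739 (iv F10553)))).symm
theorem E5888 : n5975 = n5731 := (((D5731).symm.trans (sb E5739 (iv F10559)))).symm
theorem E5889 : n5978 = n5732 := (((D5732).symm.trans (sb E5739 (iv F10565)))).symm
theorem E5890 : n5733 = n1496 := ((D5733).symm.trans (sb E5739 (iv D3056)))
theorem E5891 : n5981 = n5734 := (((D5734).symm.trans (sb E5739 D5981))).symm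
theorem F13937 : act 0 n3081 = n3008 := (sb E5740 F9543)
theorem F13938 : act 0 n3079 = n3003 := (sb E5741 F9528)
theorem E5893 : n5354 = n1494 := ((((iv F2631)).symm.trans (sb E5743 (iv F9548)))).symm
theorem E5894 : n6617 = n6529 := (((D6529).symm.trans (sb E5744 (iv F11488)))).symm
theorem F13939 : act 1 n3366 = n3366 := (sb E5745 (iv D6566))
theorem E5895 : n6553 = n6254 := (((iv F11376)).symm.trans (sb E5747 F11492))
theorem E5896 : n6275 = n3199 := (((iv F10982)).symm.trans (sb E5748 (iv D6259)))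
theorem E5897 : n6554 = n6258 := ((D6554).symm.trans (sb E5749 F11444))
theorem F13940 : act 2 n3403 = n3403 := (sb E5753 F10986)
theorem F13941 : act 2 n3207 = n3207 := (sb E5754 F5768)
theorem E5898 : n6596 = n1566 := ((((iv D3207)).symm.trans (sb E5754 (iv F11441)))).symm
theorem F13942 : act 4 n3207 = n1645 := (sb E5754 (iv D3387))
theorem F13943 : act 6 n3207 = n1652 := (sb E5754 F5769)
theorem E5899 : n6620 = n6131 := ((((iv F10778)).symm.trans (sb E5755 (iv F11475)))).symm
theorem E5900 : n6130 = n2957 := ((F10776).symm.trans (sb E5755 (iv D5789)))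
theorem F13944 : act 2 n1569 = n1569 := (sb E5756 (iv D3213))
theorem F13945 : act 6 n1569 = n1653 := (sb E5756 F5531)
theorem E5902 : n6127 = n1643 := ((((iv F2794)).symm.trans (sb E5757 (iv F13510)))).symm
theorem F13946 : act 2 n3214 = n3214 := (sb E5758 F5772)
theorem F13947 : act 3 n3214 = n6603 := (sb E5758 D6603)
theorem F13948 : act 5 n3214 = n1645 := (sb E5758 (iv D3388))
theorem F13949 : act 6 n3214 = n3403 := (sb E5758 (iv F5788))
theorem F13950 : act 2 n3117 = n3253 := (sb E5759 (iv D6351))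
theorem E5903 : n6346 = n6121 := (((D6121).symm.trans (sb E5760 F11075))).symm
theorem F13951 : act 4 n3125 = n3253 := (sb E5760 (iv D6352))
theorem F13952 : act 3 n6120 = n6341 := (sb E5761 F11076)
theorem F13953 : act 6 n6120 = n3253 := (sb E5761 (iv D6353))
theorem F13954 : act 1 n4666 = n3135 := (sb E5762 F10716)
theorem F13955 : act 4 n4666 = n3104 := (sb E5762 F10717)
theorem F13956 : act 6 n4666 = n3103 := (sb E5762 (iv D6079))
theorem F13957 : act 0 n3095 = n2392 := (sb E5763 F8417)
theorem F13958 : act 4 n3095 = n4707 := (sb E5763 (iv F8453))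
theorem F13959 : act 6 n3095 = n2389 := (sb E5763 (iv D4667))
theorem F13960 : act 0 n4669 = n3104 := (sb E5764 F10653)
theorem F13961 : act 3 n4669 = n3104 := (sb E5764 F10655)
theorem F13962 : act 3 n3084 = n2392 := (sb E5765 (iv D4673))
theorem F13963 : act 5 n3086 = n2392 := (sb E5766 (iv D4674))
theorem F13964 : act 6 n3086 = n4669 := (sb E5766 F8429)
theorem F13965 : act 0 n4672 = n3103 := (sb E5767 F10650)
theorem F13966 : act 3 n4672 = n3277 := (sb E5767 F10652)
theorem F13967 : act 4 n4672 = n3086 := (sb E5767 (iv D6039))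
theorem F13968 : act 3 n1612 = n2397 := (sb E5768 (iv D4682))
theorem F13969 : act 0 n4699 = n5104 := (sb E5771 F9133)
theorem F13970 : act 0 n4700 = n4712 := (sb E5772 F9143)
theorem F13971 : act 0 n4694 = n4690 := (sb E5775 F9101)
theorem F13972 : act 6 n4694 = n2622 := (sb E5775 F9102)
theorem F13973 : act 0 n4701 = n4718 := (sb E5776 F9151)
theorem F13974 : act 0 n4728 = n5103 := (sb E5777 F9129)
theorem F13975 : act 3 n4728 = n5103 := (sb E5777 F9131)
theorem F13976 : act 4 n4728 = n5100 := (sb E5777 F9132)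
theorem F13977 : act 1 n4734 = n5100 := (sb E5778 F9091)
theorem F13978 : act 3 n4734 = n5112 := (sb E5778 F9093)
theorem F13979 : act 5 n4736 = n2621 := (sb E5780 F9100)
theorem F13980 : act 1 n5101 = n2951 := (sb E5782 F10222)
theorem F13981 : act 3 n5101 = n2943 := (sb E5782 (iv D5765))
theorem F13982 : act 4 n5101 = n4699 := (sb E5782 (iv F10224))
theorem F13983 : act 5 n5101 = n2947 := (sb E5782 F10223)
theorem E5904 : n6603 = n2615 := ((F13947).symm.trans (sb E5783 (iv D5114)))
theorem F13984 : act 0 n5107 = n2943 := (sb E5784 F10206)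
theorem F13985 : act 4 n5107 = n6037 := (sb E5784 F13400)
theorem F13986 : act 5 n5107 = n2939 := (sb E5784 (iv D5755))
theorem F13987 : act 6 n5107 = n3084 := (sb E5784 F13401)
theorem F13988 : act 2 n3309 = n2616 := (sb E5785 (iv D5115))
theorem F13989 : act 4 n3309 = n2616 := (sb E5786 (iv D5116))
theorem F13990 : act 0 n5108 = n2947 := (sb E5787 F10210)
theorem F13991 : act 3 n5108 = n2940 := (sb E5787 (iv D5757))
theorem F13992 : act 1 n1492 = n1338 := (sb E5788 F4826)
theorem E5905 : n5337 = n2907 := (((E5820).symm.trans ((D3048).symm.trans (sb E5788 D5337)))).symm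
theorem E5908 : n5340 = n2736 := (((E5789).symm.trans (((iv F5296)).symm.trans (sb E5788 D5340)))).symm
theorem F13993 : act 3 n2736 = n3079 := (sb E5789 (iv F5348))
theorem F13994 : act 5 n2736 = n1486 := (sb E5789 (iv D3038))
theorem F13995 : act 6 n2736 = n1492 := (sb E5789 F5296)
theorem F13996 : act 2 n708 = n1419 := (sb E5790 F4833)
theorem F13997 : act 5 n708 = n1338 := (sb E5790 (iv D2737))
theorem F13998 : act 3 n2738 = n3081 := (sb E5791 (iv F5353))
theorem F13999 : act 4 n2738 = n1492 := (sb E5791 F5298)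
theorem E5910 : n5355 = n3149 := (((D3149).symm.trans (sb E5792 D5355))).symm
theorem F14000 : act 2 n740 = n1343 := (sb E5793 F4836)
theorem F14001 : act 0 n5111 = n3261 := (sb E5800 F10927)
theorem F14002 : act 3 n5111 = n3192 := (sb E5800 (iv D6245))
theorem F14003 : act 5 n5111 = n3261 := (sb E5800 F13594)
theorem F14004 : act 0 n2749 = n3046 := (sb E5801 F5464)
theorem F14005 : act 5 n2749 = n2921 := (sb E5801 F5465)
theorem E5924 : n6209 = n5373 := (((D5373).symm.trans (sb E5801 (iv F10868)))).symm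
theorem F14006 : act 0 n3161 = n4696 := (sb E5806 F9109)
theorem F14007 : act 0 n3164 = n4697 := (sb E5807 F9110)
theorem E5934 : n6198 = n5135 := ((D6198).symm.trans (sb E5807 (iv F9122)))
theorem F14008 : act 0 n3167 = n4698 := (sb E5808 F9111)
theorem E5935 : n6203 = n5127 := ((D6203).symm.trans (sb E5808 F9112))
theorem E5937 : n6195 = n5807 := ((((iv F10312)).symm.trans (sb E5811 (iv F10857)))).symm
theorem F14009 : act 5 n2973 = n1550 := (sb E5811 (iv D3169))
theorem E5938 : n6208 = n5815 := (((D5815).symm.trans (sb E5811 D6208))).symm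
theorem E5939 : n6152 = n5794 := ((((iv F10288)).symm.trans (sb E5812 (iv F10802)))).symm
theorem E5940 : n6157 = n5796 := (((D5796).symm.trans (sb E5812 (iv F10810)))).symm
theorem F14010 : act 4 n2963 = n1539 := (sb E5812 (iv D3146))
theorem E5941 : n6160 = n5798 := (((D5798).symm.trans (sb E5812 D6160))).symm
theorem E5942 : n2984 = n1462 := (((iv F5229)).symm.trans (sb E5813 (tr F10104 E5813)))
theorem F14011 : act 2 n1472 = n2918 := (sb E5815 F10107)
theorem E5944 : n5728 = n1476 := ((((iv F2616)).symm.trans (sb E5815 (iv F10145)))).symm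
theorem E5945 : n3044 = n3015 := (((D3015).symm.trans (sb E5816 (iv F13699)))).symm
theorem E5946 : n5681 = n3049 := ((D5681).symm.trans (sb E5817 F10546))
theorem E5947 : n5934 = n5676 := ((((iv F10027)).symm.trans (sb E5818 D5934))).symm
theorem E5949 : n5936 = n5684 := ((((iv F10040)).symm.trans (sb E5818 D5936))).symm
theorem E5950 : n5686 = n3049 := ((D5686).symm.trans (sb E5818 (iv F5313)))
theorem F14012 : act 2 n2906 = n1486 := (sb E5819 F5293)
theorem F14013 : act 2 n2907 = n1492 := (sb E5820 (iv D3048))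
theorem E5956 : n5941 = n3186 := (((D3186).symm.trans (sb E5821 D5941))).symm
theorem F14014 : act 0 n1493 = n1474 := (sb E5822 F5069)
theorem E5957 : n5699 = n3050 := (((D3050).symm.trans (sb E5822 D5699))).symm
theorem F14015 : act 5 n1493 = n2907 := (sb E5822 F5070)
theorem F14016 : act 6 n1493 = n1419 := (sb E5822 (iv D2908))
theorem F14017 : act 4 n2910 = n1493 := (sb E5823 (iv D3051))
theorem F14018 : act 3 n3188 = n3293 := (sb E5824 (iv D6433))
theorem F14019 : act 5 n2926 = n1470 := (sb E5826 (iv D3009))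
theorem F14020 : act 2 n3247 = n3046 := (sb E5827 F10536)
theorem E5965 : n1460 = n697 := ((((iv F1300)).symm.trans (sb E5830 (iv D2981)))).symm
theorem F14021 : act 1 n1468 = n1468 := (sb E5831 F5256)
theorem F14022 : act 1 n1470 = n1470 := (sb E5833 F5258)
theorem F14023 : act 2 n1429 = n1474 := (sb E5834 F5263)
theorem F14024 : act 2 n3237 = n2966 := (sb E5835 (iv D5799))
theorem E5972 : n6327 = n2967 := ((D6327).symm.trans (sb E5835 F10301))
theorem F14025 : act 6 n2937 = n3003 := (sb E5836 (iv D5882))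
theorem F14026 : act 2 n5895 = n3045 := (sb E5837 F10535)
theorem F14027 : act 3 n5985 = n3133 := (sb E5838 (iv D6135))
theorem F14028 : act 0 n6013 = n6156 := (sb E5839 (iv F10808))
theorem F14029 : act 3 n6013 = n5796 := (sb E5839 F10789)
theorem F14030 : act 4 n2421 = n2411 := (sb E5842 (iv F13733))
theorem E5973 : n3067 = n2931 := (((D2931).symm.trans (sb E5847 (iv F5340)))).symm
theorem E5974 : n3070 = n2933 := (((D2933).symm.trans (sb E5847 D3070))).symm
theorem F14031 : act 4 n3075 = n3148 := (sb E5849 F10817)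
theorem E5976 : n6162 = n6014 := ((((iv F10606)).symm.trans (sb E5849 (iv F10818)))).symm
theorem E5977 : n5739 = n1500 := (((D1500).symm.trans (sb E5850 (iv F10170)))).symm
theorem F14032 : act 5 n714 = n1431 := (sb E5850 (iv D2932))
theorem F14033 : act 3 n6395 = n6529 := (sb E5851 (iv F11338))
theorem F14034 : act 4 n6395 = n3320 := (sb E5851 (iv D6482))
theorem E5980 : n6565 = n6074 := ((((iv F10707)).symm.trans (sb E5852 (iv F11404)))).symm
theorem F14035 : act 5 n3278 = n3320 := (sb E5852 (iv F11206))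
theorem E5981 : n3310 = n1596 := ((((iv D3278)).symm.trans (sb E5852 (iv D6463)))).symm
theorem F14036 : act 0 n6394 = n6561 := (sb E5853 (iv F11393))
theorem F14037 : act 3 n6394 = n3319 := (sb E5853 (iv D6479))
theorem F14038 : act 6 n6394 = n3320 := (sb E5853 F11225)
theorem F14039 : act 0 n3314 = n3403 := (sb E5854 F11209)
theorem F14040 : act 2 n3314 = n3314 := (sb E5854 F11210)
theorem F14041 : act 2 n1605 = n1605 := (sb E5855 (iv D3299))
theorem F14042 : act 0 n3132 = n3404 := (sb E5856 (iv F5789))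
theorem F14043 : act 2 n765 = n765 := (sb E5857 (iv D1611))
theorem F14044 : act 3 n1618 = n3300 := (sb E5858 F11181)
theorem E5985 : n3323 = n3297 := (((iv F5662)).symm.trans (sb E5858 (iv D6439)))
theorem F14045 : act 2 n1612 = n1612 := (sb E5859 F5642)
theorem E5986 : n6468 = n2397 := (((F13968).symm.trans (sb E5859 D6468))).symm
theorem F14046 : act 5 n5372 = n3050 := (sb E5860 (iv D5965))
theorem F14047 : act 5 n5897 = n3249 := (sb E5862 (iv D6347))
theorem F14048 : act 0 n3397 = n3398 := (sb E5863 F5793)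
theorem F14049 : act 3 n3397 = n3301 := (sb E5863 (iv F13852))
theorem E5987 : n6634 = n3302 := (((F13717).symm.trans (sb E5863 D6634))).symm
theorem F14050 : act 0 n6564 = n6395 := (sb E5864 F11498)
theorem F14051 : act 6 n6564 = n6069 := (sb E5864 F11499)
theorem F14052 : act 2 n1654 = n3398 := (sb E5865 F11471)
theorem F14053 : act 4 n1654 = n3397 := (sb E5865 (iv D6619))
theorem F14054 : act 5 n1650 = n3132 := (sb E5866 (iv D6133))
theorem E5988 : n6125 = n3395 := ((((iv F5779)).symm.trans (sb E5866 F10785))).symm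
theorem F14055 : act 5 n6132 = n3398 := (sb E5867 (iv D6621))
theorem E5989 : n5787 = n3131 := ((((iv D6132)).symm.trans (sb E5867 F11480))).symm
theorem F14056 : act 6 n3127 = n3398 := (sb E5868 F11469)
theorem F14057 : act 2 n2712 = n2720 := (sb E5870 F9454)
theorem F14058 : act 4 n2712 = n1488 := (sb E5870 (iv F13742))
theorem F14059 : act 1 n3008 = n3008 := (sb E5877 F10445)
theorem F14060 : act 1 n3003 = n3003 := (sb E5878 F10435)
theorem F14061 : act 2 n1473 = n2924 := (sb E5881 (iv D5725))
theorem F14062 : act 3 n4680 = n3135 := (sb E5882 (iv D6140))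
theorem F14063 : act 0 n6025 = n6573 := (sb E5883 F11452)
theorem F14064 : act 3 n6025 = n3390 := (sb E5883 (iv D6607))
theorem F14065 : act 4 n6025 = n5907 := (sb E5883 F11454)
theorem F14066 : act 5 n6025 = n6573 := (sb E5883 (iv F11455))
theorem F14067 : act 2 n3018 = n3081 := (sb E5884 F10621)
theorem F14068 : act 4 n3018 = n3080 := (sb E5884 (iv D6027))
theorem E5990 : n5910 = n3142 := ((D5910).symm.trans (sb E5884 F10623))
theorem F14069 : act 2 n3373 = n3079 := (sb E5885 F10616)
theorem F14070 : act 5 n3373 = n3080 := (sb E5885 F10618)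
theorem E5991 : n6580 = n3078 := ((D6580).symm.trans (sb E5885 (iv D6024)))
theorem F14071 : act 5 n5729 = n3052 := (sb E5887 (iv D5970))
theorem F14072 : act 5 n5731 = n3054 := (sb E5888 (iv D5975))
theorem F14073 : act 5 n5732 = n3055 := (sb E5889 (iv D5978))
theorem F14074 : act 6 n5732 = n5982 := (sb E5889 (iv F10574))
theorem F14075 : act 5 n1496 = n2928 := (sb E5890 (iv D5733))
theorem F14076 : act 4 n5734 = n5982 := (sb E5891 (iv F10573))
theorem F14077 : act 5 n5734 = n5979 := (sb E5891 F10571)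
theorem F14078 : act 2 n1494 = n2910 := (sb E5893 F9546)
theorem F14079 : act 5 n1494 = n2738 := (sb E5893 (iv D5354))
theorem F14080 : act 1 n6529 = n3397 := (sb E5894 (iv D6617))
theorem F14081 : act 4 n6254 = n3360 := (sb E5895 (iv D6553))
theorem F14082 : act 6 n6254 = n3367 := (sb E5895 F11376)
theorem F14083 : act 6 n3199 = n3368 := (sb E5896 F10982)
theorem F14084 : act 0 n6258 = n6128 := (sb E5897 F11378)
theorem F14085 : act 5 n6258 = n3360 := (sb E5897 (iv D6554))
theorem F14086 : act 6 n6258 = n6570 := (sb E5897 (iv F11413))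
theorem E5992 : n3384 = n3129 := (((F13430).symm.trans (sb E5898 (iv D6596)))).symm
theorem F14087 : act 0 n6131 = n6132 := (sb E5899 F11473)
theorem F14088 : act 5 n6131 = n3397 := (sb E5899 (iv D6620))
theorem E5993 : n5788 = n3130 := ((((iv D6131)).symm.trans (sb E5899 F11476))).symm
theorem F14089 : act 6 n2957 = n3404 := (sb E5900 (iv F10776))
theorem E5994 : n6459 = n1644 := ((((iv F2795)).symm.trans (sb E5902 (iv F11202)))).symm
theorem F14090 : act 4 n6121 = n3249 := (sb E5903 (iv D6346))
theorem F14091 : act 6 n6121 = n5895 := (sb E5903 (iv F13705))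
theorem F14092 : act 3 n2615 = n3214 := (sb E5904 (iv F13947))
theorem E5995 : n3389 = n2613 := (((F4602).symm.trans (sb E5904 F11449))).symm
theorem E5996 : n5675 = n2898 := (((iv F13483)).symm.trans (sb E5905 F9511))
theorem F14093 : act 1 n2736 = n2738 := (sb E5908 F9515)
theorem F14094 : act 0 n3149 = n3237 := (sb E5910 F9549)
theorem E5997 : n6165 = n3180 := ((D6165).symm.trans (sb E5910 F9550))
theorem F14095 : act 4 n3149 = n3373 := (sb E5910 (iv F9551))
theorem F14096 : act 5 n3149 = n3018 := (sb E5910 F9556)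
theorem F14097 : act 0 n5373 = n5958 := (sb E5924 F10867)
theorem F14098 : act 3 n5373 = n3170 := (sb E5924 (iv D6209))
theorem F14099 : act 3 n5135 = n3164 := (sb E5934 (iv D6198))
theorem F14100 : act 3 n5127 = n3167 := (sb E5935 (iv D6203))
theorem F14102 : act 5 n5807 = n3162 := (sb E5937 (iv D6195))
theorem F14103 : act 6 n5807 = n6210 := (sb E5937 (iv F10870))
theorem F14104 : act 4 n5815 = n6210 := (sb E5938 (iv F10869))
theorem F14105 : act 5 n5815 = n6196 := (sb E5938 F10866)
theorem F14106 : act 4 n5794 = n3143 := (sb E5939 (iv D6152))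
theorem F14107 : act 4 n5796 = n3145 := (sb E5940 (iv D6157))
theorem F14108 : act 4 n5798 = n3147 := (sb E5941 F10814)
theorem F14109 : act 6 n5798 = n6163 := (sb E5941 (iv F10822))
theorem E5998 : n5821 = n2978 := ((((iv F5221)).symm.trans (sb E5942 (iv F10336)))).symm
theorem F14110 : act 2 n1462 = n1462 := (sb E5942 F5229)
theorem E6000 : n5841 = n2987 := ((((iv F5235)).symm.trans (sb E5942 (iv F10374)))).symm
theorem E6001 : n5844 = n2989 := (((D2989).symm.trans (sb E5942 D5844))).symm
theorem F14111 : act 2 n1476 = n2926 := (sb E5944 F10144)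
theorem E6003 : n5900 = n1489 := ((D5900).symm.trans (sb E5945 (iv D3044)))
theorem F14112 : act 2 n3049 = n2900 := (sb E5946 F10034)
theorem F14113 : act 5 n3049 = n2898 := (sb E5946 (iv D5681))
theorem F14114 : act 2 n5676 = n5684 := (sb E5947 (tr (iv F10514) E5949))
theorem F14115 : act 0 n5684 = n3049 := (sb E5949 F10512)
theorem F14116 : act 4 n3049 = n5676 := (sb E5950 (iv F13487))
theorem F14117 : act 6 n3049 = n2900 := (sb E5950 (iv D5686))
theorem E6005 : n6239 = n5966 := ((D6239).symm.trans (sb E5956 (iv F10548)))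
theorem F14118 : act 0 n3050 = n3015 := (sb E5957 F10071)
theorem E6006 : n2976 = n1458 := ((((iv F2590)).symm.trans (sb E5965 (iv F5217)))).symm
theorem F14119 : act 2 n697 = n697 := (sb E5965 (iv D1460))
theorem E6008 : n2983 = n1461 := (((D1461).symm.trans (sb E5965 D2983))).symm
theorem F14120 : act 6 n2967 = n3237 := (sb E5972 (iv D6327))
theorem E6010 : n5740 = n3071 := ((D5740).symm.trans (sb E5973 (iv F5345)))
theorem E6012 : n5743 = n3068 := ((D5743).symm.trans (sb E5974 F5343))
theorem F14121 : act 4 n6014 = n6163 := (sb E5976 (iv F10821))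
theorem F14122 : act 6 n6014 = n3147 := (sb E5976 (iv D6162))
theorem F14123 : act 5 n1500 = n2931 := (sb E5977 (iv D5739))
theorem F14124 : act 5 n6074 = n3365 := (sb E5980 (iv D6565))
theorem E6018 : n6398 = n3276 := (((D3276).symm.trans (sb E5981 (iv F11129)))).symm
theorem F14125 : act 0 n3297 = n1643 := (sb E5985 F5661)
theorem E6020 : n6477 = n6391 := ((((iv F11119)).symm.trans (sb E5985 (iv F11220)))).symm
theorem E6021 : n6438 = n6322 := ((D6438).symm.trans (sb E5985 (iv F11048)))
theorem F14126 : act 4 n3297 = n1618 := (sb E5985 F5662)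
theorem E6022 : n6436 = n3324 := (((iv F11178)).symm.trans (sb E5985 (iv F5664)))
theorem E6023 : n6440 = n1616 := ((D6440).symm.trans (sb E5985 (iv D3323)))
theorem E6024 : n6489 = n2395 := (((F4280).symm.trans (sb E5986 (iv F11249)))).symm
theorem E6025 : n6446 = n3407 := ((D6446).symm.trans (sb E5987 F11504))
theorem F14127 : act 4 n3395 = n3127 := (sb E5988 (iv D6125))
theorem F14128 : act 2 n3131 = n2957 := (sb E5989 (iv D5787))
theorem F14129 : act 5 n3131 = n3395 := (sb E5989 F10274)
theorem F14130 : act 6 n3142 = n3018 := (sb E5990 (iv D5910))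
theorem F14131 : act 6 n3078 = n3373 := (sb E5991 (iv D6580))
theorem E6026 : n6550 = n6071 := ((((iv F10700)).symm.trans (sb E5992 (iv F11372)))).symm
theorem F14132 : act 3 n3129 = n1643 := (sb E5992 (iv D3384))
theorem E6029 : n6593 = n3117 := (((F5418).symm.trans (sb E5992 (iv F11438)))).symm
theorem F14133 : act 0 n3130 = n3131 := (sb E5993 F10275)
theorem E6030 : n6129 = n2958 := ((D6129).symm.trans (sb E5993 F10276))
theorem F14134 : act 4 n3130 = n2957 := (sb E5993 (iv D5788))
theorem E6031 : n3385 = n3309 := ((D3385).symm.trans (sb E5994 (iv D6459)))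
theorem E6032 : n6555 = n5104 := ((((iv F9062)).symm.trans (sb E5995 (iv F11381)))).symm
theorem E6034 : n5110 = n1646 := ((D5110).symm.trans (sb E5995 (iv D3389)))
theorem E6036 : n6606 = n1281 := ((((iv D2613)).symm.trans (sb E5995 D6606))).symm
theorem E6037 : n5674 = n2899 := (((iv F10023)).symm.trans (sb E5996 F10024))
theorem F14135 : act 1 n2898 = n2907 := (sb E5996 F13483)
theorem E6038 : n5679 = n3175 := ((D5679).symm.trans (sb E5996 F10026))
theorem E6039 : n5680 = n2896 := ((D5680).symm.trans (sb E5996 (iv D5675)))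
theorem F14136 : act 3 n3180 = n3149 := (sb E5997 (iv D6165))
theorem F14137 : act 2 n2978 = n2978 := (sb E5998 F10337)
theorem F14138 : act 2 n2987 = n2987 := (sb E6000 F10373)
theorem F14139 : act 2 n2989 = n2989 := (sb E6001 F10377)
theorem E6040 : n5820 = n2977 := (((F13546).symm.trans (sb E6001 (iv F13541)))).symm
theorem F14140 : act 2 n1489 = n3015 := (sb E6003 (iv D5900))
theorem E6041 : n6345 = n3047 := (((D3047).symm.trans (sb E6003 (iv F11070)))).symm
theorem F14141 : act 0 n5966 = n3249 := (sb E6005 F10916)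
theorem F14142 : act 3 n5966 = n3186 := (sb E6005 (iv D6239))
theorem F14143 : act 2 n1458 = n1458 := (sb E6006 (iv D2976))
theorem F14144 : act 2 n1461 = n1461 := (sb E6008 F5228)
theorem F14145 : act 4 n3071 = n2933 := (sb E6010 F10172)
theorem F14146 : act 6 n3071 = n2931 := (sb E6010 (iv D5740))
theorem F14147 : act 0 n3068 = n3071 := (sb E6012 F10177)
theorem F14148 : act 5 n3068 = n2933 := (sb E6012 (iv D5743))
theorem F14149 : act 1 n3276 = n3276 := (sb E6018 (iv D6398))
theorem F14150 : act 0 n6391 = n6548 := (sb E6020 (iv F11368))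
theorem F14151 : act 4 n6391 = n3319 := (sb E6020 F11221)
theorem F14152 : act 5 n6391 = n6478 := (sb E6020 (iv F11223))
theorem F14153 : act 6 n6391 = n3317 := (sb E6020 (iv D6477))
theorem F14154 : act 2 n6322 = n3297 := (sb E6021 (iv D6438))
theorem E6048 : n6488 = n3295 := ((D6488).symm.trans (sb E6022 (iv D6436)))
theorem F14155 : act 5 n3324 = n3297 := (sb E6022 F11178)
theorem E6049 : n6450 = n3321 := (((D3321).symm.trans (sb E6023 (iv F11189)))).symm
theorem F14156 : act 6 n1616 = n3297 := (sb E6023 (iv D6440))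
theorem E6050 : n4678 = n3326 := ((D4678).symm.trans (sb E6024 (iv D6489)))
theorem E6051 : n6449 = n3329 := (((F5797).symm.trans (sb E6025 (iv F11187)))).symm
theorem F14157 : act 4 n3407 = n3302 := (sb E6025 (iv D6446))
theorem F14158 : act 3 n6071 = n3358 := (sb E6026 (iv D6550))
theorem E6053 : n6105 = n3382 := ((D6105).symm.trans (sb E6029 (iv D6593)))
theorem F14159 : act 3 n2958 = n3130 := (sb E6030 (iv D6129))
theorem E6054 : n6551 = n6037 := ((((iv F10646)).symm.trans (sb E6031 (iv F11373)))).symm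
theorem F14160 : act 3 n3309 = n1644 := (sb E6031 (iv D3385))
theorem F14161 : act 3 n5104 = n3361 := (sb E6032 (iv D6555))
theorem F14162 : act 3 n1646 = n2613 := (sb E6034 (iv D5110))
theorem E6057 : n6594 = n2611 := (((D2611).symm.trans (sb E6036 F11451))).symm
theorem F14163 : act 0 n2899 = n2898 := (sb E6037 F10023)
theorem F14164 : act 6 n2899 = n2898 := (sb E6037 F13482)
theorem F14165 : act 3 n3175 = n2898 := (sb E6038 (iv D5679))
theorem F14166 : act 2 n2896 = n2899 := (sb E6039 F10033)
theorem F14167 : act 4 n2896 = n2898 := (sb E6039 (iv D5680))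
theorem F14168 : act 2 n2977 = n2977 := (sb E6040 F10335)
theorem F14169 : act 2 n3047 = n3249 := (sb E6041 (iv D6345))
theorem F14170 : act 3 n3295 = n3324 := (sb E6048 (iv D6488))
theorem E6058 : n6485 = n3303 := ((D6485).symm.trans (sb E6049 (iv D6450)))
theorem F14171 : act 3 n3326 = n2395 := (sb E6050 (iv D4678))
theorem E6059 : n6494 = n4700 := ((D6494).symm.trans (sb E6051 (iv F13566)))
theorem F14172 : act 3 n3382 = n3117 := (sb E6053 (iv D6105))
theorem E6060 : n3394 = n3119 := (((iv F5778)).symm.trans (sb E6053 F10753))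
theorem F14173 : act 3 n6037 = n3359 := (sb E6054 (iv D6551))
theorem E6061 : n5109 = n3383 := ((D5109).symm.trans (sb E6057 (iv D6594)))
theorem F14174 : act 0 n3303 = n3382 := (sb E6058 F11239)
theorem E6062 : n6524 = n6397 := ((((iv F11127)).symm.trans (sb E6058 (iv F11322)))).symm
theorem F14175 : act 4 n3303 = n3329 := (sb E6058 F11240)
theorem E6063 : n6493 = n3122 := (((F5636).symm.trans (sb E6058 (iv F11258)))).symm
theorem F14176 : act 6 n3303 = n3321 := (sb E6058 (iv D6485))
theorem E6064 : n4712 = n3396 := ((F13970).symm.trans (sb E6059 F11259))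
theorem F14177 : act 1 n4700 = n6527 := (sb E6059 (iv F11332))
theorem F14178 : act 5 n4700 = n3329 := (sb E6059 (iv D6494))
theorem F14179 : act 6 n4700 = n6484 := (sb E6059 F11261)
theorem E6065 : n6560 = n6060 := ((((iv F10682)).symm.trans (sb E6060 (iv F11391)))).symm
theorem E6066 : n6611 = n6107 := (((D6107).symm.trans (sb E6060 (iv F11464)))).symm
theorem F14180 : act 5 n3119 = n3382 := (sb E6060 F5778)
theorem E6068 : n6108 = n1648 := ((D6108).symm.trans (sb E6060 (iv D3394)))
theorem E6069 : n6486 = n4676 := (((iv F11241)).symm.trans (sb E6061 F9073))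
theorem E6070 : n6592 = n4709 := (((iv F11436)).symm.trans (sb E6061 F9076))
theorem F14181 : act 6 n3383 = n2611 := (sb E6061 (iv D5109))
theorem F14182 : act 0 n6397 = n3358 := (sb E6062 F11321)
theorem F14183 : act 4 n6397 = n3349 := (sb E6062 F11323)
theorem E6071 : n6525 = n6064 := (((F11128).symm.trans (sb E6062 (iv F11326)))).symm
theorem F14184 : act 6 n6397 = n3347 := (sb E6062 (iv D6524))
theorem E6072 : n6115 = n3328 := ((D6115).symm.trans (sb E6063 (iv D6493)))
theorem F14185 : act 0 n3396 = n4700 := (sb E6064 (iv F13970))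
theorem E6073 : n6616 = n2413 := ((D6616).symm.trans (sb E6064 (iv D4712)))
theorem F14186 : act 4 n3396 = n3119 := (sb E6064 F13921)
theorem F14187 : act 0 n6060 = n6478 := (sb E6065 F11390)
theorem F14188 : act 4 n6060 = n6562 := (sb E6065 (iv F11398))
theorem F14189 : act 5 n6060 = n6548 := (sb E6065 F11392)
theorem F14190 : act 6 n6060 = n3363 := (sb E6065 (iv D6560))
theorem F14191 : act 4 n6107 = n6613 := (sb E6066 (iv F11467))
theorem F14192 : act 5 n6107 = n6591 := (sb E6066 F11465)
theorem F14193 : act 6 n6107 = n3392 := (sb E6066 (iv D6611))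
theorem F14194 : act 6 n1648 = n3119 := (sb E6068 (iv D6108))
theorem F14195 : act 0 n4676 = n3383 := (sb E6069 F11241)
theorem F14196 : act 3 n4676 = n3322 := (sb E6069 (iv D6486))
theorem F14197 : act 4 n4676 = n3383 := (sb E6069 F11242)
theorem F14198 : act 3 n4709 = n3381 := (sb E6070 (iv D6592))
theorem F14199 : act 5 n4709 = n3383 := (sb E6070 F11436)
theorem F14200 : act 0 n6064 = n3359 := (sb E6071 F11324)
theorem F14201 : act 4 n6064 = n6527 := (sb E6071 (iv F11333))
theorem F14202 : act 6 n6064 = n3348 := (sb E6071 (iv D6525))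
theorem F14203 : act 6 n3328 = n3122 := (sb E6072 (iv D6115))
theorem F14204 : act 3 n2413 = n3396 := (sb E6073 (iv D6616))
theorem F14205 : act 3 n6562 = n4707 := d7_2 F14204 (iv F11397) F8452
theorem F14206 : act 3 n6613 = n6324 := d23_3 (iv F4294) F14204 (iv F11466) F11053 (iv F14170) F13511 F13763 F2201 D1190 F13629
theorem F14207 : act 2 n4700 = n6585 := d23_0 (iv D6585) F5754 (iv F14160) F13988 (iv D2616) F2332 (iv F13608) (iv F4294) F14204 F14185
theorem F14208 : act 0 n6585 = n6613 := d23_10 F11466 (iv F14204) F4294 F13608 (iv F2332) D2616 (iv F13988) F14160 (iv F5754) D6585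
theorem F14209 : act 5 n6492 = n6585 := d4_0 F14208 (iv D6613) (iv F11255)
theorem F14210 : act 4 n6585 = n6113 := d12_2 (iv F13565) F14207 (iv D6113)
theorem F14211 : act 0 n6113 = n6107 := d3_1 F14210 F14191 (iv F14208)
theorem F14212 : act 4 n6448 = n6492 := d18_3 F14209 F14210 (iv F11186)
theorem F14213 : act 6 n6491 = n6113 := d21_3 (iv F14209) (iv D6492) D6491 (iv F14210)
theorem F14214 : act 6 n6448 = n6483 := d21_3 D6491 F14213 (iv F11186) F11235
theorem F14215 : act 0 n6591 = n6448 := d5_3 F14214 F11233 D6591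
theorem F14216 : act 6 n6323 = n6583 := d17_4 (iv F11468) F14206 (iv D6324) D6323 F11432
theorem F14217 : act 0 n6583 = n6584 := d5_1 F14216 (iv D6584) (iv F11050)
theorem F14218 : act 4 n6584 = n6323 := d19_3 F14216 (iv D6583) D6584
theorem E6074 : n6331 = n6232 := ((c21_1 (iv F10901) (iv D6331) (iv F11051) F14216 (iv D6583))).symm
theorem F14219 : act 6 n6232 = n3240 := (sb E6074 (iv D6331))
theorem E6075 : n6332 = n6233 := (c17_4 F14219 (iv D3240) D3241 D6332 (iv D6233) D6232)
theorem F14220 : act 3 n6233 = n3241 := (sb E6075 (iv D6332))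
theorem F14221 : act 5 n6330 = n6584 := d21_0 (iv D6584) (iv F10901) F14219 D6330
theorem F14222 : act 2 n6511 = n6232 := d24_15 F14219 (iv F11051) (iv D6323) F5560 D3324 F14155 (iv D3297) (iv F5621) (iv F5629) (iv D3293) (iv F13440) F5616 D3338 (iv F5697) D6511
theorem E6076 : n6733 = n3240 := (c14_4 (iv F14219) (iv F14222) F13654 D6733)
theorem E6077 : n6329 = n3456 := ((D6329).symm.trans (sb E6076 (iv D6733)))
theorem F14223 : act 2 n3456 = n3240 := (sb E6077 (iv D6329))
theorem F14224 : act 2 n6330 = n6734 := d12_3 (iv D6734) F14223 D6330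
theorem F14225 : act 2 n6323 = n6735 := d13_3 (iv D6735) F14223 (iv F11051)
theorem F14226 : act 0 n6735 = n6582 := d1_1 F14225 (iv D6582) (iv F11050)
theorem F14227 : act 5 n6582 = n6511 := d4_2 D6735 F14226 F11293
theorem F14228 : act 2 n5724 = n5966 := d23_0 F14142 (iv F10903) F14220 F5567 D3249 (iv F14169) F5310 F13644 (iv F5310) (iv F10136)
theorem F14229 : act 2 n6234 = n6016 := d24_11 D3068 F14148 (iv F10137) F14228 (iv D5966) (iv F14046) (iv F9577) (iv F10478) (iv F10910) (iv D6235) D6234 F10609 (iv D6001) (iv D3066) F13642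
theorem F14230 : act 0 n6016 = n6333 := d1_1 F14229 (iv D6333) (iv F10905)
theorem F14231 : act 5 n6013 = n6234 := d13_0 F14229 (iv D6016) (iv F10605)
theorem E6078 : n6586 = n6001 := ((c14_3 (iv F10906) F14229 F10609 (iv D6586))).symm
theorem F14232 : act 2 n6001 = n3378 := (sb E6078 (iv D6586))
theorem E6079 : n6587 = n6012 := (c12_3 (iv F10597) F14232 D6587 F10604)
theorem F14233 : act 4 n6012 = n3378 := (sb E6079 (iv D6587))
theorem E6080 : n6588 = n6000 := (c13_3 D6001 F14232 D6588 (iv D6000))
theorem F14234 : act 5 n6000 = n3378 := (sb E6080 (iv D6588))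
theorem E6081 : n6335 = n6156 := (c4_3 F14231 F10905 D6335 (iv F14028))
theorem F14235 : act 5 n6156 = n3242 := (sb E6081 (iv D6335))
theorem F14236 : act 5 n6333 = n4740 := d13_2 F14235 D6333 (iv F10809)
theorem E6082 : n6336 = n6158 := (c16_4 F14235 (iv D3242) D3243 D6336 (iv D6158) D6156)
theorem F14237 : act 3 n6158 = n3243 := (sb E6082 (iv D6336))
theorem F14238 : act 6 n5744 = n6156 := d24_0 F14235 (iv D3242) F2730 (iv D755) D754 F1370 (iv F13823) (iv F2526) (iv F5108) (iv D2924) (iv F13900) D2748 F13730 D2934 D5744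
theorem F14239 : act 3 n6591 = n5639 := d23_7 (iv F10811) F14237 F5569 D3253 (iv F13950) (iv F14172) (iv F11434) F9985 (iv F10299) F10298
theorem E6083 : n6448 = n6190 := (c23_1 D6448 (iv D6190) F5455 (iv F5438) (iv F10811) F14237 F5569 D3253 (iv F13950) (iv F14172) (iv F14174))
theorem F14240 : act 0 n6190 = n6591 := (sb E6083 (iv F14215))
theorem F14241 : act 2 n6190 = n3303 := (sb E6083 (iv D6448))
theorem F14242 : act 4 n6190 = n6492 := (sb E6083 F14212)
theorem F14243 : act 5 n6190 = n6113 := (sb E6083 F11186)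
theorem F14244 : act 6 n6190 = n6483 := (sb E6083 F14214)
theorem F14245 : act 3 n6113 = n4593 := d16_1 F14243 (iv D4593) F4218 D3160 D6190
theorem F14246 : act 3 n5642 = n6326 := d24_10 (iv F14244) F14243 F14245 F8284 (iv F13690) (iv D2883) F13532 (iv F8282) F13801 D5642 F11058 F5672 (iv D3322) D3321 D6483
theorem E6084 : n6107 = n5644 := (c15_5 (iv F9989) F14246 F11059 (iv F14206) (iv F14191) (iv D5644))
theorem F14248 : act 0 n5644 = n6113 := (sb E6084 (iv F14211))
theorem F14249 : act 2 n5644 = n3119 := (sb E6084 (iv D6107))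
theorem F14250 : act 4 n5644 = n6613 := (sb E6084 F14191)
theorem F14251 : act 5 n5644 = n6591 := (sb E6084 F14192)
theorem F14252 : act 6 n5644 = n3392 := (sb E6084 F14193)
theorem F14253 : act 5 n6325 = n5641 := d16_4 D5642 F14246 (iv D6326) D6325 (iv D5641)
theorem F14254 : act 0 n5641 = n6000 := d4_1 F14253 F14234 (iv F11055)
theorem F14255 : act 4 n5744 = n5641 := d21_4 (iv F14253) F11056 (iv F14235) (iv F14238)
theorem F14256 : act 2 n5641 = n5738 := d12_1 F14255 F10168 D5744
theorem F14257 : act 3 n5638 = n5744 := d15_5 F14255 (iv D5641) (iv D2879) D2878 D5638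
theorem E6085 : n6011 = n3159 := (c2_3 F14257 F10180 D6011 (iv F9982))
theorem E6086 : n6187 = n3072 := ((D6187).symm.trans (sb E6085 (iv D6011)))
theorem F14258 : act 3 n3072 = n3159 := (sb E6086 (iv D6187))
theorem E6087 : n5813 = n3162 := (c23_9 (iv F9983) F14257 (iv D5744) (iv D2934) F2530 (iv F1294) (iv F2579) D2973 D5813 (iv D3162) (iv F5207))
theorem E6088 : n5807 = n3168 := (((iv F10311)).symm.trans (sb E6087 F10324))
theorem E6089 : n6194 = n2973 := ((D6194).symm.trans (sb E6087 (iv D5813)))
theorem F14259 : act 0 n3168 = n3162 := (sb E6088 F10311)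
theorem E6090 : n6205 = n2970 := ((D6205).symm.trans (sb E6088 (iv D5807)))
theorem F14260 : act 5 n3168 = n3162 := (sb E6088 F14102)
theorem E6091 : n6210 = n6207 := (((D6207).symm.trans (sb E6088 F14103))).symm
theorem F14261 : act 2 n2973 = n3162 := (sb E6089 (iv D6194))
theorem F14262 : act 4 n2973 = n3168 := (sb E6089 F10856)
theorem F14263 : act 3 n2970 = n3168 := (sb E6090 (iv D6205))
theorem F14264 : act 4 n6207 = n5815 := (sb E6091 (iv F14104))
theorem F14265 : act 5 n6207 = n3170 := (sb E6091 (iv D6210))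
theorem F14266 : act 0 n6196 = n6207 := d4_3 F14265 (iv F10327) F14105
theorem F14267 : act 2 n5815 = n6196 := d1_0 F14266 F10865 (iv F10327)
theorem F14268 : act 3 n6204 = n5803 := d7_2 F14263 D6204 F10305
theorem E6092 : n6197 = n5808 := (c16_6 (iv D5808) F14263 F14260 (iv D3162) D3163 D6197)
theorem F14269 : act 3 n5808 = n3163 := (sb E6092 (iv D6197))
theorem F14270 : act 6 n5127 = n4695 := d17_4 F13841 F14269 (iv F5463) (iv F14100) (iv F8441)
theorem F14271 : act 4 n5729 = n6204 := d15_0 F14268 (iv D5803) (iv D2968) F5117 D5729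
theorem F14272 : act 0 n6204 = n5732 := d3_1 F14271 (iv D5732) (iv F10146)
theorem F14273 : act 5 n6204 = n5969 := d18_2 (iv F14071) F14271 (iv D5969)
theorem F14274 : act 2 n5958 = n6341 := d24_7 D1143 (iv F13681) D2973 F14261 D6196 (iv F14105) (iv F10541) (iv D6341) F13702 (iv D3015) (iv F14023) F2526 F13824 (iv F2116) (iv D1140)
theorem F14275 : act 3 n6184 = n6010 := d7_2 F14258 (iv F10844) (iv D6010)
theorem F14276 : act 3 n4592 = n6000 := d15_5 F10596 F14258 (iv D3159) (iv F4218) D4592
theorem F14277 : act 3 n6189 = n6017 := d17_3 (iv D6013) F14258 D6189 F10610 (iv F14029)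
theorem F14278 : act 2 n6023 = n4703 := d23_8 (iv F10849) F14277 (iv D6017) (iv D3075) F2639 D1507 D3078 D6023 F8444 (iv F14007)
theorem F14279 : act 4 n4702 = n6023 := d12_0 F14278 (iv D4703) D4702
theorem F14280 : act 3 n6168 = n4702 := d15_5 F14279 (iv D6023) F5347 D3151 D6168
theorem F14281 : act 2 n5801 = n6168 := d23_0 F14280 (iv D4702) (iv D2409) (iv F13764) (iv D1535) F1333 D735 D1543 D3151 (iv F10304)
theorem F14282 : act 3 n5134 = n6167 := d11_10 (iv F14280) (iv F14281) (iv D5801) (iv D2967) (iv D1451) (iv F2561) (iv F13784) F4606 D2627 D5134 (iv D6167) (iv D3151) (iv D1543) (iv D735) (iv F1333) D1535 F13764 D2409 D4702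
theorem F14283 : act 0 n6168 = n6167 := d23_10 (iv D6167) (iv D3151) (iv D1543) (iv D735) (iv F1333) D1535 F13764 D2409 D4702 (iv F14280)
theorem F14284 : act 4 n6167 = n5801 := d3_2 D6168 F14283 F10304
theorem E6093 : n6589 = n5645 := (c16_6 (iv F13800) F14276 F14234 (iv D3378) D3379 D6589)
theorem F14286 : act 3 n5645 = n3379 := (sb E6093 (iv D6589))
theorem E6094 : n6199 = n6015 := ((c24_6 D5645 (iv F13800) F14276 (iv D6000) D6002 (iv F10607) (iv D6199) (iv F10851) (iv D6191) (iv D3160) (iv F4218) (iv D2357) (iv F13530) D1406 F13479 (iv F5032))).symm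
theorem F14287 : act 3 n6015 = n3165 := (sb E6094 (iv D6199))
theorem F14288 : act 1 n6183 = n5641 := d22_7 F5127 (iv F5325) D5983 F10575 D6171 F10828 D6183 F14256 F10168
theorem F14289 : act 3 n5635 = n6183 := d7_0 F14288 (iv D5641) (iv F9979)
theorem F14290 : act 3 n6484 = n4732 := d24_6 (iv D3161) D3160 D6190 F14241 F14176 D6484 F13892 (iv D4732) (iv F13778) (iv D2611) F2328 D1286 (iv F2340) (iv F13797) (iv F5456)
theorem F14291 : act 3 n4670 = n6480 := d2_2 F14205 F8451 (iv F11396)
theorem F14292 : act 5 n6073 = n6561 := d16_4 D6562 F14205 F13914 (iv F10706) (iv D6561)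
theorem F14293 : act 4 n6561 = n6069 := d18_1 F14292 F10695 D6073
theorem F14294 : act 3 n6058 = n6548 := d15_3 F14293 (iv D6069) (iv F10678) F11370 D6561
theorem F14295 : act 3 n6478 = n6033 := d15_3 (iv F8422) F14291 F11229 F10634 F13962
theorem E6095 : n6064 = n3152 := ((c24_16 F14202 (iv D3348) (iv D1628) (iv F1439) F13331 (iv F13329) F13328 F804 (iv F13455) (iv F1217) D1330 F13873 (iv F13745) F2682 D1544 D3152)).symm
theorem E6096 : n5983 = n3359 := (((iv F10575)).symm.trans (sb E6095 F14200))
theorem E6097 : n6171 = n3122 := ((D6171).symm.trans (sb E6095 F10686))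
theorem E6098 : n6172 = n3097 := ((D6172).symm.trans (sb E6095 (iv D6064)))
theorem E6099 : n6527 = n6173 := (((D6173).symm.trans (sb E6095 F14201))).symm
theorem E6100 : n6397 = n6174 := (((D6174).symm.trans (sb E6095 (iv F11128)))).symm
theorem E6101 : n6175 = n3348 := ((D6175).symm.trans (sb E6095 F14202))
theorem F14296 : act 0 n3359 = n3152 := (sb E6096 F10575)
theorem E6102 : n6543 = n3058 := (((iv F11357)).symm.trans (sb E6096 (iv D5983)))
theorem F14297 : act 1 n3122 = n3152 := (sb E6097 (iv D6171))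
theorem E6103 : n6113 = n3158 := ((D6113).symm.trans (sb E6097 F10828))
theorem F14298 : act 3 n3097 = n3152 := (sb E6098 (iv D6172))
theorem F14299 : act 0 n6173 = n3361 := (sb E6099 F11331)
theorem F14300 : act 1 n6173 = n4700 := (sb E6099 (iv F14177))
theorem F14301 : act 5 n6173 = n3349 := (sb E6099 (iv D6527))
theorem F14302 : act 6 n6173 = n6523 := (sb E6099 F11334)
theorem F14303 : act 0 n6174 = n3358 := (sb E6100 F14182)
theorem F14304 : act 1 n6174 = n3303 := (sb E6100 F11127)
theorem F14305 : act 3 n6174 = n3275 := (sb E6100 (iv D6397))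
theorem F14306 : act 4 n6174 = n3349 := (sb E6100 F14183)
theorem F14307 : act 6 n6174 = n3347 := (sb E6100 F14184)
theorem E6104 : n6521 = n3155 := (((iv F11315)).symm.trans (sb E6101 F10831))
theorem F14308 : act 6 n3348 = n3152 := (sb E6101 (iv D6175))
theorem F14309 : act 2 n3058 = n3359 := (sb E6102 F11357)
theorem E6105 : n6545 = n5977 := ((((iv F10563)).symm.trans (sb E6102 (iv F11360)))).symm
theorem E6106 : n6541 = n5984 := (((D5984).symm.trans (sb E6102 F11358))).symm
theorem E6107 : n5985 = n3354 := ((D5985).symm.trans (sb E6102 (iv D6543)))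
theorem E6108 : n6183 = n5644 := ((D6183).symm.trans (sb E6103 (iv F14248)))
theorem F14310 : act 2 n3158 = n3122 := (sb E6103 (iv D6113))
theorem E6109 : n4593 = n4591 := ((((iv F8280)).symm.trans (sb E6103 F14245))).symm
theorem E6110 : n6585 = n6184 := (((D6184).symm.trans (sb E6103 (iv F14210)))).symm
theorem E6111 : n6190 = n6185 := (((D6185).symm.trans (sb E6103 (iv F14243)))).symm
theorem E6112 : n6491 = n6186 := (((D6186).symm.trans (sb E6103 (iv F14213)))).symm
theorem F14311 : act 2 n3155 = n3348 := (sb E6104 F11315)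
theorem E6113 : n6180 = n3346 := ((D6180).symm.trans (sb E6104 (iv D6521)))
theorem F14312 : act 2 n5977 = n3361 := (sb E6105 F11359)
theorem F14313 : act 5 n5977 = n3355 := (sb E6105 (iv D6545))
theorem F14314 : act 6 n5977 = n6540 := (sb E6105 F11361)
theorem F14315 : act 2 n5984 = n3358 := (sb E6106 F11355)
theorem F14316 : act 4 n5984 = n3355 := (sb E6106 F11356)
theorem F14317 : act 6 n5984 = n3353 := (sb E6106 (iv D6541))
theorem F14318 : act 0 n3354 = n3155 := (sb E6107 F10578)
theorem E6114 : n6534 = n3074 := (((iv F11346)).symm.trans (sb E6107 F10579))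
theorem E6115 : n6542 = n3133 := ((D6542).symm.trans (sb E6107 F14027))
theorem F14319 : act 6 n3354 = n3058 := (sb E6107 (iv D5985))
theorem F14320 : act 0 n5644 = n3158 := (sb E6108 (iv D6183))
theorem F14321 : act 1 n5644 = n5641 := (sb E6108 F14288)
theorem E6116 : n5635 = n2880 := ((((iv D5644)).symm.trans (sb E6108 (iv F14289)))).symm
theorem F14322 : act 2 n4591 = n2359 := (sb E6109 F8284)
theorem E6117 : n5645 = n5633 := (((F13692).symm.trans (sb E6109 F13802))).symm
theorem F14323 : act 5 n4591 = n2357 := (sb E6109 (iv D4593))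
theorem E6118 : n5642 = n2877 := (((F13799).symm.trans (sb E6109 F13803))).symm
theorem F14324 : act 0 n6184 = n6613 := (sb E6110 F14208)
theorem F14325 : act 2 n6184 = n4700 := (sb E6110 (iv F14207))
theorem E6119 : n6010 = n3377 := ((F14275).symm.trans (sb E6110 (iv D6585)))
theorem F14326 : act 5 n6184 = n6492 := (sb E6110 (iv F14209))
theorem F14327 : act 0 n6185 = n6591 := (sb E6111 F14240)
theorem F14328 : act 2 n6185 = n3303 := (sb E6111 F14241)
theorem F14329 : act 3 n6185 = n3160 := (sb E6111 (iv D6190))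
theorem F14330 : act 4 n6185 = n6492 := (sb E6111 F14242)
theorem F14331 : act 6 n6185 = n6483 := (sb E6111 F14244)
theorem F14332 : act 0 n6186 = n3392 := (sb E6112 F11252)
theorem F14333 : act 2 n6186 = n3328 := (sb E6112 F11253)
theorem F14334 : act 3 n6186 = n6321 := (sb E6112 F11254)
theorem F14335 : act 5 n6186 = n3327 := (sb E6112 (iv D6491))
theorem E6120 : n6518 = n3167 := ((D6518).symm.trans (sb E6113 F10840))
theorem E6121 : n6520 = n6178 := ((D6520).symm.trans (sb E6113 F10841))
theorem F14336 : act 5 n3346 = n3155 := (sb E6113 (iv D6180))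
theorem E6122 : n6522 = n6176 := ((D6522).symm.trans (sb E6113 F10842))
theorem F14337 : act 1 n3074 = n3354 := (sb E6114 F11346)
theorem E6123 : n6013 = n3371 := (((iv F10605)).symm.trans (sb E6114 F11347))
theorem E6124 : n6016 = n3351 := ((D6016).symm.trans (sb E6114 (iv D6534)))
theorem F14338 : act 3 n3133 = n3354 := (sb E6115 (iv D6542))
theorem F14339 : act 0 n2880 = n4591 := (sb E6116 (iv F13691))
theorem E6125 : n5636 = n2879 := (((iv F9980)).symm.trans (sb E6116 F9979))
theorem F14340 : act 2 n5633 = n2885 := (sb E6117 F9992)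
theorem F14341 : act 3 n5633 = n3379 := (sb E6117 F14286)
theorem F14342 : act 5 n5633 = n4592 := (sb E6117 (iv F13800))
theorem F14343 : act 6 n5633 = n2880 := (sb E6117 (iv D5645))
theorem E6126 : n5616 = n2883 := (((iv F9951)).symm.trans (sb E6118 F9988))
theorem E6127 : n6326 = n5634 := (((D5634).symm.trans (sb E6118 F14246))).symm
theorem F14344 : act 4 n2877 = n2880 := (sb E6118 F9989)
theorem E6128 : n6577 = n3072 := (((iv F11422)).symm.trans (sb E6119 (iv D6010)))
theorem F14345 : act 3 n3377 = n6184 := (sb E6119 (iv F14275))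
theorem F14346 : act 1 n3167 = n3346 := (sb E6120 (iv D6518))
theorem E6129 : n6490 = n6193 := ((((iv F10853)).symm.trans (sb E6120 F11309))).symm
theorem F14347 : act 0 n6178 = n3353 := (sb E6121 F11312)
theorem F14348 : act 2 n6178 = n3347 := (sb E6121 F11313)
theorem F14349 : act 4 n6178 = n3346 := (sb E6121 (iv D6520))
theorem F14350 : act 0 n6176 = n3355 := (sb E6122 F11316)
theorem F14351 : act 2 n6176 = n3349 := (sb E6122 F11317)
theorem F14352 : act 6 n6176 = n3346 := (sb E6122 (iv D6522))
theorem E6130 : n6571 = n6156 := (((iv F11414)).symm.trans (sb E6123 F14028))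
theorem F14353 : act 2 n3371 = n3074 := (sb E6123 F10605)
theorem E6131 : n6576 = n5796 := ((D6576).symm.trans (sb E6123 F14029))
theorem E6132 : n6234 = n1637 := ((((iv D3371)).symm.trans (sb E6123 F14231))).symm
theorem E6133 : n6531 = n6333 := ((D6531).symm.trans (sb E6124 F14230))
theorem E6134 : n6533 = n6015 := ((D6533).symm.trans (sb E6124 F10608))
theorem F14354 : act 5 n3351 = n3074 := (sb E6124 (iv D6016))
theorem E6135 : n6535 = n6001 := ((D6535).symm.trans (sb E6124 F10609))
theorem F14355 : act 1 n2879 = n2880 := (sb E6125 F9980)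
theorem F14356 : act 5 n2879 = n2877 := (sb E6125 (iv D5636))
theorem E6136 : n5622 = n2869 := (((iv F9958)).symm.trans (sb E6126 (iv D5616)))
theorem F14357 : act 2 n2883 = n2877 := (sb E6126 F9951)
theorem F14358 : act 0 n5634 = n3379 := (sb E6127 F11057)
theorem F14359 : act 2 n5634 = n3326 := (sb E6127 F11058)
theorem F14360 : act 4 n5634 = n6324 := (sb E6127 F11059)
theorem F14361 : act 5 n5634 = n3236 := (sb E6127 (iv D6326))
theorem F14362 : act 6 n5634 = n6321 := (sb E6127 F11060)
theorem F14363 : act 1 n3072 = n3377 := (sb E6128 F11422)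
theorem E6137 : n6579 = n6000 := ((((iv F10596)).symm.trans (sb E6128 (iv F11426)))).symm
theorem E6138 : n6575 = n6012 := (((D6012).symm.trans (sb E6128 F11423))).symm
theorem F14364 : act 6 n3072 = n3371 := (sb E6128 (iv D6577))
theorem F14365 : act 0 n6193 = n6311 := (sb E6129 F11250)
theorem F14366 : act 1 n6193 = n3327 := (sb E6129 (iv D6490))
theorem E6139 : n6307 = n6191 := (((F10854).symm.trans (sb E6129 F11251))).symm
theorem F14367 : act 0 n6156 = n3371 := (sb E6130 F11414)
theorem F14368 : act 1 n6156 = n6590 := (sb E6130 (iv F11429))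
theorem F14369 : act 4 n6156 = n6608 := (sb E6130 (iv F11459))
theorem E6140 : n3369 = n3242 := (((F14235).symm.trans (sb E6130 (iv D6571)))).symm
theorem F14370 : act 1 n5796 = n3376 := (sb E6131 F11421)
theorem F14371 : act 3 n5796 = n3371 := (sb E6131 (iv D6576))
theorem E6141 : n3182 = n3179 := ((((iv F5471)).symm.trans (sb E6132 (iv D6234)))).symm
theorem E6142 : n3378 = n3372 := (((D3372).symm.trans (sb E6132 F10906))).symm
theorem F14372 : act 0 n6333 = n3351 := (sb E6133 (iv D6531))
theorem F14373 : act 1 n6333 = n6546 := (sb E6133 (iv F11363))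
theorem F14374 : act 4 n6333 = n6556 := (sb E6133 (iv F11383))
theorem F14375 : act 0 n6015 = n6556 := (sb E6134 F11384)
theorem F14376 : act 1 n6015 = n3353 := (sb E6134 F11344)
theorem F14377 : act 2 n6015 = n3370 := (sb E6134 F11345)
theorem F14378 : act 4 n6015 = n3351 := (sb E6134 (iv D6533))
theorem F14379 : act 1 n6001 = n3355 := (sb E6135 F11348)
theorem F14380 : act 6 n6001 = n3351 := (sb E6135 (iv D6535))
theorem F14381 : act 1 n2869 = n2883 := (sb E6136 F9958)
theorem E6143 : n5618 = n2871 := ((D5618).symm.trans (sb E6136 F9959))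
theorem E6144 : n5619 = n2870 := ((D5619).symm.trans (sb E6136 (iv D5622)))
theorem E6145 : n4587 = n4585 := ((((iv F13602)).symm.trans (sb E6136 (iv F13606)))).symm
theorem F14382 : act 1 n6000 = n3379 := (sb E6137 F11425)
theorem F14383 : act 6 n6000 = n6574 := (sb E6137 F11427)
theorem F14384 : act 0 n6012 = n6609 := (sb E6138 (iv F11460))
theorem F14385 : act 1 n6012 = n3375 := (sb E6138 F11419)
theorem F14386 : act 6 n6012 = n3370 := (sb E6138 (iv D6575))
theorem F14387 : act 0 n6191 = n3230 := (sb E6139 F11025)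
theorem F14388 : act 1 n6191 = n6483 := (sb E6139 F11236)
theorem F14389 : act 3 n6191 = n3229 := (sb E6139 (iv D6307))
theorem F14390 : act 0 n3242 = n1637 := (sb E6140 (iv D3369))
theorem E6146 : n6319 = n3380 := (((iv F11040)).symm.trans (sb E6140 F5760))
theorem E6147 : n5892 = n1579 := ((((iv D3242)).symm.trans (sb E6140 (iv F10459)))).symm
theorem E6148 : n6334 = n3390 := ((D6334).symm.trans (sb E6140 (iv F5774)))
theorem E6149 : n6572 = n6325 := ((((iv F11056)).symm.trans (sb E6140 D6572))).symm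
theorem E6150 : n6230 = n1556 := ((((iv D3179)).symm.trans (sb E6141 (iv F10896)))).symm
theorem E6151 : n6216 = n1559 := (((iv F10877)).symm.trans (sb E6141 F5477))
theorem E6152 : n6231 = n5906 := ((((iv F10473)).symm.trans (sb E6141 (iv F10899)))).symm
theorem E6153 : n6235 = n6229 := (((D6229).symm.trans (sb E6141 D6235))).symm
theorem E6154 : n6578 = n1640 := (((F5749).symm.trans (sb E6142 (iv F11424)))).symm
theorem F14391 : act 2 n3372 = n6001 := (sb E6142 (iv F14232))
theorem F14392 : act 4 n3372 = n6012 := (sb E6142 (iv F14233))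
theorem F14393 : act 5 n3372 = n6000 := (sb E6142 (iv F14234))
theorem F14394 : act 4 n2871 = n2869 := (sb E6143 (iv D5618))
theorem F14395 : act 2 n2870 = n2871 := (sb E6144 F9953)
theorem F14396 : act 5 n2870 = n2869 := (sb E6144 (iv D5619))
theorem F14397 : act 1 n4585 = n2359 := (sb E6145 F8271)
theorem F14398 : act 4 n4585 = n5624 := (sb E6145 F13605)
theorem F14399 : act 5 n4585 = n2355 := (sb E6145 (iv D4587))
theorem F14400 : act 1 n3380 = n3242 := (sb E6146 F11040)
theorem E6155 : n3233 = n3010 := (((F9554).symm.trans (sb E6146 (iv D6319)))).symm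
theorem F14401 : act 0 n1579 = n3179 := (sb E6147 F10458)
theorem E6156 : n3239 = n3017 := (((iv F5566)).symm.trans (sb E6147 F10460))
theorem F14402 : act 4 n3390 = n3242 := (sb E6148 (iv D6334))
theorem F14403 : act 0 n6325 = n3372 := (sb E6149 F11415)
theorem F14404 : act 1 n6325 = n6591 := (sb E6149 (iv F11433))
theorem F14405 : act 4 n6325 = n6609 := (sb E6149 (iv F11462))
theorem F14406 : act 6 n1556 = n3179 := (sb E6150 (iv D6230))
theorem E6157 : n3177 = n3174 := (((iv F5469)).symm.trans (sb E6151 (iv D6216)))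
theorem F14407 : act 2 n1559 = n3179 := (sb E6151 F10877)
theorem F14408 : act 2 n5906 = n3185 := (sb E6152 F10898)
theorem F14409 : act 5 n5906 = n6233 := (sb E6152 (iv F10904))
theorem F14410 : act 6 n5906 = n3180 := (sb E6152 (iv D6231))
theorem F14411 : act 0 n6229 = n3243 := (sb E6153 F10907)
theorem F14412 : act 2 n6229 = n3188 := (sb E6153 F10908)
theorem F14413 : act 4 n6229 = n6233 := (sb E6153 F10909)
theorem F14414 : act 6 n6229 = n5911 := (sb E6153 F10910)
theorem F14415 : act 3 n1640 = n3372 := (sb E6154 (iv D6578))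
theorem E6158 : n6309 = n5695 := ((((iv F10062)).symm.trans (sb E6155 (iv F11027)))).symm
theorem F14416 : act 1 n3010 = n1579 := (sb E6155 F5556)
theorem E6159 : n6282 = n1471 := ((((iv D3010)).symm.trans (sb E6155 (iv F10996)))).symm
theorem E6160 : n6316 = n1477 := (((F5268).symm.trans (sb E6155 (iv F11036)))).symm
theorem E6161 : n6320 = n5893 := (((D5893).symm.trans (sb E6155 D6320))).symm
theorem E6162 : n5894 = n1575 := ((D5894).symm.trans (sb E6155 (iv D3233)))
theorem E6163 : n5855 = n1582 := (((iv F10395)).symm.trans (sb E6156 F5565))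
theorem F14417 : act 4 n3017 = n1579 := (sb E6156 F5566)
theorem E6165 : n5908 = n3241 := ((D5908).symm.trans (sb E6156 (iv F5568)))
theorem E6166 : n5909 = n1577 := ((D5909).symm.trans (sb E6156 (iv D3239)))
theorem E6167 : n5691 = n5689 := ((((iv F10052)).symm.trans (sb E6157 (iv F10056)))).symm
theorem F14418 : act 1 n3174 = n1559 := (sb E6157 F5469)
theorem E6168 : n6220 = n1554 := ((((iv D3174)).symm.trans (sb E6157 (iv F10880)))).symm
theorem E6169 : n6224 = n6217 := (((D6217).symm.trans (sb E6157 D6224))).symm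
theorem E6170 : n6222 = n6218 := (((D6218).symm.trans (sb E6157 (iv F10884)))).symm
theorem E6171 : n6225 = n6219 := (((D6219).symm.trans (sb E6157 D6225))).symm
theorem F14419 : act 6 n5695 = n3229 := (sb E6158 (iv D6309))
theorem E6172 : n3220 = n2986 := ((((iv F5232)).symm.trans (sb E6159 F10995))).symm
theorem E6173 : n3216 = n3012 := (((D3012).symm.trans (sb E6159 (iv D6282)))).symm
theorem E6174 : n6318 = n3019 := (((D3019).symm.trans (sb E6160 (iv F11039)))).symm
theorem E6175 : n3231 = n3020 := (((D3020).symm.trans (sb E6160 (iv D6316)))).symm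
theorem F14420 : act 1 n5893 = n3243 := (sb E6161 F11041)
theorem E6176 : n6315 = n5914 := ((((iv F10485)).symm.trans (sb E6161 F11043))).symm
theorem E6177 : n5912 = n3232 := (((D3232).symm.trans (sb E6162 (iv F10482)))).symm
theorem F14421 : act 6 n1575 = n3010 := (sb E6162 (iv D5894))
theorem E6178 : n3222 = n2992 := (((iv F5542)).symm.trans (sb E6163 (iv D5855)))
theorem F14422 : act 2 n1582 = n3017 := (sb E6163 F10395)
theorem F14423 : act 5 n3241 = n3017 := (sb E6165 (iv D5908))
theorem F14424 : act 6 n1577 = n3017 := (sb E6166 (iv D5909))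
theorem F14425 : act 1 n5689 = n2913 := (sb E6167 F10057)
theorem F14426 : act 6 n5689 = n2902 := (sb E6167 (iv D5691))
theorem F14427 : act 6 n1554 = n3174 := (sb E6168 (iv D6220))
theorem F14428 : act 1 n6217 = n3187 := (sb E6169 F10887)
theorem F14429 : act 4 n6217 = n6409 := (sb E6169 (iv F13647))
theorem F14430 : act 5 n6217 = n6404 := (sb E6169 (iv F13586))
theorem F14431 : act 6 n6217 = n3178 := (sb E6169 F10888)
theorem F14432 : act 1 n6218 = n3185 := (sb E6170 F10883)
theorem F14433 : act 5 n6218 = n6223 := (sb E6170 (iv F10886))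
theorem F14434 : act 6 n6218 = n3175 := (sb E6170 (iv D6222))
theorem F14435 : act 1 n6219 = n3188 := (sb E6171 F10889)
theorem F14436 : act 4 n6219 = n6223 := (sb E6171 F10890)
theorem F14437 : act 6 n6219 = n6221 := (sb E6171 F10891)
theorem E6179 : n5858 = n1571 := (((F5231).symm.trans (sb E6172 (iv F10399)))).symm
theorem E6180 : n5847 = n1573 := ((D5847).symm.trans (sb E6172 F5539))
theorem E6182 : n6289 = n1464 := (((F5233).symm.trans (sb E6172 (iv F11000)))).symm
theorem E6183 : n6293 = n5848 := (((D5848).symm.trans (sb E6172 D6293))).symm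
theorem E6184 : n5849 = n1570 := ((D5849).symm.trans (sb E6172 (iv D3220)))
theorem E6185 : n6278 = n5697 := ((((iv F10067)).symm.trans (sb E6173 D6278))).symm
theorem F14438 : act 2 n3012 = n1575 := (sb E6173 F5536)
theorem E6186 : n6279 = n1582 := (((F13703).symm.trans (sb E6173 D6279))).symm
theorem E6188 : n6281 = n3021 := ((((iv F5273)).symm.trans (sb E6173 D6281))).symm
theorem F14439 : act 1 n3019 = n3241 := (sb E6174 F11038)
theorem E6189 : n5704 = n5701 := (((iv F10083)).symm.trans (sb E6175 F10075))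
theorem F14440 : act 1 n3020 = n1577 := (sb E6175 F5554)
theorem E6190 : n6314 = n5913 := (((D5913).symm.trans (sb E6175 D6314))).symm
theorem F14441 : act 4 n3020 = n1575 := (sb E6175 (iv D3231))
theorem F14442 : act 1 n5914 = n3238 := (sb E6176 F11033)
theorem F14443 : act 4 n3232 = n5914 := (sb E6177 (iv F10484))
theorem F14444 : act 6 n3232 = n3019 := (sb E6177 (iv D5912))
theorem F14445 : act 1 n2992 = n1582 := (sb E6178 F5542)
theorem E6192 : n5857 = n3223 := ((D5857).symm.trans (sb E6178 (iv F5545)))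
theorem E6193 : n3218 = n2994 := (((iv F5537)).symm.trans (sb E6179 F10400))
theorem F14446 : act 6 n1571 = n2992 := (sb E6179 (iv D5858))
theorem F14447 : act 2 n1573 = n2986 := (sb E6180 (iv D5847))
theorem F14448 : act 4 n1573 = n2992 := (sb E6180 F10383)
theorem E6194 : n6291 = n2993 := (((D2993).symm.trans (sb E6182 (iv F11002)))).symm
theorem F14449 : act 2 n5848 = n3225 := (sb E6183 F11003)
theorem E6195 : n6288 = n5861 := ((((iv F10410)).symm.trans (sb E6183 F11005))).symm
theorem F14450 : act 1 n1570 = n3012 := (sb E6184 F10388)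
theorem E6196 : n5859 = n3219 := (((D3219).symm.trans (sb E6184 (iv F10403)))).symm
theorem F14451 : act 6 n1570 = n2986 := (sb E6184 (iv D5849))
theorem F14452 : act 2 n5697 = n3229 := (sb E6185 F10989)
theorem E6197 : n3217 = n2992 := ((((iv F14445)).symm.trans (sb E6186 F10990))).symm
theorem F14453 : act 2 n3021 = n3232 := (sb E6188 F10994)
theorem F14454 : act 0 n5701 = n3020 := (sb E6189 F10083)
theorem F14455 : act 2 n5701 = n2913 := (sb E6189 F10084)
theorem F14456 : act 6 n5701 = n2911 := (sb E6189 (iv D5704))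
theorem F14457 : act 1 n5913 = n3237 := (sb E6190 F11032)
theorem F14458 : act 5 n3223 = n2992 := (sb E6192 (iv D5857))
theorem F14459 : act 2 n2994 = n1571 := (sb E6193 F5537)
theorem F14460 : act 4 n2994 = n1570 := (sb E6193 (iv D3218))
theorem F14461 : act 2 n2993 = n3223 := (sb E6194 F11001)
theorem F14462 : act 2 n5861 = n3221 := (sb E6195 F10997)
theorem F14463 : act 0 n3219 = n3223 := (sb E6196 F10401)
theorem F14464 : act 1 n3219 = n3021 := (sb E6196 F10402)
theorem F14465 : act 4 n3219 = n5861 := (sb E6196 (iv F10409))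
theorem F14466 : act 6 n3219 = n2993 := (sb E6196 (iv D5859))
theorem F14467 : act 3 n2992 = n1570 := (sb E6197 (iv D3217))
theorem F14468 : act 5 n6290 = n6296 := d16_4 F14458 F14467 D3219 D6290 (iv D6296)
theorem F14469 : act 1 n5897 = n6290 := d9_3 F14468 F11009 (iv F14047)
theorem F14470 : act 6 n6290 = n5850 := d10_2 D5897 F14469 F10390
theorem F14471 : act 5 n6294 = n5852 := d21_0 (iv F11010) (iv F14468) F14470 (iv F11007)
theorem F14472 : act 1 n6233 = n5911 := d22_4 F14463 F5544 (iv F5567) (iv F10902) F10478 F5480 (iv F5540) (iv F14462) (iv F14465)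
theorem F14473 : act 2 n6221 = n6223 := d6_4 (iv F10903) F14472 F10478 (iv F10881) F10885
theorem F14474 : act 1 n5703 = n6426 := d22_7 F10085 (iv F14464) F5538 (iv F5246) F5247 (iv F5271) (iv F10080) (iv D6426) (iv F13862)
theorem F14475 : act 0 n6426 = n5914 := d0_1 F14474 F14442 (iv F10477) (iv F14472) F10902 (iv F14439) (iv F10080)
theorem F14476 : act 2 n6414 = n5690 := d6_4 (iv F10081) F14474 (iv D6426) (iv F11150) F10054
theorem F14477 : act 3 n6426 = n5914 := d7_2 (iv F10082) F14474 F14442
theorem F14478 : act 5 n6426 = n5701 := d9_2 D5703 F14474 (iv D5701)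
theorem F14479 : act 4 n6308 = n6426 := d18_3 F14478 F10074 D6308
theorem F14480 : act 6 n5703 = n6308 := d21_3 F14478 F14456 D5703 F14479
theorem F14481 : act 2 n6308 = n5705 := d14_1 F14480 (iv D5705) (iv F10081)
theorem F14482 : act 0 n6219 = n6414 := d22_6 F11026 F5555 F2729 (iv F2705) (iv F5467) (iv F10879) F11150 D6426 (iv F14479)
theorem F14483 : act 3 n6405 = n6219 := d2_0 F14482 (iv D6414) (iv F11139)
theorem F14484 : act 5 n6414 = n5689 := d4_2 D6219 F14482 F10052
theorem F14485 : act 3 n5689 = n6409 := d16_1 F14484 (iv D6409) (iv D3280) D3282 D6414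
theorem F14486 : act 0 n6409 = n6217 := d2_1 F14485 (iv D6217) (iv F10052)
theorem F14487 : act 0 n6296 = n6290 := d2_3 (iv D6290) F14463 D6296
theorem F14488 : act 0 n5850 = n5852 := d5_3 (iv F11010) F14487 F14470
theorem F14489 : act 3 n6665 = n6297 := d23_7 F14459 (iv F5220) F14168 F5220 (iv F14459) F13755 (iv F11558) (iv D6297) (iv D3224) (iv F5249)
theorem F14490 : act 0 n6297 = n6665 := d23_10 F11558 (iv F13755) F14459 (iv F5220) F14168 F5220 (iv F14459) F13755 (iv F11558) F14489
theorem F14491 : act 5 n6662 = n6297 := d4_0 F14490 (iv D6665) D6662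
theorem F14492 : act 6 n6665 = n5862 := d5_2 (iv F11011) F14490 F10411
theorem F14493 : act 4 n6665 = n6297 := d22_9 F14490 F11557 F5819 F13375 F5681 (iv F5618) F5617 (iv F5846) (iv F11558)
theorem F14494 : act 1 n6297 = n6672 := d22_1 (iv F14490) F11561 F13516 F11265 (iv F13650) F5486 (iv F5546) D6297 (iv F14493)
theorem E6203 : n6674 = n6672 := ((c7_2 F14489 F14494 (iv D6674) (iv F11557))).symm
theorem F14495 : act 3 n6672 = n3422 := (sb E6203 (iv D6674))
theorem E6204 : n6671 = n6669 := ((c16_5 D6672 F14495 (iv D3422) D3420 D6669 (iv D6671))).symm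
theorem F14496 : act 3 n6669 = n3421 := (sb E6204 (iv D6671))
theorem F14497 : act 2 n6681 = n6681 := d23_4 (iv F5819) (iv F14495) F11561 D6681 (iv D6681) (iv F11561) F14495 F5819 (iv F13500) (iv F13375)
theorem F14498 : act 1 n6726 = n6726 := d6_3 F14497 F11579 D6726 (iv D6726) (iv F11579)
theorem F14499 : act 1 n5862 = n6675 := d10_1 F14492 (iv D6675) (iv F11557)
theorem F14500 : act 2 n5913 = n5913 := d6_0 F14457 F14024 F5200 (iv F14024) (iv F14457)
theorem F14501 : act 6 n5800 = n5913 := d10_0 F14457 (iv F14120) D5800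
theorem E6205 : n6150 = n5800 := (c17_6 F14501 (iv D5913) (iv D3020) D3018 (iv F14130) D6150)
theorem F14502 : act 3 n5800 = n3142 := (sb E6205 (iv D6150))
theorem E6206 : n6145 = n5801 := (c7_2 F14502 (iv F10799) (iv D5801) D5800)
theorem E6207 : n3151 = n3150 := ((F10304).symm.trans (sb E6206 F10798))
theorem F14503 : act 1 n5801 = n3142 := (sb E6206 F10799)
theorem E6208 : n6168 = n6022 := ((F14281).symm.trans (sb E6206 F10800))
theorem E6209 : n6167 = n3140 := (((iv F14284)).symm.trans (sb E6206 (iv D6145)))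
theorem F14504 : act 5 n5801 = n6022 := (sb E6206 F10801)
theorem F14505 : act 0 n3150 = n5801 := (sb E6207 (iv F10304))
theorem E6210 : n6166 = n1543 := ((((iv D3150)).symm.trans (sb E6207 (iv F10826)))).symm
theorem E6211 : n6169 = n3140 := (((F5443).symm.trans (sb E6207 D6169))).symm
theorem F14506 : act 2 n6022 = n5801 := (sb E6208 (iv F14281))
theorem F14507 : act 3 n6022 = n4702 := (sb E6208 F14280)
theorem E6213 : n6144 = n5134 := ((D6144).symm.trans (sb E6209 (iv F14282)))
theorem F14508 : act 4 n3140 = n5801 := (sb E6209 F14284)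
theorem F14509 : act 3 n1543 = n3150 := (sb E6210 (iv D6166))
theorem E6214 : n6148 = n5134 := (((E6213).symm.trans ((D6144).symm.trans (sb E6211 F10827)))).symm
theorem F14510 : act 1 n5134 = n3141 := (sb E6213 F10797)
theorem F14511 : act 3 n5134 = n3140 := (sb E6213 (iv D6144))
theorem F14512 : act 5 n5134 = n3141 := (sb E6214 (iv D6148))
theorem F14513 : act 5 n5792 = n4702 := d4_2 F14512 (iv F10284) (iv F9120)
theorem E6215 : n6146 = n4718 := (c13_2 F14512 D6146 F13926 D5134)
theorem F14514 : act 2 n4718 = n3141 := (sb E6215 (iv D6146))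
theorem F14515 : act 2 n5792 = n4701 := d1_2 F14514 (iv F10284) F13973
theorem F14516 : act 3 n6164 = n5906 := d17_3 F5441 F14509 (iv F10824) F14410 F14136
theorem F14517 : act 0 n5907 = n6164 := d2_3 F14516 (iv D5906) D5907
theorem F14518 : act 2 n6573 = n5907 := d11_9 F14516 F14408 (iv F13813) F14452 (iv F14389) F10851 (iv F14287) F14377 D6573 (iv D5907) (iv F14422) (iv F13703) F14438 D3230 D6310 (iv F11867) F11382 (iv F14064) (iv F10823)
theorem F14519 : act 4 n6573 = n6164 := d15_0 F14516 F10473 F5471 D3370 D6573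
theorem F14520 : act 5 n5907 = n6164 := d16_0 F14516 F14409 F14220 F14423 D5907
theorem E6216 : n6310 = n5810 := (c23_10 (iv F10851) F14389 (iv F14452) F13813 (iv F14408) (iv F14516) F10823 F14064 (iv F11382) F11867 F10317)
theorem F14521 : act 1 n5810 = n3316 := (sb E6216 F11028)
theorem F14522 : act 2 n5810 = n3230 := (sb E6216 (iv D6310))
theorem F14523 : act 3 n5810 = n6556 := (sb E6216 (iv F11867))
theorem F14524 : act 6 n6556 = n5745 := d17_2 D5810 F14523 (iv F10820) (iv F14109) F10299
theorem F14525 : act 1 n5745 = n6559 := d10_1 F14524 (iv D6559) D6556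
theorem F14526 : act 2 n5745 = n6609 := d14_1 F14524 (iv D6609) (iv F11382)
theorem F14527 : act 6 n6022 = n6573 := d24_12 F14524 (iv D5745) (iv D2934) F2530 (iv F2521) F13725 D2757 D5389 F13904 (iv F5203) D5801 (iv F14506) (iv F14066) F14064 (iv F11382)
theorem F14528 : act 6 n5907 = n5801 := d14_2 F14527 F14518 (iv F14506)
theorem F14529 : act 5 n4704 = n6009 := d24_5 F14528 F14504 F14507 (iv D4702) D4704 (iv D6009) F13811 F14146 (iv F14123) D3066 D6000 F14383 (iv D6574) D6573 F14518
theorem F14530 : act 5 n6609 = n5744 := d13_2 D5745 F14526 (iv D5744)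
theorem F14531 : act 1 n5744 = n6613 := d9_1 F14530 (iv D6613) (iv F11461)
theorem F14532 : act 6 n5641 = n6608 := d20_6 D6609 F14530 F14238 F14235 (iv F11056) F14253 (iv D6608)
theorem F14533 : act 5 n5136 = n6004 := d24_9 F14532 (iv D6608) (iv F14064) (iv F10823) F10824 F5443 (iv F14511) (iv D5134) D5136 (iv D6004) F13809 (iv D3068) F14123 D5738 (iv F14256)
theorem F14534 : act 0 n6004 = n6009 := d4_1 F14533 (iv F14529) (iv F9123)
theorem F14535 : act 5 n5724 = n5124 := d16_4 F14533 (iv D6004) F14148 (iv F10137) (iv F9124)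
theorem F14536 : act 1 n5638 = n6324 := d0_4 F14531 (iv F14324) F10844 (iv F9982) F11052 (iv F14363) (iv F10180)
theorem F14537 : act 2 n6562 = n5735 := d6_4 D5744 F14531 F11466 (iv F11397) F10158
theorem E6217 : n6480 = n5802 := ((c1_3 F14537 F10157 D5802 (iv F11396))).symm
theorem F14538 : act 0 n5802 = n6562 := (sb E6217 (iv F11396))
theorem F14539 : act 1 n5802 = n3326 := (sb E6217 F11228)
theorem F14540 : act 3 n5802 = n4670 := (sb E6217 (iv F14291))
theorem F14541 : act 4 n5802 = n6478 := (sb E6217 F11229)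
theorem F14542 : act 5 n5802 = n3319 := (sb E6217 (iv D6480))
theorem F14543 : act 6 n5802 = n6476 := (sb E6217 F11230)
theorem F14544 : act 5 n5735 = n6559 := d13_2 D6562 F14537 F11389
theorem E6218 : n6475 = n5804 := (c4_2 F14544 F11388 (iv D5804) (iv F10157))
theorem F14545 : act 0 n5804 = n6559 := (sb E6218 (iv F11388))
theorem F14546 : act 2 n5804 = n3319 := (sb E6218 F11217)
theorem F14547 : act 6 n5804 = n3316 := (sb E6218 (iv D6475))
theorem F14548 : act 6 n6474 = n5803 := d21_3 D5804 F14547 D6474 (iv D5803)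
theorem F14549 : act 5 n6473 = n4641 := d21_0 F13836 D5804 F14547 D6473
theorem F14550 : act 4 n4641 = n6474 := d21_4 (iv D6474) (iv F14547) (iv D5804) (iv F13836)
theorem F14551 : act 1 n6474 = n4697 := d8_1 F14550 (iv D4697) (iv F8366)
theorem F14552 : act 2 n6476 = n4641 := d12_3 F14550 F11216 (iv F11219)
theorem F14553 : act 1 n4696 = n6321 := d6_3 F14552 F8366 D4696 F11045 (iv F11218)
theorem E6219 : n6192 = n4696 := (c7_1 D6192 F14553 (iv F14334) F10846)
theorem F14554 : act 3 n4696 = n3161 := (sb E6219 (iv D6192))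
theorem F14555 : act 4 n6312 = n4696 := d8_0 F14553 F11046 (iv F11030)
theorem F14556 : act 5 n6311 = n4696 := d9_0 F14553 (iv D6321) (iv F11029)
theorem F14557 : act 0 n6540 = n6177 := d22_6 F14006 F14553 F11045 F5659 (iv F5726) (iv F11353) F10834 (iv F10849) F10850
theorem F14558 : act 2 n6177 = n6523 := d22_2 (iv F14007) (iv F10834) F11318 F5726 (iv F5750) (iv F11044) (iv F14553) (iv D4696) D4697
theorem F14559 : act 2 n6312 = n4697 := d22_2 (iv F5559) (iv F11030) (iv F14007) (iv F10834) F14558 F11318 F5726 (iv F5750) F5751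
theorem F14560 : act 0 n6189 = n6312 := d1_3 F14559 (iv F14007) (iv F10849)
theorem F14561 : act 6 n5638 = n6312 := d14_0 F14559 F13839 (iv F9983)
theorem F14562 : act 3 n6159 = n6312 := d23_1 (iv F10813) F14559 (iv F8444) (iv F14278) (iv D6023) (iv D3078) (iv D1507) (iv F2639) D3075 (iv F5439)
theorem F14563 : act 1 n6323 = n6159 := d7_3 F14562 F11030 D6323
theorem F14564 : act 4 n6017 = n6159 := d15_0 F14562 F14555 F14554 (iv F10850) F14277
theorem F14565 : act 5 n6317 = n6159 := d16_0 F14562 (iv D6312) (iv D3230) D3232 D6317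
theorem E6220 : n6313 = n5639 := ((c24_16 (iv D6313) D6312 (iv F14562) F10813 (iv D3148) D3147 F5438 (iv F5455) D6191 F10852 F14277 (iv D6017) F5346 D5798 F10299 (iv F9985))).symm
theorem F14566 : act 1 n5639 = n3236 := (sb E6220 F11031)
theorem F14567 : act 6 n5639 = n3230 := (sb E6220 (iv D6313))
theorem F14568 : act 2 n6163 = n6317 := d13_3 F14565 F10813 D6163
theorem F14569 : act 1 n6584 = n6017 := d8_3 F14564 (iv F14563) (iv F14218)
theorem E6221 : n6583 = n6155 := ((c0_7 F14569 (iv F10812) (iv F14563) F11050 (iv F14370) F10295 D6155 F14217)).symm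
theorem F14570 : act 0 n6155 = n6584 := (sb E6221 F14217)
theorem F14571 : act 3 n6155 = n6590 := (sb E6221 F11432)
theorem F14572 : act 4 n6155 = n3376 := (sb E6221 (iv D6583))
theorem F14573 : act 6 n6155 = n6323 := (sb E6221 (iv F14216))
theorem F14574 : act 2 n4698 = n6311 := d13_3 F14556 (iv D4696) D4698
theorem F14575 : act 1 n6473 = n4698 := d6_5 F14574 F11029 F5558 (iv F5652) (iv F11215)
theorem F14576 : act 2 n5803 = n6478 := d14_1 F14548 (iv D6478) (iv F11216)
theorem F14577 : act 1 n6492 = n6188 := d22_7 (iv F5208) (iv F10306) F14546 (iv F5741) F5742 (iv F5777) (iv F11255) F10847 F5458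
theorem F14578 : act 1 n4702 = n6023 := d7_1 F14507 (iv D6023) D6022
theorem F14579 : act 3 n4585 = n4585 := d16_5 F14399 (iv D2355) F13317 D2355 (iv F14399)
theorem F14580 : act 6 n5617 = n5617 := d17_4 (iv F13602) F14579 F13602 D5617 (iv D5617)
theorem F14581 : act 0 n5624 = n5624 := d3_1 F14398 (iv F14398) F13598
theorem F14582 : act 2 n5624 = n4586 := d12_1 F14398 (iv D4586) D4585
theorem F14583 : act 4 n5617 = n5617 := d15_2 F14394 D5617 (iv D5617) (iv F14394) F13597
theorem F14584 : act 2 n6574 = n6002 := d14_1 F14383 (iv D6002) D6000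
theorem F14585 : act 1 n6002 = n6540 := d6_1 F14584 F11353 F5726 (iv F5750) (iv F11417)
theorem F14586 : act 1 n5651 = n5617 := d7_3 (iv D5617) F14381 D5651
theorem F14587 : act 4 n5651 = n5651 := d8_0 F14586 F14583 (iv F14586)
theorem F14588 : act 6 n5651 = n5651 := d10_0 F14586 F14580 (iv F14586)
theorem F14589 : act 4 n6532 = n5127 := d15_2 F14378 D6532 F14100 F5462 (iv F14287)
theorem F14590 : act 1 n5127 = n6536 := d8_1 F14589 (iv D6536) (iv F11343)
theorem F14591 : act 5 n4690 = n6532 := d18_0 F14589 (iv D5127) (iv F13925)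
theorem F14592 : act 1 n6537 = n4690 := d9_3 F14591 F11343 D6537
theorem F14593 : act 3 n4638 = n6537 := d7_0 F14592 (iv D4690) (iv F8362)
theorem F14594 : act 4 n5085 = n6537 := d8_0 F14592 F13925 (iv F9031)
theorem F14595 : act 6 n4640 = n6537 := d10_0 F14592 F8439 (iv F8365)
theorem F14596 : act 2 n4640 = n4640 := d14_3 F14595 F11351 (iv F14595)
theorem F14597 : act 1 n4693 = n4693 := d6_3 F14596 F8365 D4693 (iv D4693) (iv F8365)
theorem F14598 : act 0 n6537 = n5085 := d22_3 F13971 (iv F14592) F11351 F9031 D5125 F9105 F14597 (iv D4693) D4694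
theorem F14599 : act 2 n5085 = n5085 := d22_8 F14598 F9031 D5125 F9105 F14597 (iv D4693) (iv F4620) (iv F9031) F14594
theorem F14600 : act 1 n5125 = n5125 := d6_3 F14599 F9031 D5125 (iv D5125) (iv F9031)
theorem F14601 : act 5 n5085 = n6519 := d4_2 D6537 F14598 F11310
theorem E6222 : n6536 = n6519 := ((c9_1 F14601 (iv F14590) (iv D5127) (iv F9031))).symm
theorem F14602 : act 1 n6519 = n5127 := (sb E6222 (iv F14590))
theorem F14603 : act 4 n6519 = n3352 := (sb E6222 (iv D6536))
theorem E6223 : n6539 = n6178 := (c15_4 F14603 (iv D3352) D3353 D6539 F14349 D6519)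
theorem F14604 : act 3 n6178 = n3353 := (sb E6223 (iv D6539))
theorem E6224 : n6050 = n5071 := (c24_11 F14314 (iv D6540) (iv F14604) F14348 (iv F14307) (iv D6174) (iv F14298) (iv F10671) F10673 (iv D6051) D6050 F9018 D5106 F9067 F14161 (iv F14312))
theorem F14605 : act 3 n5071 = n3089 := (sb E6224 (iv D6050))
theorem E6225 : n6055 = n2596 := (c7_3 F14605 (iv F13272) D6055 (iv F9017))
theorem E6226 : n5080 = n3091 := ((D5080).symm.trans (sb E6225 (iv D6055)))
theorem F14606 : act 3 n3091 = n2596 := (sb E6226 (iv D5080))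
theorem F14607 : act 3 n4648 = n6032 := d2_2 F14606 (iv F8376) F10630
theorem F14608 : act 3 n5075 = n6056 := d16_5 (iv D6056) F14606 (iv D2596) D2594 D5075
theorem F14609 : act 3 n5081 = n6049 := d17_3 D3091 F14606 D5081 (iv D6049) (iv D3088)
theorem F14610 : act 3 n5947 = n6068 := d23_7 (iv F5369) F14606 F4569 (iv F2412) (iv F13741) D3041 D5947 F10692 F5389 F5362
theorem F14611 : act 2 n5316 = n6389 := d23_0 (iv D6389) F5597 F2742 (iv F5369) F14606 F4569 (iv F2412) (iv F13741) D3041 (iv F13935)
theorem F14612 : act 0 n6389 = n5947 := d23_10 (iv D5947) (iv D3041) F13741 F2412 (iv F4569) (iv F14606) F5369 (iv F2742) (iv F5597) D6389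
theorem E6227 : n6049 = n4635 := ((c24_2 D2374 D4635 (iv F14609) F9025 (iv D2600) (iv D1276) (iv D614) (iv F804) (iv F13453) (iv F1540) F2003 F776 F13476 F1075 D569 D1174)).symm
theorem F14613 : act 3 n4635 = n5081 := (sb E6227 (iv F14609))
theorem E6228 : n4630 = n3088 := ((F8354).symm.trans (sb E6227 (iv D6049)))
theorem E6229 : n6046 = n2376 := ((D6046).symm.trans (sb E6228 F8346))
theorem E6230 : n6047 = n2373 := ((D6047).symm.trans (sb E6228 F8347))
theorem E6231 : n6048 = n2372 := ((D6048).symm.trans (sb E6228 (iv D4630)))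
theorem F14614 : act 6 n3088 = n4635 := (sb E6228 (iv F8354))
theorem F14615 : act 2 n2376 = n3088 := (sb E6229 (iv D6046))
theorem F14616 : act 4 n2373 = n3088 := (sb E6230 (iv D6047))
theorem F14617 : act 5 n2372 = n3088 := (sb E6231 (iv D6048))
theorem F14618 : act 5 n6029 = n4609 := d4_2 F14617 (iv F10625) F8309
theorem F14619 : act 5 n5758 = n4622 := d9_2 F14617 (iv F13573) F8340
theorem F14620 : act 5 n6053 = n4629 := d16_4 F14617 (iv D3088) D3090 D6053 (iv D4629)
theorem F14621 : act 0 n6078 = n5758 := d4_3 F14619 F8374 F13866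
theorem F14622 : act 2 n4669 = n5758 := d13_3 F14619 F8341 D4669
theorem F14623 : act 4 n4623 = n5758 := d18_3 F14619 (iv D4622) D4623
theorem F14624 : act 3 n5078 = n4623 := d15_5 F14623 (iv D5758) (iv F13404) F14606 (iv F9022)
theorem F14625 : act 1 n4632 = n5078 := d7_3 F14624 F8342 D4632
theorem F14626 : act 5 n4621 = n5077 := d16_4 D5078 F14624 (iv D4623) D4621 (iv D5077)
theorem F14627 : act 1 n5077 = n4627 := d9_1 F14626 (iv D4627) (iv F8339)
theorem F14628 : act 3 n4627 = n5070 := d7_2 D5077 F14627 F9015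
theorem F14629 : act 5 n5070 = n4632 := d16_2 D4627 F14628 (iv D4632) (iv D2373) D2371
theorem F14630 : act 2 n4632 = n5103 := d13_1 F14629 (iv D5103) (iv F9016)
theorem F14631 : act 4 n4632 = n5071 := d18_1 F14629 (iv D5071) D5070
theorem F14632 : act 6 n5758 = n6038 := d14_2 F13964 F14622 (iv D6038)
theorem F14633 : act 3 n5753 = n6078 := d23_1 D5753 F10714 (iv F13961) F14622 (iv D5758) (iv D2941) (iv D1437) F1274 D1437 (iv F5140)
theorem F14634 : act 4 n4610 = n6029 := d22_9 F10625 (iv F13573) (iv F14622) F13960 F5393 F13734 (iv F13633) (iv F13684) (iv F8312)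
theorem F14635 : act 2 n4612 = n6029 := d22_2 (iv F13773) (iv F13847) F10625 (iv F13573) (iv F14622) F13960 F5393 F13734 (iv F4286)
theorem F14636 : act 2 n6066 = n4639 := d23_8 F14635 (iv D6029) (iv D3082) (iv D1509) (iv F1327) D1515 D3098 D6066 (iv D4639) (iv F8315)
theorem F14637 : act 3 n6380 = n4612 := d23_1 D6380 F14635 (iv D6029) (iv D3082) (iv D1509) (iv F1327) D1515 D3098 D6066 F10688
theorem F14638 : act 0 n6380 = n4639 := d23_10 (iv F14636) (iv D6066) (iv D3098) (iv D1515) F1327 D1509 D3082 D6029 (iv F14635) (iv F14637)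
theorem F14639 : act 1 n4736 = n6380 := d7_3 F14637 F13847 D4736
theorem F14640 : act 4 n5719 = n6380 := d15_0 F14637 F8317 (iv F4821) (iv F13879) D5719
theorem F14641 : act 5 n5084 = n6380 := d16_0 F14637 (iv D4612) F4236 D2598 D5084
theorem F14642 : act 2 n6382 = n5084 := d13_3 F14641 (iv D6380) D6382
theorem F14643 : act 4 n6389 = n6382 := d12_0 F14642 (iv F9473) F14611
theorem F14644 : act 5 n6381 = n6389 := d18_0 F14643 (iv D6382) D6381
theorem F14645 : act 2 n5719 = n6381 := d13_3 F14644 (iv F14611) F13936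
theorem F14646 : act 4 n4639 = n5949 := d3_2 F14640 F14638 F10528
theorem F14647 : act 5 n5948 = n4639 := d18_0 F14646 (iv D5949) D5948
theorem F14648 : act 0 n5084 = n5948 := d4_3 F14647 (iv F14638) (iv F14641)
theorem F14649 : act 3 n4637 = n5948 := d16_5 F14647 (iv D4639) (iv D2376) D2375 D4637
theorem F14650 : act 1 n6032 = n5753 := d7_3 F14633 (iv F13867) F14607
theorem F14651 : act 6 n5753 = n6028 := d10_2 D6032 F14650 (iv D6028)
theorem F14652 : act 4 n6032 = n5753 := d19_3 F14651 F13407 D6032
theorem F14653 : act 1 n6038 = n4635 := d10_1 F14632 (iv F14614) (iv F13573)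
theorem F14654 : act 5 n6038 = n4624 := d21_2 (iv F14619) F14632 (iv D4624) D4622
theorem F14655 : act 0 n4624 = n6062 := d4_1 F14654 F10684 (iv F10649)
theorem F14656 : act 6 n6062 = n4620 := d5_2 D4624 F14655 (iv D4620)
theorem F14657 : act 6 n5974 = n6920 := d24_4 D3355 (iv F14313) (iv D5977) (iv F10558) (iv D6920) (iv D3567) (iv D1739) (iv F13220) F13219 F13381 F2846 (iv D1615) F1375 D775 D1630
theorem F14658 : act 2 n6920 = n5979 := d14_1 F14657 (iv D5979) (iv F10558)
theorem F14659 : act 4 n6920 = n5976 := d19_1 F14657 (iv D5976) D5974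
theorem E6232 : n6921 = n5731 := ((c21_1 (iv F14072) (iv D6921) D6920 (iv F14657) (iv D5974))).symm
theorem F14660 : act 6 n5731 = n3567 := (sb E6232 (iv D6921))
theorem F14661 : act 1 n5731 = n5731 := d10_3 F14660 F13478 (iv F14660)
theorem E6233 : n6918 = n5734 := (c14_2 F14660 D6918 (iv D5734) D5731)
theorem F14662 : act 2 n5734 = n3567 := (sb E6233 (iv D6918))
theorem F14663 : act 5 n6919 = n5976 := d21_0 (iv D5976) (iv F14072) F14660 D6919
theorem E6234 : n6920 = n3884 := (c24_2 F14660 D6920 (iv D3884) F3301 (iv D931) F13285 (iv D508) (iv F557) (iv F13450) (iv F1223) D1335 F13724 D2727 (iv F13888) D2928 D5731)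
theorem F14664 : act 2 n3884 = n5979 := (sb E6234 F14658)
theorem F14665 : act 4 n3884 = n5976 := (sb E6234 F14659)
theorem F14666 : act 5 n3884 = n3567 := (sb E6234 (iv D6920))
theorem F14667 : act 6 n3884 = n5974 := (sb E6234 (iv F14657))
theorem F14668 : act 3 n5974 = n3878 := d17_1 F14667 (iv D3878) (iv D1915) D1918 D3884
theorem F14669 : act 1 n3884 = n3884 := d9_3 F14666 F13478 (iv F14666)
theorem F14670 : act 1 n5976 = n5976 := d8_3 (iv F14665) F14669 F14665
theorem F14671 : act 1 n5974 = n5974 := d10_3 (iv F14667) F14669 F14667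
theorem F14672 : act 1 n3878 = n3878 := d7_3 (iv F14668) F14671 F14668
theorem F14673 : act 1 n6919 = n6919 := d9_3 F14663 F14670 (iv F14663)
theorem F14674 : act 3 n5976 = n6919 := d15_1 F14665 (iv D6919) (iv D3567) (iv F13350) D3884
theorem F14675 : act 2 n5982 = n6919 := d13_3 F14663 F10560 D5982
theorem F14676 : act 4 n6526 = n6396 := d15_2 F14306 D6526 (iv D6396) (iv F5607) (iv F14305)
theorem F14677 : act 0 n6396 = n6254 := d3_1 F14676 F14081 (iv F11327)
theorem F14678 : act 6 n6396 = n6529 := d19_2 (iv F11329) F14676 (iv D6529)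
theorem F14679 : act 5 n5771 = n6396 := d4_0 F14677 F10942 (iv F10237)
theorem F14680 : act 4 n6128 = n5771 := d18_3 F14679 (iv F14676) (iv F11330)
theorem F14681 : act 6 n6530 = n5771 := d21_1 D6530 F14679 F14678 (iv D6529)
theorem F14682 : act 3 n5773 = n6128 := d15_5 F14680 (iv D5771) F5155 D2947 D5773
theorem F14683 : act 3 n6173 = n4699 := d16_5 (iv F10240) F14682 F11330 (iv D6526) (iv F14301)
theorem F14684 : act 6 n5102 = n6549 := d10_2 F14181 (iv F9058) F11371
theorem F14685 : act 6 n5749 = n5881 := d24_12 D3329 (iv F14178) (iv D4700) (iv D2406) F2206 D1198 (iv F13686) F13896 F2521 D1434 D2937 D5749 F10451 F9599 (iv D3327)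
theorem F14686 : act 6 n5702 = n5793 := d20_6 F14685 F10451 F13904 (iv F5203) F14120 F10079 F10287
theorem F14687 : act 2 n6121 = n5957 := d12_3 F10540 F14169 (iv F14090)
theorem F14688 : act 5 n6341 = n6121 := d13_0 F14687 (iv F10542) F14274
theorem F14689 : act 3 n6258 = n5106 := d16_5 F9067 F14161 (iv D3361) D3360 (iv F14085)
theorem F14690 : act 0 n5106 = n5773 := d2_1 F14689 F14682 (iv F14084)
theorem F14691 : act 6 n5773 = n5100 := d5_2 D5106 F14690 F9056
theorem F14692 : act 1 n6399 = n6399 := d7_3 (iv D6399) F14149 D6399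
theorem F14694 : act 1 n6393 = n6393 := d9_3 F11122 F14149 (iv F11122)
theorem F14695 : act 1 n6401 = n6401 := d10_3 (iv D6401) F14149 D6401
theorem F14696 : act 4 n6429 = n5966 := d15_0 F14142 (iv F5489) F14018 F5628 D6429
theorem F14697 : act 0 n6121 = n6429 := d3_3 F14696 F14141 (iv F14090)
theorem F14698 : act 6 n5964 = n6429 := d19_0 F14696 (iv D5966) D5964
theorem F14699 : act 0 n5895 = n5964 := d5_3 F14698 (iv F14697) F14091
theorem F14700 : act 3 n5696 = n5964 := d17_5 F14698 (iv D6429) (iv D3291) D3290 (iv F13863)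
theorem F14701 : act 5 n5964 = n5123 := d16_2 D5696 F14700 F9193 (iv D2906) D2905
theorem F14702 : act 2 n4736 = n5964 := d13_3 F14701 (iv D5123) (iv F13979)
theorem F14703 : act 5 n6429 = n6425 := d24_5 F4289 D2424 D4736 F14702 F14698 (iv D6425) F5621 (iv F2755) (iv D1607) F1374 (iv F13120) F13122 D1441 D2951 (iv F5166)
theorem F14704 : act 0 n6425 = n6341 := d4_1 F14703 F14688 F14697
theorem F14705 : act 6 n6425 = n5372 := d21_1 F14703 F14046 D5966 (iv F14696)
theorem F14706 : act 2 n5373 = n6425 := d14_3 F14705 (iv D5372) D5373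
theorem F14707 : act 6 n6581 = n6023 := d17_4 F14131 (iv D3373) D3375 D6581 (iv D6023)
theorem F14708 : act 4 n5311 = n6154 := d3_2 F14106 (iv F13930) F10805
theorem E6235 : n6631 = n5113 := (c17_4 D2615 F14092 F13949 D6631 (iv D5113) (iv D2614))
theorem F14709 : act 3 n5113 = n3403 := (sb E6235 (iv D6631))
theorem E6236 : n6470 = n4681 := (c2_3 F14709 (iv F14039) D6470 (iv F9082))
theorem F14710 : act 3 n4681 = n3314 := (sb E6236 (iv D6470))
theorem F14711 : act 2 n4681 = n6370 := d24_3 D3301 (iv F5647) (iv F14710) (iv D6370) (iv F14003) F14002 (iv D3192) (iv F5487) F13652 F13440 F2748 (iv D763) D762 D1605 F14041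
theorem F14712 : act 6 n6569 = n6257 := d14_2 F14083 (iv F11410) (iv D6257)
theorem E6237 : n6257 = n3879 := ((c24_15 F14083 (iv D3368) (iv D1636) (iv F1448) (iv D813) (iv F1424) D1690 F11863 D3481 F5907 (iv F13533) (iv F6784) F13442 (iv F13352) D3879 (iv D6257))).symm
theorem F14713 : act 2 n3879 = n3199 := (sb E6237 (iv D6257))
theorem F14714 : act 6 n3879 = n6569 := (sb E6237 (iv F14712))
theorem F14715 : act 3 n6569 = n5731 := d17_1 F14714 F14660 (iv D3567) (iv F13353) D3879
theorem F14716 : act 1 n6569 = n6569 := d7_3 F14715 F14661 (iv F14715)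
theorem F14717 : act 5 n5973 = n6567 := d16_4 D6569 F14715 F14072 D5973 (iv D6567)
theorem F14718 : act 1 n3879 = n3879 := d10_3 F14714 F14716 (iv F14714)
theorem F14719 : act 3 n4631 = n4649 := d24_14 (iv D2383) D2382 (iv F4796) F14057 (iv F13748) F13747 F13774 F13826 (iv D2298) D2297 F4111 (iv F4245) D4633 F8351 F8379
theorem F14720 : act 0 n5082 = n4631 := d2_3 F14719 F8378 D5082
theorem F14721 : act 6 n4647 = n4629 := d17_4 D4631 F14719 (iv D4649) D4647 (iv D4629)
theorem F14722 : act 2 n4613 = n5082 := d23_0 (iv D5082) F4570 (iv F13721) (iv F8379) (iv F14719) F8348 D4640 F14596 (iv D4640) (iv F8318)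
theorem F14723 : act 4 n5082 = n4611 := d12_2 (iv F8320) F14722 F8314
theorem F14724 : act 6 n5082 = n4609 := d14_2 D4613 F14722 F8310
theorem F14725 : act 3 n4609 = n5076 := d17_1 F14724 (iv D5076) (iv D2594) D2597 D5082
theorem F14726 : act 0 n5076 = n4629 := d2_1 F14725 (iv D4629) (iv F8309)
theorem F14727 : act 2 n6567 = n4647 := d24_15 F14721 (iv F14620) (iv D6053) F5368 F13267 (iv D2943) (iv D1437) F1274 (iv F1360) D1563 D3199 (iv F14713) F14714 (iv D6569) D6567
theorem F14728 : act 0 n5073 = n6567 := d1_3 F14727 F8375 D5073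
theorem F14729 : act 3 n6528 = n5073 := d11_10 D6567 F14727 (iv D4647) (iv D2381) (iv D1178) F1115 D1054 (iv F13456) D3350 D6528 (iv D5073) (iv D2594) (iv D1274) (iv D614) (iv F804) (iv F13328) F1448 D1636 D3366
theorem F14730 : act 1 n6481 = n6481 := d22_4 F2799 (iv F5744) D6563 F11400 (iv D6481) (iv F5743) F5744 D3397 (iv F14053)
theorem F14731 : act 5 n6481 = n6401 := d13_2 F14035 D6481 F11131
theorem F14732 : act 5 n6552 = n6399 := d24_13 D3278 F14035 (iv D3320) (iv F2846) (iv D1691) F1424 (iv F2009) F1439 D1629 F2778 D1636 D3366 (iv F11374) (iv D6399) (iv D3276)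
theorem F14733 : act 1 n6552 = n6552 := d9_3 F14732 F14692 (iv F14732)
theorem F14734 : act 2 n6399 = n6258 := d13_1 F14732 F14085 D6552
theorem F14735 : act 4 n3879 = n6399 := d21_4 (iv F14732) F11374 D6569 (iv F14714)
theorem E6238 : n6400 = n1915 := (c15_3 F14735 (iv D6399) D6400 (iv D1915) D1916 D3879)
theorem E6239 : n3875 = n3277 := ((D3875).symm.trans (sb E6238 F11130))
theorem E6240 : n3876 = n3276 := ((D3876).symm.trans (sb E6238 (iv D6400)))
theorem F14736 : act 2 n3277 = n1915 := (sb E6239 (iv D3875))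
theorem F14737 : act 4 n3276 = n1915 := (sb E6240 (iv D3876))
theorem F14738 : act 4 n3862 = n6072 := d3_2 F14737 (iv F6746) F10703
theorem F14739 : act 4 n3877 = n6393 := d18_3 F11122 F14737 D3877
theorem F14740 : act 4 n3878 = n6401 := d19_3 (iv D6401) F14737 D3878
theorem F14741 : act 6 n3877 = n6481 := d21_1 D3877 F14731 (iv D6401) F14737
theorem F14742 : act 1 n3877 = n3877 := d10_3 F14741 F14730 (iv F14741)
theorem F14743 : act 2 n6394 = n3877 := d14_3 F14741 (iv D6481) (iv F14038)
theorem F14744 : act 2 n6402 = n3878 := d12_3 F14740 F11131 (iv F11133)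
theorem F14745 : act 2 n6073 = n3862 := d12_3 F14738 (iv D6072) D6073
theorem F14746 : act 2 n3849 = n4672 := d23_8 F14745 (iv D3862) (iv D1909) (iv D926) F865 D917 D1899 D3849 F13966 (iv F10704)
theorem E6241 : n3854 = n3103 := (c23_1 D3854 (iv F10706) F14745 (iv D3862) (iv D1909) (iv D926) F865 D917 D1899 D3849 F6722)
theorem E6242 : n6077 = n1903 := (((iv F10712)).symm.trans (sb E6241 (iv D3854)))
theorem F14747 : act 2 n1903 = n3103 := (sb E6242 F10712)
theorem E6243 : n3855 = n3102 := ((D3855).symm.trans (sb E6242 (iv D6077)))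
theorem F14748 : act 4 n3102 = n1903 := (sb E6243 (iv D3855))
theorem F14749 : act 4 n3849 = n6038 := d3_2 F14748 (iv F6722) F10649
theorem F14750 : act 4 n3852 = n6075 := d8_2 F14748 (iv F6731) (iv D6075)
theorem F14751 : act 4 n3858 = n6076 := d15_4 F14748 (iv D1903) D1904 D3858 (iv D6076)
theorem F14752 : act 4 n3856 = n6062 := d18_3 F10684 F14748 D3856
theorem F14753 : act 4 n3857 = n6078 := d19_3 (iv D6078) F14748 D3857
theorem F14754 : act 6 n3856 = n4646 := d21_1 D3856 F13866 (iv D6078) F14748
theorem F14755 : act 1 n3849 = n4633 := d22_1 (iv F6722) F8350 (iv F8321) F13848 F4309 F2559 (iv F2664) D3102 F14748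
theorem F14756 : act 5 n4620 = n3857 := d21_2 (iv F10684) F14656 (iv D3857) (iv F14748)
theorem F14757 : act 0 n3857 = n4623 := d4_1 F14756 (iv D4623) D4620
theorem F14758 : act 2 n3857 = n4666 := d13_1 F14756 (iv D4666) (iv F8338)
theorem F14759 : act 6 n4623 = n3849 := d5_2 D3857 F14757 F6722
theorem F14760 : act 3 n3851 = n5083 := d17_3 F14759 (iv D3849) D3851 F9029 F14624
theorem F14761 : act 0 n5083 = n3852 := d2_1 F14760 (iv D3852) (iv F6727)
theorem F14762 : act 3 n4633 = n3848 := d15_5 (iv F6730) F14760 F9028 (iv F14613) F8353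
theorem F14763 : act 5 n3852 = n4649 := d16_4 (iv F8351) F14762 F6721 D3852 (iv F14719)
theorem F14764 : act 2 n3852 = n4652 := d24_11 D4631 (iv F8351) F14762 F6720 F3275 F3262 (iv F3261) (iv F6724) (iv F6726) F6721 D3852 F8389 (iv D4637) (iv D2375) (iv F4244)
theorem F14765 : act 1 n4649 = n3856 := d9_1 F14763 (iv D3856) (iv F6731)
theorem F14766 : act 2 n3856 = n4707 := d6_2 (iv F8379) F14765 F8452 F4294 (iv F4265)
theorem F14767 : act 0 n6075 = n5081 := d3_3 (iv F9028) F14761 F14750
theorem F14768 : act 2 n5773 = n6076 := d23_0 (iv D6076) (iv D3102) (iv D1517) (iv F1373) D1596 D3276 D6399 F14734 F14689 F14690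
theorem E6244 : n5772 = n3858 := ((c12_3 D5773 F14768 (iv F14751) (iv D5772))).symm
theorem F14769 : act 2 n3858 = n2947 := (sb E6244 (iv D5772))
theorem F14770 : act 4 n6300 = n6118 := d8_2 F13951 (iv F11015) F10763
theorem F14771 : act 5 n6102 = n6300 := d18_0 F14770 (iv D6118) (iv F10748)
theorem F14772 : act 6 n6260 = n6118 := d21_3 (iv F14771) F13421 D6260 (iv F14770)
theorem F14773 : act 0 n6300 = n6260 := d4_1 F14771 (iv D6260) (iv F10746)
theorem F14774 : act 3 n6260 = n5861 := d2_2 D6300 F14773 F10407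
theorem F14775 : act 1 n6567 = n6567 := d7_3 (iv D6567) F13939 D6567
theorem F14776 : act 1 n6568 = n6568 := d8_3 (iv D6568) F13939 D6568
theorem F14777 : act 1 n5973 = n5973 := d9_3 F14717 F14775 (iv F14717)
theorem E6245 : n6612 = n6149 := (c17_4 (iv F5351) F13928 D3393 D6612 (iv D6149) (iv D3141))
theorem F14778 : act 3 n6149 = n3393 := (sb E6245 (iv D6612))
theorem F14779 : act 2 n4680 = n6368 := d12_3 (iv D6368) F13831 D4680
theorem F14780 : act 4 n4221 = n4221 := d15_4 (iv F5978) F13749 F5978 F13583 (iv F13583)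
theorem F14781 : act 2 n4217 = n4217 := d22_5 F7506 F13480 F7507 F3724 (iv F7501) F13461 F7501 (iv F7507) F14780
theorem F14782 : act 4 n4217 = n4217 := d22_9 F13461 F7501 (iv F7507) F7506 F13480 F7507 F3724 (iv F7501) F14781
theorem F14783 : act 6 n4217 = n4217 := d21_3 (iv D4217) F13357 D4217 F14782
theorem F14784 : act 3 n4217 = n4217 := d24_14 F14783 (iv D4217) (iv D2126) (iv F2162) D2356 (iv F13238) (iv F13380) F13168 F13310 F13171 D2126 F13356 F13357 D4217 F14781
theorem F14785 : act 0 n6412 = n6415 := d5_1 F13715 (iv D6415) (iv F11139)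
theorem F14786 : act 0 n6388 = n6250 := d4_1 F13708 (iv D6250) (iv F10231)
theorem F14787 : act 6 n6250 = n6067 := d5_2 D6388 F14786 F10689
theorem F14788 : act 0 n5653 = n5651 := d2_3 (iv D5651) F13689 D5653
theorem F14789 : act 4 n5653 = n5653 := d3_0 F14788 F14587 (iv F14788)
theorem F14790 : act 6 n5653 = n5653 := d5_0 F14788 F14588 (iv F14788)
theorem F14791 : act 5 n5651 = n5653 := d16_4 F13688 (iv F13532) D2883 D5651 (iv D5653)
theorem F14792 : act 5 n6509 = n6509 := d18_0 F13653 F13525 (iv F13653)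
theorem E6246 : n4243 = n4242 := ((c17_5 (iv F13442) F13595 (iv D2141) D2138 D4242 (iv D4243))).symm
theorem F14793 : act 3 n4242 = n2139 := (sb E6246 (iv D4243))
theorem F14794 : act 6 n6510 = n6510 := d5_2 F13526 (iv F11290) F11290
theorem F14795 : act 6 n6682 = n6682 := d10_2 F13526 (iv F11580) F11580
theorem F14796 : act 5 n6681 = n6681 := d9_2 F13525 (iv F11579) F11579
theorem F14797 : act 5 n6726 = n6726 := d13_2 F13525 D6726 (iv D6726)
theorem F14798 : act 0 n5617 = n5617 := d2_3 (iv D5617) F13458 D5617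
theorem F14799 : act 2 n5617 = n5617 := d23_8 (iv D2869) (iv D1401) (iv F1475) F13172 F1475 D1401 D2869 D5617 (iv D5617) F13458
theorem F14800 : act 3 n4241 = n3877 := d16_3 F13443 D2138 D4241 (iv D3877) (iv D1915)
theorem F14801 : act 1 n6051 = n6056 := d8_3 (iv F13398) F13402 (iv F10666)
theorem F14802 : act 2 n6302 = n6302 := d23_2 D3226 D6302 (iv D6302) (iv D3226) (iv D1574) F1369 F13385 (iv F2603) D2995 F5251
def n7151 : Q := act 5 n3849
theorem D7151 : act 5 n3849 = n7151 := rfl
theorem F14803 : act 0 n7151 = n3856 := d4_1 D7151 (iv D3856) (iv F6722)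
theorem F14804 : act 1 n7151 = n4631 := d9_1 D7151 (iv F8351) (iv F14755)
theorem F14805 : act 2 n7151 = n4670 := d13_1 D7151 (iv F8425) (iv F14746)
theorem F14806 : act 3 n7151 = n3856 := d16_1 D7151 (iv D3856) (iv D1903) (iv F3258) D3849
theorem F14807 : act 4 n7151 = n4624 := d18_1 D7151 (iv F14654) (iv F14749)
theorem F14808 : act 6 n7151 = n4622 := d20_2 F14759 D7151 (iv F14619) F14632 F14654 (iv D4624) D4623
def n7152 : Q := act 3 n3850
theorem D7152 : act 3 n3850 = n7152 := rfl
theorem F14809 : act 0 n7152 = n3858 := d2_1 D7152 (iv D3858) (iv F6723)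
theorem F14810 : act 1 n7152 = n5083 := d7_1 D7152 (iv F14760) F6728
theorem F14811 : act 6 n7152 = n4632 := d17_2 F6726 D7152 (iv D4632) D4633 F14762
theorem F14812 : act 2 n7152 = n5108 := d23_6 (iv F14769) (iv D3858) F3268 (iv F3261) (iv F6724) D7152 F13991 F5144 (iv F13991) F13990
theorem F14813 : act 5 n5072 = n7152 := d24_1 D5072 (iv D7152) F6724 (iv F3275) (iv D1906) F1670 (iv F3266) (iv F3267) (iv F3258) D3849 F14746 (iv D4672) (iv D2391) (iv F2326) (iv F4567)
def n7153 : Q := act 6 n3852
theorem D7153 : act 6 n3852 = n7153 := rfl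
theorem F14814 : act 0 n7153 = n5078 := d5_1 D7153 (iv F9029) F14761
theorem F14815 : act 1 n7153 = n3857 := d10_1 D7153 (iv D3857) (iv F6731)
theorem F14816 : act 2 n7153 = n4637 := d14_1 D7153 (iv F8389) (iv F14764)
theorem F14817 : act 3 n7153 = n3857 := d17_1 D7153 (iv D3857) (iv D1903) F3267 D3852
theorem F14818 : act 4 n7153 = n4648 := d19_1 D7153 F13868 (iv F14750)
theorem F14819 : act 5 n4636 = n7153 := d21_0 (iv D7153) F14763 (iv D4649) (iv F8357)
def n7154 : Q := act 3 n3853
theorem D7154 : act 3 n3853 = n7154 := rfl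
theorem F14820 : act 0 n7154 = n4633 := d2_1 D7154 F14762 (iv F6732)
theorem F14821 : act 1 n7154 = n3858 := d7_1 D7154 (iv D3858) (iv F6733)
theorem F14822 : act 5 n7154 = n5082 := d16_2 (iv F6735) D7154 (iv D5082) D5083 (iv F14760)
theorem F14823 : act 2 n7154 = n4614 := d24_3 D3851 (iv F6735) D7154 (iv D4614) (iv D2367) (iv D1172) F1109 (iv F13311) (iv F965) (iv F13382) F871 (iv F1667) (iv D918) D917 D1899
theorem F14824 : act 6 n4610 = n7154 := d14_0 F14823 (iv D4614) (iv F8312)
def n7155 : Q := act 5 n3858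
theorem D7155 : act 5 n3858 = n7155 := rfl
theorem F14825 : act 0 n7155 = n5072 := d4_1 D7155 F14813 F14809
theorem F14826 : act 1 n7155 = n5082 := d9_1 D7155 (iv F14822) F14821
theorem F14827 : act 2 n7155 = n5101 := d13_1 D7155 F13983 (iv F14769)
theorem F14828 : act 3 n7155 = n5072 := d16_1 D7155 F14813 (iv D7152) F6725 D3858
theorem F14829 : act 6 n5068 = n7155 := d24_0 (iv D7155) (iv D3858) F3268 D1905 F3271 F3265 (iv F6729) (iv D3851) F3258 D1903 F14747 (iv F13956) (iv D4666) (iv F4586) (iv F9011)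
def n7156 : Q := act 6 n3858
theorem D7156 : act 6 n3858 = n7156 := rfl
theorem F14830 : act 0 n7156 = n4632 := d5_1 D7156 (iv F14811) F14809
theorem F14831 : act 1 n7156 = n4610 := d10_1 D7156 F14824 F14821
theorem F14832 : act 2 n7156 = n4728 := d14_1 D7156 (iv F8480) (iv F14769)
theorem F14833 : act 3 n7156 = n4610 := d17_1 D7156 F14824 (iv D7154) F6736 D3858
theorem F14834 : act 5 n4607 = n7156 := d21_0 (iv D7156) D7155 (iv F14829) (iv F9012)
def n7157 : Q := act 2 n3859
theorem D7157 : act 2 n3859 = n7157 := rfl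
theorem F14835 : act 1 n7157 = n7157 := d6_1 D7157 (iv D7157) F6737 F3279 (iv F6737)
theorem F14836 : act 4 n7157 = n7157 := d12_2 F6738 D7157 (iv D7157)
theorem F14837 : act 5 n7157 = n7157 := d13_2 F6739 D7157 (iv D7157)
def n7158 : Q := act 2 n3860
theorem D7158 : act 2 n3860 = n7158 := rfl
theorem F14838 : act 0 n7158 = n7157 := d1_1 D7158 (iv D7157) (iv F6740)
theorem F14839 : act 1 n7158 = n7158 := d6_1 D7158 (iv D7158) F6741 F3284 (iv F6741)
theorem F14840 : act 4 n7158 = n7158 := d12_2 F6742 D7158 (iv D7158)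
theorem F14841 : act 5 n7158 = n7158 := d13_2 F6743 D7158 (iv D7158)
theorem F14842 : act 6 n7158 = n7157 := d14_2 (iv F6744) D7158 (iv D7157)
def n7159 : Q := act 3 n3861
theorem D7159 : act 3 n3861 = n7159 := rfl
theorem F14843 : act 0 n7159 = n3879 := d2_1 D7159 (iv D3879) (iv F13348)
theorem F14844 : act 1 n7159 = n3862 := d7_1 D7159 (iv D3862) D3861
theorem F14845 : act 2 n7159 = n5771 := d23_6 (iv F14713) (iv D3879) F3299 (iv F3288) (iv F13349) D7159 (iv D5771) F5154 D5771 F10237
def n7160 : Q := act 5 n3862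
theorem D7160 : act 5 n3862 = n7160 := rfl
theorem F14846 : act 0 n7160 = n3877 := d4_1 D7160 (iv D3877) (iv F6746)
theorem F14847 : act 2 n7160 = n6561 := d13_1 D7160 (iv F14292) F14745
theorem F14848 : act 6 n6563 = n7160 := d24_0 (iv D7160) (iv D3862) (iv D1909) D1912 D3869 F13584 F11864 (iv D3510) F2871 (iv D1690) F1423 D1615 (iv F2787) D3365 D6563
def n7161 : Q := act 6 n3862
theorem D7161 : act 6 n3862 = n7161 := rfl
theorem F14849 : act 0 n7161 = n3878 := d5_1 D7161 (iv D3878) (iv F6746)
def n7162 : Q := act 3 n3865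
theorem D7162 : act 3 n3865 = n7162 := rfl
theorem F14850 : act 0 n7162 = n3884 := d2_1 D7162 (iv D3884) (iv F6751)
theorem F14851 : act 1 n7162 = n6794 := d7_1 D7162 (iv D6794) (iv F13354)
theorem F14852 : act 5 n6794 = n7162 := d4_0 F14850 F14666 F13471
def n7163 : Q := act 5 n3865
theorem D7163 : act 5 n3865 = n7163 := rfl
theorem F14853 : act 0 n7163 = n3885 := d4_1 D7163 (iv D3885) (iv F6751)
theorem F14854 : act 1 n7163 = n4230 := d9_1 D7163 F13336 (iv F13354)
theorem F14855 : act 2 n7163 = n3869 := d13_1 D7163 (iv D3869) (iv F6752)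
theorem F14856 : act 3 n7163 = n4230 := d16_1 D7163 F13336 D6794 F14852 (iv D7162)
theorem F14857 : act 4 n7163 = n4230 := d18_1 D7163 F13336 (iv F13339)
theorem F14858 : act 6 n7163 = n4227 := d20_2 D3865 D7163 F13474 F13340 (iv F13336) (iv D4230) (iv F13472)
def n7164 : Q := act 5 n3878
theorem D7164 : act 5 n3878 = n7164 := rfl
theorem F14859 : act 1 n7164 = n7164 := d9_1 D7164 (iv D7164) F14672
theorem F14860 : act 2 n7164 = n6395 := d13_1 D7164 (iv F11134) F14744
theorem F14861 : act 4 n7164 = n6481 := d18_1 D7164 F14731 (iv F14740)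
theorem F14862 : act 6 n7164 = n6393 := d20_2 D3878 D7164 F11122 D6401 (iv F14731) (iv F14741) (iv D3877)
def n7165 : Q := act 5 n3879
theorem D7165 : act 5 n3879 = n7165 := rfl
theorem F14863 : act 1 n7165 = n7165 := d9_1 D7165 (iv D7165) F14718
theorem F14864 : act 2 n7165 = n6254 := d13_1 D7165 F10942 (iv F14713)
theorem F14865 : act 4 n7165 = n6552 := d18_1 D7165 F14732 (iv F14735)
theorem F14866 : act 6 n7165 = n6568 := d21_3 D6569 (iv F14714) D7165 (iv D6568)
def n7166 : Q := act 3 n4227
theorem D7166 : act 3 n4227 = n7166 := rfl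
theorem F14867 : act 0 n7166 = n4242 := d2_1 D7166 F14793 F7521
theorem F14868 : act 1 n7166 = n4228 := d7_1 D7166 (iv D4228) D4227
theorem F14869 : act 6 n7166 = n4228 := d17_2 F14858 D7166 (iv D4228) D4230 (iv F14856)
def n7167 : Q := act 2 n4228
theorem D7167 : act 2 n4228 = n7167 := rfl
theorem F14870 : act 0 n7167 = n4239 := d1_1 D7167 (iv D4239) (iv F7523)
theorem F14871 : act 3 n7167 = n4625 := d23_1 D7167 (iv D4625) (iv D2371) (iv D1174) (iv D569) F557 D508 D1050 D2138 (iv F7523)
def n7168 : Q := act 4 n4228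
theorem D7168 : act 4 n4228 = n7168 := rfl
theorem F14872 : act 0 n7168 = n4240 := d3_1 D7168 (iv D4240) (iv F7523)
def n7169 : Q := act 5 n4228
theorem D7169 : act 5 n4228 = n7169 := rfl
theorem F14873 : act 0 n7169 = n4241 := d4_1 D7169 (iv D4241) (iv F7523)
theorem F14874 : act 3 n7169 = n7160 := d16_1 D7169 (iv D7160) (iv D3862) F13472 D4228
def n7170 : Q := act 1 n4239
theorem D7170 : act 1 n4239 = n7170 := rfl
theorem F14875 : act 2 n7170 = n7170 := d6_2 D4239 D7170 (iv D7170) (iv D4239) F3742
def n7171 : Q := act 3 n4239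
theorem D7171 : act 3 n4239 = n7171 := rfl
theorem F14876 : act 0 n7171 = n4625 := d2_1 D7171 (iv F14871) F14870
theorem F14877 : act 2 n7171 = n4608 := d11_1 D7171 (iv D4608) (iv D2365) (iv D1172) F1109 D1048 D2133 D4228 D7167 F14871 (iv D4625) (iv D2371) (iv D1174) (iv D569) F557 D508 D1050 D2138 D4239
def n7172 : Q := act 4 n4239
theorem D7172 : act 4 n4239 = n7172 := rfl
theorem F14878 : act 2 n7172 = n4240 := d12_1 D7172 (iv D4240) D4239
def n7173 : Q := act 5 n4239
theorem D7173 : act 5 n4239 = n7173 := rfl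
theorem F14879 : act 2 n7173 = n4241 := d13_1 D7173 (iv D4241) D4239
def n7174 : Q := act 6 n4239
theorem D7174 : act 6 n4239 = n7174 := rfl
theorem F14880 : act 2 n7174 = n4242 := d14_1 D7174 (iv D4242) D4239
theorem F14881 : act 3 n7173 = n6675 := d24_2 (iv D7174) D7173 F11565 (iv D3428) (iv D1663) (iv D789) (iv F752) (iv F1432) (iv F13210) D834 D1739 (iv F13353) F13352 (iv F14793) (iv F14880)
def n7175 : Q := act 3 n4240
theorem D7175 : act 3 n4240 = n7175 := rfl
theorem F14882 : act 1 n7175 = n7175 := d7_1 D7175 (iv D7175) F7552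
theorem F14883 : act 4 n7175 = n4242 := d15_2 D4240 D7175 F14793 (iv D2139) D2138
theorem F14884 : act 6 n4240 = n7175 := d19_0 F14883 (iv D4242) D4240
def n7176 : Q := act 5 n4240
theorem D7176 : act 5 n4240 = n7176 := rfl
theorem F14885 : act 1 n7176 = n7176 := d9_1 D7176 (iv D7176) F7552
theorem F14886 : act 4 n7176 = n4241 := d18_1 D7176 (iv D4241) D4240
def n7177 : Q := act 6 n4241
theorem D7177 : act 6 n4241 = n7177 := rfl
theorem F14887 : act 1 n7177 = n7177 := d10_1 D7177 (iv D7177) F7553
theorem F14888 : act 5 n7177 = n7175 := d21_2 D4241 D7177 (iv F14884) (iv D4240)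
def n7178 : Q := act 5 n4242
theorem D7178 : act 5 n4242 = n7178 := rfl
theorem F14889 : act 1 n7178 = n7178 := d9_1 D7178 (iv D7178) F7554
theorem F14890 : act 3 n7178 = n7165 := d16_1 D7178 (iv D7165) (iv D3879) F13352 (iv F14793)
theorem F14891 : act 4 n7178 = n7177 := d18_1 D7178 F14888 F14883
theorem F14892 : act 6 n7178 = n7176 := d20_2 D4242 D7178 (iv D7176) F14884 (iv F14888) (iv D7177) (iv D4241)
def n7179 : Q := act 3 n4607
theorem D7179 : act 3 n4607 = n7179 := rfl
theorem F14893 : act 0 n7179 = n4627 := d2_1 D7179 F14628 F9014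
theorem F14894 : act 1 n7179 = n4608 := d7_1 D7179 (iv D4608) D4607
theorem F14895 : act 5 n7179 = n4608 := d16_2 (iv F14834) D7179 (iv D4608) D4610 (iv F14833)
def n7180 : Q := act 6 n4607
theorem D7180 : act 6 n4607 = n7180 := rfl
theorem F14896 : act 1 n7180 = n4611 := d10_1 D7180 (iv D4611) D4607
theorem F14897 : act 2 n7180 = n4699 := d14_1 D7180 F8442 (iv F13846)
theorem F14898 : act 4 n7180 = n7155 := d19_1 D7180 (iv F14829) (iv F9012)
theorem F14899 : act 5 n6076 = n7180 := d21_0 (iv D7180) F14834 (iv D7156) F14751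
def n7181 : Q := act 4 n4608
theorem D7181 : act 4 n4608 = n7181 := rfl
theorem F14900 : act 0 n7181 = n4626 := d3_1 D7181 (iv D4626) (iv F8308)
def n7182 : Q := act 6 n4608
theorem D7182 : act 6 n4608 = n7182 := rfl
theorem F14901 : act 0 n7182 = n4628 := d5_1 D7182 (iv D4628) (iv F8308)
def n7183 : Q := act 3 n4611
theorem D7183 : act 3 n4611 = n7183 := rfl
theorem F14902 : act 0 n7183 = n4634 := d2_1 D7183 (iv D4634) (iv F8313)
def n7184 : Q := act 5 n4611
theorem D7184 : act 5 n4611 = n7184 := rfl
theorem F14903 : act 0 n7184 = n4635 := d4_1 D7184 (iv D4635) (iv F8313)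
theorem F14904 : act 1 n7184 = n6076 := d9_1 D7184 F14899 F14896
theorem F14905 : act 2 n7184 = n4616 := d13_1 D7184 (iv D4616) (iv F8314)
theorem F14906 : act 4 n7184 = n7154 := d18_1 D7184 F14822 F14723
theorem F14907 : act 6 n7184 = n6029 := d20_2 D4611 D7184 F14618 (iv F14724) (iv F14822) (iv F14824) (iv D4610)
theorem F14908 : act 3 n7184 = n6075 := d24_2 D4611 D7184 F10710 F13871 (iv D2382) (iv D1178) F1115 F13453 F805 (iv F2003) F1539 (iv F13596) F1223 D1172 D2365
def n7185 : Q := act 3 n4613
theorem D7185 : act 3 n4613 = n7185 := rfl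
theorem F14909 : act 0 n7185 = n4640 := d2_1 D7185 (iv D4640) (iv F8318)
theorem F14910 : act 1 n7185 = n4694 := d7_1 D7185 F8440 (iv F13842)
theorem F14911 : act 2 n7185 = n7185 := d11_1 D7185 (iv D7185) F14722 (iv D5082) F4570 (iv F13721) (iv F8379) (iv F14719) F8348 D4640 F14596 (iv D4640) (iv F8348) F14719 F8379 F13721 (iv F4570) D5082 (iv F14722)
theorem F14912 : act 4 n7185 = n4640 := d15_2 (iv F8320) D7185 (iv D4640) F4253 (iv F13678)
theorem F14913 : act 6 n7185 = n5085 := d17_2 D4613 D7185 (iv D5085) (iv D2599) (iv F4236)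
theorem F14914 : act 5 n6538 = n7185 := d24_1 D6538 (iv D7185) F14722 F14724 (iv F14618) (iv D6029) (iv D3082) D3085 D6037 F14173 (iv F14309) (iv F14319) (iv D3354) D3352 F5719
theorem F14915 : act 3 n6538 = n6546 := d24_2 (iv F14913) (iv F14914) (iv D6546) D6548 (iv F14189) (iv D6060) (iv F10665) (iv F10673) (iv D6056) F14606 F4569 D2600 F4576 D5085 F14599
theorem F14916 : act 6 n6546 = n6544 := d17_2 D6538 F14915 (iv D6544) (iv D3355) D3352
theorem F14917 : act 2 n6544 = n6548 := d14_1 F14916 (iv D6548) D6546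
theorem F14918 : act 4 n6544 = n6559 := d19_1 F14916 (iv D6559) (iv F11364)
def n7186 : Q := act 3 n4614
theorem D7186 : act 3 n4614 = n7186 := rfl
theorem F14919 : act 0 n7186 = n4641 := d2_1 D7186 (iv D4641) (iv F8321)
theorem F14920 : act 1 n7186 = n4740 := d7_1 D7186 (iv D4740) (iv F13848)
theorem F14921 : act 5 n7186 = n6546 := d16_2 (iv F8323) D7186 (iv F14915) F14914 (iv D7185)
theorem F14922 : act 6 n7186 = n5735 := d17_2 D4614 D7186 (iv D5735) F13881 F4821
theorem F14923 : act 2 n6547 = n7186 := d14_3 F14922 (iv F14537) F11399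
theorem F14924 : act 4 n7186 = n6558 := d21_4 (iv D6558) D6559 (iv F14544) (iv F14922)
def n7187 : Q := act 3 n4616
theorem D7187 : act 3 n4616 = n7187 := rfl
theorem F14925 : act 0 n7187 = n4645 := d2_1 D7187 (iv D4645) (iv F8327)
theorem F14926 : act 1 n7187 = n4701 := d7_1 D7187 (iv D4701) (iv F13843)
theorem F14927 : act 5 n7187 = n4645 := d16_2 D4616 D7187 (iv D4645) (iv D2380) (iv F13678)
def n7188 : Q := act 3 n4620
theorem D7188 : act 3 n4620 = n7188 := rfl
theorem F14928 : act 0 n7188 = n4621 := d2_1 D7188 (iv D4621) D4620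
def n7189 : Q := act 2 n4621
theorem D7189 : act 2 n4621 = n7189 := rfl
def n7190 : Q := act 4 n4621
theorem D7190 : act 4 n4621 = n7190 := rfl
theorem F14929 : act 1 n7190 = n4626 := d8_1 D7190 (iv D4626) (iv F8339)
def n7191 : Q := act 6 n4621
theorem D7191 : act 6 n4621 = n7191 := rfl
theorem F14930 : act 1 n7191 = n4628 := d10_1 D7191 (iv D4628) (iv F8339)
theorem F14931 : act 2 n6384 = n7191 := d24_15 (iv D7191) F14626 (iv D5077) F4568 D2599 (iv F4576) (iv F13865) F14311 F14308 D6174 F14305 (iv F11116) F11118 (iv D6385) D6384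
theorem F14932 : act 6 n7189 = n6384 := d14_0 F14931 (iv D7191) D7189
def n7192 : Q := act 3 n4622
theorem D7192 : act 3 n4622 = n7192 := rfl
theorem F14933 : act 1 n7192 = n4629 := d7_1 D7192 (iv D4629) (iv F8340)
def n7193 : Q := act 3 n4624
theorem D7193 : act 3 n4624 = n7193 := rfl
theorem F14934 : act 1 n7193 = n4634 := d7_1 D7193 (iv D4634) (iv F8344)
def n7194 : Q := act 1 n4625
theorem D7194 : act 1 n4625 = n7194 := rfl
def n7195 : Q := act 4 n4625
theorem D7195 : act 4 n4625 = n7195 := rfl
theorem F14935 : act 2 n7195 = n4626 := d12_1 D7195 (iv D4626) D4625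
def n7196 : Q := act 5 n4625
theorem D7196 : act 5 n4625 = n7196 := rfl
theorem F14936 : act 2 n7196 = n4627 := d13_1 D7196 (iv D4627) D4625
def n7197 : Q := act 6 n4625
theorem D7197 : act 6 n4625 = n7197 := rfl
theorem F14937 : act 2 n7197 = n4628 := d14_1 D7197 (iv D4628) D4625
def n7198 : Q := act 3 n4626
theorem D7198 : act 3 n4626 = n7198 := rfl
theorem F14938 : act 4 n7198 = n4629 := d15_2 D4626 D7198 (iv D4629) (iv D2372) D2371
def n7199 : Q := act 5 n4626
theorem D7199 : act 5 n4626 = n7199 := rfl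
theorem F14939 : act 4 n7199 = n4627 := d18_1 D7199 (iv D4627) D4626
def n7200 : Q := act 6 n4626
theorem D7200 : act 6 n4626 = n7200 := rfl
theorem F14940 : act 4 n7200 = n4628 := d19_1 D7200 (iv D4628) D4626
def n7201 : Q := act 6 n4627
theorem D7201 : act 6 n4627 = n7201 := rfl
theorem F14941 : act 5 n7201 = n7200 := d21_2 D4627 D7201 (iv D7200) (iv D4626)
def n7202 : Q := act 3 n4628
theorem D7202 : act 3 n4628 = n7202 := rfl
theorem F14942 : act 6 n7202 = n4634 := d17_2 D4628 D7202 (iv D4634) (iv D2374) D2371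
def n7203 : Q := act 5 n4628
theorem D7203 : act 5 n4628 = n7203 := rfl
theorem F14943 : act 4 n7203 = n7201 := d18_1 D7203 F14941 F14940
theorem F14944 : act 6 n7203 = n7199 := d20_2 D4628 D7203 (iv D7199) D7200 (iv F14941) (iv D7201) (iv D4627)
def n7204 : Q := act 2 n4629
theorem D7204 : act 2 n4629 = n7204 := rfl
theorem F14945 : act 6 n7204 = n6567 := d14_2 F14721 D7204 F14727
theorem F14946 : act 1 n7204 = n7204 := d10_3 F14945 F14775 (iv F14945)
theorem F14947 : act 2 n7192 = n7192 := d6_4 D7204 F14946 (iv D7204) (iv F14933) F14933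
def n7205 : Q := act 2 n4634
theorem D7205 : act 2 n4634 = n7205 := rfl
def n7206 : Q := act 4 n4634
theorem D7206 : act 4 n4634 = n7206 := rfl
def n7207 : Q := act 5 n4634
theorem D7207 : act 5 n4634 = n7207 := rfl
theorem F14948 : act 3 n7207 = n5079 := d16_1 D7207 (iv F9026) (iv F14613) (iv D4635) D4634
theorem F14949 : act 4 n7183 = n7207 := d15_0 F14948 F9024 D5082 F14723 D7183
theorem F14950 : act 0 n7207 = n7206 := d3_1 F14949 (iv D7206) (iv F14902)
theorem F14951 : act 5 n7206 = n7183 := d18_0 F14949 (iv D7207) D7206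
def n7208 : Q := act 3 n4636
theorem D7208 : act 3 n4636 = n7208 := rfl
theorem F14952 : act 0 n7208 = n5077 := d2_1 D7208 (iv D5077) (iv F8355)
theorem F14953 : act 1 n7208 = n7188 := d7_1 D7208 (iv D7188) (iv F8356)
theorem F14954 : act 5 n7208 = n7188 := d16_2 (iv F14819) D7208 (iv D7188) F14756 (iv F14817)
def n7209 : Q := act 6 n4636
theorem D7209 : act 6 n4636 = n7209 := rfl
theorem F14955 : act 0 n7209 = n5079 := d5_1 D7209 (iv D5079) (iv F8355)
theorem F14956 : act 1 n7209 = n6062 := d10_1 D7209 F14656 (iv F8356)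
theorem F14957 : act 2 n7209 = n4638 := d14_1 D7209 (iv D4638) D4636
theorem F14958 : act 4 n7209 = n4649 := d19_1 D7209 (iv D4649) (iv F8357)
theorem F14959 : act 5 n7209 = n6075 := d20_1 D7209 (iv F13868) (iv D4648) D4649 (iv F14763) D7153 (iv F14819)
theorem F14960 : act 3 n7206 = n7209 := d16_5 F14959 (iv F14908) (iv D7184) D7183 (iv F14951)
def n7210 : Q := act 6 n4639
theorem D7210 : act 6 n4639 = n7210 := rfl
theorem F14961 : act 1 n7210 = n4692 := d10_1 D7210 (iv D4692) (iv F8364)
theorem F14962 : act 5 n7210 = n5950 := d21_2 F14647 D7210 (iv D5950) D5948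
def n7211 : Q := act 5 n4640
theorem D7211 : act 5 n4640 = n7211 := rfl
theorem F14963 : act 0 n7211 = n6538 := d4_1 D7211 F14914 F14909
theorem F14964 : act 1 n7211 = n4695 := d9_1 D7211 (iv D4695) (iv F8365)
theorem F14965 : act 2 n7211 = n7211 := d13_1 D7211 (iv D7211) F14596
theorem F14966 : act 3 n7211 = n6473 := d16_1 D7211 F14549 (iv D4641) F4255 D4640
theorem F14967 : act 4 n7211 = n6538 := d18_1 D7211 F14914 F14912
theorem F14968 : act 6 n7211 = n6519 := d20_2 (iv F14595) D7211 (iv F14601) (iv F14913) (iv F14914) (iv D6538) D6537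
def n7212 : Q := act 2 n4645
theorem D7212 : act 2 n4645 = n7212 := rfl
theorem F14969 : act 1 n7212 = n4703 := d6_1 D7212 (iv F14278) (iv F14578) (iv D4702) (iv F8371)
theorem F14970 : act 4 n7212 = n4645 := d22_9 (iv F14925) F14926 (iv F14515) F10284 (iv F14510) (iv D5134) F4633 (iv F8371) D7212
theorem F14971 : act 3 n7212 = n6474 := d23_1 D7212 F11216 F5654 (iv F5721) (iv F14338) (iv F10710) (iv F14908) F14905 D7187 F14925
def n7213 : Q := act 6 n4645
theorem D7213 : act 6 n4645 = n7213 := rfl
theorem F14972 : act 1 n7213 = n4704 := d10_1 D7213 (iv D4704) (iv F8371)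
theorem F14973 : act 3 n7213 = n7210 := d17_1 D7213 (iv D7210) (iv D4639) (iv F4260) D4645
def n7214 : Q := act 3 n4646
theorem D7214 : act 3 n4646 = n7214 := rfl
theorem F14974 : act 0 n7214 = n7192 := d2_1 D7214 (iv D7192) F8374
theorem F14975 : act 1 n7214 = n4647 := d7_1 D7214 (iv D4647) D4646
theorem F14976 : act 6 n7214 = n7192 := d17_2 F14754 D7214 (iv D7192) (iv F14808) F14806
theorem F14977 : act 2 n7214 = n7214 := d14_3 F14976 F14947 (iv F14976)
def n7215 : Q := act 4 n4647
theorem D7215 : act 4 n4647 = n7215 := rfl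
theorem F14978 : act 0 n7215 = n5074 := d3_1 D7215 (iv D5074) (iv F8375)
theorem F14979 : act 6 n7215 = n7198 := d19_2 (iv F14721) D7215 F14938
def n7216 : Q := act 5 n4647
theorem D7216 : act 5 n4647 = n7216 := rfl
theorem F14980 : act 0 n7216 = n5075 := d4_1 D7216 (iv D5075) (iv F8375)
theorem F14981 : act 2 n7216 = n5973 := d13_1 D7216 F14717 F14727
def n7217 : Q := act 3 n4652
theorem D7217 : act 3 n4652 = n7217 := rfl
theorem F14982 : act 0 n7217 = n5090 := d2_1 D7217 (iv D5090) (iv F8386)
theorem F14983 : act 1 n7217 = n4718 := d7_1 D7217 (iv D4718) (iv F8387)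
theorem F14984 : act 5 n7217 = n5090 := d16_2 D4652 D7217 (iv D5090) (iv D2602) (iv F13721)
theorem F14985 : act 2 n7217 = n5090 := d23_2 F14764 D7217 (iv D5090) (iv F9027) (iv F14760) F6729 F3265 (iv F6729) F14760 F14761
def n7218 : Q := act 3 n4666
theorem D7218 : act 3 n4666 = n7218 := rfl
theorem F14986 : act 0 n7218 = n4671 := d2_1 D7218 (iv D4671) (iv F8416)
theorem F14987 : act 1 n7218 = n4680 := d7_1 D7218 F14062 (iv F13954)
theorem F14988 : act 4 n7218 = n4671 := d15_2 (iv F13955) D7218 (iv D4671) (iv F8420) F13961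
def n7219 : Q := act 2 n4668
theorem D7219 : act 2 n4668 = n7219 := rfl
theorem F14989 : act 1 n7219 = n7219 := d6_1 D7219 (iv D7219) F8418 F4613 (iv F8418)
def n7220 : Q := act 6 n4668
theorem D7220 : act 6 n4668 = n7220 := rfl
theorem F14990 : act 1 n7220 = n4676 := d10_1 D7220 (iv D4676) (iv F8418)
theorem F14991 : act 3 n7220 = n6476 := d17_1 D7220 (iv F14543) F14540 (iv D4670) D4668
theorem F14992 : act 4 n7220 = n6549 := d19_1 D7220 (iv F14684) F9059
def n7221 : Q := act 2 n4671
theorem D7221 : act 2 n4671 = n7221 := rfl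
def n7222 : Q := act 6 n4671
theorem D7222 : act 6 n4671 = n7222 := rfl
theorem F14993 : act 1 n7222 = n4681 := d10_1 D7222 (iv D4681) (iv F8423)
theorem F14994 : act 3 n7222 = n6402 := d17_1 D7222 (iv D6402) (iv F13966) (iv D4672) D4671
def n7223 : Q := act 6 n4680
theorem D7223 : act 6 n4680 = n7223 := rfl
theorem F14995 : act 3 n7223 = n6132 := d17_1 D7223 (iv D6132) F5419 D3135 (iv F14062)
theorem F14996 : act 4 n7223 = n4681 := d19_1 D7223 (iv D4681) D4680
theorem F14997 : act 5 n7223 = n5113 := d21_2 F9081 D7223 (iv D5113) D5112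
def n7224 : Q := act 5 n4681
theorem D7224 : act 5 n4681 = n7224 := rfl
theorem F14998 : act 0 n7224 = n7223 := d4_1 D7224 F14997 F9082
theorem F14999 : act 3 n7224 = n6131 := d16_1 D7224 F14088 F14049 (iv F5647) (iv F14710)
theorem F15000 : act 4 n7224 = n5113 := d18_1 D7224 (iv F14997) F14996
theorem F15001 : act 6 n7224 = n5112 := d20_2 D4681 D7224 F9081 D7223 F14997 (iv D5113) F4599
def n7225 : Q := act 2 n4690
theorem D7225 : act 2 n4690 = n7225 := rfl
theorem F15002 : act 1 n7225 = n7225 := d6_1 D7225 (iv D7225) (iv F14592) F11351 F14592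
theorem F15003 : act 4 n7225 = n5125 := d12_2 (iv F13925) D7225 (iv D5125)
theorem F15004 : act 6 n7225 = n4693 := d14_2 (iv F8439) D7225 (iv D4693)
theorem F15005 : act 3 n7225 = n7225 := d23_1 D7225 (iv D7225) (iv D4690) (iv F13918) (iv D1525) F13262 D2951 (iv F5166) (iv F8440) F13971
def n7226 : Q := act 3 n4693
theorem D7226 : act 3 n4693 = n7226 := rfl
theorem F15006 : act 1 n7226 = n7226 := d7_1 D7226 (iv D7226) F14597
theorem F15007 : act 6 n7226 = n7226 := d17_2 F15004 D7226 (iv D7226) (iv F15004) F15005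
theorem F15008 : act 2 n7226 = n5653 := d23_2 D4693 D7226 (iv D5653) (iv F14340) F14341 F5756 F14162 F4596 D2622 F4620
theorem F15009 : act 4 n7226 = n7226 := d12_0 F15008 F14789 (iv F15008)
def n7227 : Q := act 4 n4693
theorem D7227 : act 4 n4693 = n7227 := rfl
theorem F15010 : act 0 n7227 = n7225 := d3_1 D7227 F15003 F9105
theorem F15011 : act 1 n7227 = n7227 := d8_1 D7227 (iv D7227) F14597
theorem F15012 : act 2 n7227 = n4694 := d12_1 D7227 (iv D4694) D4693
theorem F15013 : act 3 n7227 = n7227 := d15_1 D7227 (iv D7227) D7226 F15009 (iv D7226)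
theorem F15014 : act 6 n7227 = n5125 := d19_2 F15004 D7227 (iv F15003)
def n7228 : Q := act 5 n4693
theorem D7228 : act 5 n4693 = n7228 := rfl
theorem F15015 : act 1 n7228 = n7228 := d9_1 D7228 (iv D7228) F14597
theorem F15016 : act 2 n7228 = n4695 := d13_1 D7228 (iv D4695) D4693
def n7229 : Q := act 5 n4694
theorem D7229 : act 5 n4694 = n7229 := rfl
theorem F15017 : act 0 n7229 = n6532 := d4_1 D7229 (iv F14591) (iv F13971)
theorem F15018 : act 1 n7229 = n6538 := d9_1 D7229 F14914 F14910
theorem F15019 : act 3 n7229 = n6333 := d16_1 D7229 F14236 (iv D4740) F4311 (iv F8440)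
theorem F15020 : act 4 n7229 = n4695 := d18_1 D7229 (iv D4695) D4694
theorem F15021 : act 6 n7229 = n6532 := d20_2 (iv F13972) D7229 (iv F14591) F8439 D4695 (iv F14270) (iv D5127)
def n7230 : Q := act 4 n4701
theorem D7230 : act 4 n4701 = n7230 := rfl
theorem F15022 : act 5 n7230 = n4703 := d18_2 (iv F8443) D7230 (iv D4703)
theorem F15023 : act 6 n6009 = n7230 := d21_3 F8443 D4704 F14529 (iv D7230)
def n7231 : Q := act 6 n4701
theorem D7231 : act 6 n4701 = n7231 := rfl
theorem F15024 : act 4 n7231 = n6009 := d19_1 D7231 F15023 (iv D7230)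
def n7232 : Q := act 6 n4702
theorem D7232 : act 6 n4702 = n7232 := rfl
theorem F15025 : act 1 n7232 = n6581 := d10_1 D7232 F14707 (iv F14578)
theorem F15026 : act 2 n7232 = n4704 := d14_1 D7232 (iv D4704) D4702
theorem F15027 : act 3 n7232 = n6012 := d17_1 D7232 F14386 D6573 (iv F14527) F14507
theorem F15028 : act 4 n7232 = n6581 := d19_1 D7232 F14707 (iv F14279)
def n7233 : Q := act 6 n4703
theorem D7233 : act 6 n4703 = n7233 := rfl
theorem F15029 : act 2 n7233 = n6581 := d14_1 D7233 F14707 F14278
theorem F15030 : act 3 n7233 = n6207 := d17_1 D7233 (iv D6207) (iv F14263) (iv F13839) (iv F8444)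
theorem F15031 : act 4 n7233 = n4704 := d19_1 D7233 (iv D4704) D4703
theorem F15032 : act 5 n7233 = n7231 := d20_1 D7233 (iv D7231) F8443 D4704 F14529 F15023 F15022
def n7234 : Q := act 2 n4705
theorem D7234 : act 2 n4705 = n7234 := rfl
theorem F15033 : act 0 n7234 = n7219 := d1_1 D7234 (iv D7219) (iv F8446)
theorem F15034 : act 1 n7234 = n7234 := d6_1 D7234 (iv D7234) F8447 F4292 (iv F8447)
theorem F15035 : act 5 n7234 = n7219 := d13_2 (iv F8498) D7234 (iv D7219)
theorem F15036 : act 3 n7234 = n7219 := d23_1 D7234 (iv D7219) (iv D4668) (iv F8341) D7192 F14947 (iv D7192) F8341 D4668 (iv F8446)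
def n7235 : Q := act 6 n4705
theorem D7235 : act 6 n4705 = n7235 := rfl
theorem F15037 : act 0 n7235 = n7220 := d5_1 D7235 (iv D7220) (iv F8446)
theorem F15038 : act 1 n7235 = n4709 := d10_1 D7235 (iv D4709) (iv F8447)
theorem F15039 : act 3 n7235 = n6547 := d17_1 D7235 (iv F11399) F14205 (iv D4707) D4705
theorem F15040 : act 5 n7235 = n6549 := d21_2 (iv F8498) D7235 (iv F14684) F9059
def n7236 : Q := act 4 n4718
theorem D7236 : act 4 n4718 = n7236 := rfl
theorem F15041 : act 0 n7236 = n7230 := d3_1 D7236 (iv D7230) F13973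
theorem F15042 : act 2 n7236 = n6147 := d12_1 D7236 (iv D6147) (iv F14514)
theorem F15043 : act 3 n7236 = n6002 := d15_1 D7236 F10598 F13845 (iv F13738) D4718
theorem F15044 : act 5 n7236 = n5135 := d18_2 (iv F13926) D7236 (iv D5135)
theorem F15045 : act 6 n6004 = n7236 := d21_3 F13926 D5136 F14533 (iv D7236)
def n7237 : Q := act 6 n4718
theorem D7237 : act 6 n4718 = n7237 := rfl
theorem F15046 : act 0 n7237 = n7231 := d5_1 D7237 (iv D7231) F13973
theorem F15047 : act 2 n7237 = n6149 := d14_1 D7237 (iv D6149) (iv F14514)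
theorem F15048 : act 3 n7237 = n5957 := d17_1 D7237 (iv D5957) F13832 (iv F4298) D4718
theorem F15049 : act 4 n7237 = n6004 := d19_1 D7237 F15045 (iv D7236)
def n7238 : Q := act 2 n4726
theorem D7238 : act 2 n4726 = n7238 := rfl
theorem F15050 : act 1 n7238 = n7238 := d6_1 D7238 (iv D7238) F8476 F13685 (iv F8476)
theorem F15051 : act 4 n7238 = n7234 := d12_2 (iv F13890) D7238 (iv D7234)
def n7239 : Q := act 6 n4726
theorem D7239 : act 6 n4726 = n7239 := rfl
theorem F15052 : act 0 n7239 = n6549 := d5_1 D7239 (iv F14684) (iv F13889)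
theorem F15053 : act 1 n7239 = n4732 := d10_1 D7239 (iv D4732) (iv F8476)
theorem F15054 : act 3 n7239 = n6523 := d17_1 D7239 (iv F14302) F14683 F8442 D4726
theorem F15055 : act 4 n7239 = n7235 := d19_1 D7239 (iv D7235) (iv F13890)
theorem F15056 : act 5 n7239 = n7220 := d20_1 D7239 (iv D7220) (iv F8498) D7235 F15040 (iv F14684) (iv F13891)
def n7240 : Q := act 6 n4736
theorem D7240 : act 6 n4736 = n7240 := rfl
theorem F15057 : act 0 n7240 = n5957 := d5_1 D7240 (iv D5957) F13924
theorem F15058 : act 2 n7240 = n6429 := d14_1 D7240 (iv F14698) (iv F14702)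
theorem F15059 : act 3 n7240 = n7231 := d17_1 D7240 (iv D7231) (iv D4701) (iv F4306) D4736
theorem F15060 : act 4 n7240 = n5724 := d19_1 D7240 (iv D5724) F13895
theorem F15061 : act 5 n7240 = n5373 := d20_1 D7240 (iv D5373) F14005 D5724 F14535 (iv D5124) (iv F13979)
def n7241 : Q := act 4 n4740
theorem D7241 : act 4 n4740 = n7241 := rfl
theorem F15062 : act 0 n7241 = n6002 := d3_1 D7241 F10598 F13844
theorem F15063 : act 1 n7241 = n6558 := d8_1 D7241 (iv F14924) F14920
theorem F15064 : act 2 n7241 = n6608 := d12_1 D7241 (iv F14369) F10809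
theorem F15065 : act 3 n7241 = n7230 := d15_1 D7241 (iv D7230) (iv D4701) (iv F4310) D4740
theorem F15066 : act 5 n7241 = n6556 := d18_2 F14236 D7241 (iv F14374)
theorem F15067 : act 6 n7241 = n5738 := d19_2 F13902 D7241 F10168
def n7242 : Q := act 3 n5068
theorem D7242 : act 3 n5068 = n7242 := rfl
theorem F15068 : act 0 n7242 = n5069 := d2_1 D7242 (iv D5069) D5068
theorem F15069 : act 1 n7242 = n5076 := d7_1 D7242 (iv F14725) (iv F9010)
theorem F15070 : act 6 n7242 = n5069 := d17_2 (iv F14829) D7242 (iv D5069) D5072 (iv F14828)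
def n7243 : Q := act 5 n5068
theorem D7243 : act 5 n5068 = n7243 := rfl
theorem F15071 : act 0 n7243 = n5071 := d4_1 D7243 (iv D5071) D5068
theorem F15072 : act 1 n7243 = n6029 := d9_1 D7243 F14618 (iv F9010)
theorem F15073 : act 2 n7243 = n5100 := d13_1 D7243 (iv D5100) (iv F9011)
theorem F15074 : act 4 n7243 = n7156 := d18_1 D7243 (iv F14834) F9012
theorem F15075 : act 6 n7243 = n6076 := d20_2 (iv F14829) D7243 F14899 (iv D7180) F14834 (iv D7156) D7155
theorem F15076 : act 3 n7243 = n6028 := d24_2 (iv F14829) D7243 F13406 (iv F13564) (iv F13986) (iv D5107) (iv F9020) (iv D5072) D5071 F14605 F5367 (iv F13392) D2943 (iv F13981) (iv F14827)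
def n7244 : Q := act 2 n5069
theorem D7244 : act 2 n5069 = n7244 := rfl
theorem F15077 : act 4 n7244 = n7242 := d22_9 F15068 F9013 D5073 F14728 F14775 F14727 F8375 (iv F9013) D7244
def n7245 : Q := act 4 n5069
theorem D7245 : act 4 n5069 = n7245 := rfl
theorem F15078 : act 0 n7245 = n7244 := d3_1 D7245 F15077 F15068
theorem F15079 : act 1 n7245 = n5074 := d8_1 D7245 (iv D5074) (iv F9013)
theorem F15080 : act 2 n7245 = n7242 := d12_1 D7245 (iv F15077) (iv D7244)
theorem F15081 : act 3 n7245 = n7199 := d15_1 D7245 F14939 F14628 (iv D5070) D5069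
theorem F15082 : act 6 n7245 = n7244 := d19_2 F15070 D7245 F15077
def n7246 : Q := act 5 n5069
theorem D7246 : act 5 n5069 = n7246 := rfl
theorem F15083 : act 1 n7246 = n5075 := d9_1 D7246 (iv D5075) (iv F9013)
theorem F15084 : act 3 n7246 = n6051 := d16_1 D7246 (iv D6051) (iv F14605) (iv D5071) D5069
theorem F15085 : act 2 n6387 = n7200 := d24_11 F15070 D7246 F15084 F10665 (iv F5383) (iv D3097) (iv F2742) (iv F5597) (iv D3270) D3269 D6387 (iv D7200) D7199 (iv F15081) F15080
theorem F15086 : act 4 n7197 = n6387 := d12_0 F15085 F14940 (iv F14937)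
theorem F15087 : act 6 n7195 = n6387 := d14_0 F15085 (iv D7200) (iv F14935)
def n7247 : Q := act 6 n5070
theorem D7247 : act 6 n5070 = n7247 := rfl
theorem F15088 : act 0 n7247 = n7180 := d5_1 D7247 (iv D7180) (iv F9014)
theorem F15089 : act 1 n7247 = n5079 := d10_1 D7247 (iv D5079) (iv F9015)
theorem F15090 : act 2 n7247 = n5104 := d14_1 D7247 (iv D5104) (iv F9016)
theorem F15091 : act 4 n7247 = n5072 := d19_1 D7247 (iv D5072) D5070
def n7248 : Q := act 6 n5071
theorem D7248 : act 6 n5071 = n7248 := rfl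
theorem F15092 : act 0 n7248 = n6076 := d5_1 D7248 (iv F15075) F15071
theorem F15093 : act 1 n7248 = n5081 := d10_1 D7248 (iv D5081) (iv F9017)
theorem F15094 : act 2 n7248 = n5106 := d14_1 D7248 (iv D5106) (iv F9018)
theorem F15095 : act 3 n7248 = n6038 := d17_1 D7248 (iv F14632) (iv D5758) (iv F13403) (iv F14605)
theorem F15096 : act 4 n7248 = n7152 := d19_1 D7248 F14811 F14631
theorem F15097 : act 5 n7248 = n7247 := d20_1 D7248 (iv D7247) F14629 (iv F14811) (iv F14813) (iv D5072) D5071
def n7249 : Q := act 1 n5073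
theorem D7249 : act 1 n5073 = n7249 := rfl
def n7250 : Q := act 4 n5073
theorem D7250 : act 4 n5073 = n7250 := rfl
theorem F15098 : act 2 n7250 = n5074 := d12_1 D7250 (iv D5074) D5073
def n7251 : Q := act 5 n5073
theorem D7251 : act 5 n5073 = n7251 := rfl
theorem F15099 : act 0 n7251 = n5973 := d4_1 D7251 F14717 (iv F14728)
theorem F15100 : act 2 n7251 = n5075 := d13_1 D7251 (iv D5075) D5073
theorem F15101 : act 3 n5968 = n7251 := d23_1 D5968 F15100 F14608 F10671 F14298 (iv D3152) (iv D1544) F1342 D1496 (iv F5316)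
def n7252 : Q := act 6 n5073
theorem D7252 : act 6 n5073 = n7252 := rfl
theorem F15102 : act 0 n7252 = n7204 := d5_1 D7252 F14945 (iv F14728)
theorem F15103 : act 2 n7252 = n5076 := d14_1 D7252 (iv D5076) D5073
theorem F15104 : act 1 n7250 = n7252 := d6_5 F15103 (iv F15069) (iv F15080) F15079 (iv F15098)
theorem F15105 : act 4 n7252 = n7249 := d8_2 D7250 F15104 (iv D7249)
theorem F15106 : act 6 n7249 = n7250 := d10_0 F15104 (iv D7252) D7249
def n7253 : Q := act 3 n5074
theorem D7253 : act 3 n5074 = n7253 := rfl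
theorem F15107 : act 1 n7253 = n7199 := d7_1 D7253 (iv F15081) F15079
theorem F15108 : act 4 n7253 = n5077 := d15_2 D5074 D7253 (iv D5077) (iv D2595) D2594
theorem F15109 : act 5 n7190 = n7253 := d18_0 F15108 (iv F14626) D7190
def n7254 : Q := act 5 n5074
theorem D7254 : act 5 n5074 = n7254 := rfl
theorem F15110 : act 4 n7254 = n5075 := d18_1 D7254 (iv D5075) D5074
def n7255 : Q := act 6 n5074
theorem D7255 : act 6 n5074 = n7255 := rfl
theorem F15111 : act 0 n7255 = n7198 := d5_1 D7255 (iv F14979) F14978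
theorem F15112 : act 1 n7255 = n7244 := d10_1 D7255 (iv F15082) F15079
theorem F15113 : act 2 n7255 = n7249 := d14_1 D7255 F15106 F15098
theorem F15114 : act 4 n7255 = n5076 := d19_1 D7255 (iv D5076) D5074
theorem F15115 : act 3 n7181 = n7255 := d15_5 F15114 (iv F14725) (iv D4609) D4608 D7181
def n7256 : Q := act 6 n5075
theorem D7256 : act 6 n5075 = n7256 := rfl
theorem F15116 : act 5 n7256 = n7255 := d21_2 D5075 D7256 (iv D7255) (iv D5074)
def n7257 : Q := act 5 n5076
theorem D7257 : act 5 n5076 = n7257 := rfl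
theorem F15117 : act 0 n7257 = n6053 := d4_1 D7257 F14620 (iv F14726)
theorem F15118 : act 3 n7257 = n6031 := d16_1 D7257 (iv D6031) D6029 F14618 F14725
theorem F15119 : act 4 n7257 = n7256 := d18_1 D7257 F15116 F15114
theorem F15120 : act 6 n7257 = n7254 := d20_2 D5076 D7257 (iv D7254) D7255 (iv F15116) (iv D7256) (iv D5075)
def n7258 : Q := act 2 n5077
theorem D7258 : act 2 n5077 = n7258 := rfl
theorem F15121 : act 5 n7258 = n7189 := d13_2 F14626 D7258 (iv D7189)
def n7259 : Q := act 6 n5077
theorem D7259 : act 6 n5077 = n7259 := rfl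
theorem F15122 : act 1 n7259 = n7201 := d10_1 D7259 (iv D7201) (iv F14627)
def n7260 : Q := act 6 n5084
theorem D7260 : act 6 n5084 = n7260 := rfl
theorem F15123 : act 1 n7260 = n5124 := d10_1 D7260 (iv D5124) (iv F9030)
def n7261 : Q := act 4 n5090
theorem D7261 : act 4 n5090 = n7261 := rfl
theorem F15124 : act 1 n7261 = n5135 := d8_1 D7261 (iv D5135) (iv F9039)
theorem F15125 : act 3 n7261 = n6177 := d15_1 D7261 F10835 F13865 (iv F4580) D5090
def n7262 : Q := act 6 n5090
theorem D7262 : act 6 n5090 = n7262 := rfl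
theorem F15126 : act 1 n7262 = n5136 := d10_1 D7262 (iv D5136) (iv F9039)
theorem F15127 : act 3 n7262 = n7260 := d17_1 D7262 (iv D7260) (iv D5084) (iv F4581) D5090
def n7263 : Q := act 3 n5100
theorem D7263 : act 3 n5100 = n7263 := rfl
theorem F15128 : act 0 n7263 = n5105 := d2_1 D7263 (iv D5105) (iv F9056)
theorem F15129 : act 1 n7263 = n5112 := d7_1 D7263 (iv F13978) F13977
theorem F15130 : act 4 n7263 = n5105 := d15_2 F13976 D7263 (iv D5105) (iv F9061) (iv F13975)
theorem F15131 : act 5 n7263 = n7218 := d16_2 D5100 D7263 (iv D7218) (iv D4666) (iv F4586)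
def n7264 : Q := act 2 n5102
theorem D7264 : act 2 n5102 = n7264 := rfl
theorem F15132 : act 0 n7264 = n7238 := d1_1 D7264 (iv D7238) F13889
theorem F15133 : act 1 n7264 = n7264 := d6_1 D7264 (iv D7264) F9058 F4614 (iv F9058)
theorem F15134 : act 4 n7264 = n7219 := d12_2 (iv F9059) D7264 (iv D7219)
theorem F15135 : act 5 n7264 = n7238 := d13_2 F13891 D7264 (iv D7238)
def n7265 : Q := act 2 n5105
theorem D7265 : act 2 n5105 = n7265 := rfl
theorem F15136 : act 5 n7265 = n7221 := d13_2 (iv F9065) D7265 (iv D7221)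
theorem F15137 : act 3 n7265 = n7191 := d23_1 D7265 (iv F14931) (iv D6384) F5595 (iv F5359) (iv F13406) (iv F15076) F15073 D7263 F15128
theorem F15138 : act 1 n7202 = n7265 := d7_3 F15137 F14930 D7202
theorem F15139 : act 6 n7193 = n7265 := d17_0 F15137 (iv D7191) (iv D4621) D4624 D7193
def n7266 : Q := act 6 n5105
theorem D7266 : act 6 n5105 = n7266 := rfl
theorem F15140 : act 1 n7266 = n5113 := d10_1 D7266 (iv D5113) (iv F9064)
theorem F15141 : act 2 n7266 = n7193 := d14_1 D7266 F15139 (iv D7265)
theorem F15142 : act 3 n7266 = n6570 := d17_1 D7266 (iv F14086) F14689 (iv D5106) D5105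
def n7267 : Q := act 2 n5107
theorem D7267 : act 2 n5107 = n7267 := rfl
theorem F15143 : act 0 n7267 = n5760 := d1_1 D7267 F10213 (iv F13984)
theorem F15144 : act 5 n7267 = n5753 := d13_2 (iv F13986) D7267 (iv D5753)
theorem F15145 : act 6 n7267 = n6031 := d14_2 (iv F13987) D7267 F10629
def n7268 : Q := act 1 n5111
theorem D7268 : act 1 n5111 = n7268 := rfl
theorem F15146 : act 2 n7268 = n7202 := d6_2 D5111 D7268 F15138 (iv D7265) F9064
theorem F15147 : act 3 n7268 = n6244 := d7_2 (iv F14002) D7268 (iv D6244)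
theorem F15148 : act 5 n7268 = n6364 := d9_2 (iv F14003) D7268 F11090
theorem F15149 : act 0 n6364 = n7268 := d2_3 F15147 F13593 D6364
theorem F15150 : act 6 n7205 = n7268 := d14_0 F15146 F14942 D7205
def n7269 : Q := act 4 n5111
theorem D7269 : act 4 n5111 = n7269 := rfl
theorem F15151 : act 0 n7269 = n6368 := d3_1 D7269 (iv D6368) (iv F14001)
theorem F15152 : act 2 n7269 = n5112 := d12_1 D7269 (iv D5112) D5111
theorem F15153 : act 5 n7269 = n6368 := d18_2 (iv F14003) D7269 (iv D6368)
def n7270 : Q := act 6 n5111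
theorem D7270 : act 6 n5111 = n7270 := rfl
theorem F15154 : act 0 n7270 = n6370 := d5_1 D7270 (iv D6370) (iv F14001)
theorem F15155 : act 1 n7270 = n7205 := d10_1 D7270 F15150 (iv D7268)
theorem F15156 : act 2 n7270 = n5113 := d14_1 D7270 (iv D5113) D5111
def n7271 : Q := act 1 n5123
theorem D7271 : act 1 n5123 = n7271 := rfl
theorem F15157 : act 0 n7271 = n5962 := d0_1 D7271 F10547 F14118 (iv F10392) (iv F14488) F10390 F9191
theorem F15158 : act 3 n7271 = n5684 := d7_2 (iv F9193) D7271 F10039
def n7272 : Q := act 6 n5123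
theorem D7272 : act 6 n5123 = n7272 := rfl
theorem F15159 : act 0 n7272 = n5897 := d5_1 D7272 (iv D5897) F9191
theorem F15160 : act 2 n7272 = n5124 := d14_1 D7272 (iv D5124) D5123
theorem F15161 : act 3 n7272 = n5705 := d17_1 D7272 (iv D5705) F13498 F5078 (iv F9193)
theorem F15162 : act 4 n7272 = n6425 := d19_1 D7272 F14705 F9576
theorem F15163 : act 5 n7272 = n5966 := d20_1 D7272 (iv D5966) (iv F14046) (iv F14705) (iv F14703) (iv F14698) F14701
def n7273 : Q := act 3 n5125
theorem D7273 : act 3 n5125 = n7273 := rfl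
theorem F15164 : act 0 n7273 = n7226 := d2_1 D7273 (iv D7226) (iv F9105)
theorem F15165 : act 1 n7273 = n7273 := d7_1 D7273 (iv D7273) F14600
theorem F15166 : act 2 n7273 = n5651 := d11_1 D7273 (iv D5651) F14357 D5634 F14359 F14171 F4277 D2404 D4693 D7226 F15008 (iv D5653) (iv F14340) F14341 F5756 F14162 F4596 D2622 D5125
theorem F15167 : act 4 n7273 = n7273 := d15_2 F15003 D7273 (iv D7273) (iv F15003) F15005
theorem F15168 : act 6 n7273 = n7273 := d17_2 F15014 D7273 (iv D7273) (iv F15014) F15013
theorem F15169 : act 5 n7226 = n7273 := d24_1 F15007 (iv D7273) (iv D5125) (iv F13972) D7229 F15019 (iv D6333) (iv F11056) F14253 (iv D5641) F5031 F13695 (iv F13688) D5653 (iv F15008)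
def n7274 : Q := act 5 n5125
theorem D7274 : act 5 n5125 = n7274 := rfl
theorem F15170 : act 0 n7274 = n7228 := d4_1 D7274 (iv D7228) (iv F9105)
theorem F15171 : act 1 n7274 = n7274 := d9_1 D7274 (iv D7274) F14600
theorem F15172 : act 2 n7274 = n5127 := d13_1 D7274 (iv D5127) D5125
theorem F15173 : act 3 n7274 = n7228 := d16_1 D7274 (iv D7228) D7226 F15169 (iv D7273)
theorem F15174 : act 6 n7274 = n7228 := d21_1 D7274 (iv D7228) (iv F15004) F15003
def n7275 : Q := act 4 n5134
theorem D7275 : act 4 n5134 = n7275 := rfl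
theorem F15175 : act 0 n7275 = n6023 := d3_1 D7275 (iv F14279) (iv F9120)
theorem F15176 : act 1 n7275 = n6147 := d8_1 D7275 (iv D6147) (iv F14510)
theorem F15177 : act 2 n7275 = n5135 := d12_1 D7275 (iv D5135) D5134
theorem F15178 : act 3 n7275 = n5749 := d15_1 D7275 F10189 D5801 (iv F14508) (iv F14511)
theorem F15179 : act 5 n7275 = n6147 := d18_2 (iv F14512) D7275 (iv D6147)
def n7276 : Q := act 6 n5134
theorem D7276 : act 6 n5134 = n7276 := rfl
theorem F15180 : act 0 n7276 = n7232 := d5_1 D7276 (iv D7232) (iv F9120)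
theorem F15181 : act 1 n7276 = n6149 := d10_1 D7276 (iv D6149) (iv F14510)
theorem F15182 : act 2 n7276 = n5136 := d14_1 D7276 (iv D5136) D5134
theorem F15183 : act 3 n7276 = n6609 := d17_1 D7276 (iv D6609) (iv F14064) F10619 (iv F14511)
def n7277 : Q := act 6 n5135
theorem D7277 : act 6 n5135 = n7277 := rfl
theorem F15184 : act 0 n7277 = n7233 := d5_1 D7277 (iv D7233) (iv F9121)
theorem F15185 : act 3 n7277 = n6196 := d17_1 D7277 (iv D6196) (iv D3162) D3164 (iv F14099)
theorem F15186 : act 4 n7277 = n5136 := d19_1 D7277 (iv D5136) D5135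
theorem F15187 : act 5 n7277 = n7237 := d20_1 D7277 (iv D7237) F13926 D5136 F14533 F15045 F15044
def n7278 : Q := act 2 n5311
theorem D7278 : act 2 n5311 = n7278 := rfl
theorem F15188 : act 0 n7278 = n6151 := d1_1 D7278 (iv D6151) (iv F13930)
theorem F15189 : act 3 n7278 = n6151 := d23_1 D7278 (iv D6151) (iv D3143) F2681 F13697 F13883 (iv F13697) (iv F2681) D3143 (iv F13930)
def n7279 : Q := act 5 n5311
theorem D7279 : act 5 n5311 = n7279 := rfl
theorem F15190 : act 0 n7279 = n6153 := d4_1 D7279 (iv D6153) (iv F13930)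
theorem F15191 : act 1 n7279 = n6014 := d9_1 D7279 F10606 (iv F13931)
theorem F15192 : act 3 n7279 = n5984 := d16_1 D7279 (iv D5984) (iv D3058) F13934 D5311
theorem F15193 : act 6 n7279 = n6153 := d21_1 D7279 (iv D6153) D6154 (iv F14708)
def n7280 : Q := act 6 n5316
theorem D7280 : act 6 n5316 = n7280 := rfl
theorem F15194 : act 0 n7280 = n5950 := d5_1 D7280 (iv D5950) (iv F13935)
theorem F15195 : act 1 n7280 = n5373 := d10_1 D7280 (iv D5373) (iv F9472)
theorem F15196 : act 3 n7280 = n5971 := d17_1 D7280 (iv D5971) (iv D3052) F13748 D5316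
theorem F15197 : act 4 n7280 = n7260 := d19_1 D7280 (iv D7260) (iv F9473)
def n7281 : Q := act 1 n5372
theorem D7281 : act 1 n5372 = n7281 := rfl
theorem F15198 : act 3 n7281 = n6221 := d7_2 F9577 D7281 F10881
theorem F15199 : act 4 n7281 = n7271 := d8_2 (iv F9576) D7281 (iv D7271)
theorem F15200 : act 5 n7281 = n5962 := d9_2 (iv F14046) D7281 F10547
def n7282 : Q := act 1 n5389
theorem D7282 : act 1 n5389 = n7282 := rfl
theorem F15201 : act 2 n7282 = n7282 := d6_2 D5389 D7282 (iv D7282) (iv D5389) F13903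
theorem F15202 : act 3 n7282 = n6193 := d7_2 (iv F9599) D7282 F14366
theorem F15203 : act 6 n7282 = n5791 := d10_2 (iv F13904) D7282 (iv D5791)
def n7283 : Q := act 5 n5617
theorem D7283 : act 5 n5617 = n7283 := rfl
theorem F15204 : act 0 n7283 = n7283 := d4_1 D7283 (iv D7283) F14798
theorem F15205 : act 1 n7283 = n5653 := d9_1 D7283 (iv F14791) F14586
theorem F15206 : act 2 n7283 = n7283 := d13_1 D7283 (iv D7283) F14799
theorem F15207 : act 3 n7283 = n5624 := d16_1 D7283 (iv F13603) F13600 F14396 D5617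
theorem F15208 : act 4 n7283 = n7283 := d18_1 D7283 (iv D7283) F14583
theorem F15209 : act 6 n7283 = n7283 := d21_1 D7283 (iv D7283) F14580 F14583
def n7284 : Q := act 5 n5638
theorem D7284 : act 5 n5638 = n7284 := rfl
theorem F15210 : act 0 n7284 = n6188 := d4_1 D7284 (iv D6188) (iv F9982)
theorem F15211 : act 1 n7284 = n6322 := d9_1 D7284 (iv F11054) (iv F14536)
theorem F15212 : act 2 n7284 = n5808 := d13_1 D7284 (iv D5808) (iv F9983)
theorem F15213 : act 4 n7284 = n5639 := d18_1 D7284 (iv D5639) D5638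
theorem F15214 : act 6 n7284 = n6311 := d20_2 (iv F14561) D7284 F14556 F13837 D5639 F14567 D6312
def n7285 : Q := act 2 n5683
theorem D7285 : act 2 n5683 = n7285 := rfl
theorem F15215 : act 0 n7285 = n6218 := d1_1 D7285 F10878 (iv F10036)
theorem F15216 : act 1 n7285 = n5697 := d6_1 D7285 F14452 F10064 (iv D5695) (iv F10037)
theorem F15217 : act 4 n7285 = n5689 := d12_2 (iv F10038) D7285 (iv D5689)
theorem F15218 : act 3 n7285 = n6218 := d23_1 D7285 F10878 F14165 (iv D2898) (iv D1415) F1251 D1415 D2898 (iv F14165) (iv F10036)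
theorem F15219 : act 6 n5683 = n7285 := d17_0 F15218 F14434 F14165 (iv F14164) D5683
def n7286 : Q := act 5 n5683
theorem D7286 : act 5 n5683 = n7286 := rfl
theorem F15220 : act 0 n7286 = n6221 := d4_1 D7286 (iv D6221) (iv F10036)
theorem F15221 : act 1 n7286 = n5696 := d9_1 D7286 (iv D5696) (iv F10037)
theorem F15222 : act 4 n7286 = n5690 := d18_1 D7286 (iv D5690) (iv F10038)
theorem F15223 : act 6 n7286 = n6414 := d21_1 D7286 F14484 F14426 (iv F10038)
def n7287 : Q := act 6 n5690
theorem D7287 : act 6 n5690 = n7287 := rfl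
theorem F15224 : act 0 n7287 = n6223 := d5_1 D7287 (iv D6223) (iv F10053)
theorem F15225 : act 1 n7287 = n5705 := d10_1 D7287 (iv D5705) (iv F10054)
theorem F15226 : act 2 n7287 = n7286 := d14_1 D7287 F15223 F14476
theorem F15227 : act 4 n7287 = n6414 := d19_1 D7287 (iv F15223) F15222
theorem F15228 : act 5 n7287 = n7285 := d20_1 D7287 (iv F15219) D7286 F15223 F14484 F14426 D5690
def n7288 : Q := act 2 n5692
theorem D7288 : act 2 n5692 = n7288 := rfl
theorem F15229 : act 0 n7288 = n6226 := d1_1 D7288 (iv D6226) (iv F10058)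
theorem F15230 : act 4 n7288 = n6226 := d12_2 (iv F13698) D7288 (iv D6226)
def n7289 : Q := act 5 n5692
theorem D7289 : act 5 n5692 = n7289 := rfl
theorem F15231 : act 0 n7289 = n6228 := d4_1 D7289 (iv D6228) (iv F10058)
theorem F15232 : act 1 n7289 = n5710 := d9_1 D7289 (iv D5710) (iv F10059)
theorem F15233 : act 3 n7289 = n6228 := d16_1 D7289 (iv D6228) (iv D3178) (iv F5061) D5692
theorem F15234 : act 4 n7289 = n6228 := d18_1 D7289 (iv D6228) (iv F13698)
theorem F15235 : act 6 n7289 = n6404 := d20_2 F13648 D7289 (iv F14430) F14431 D6228 F13649 D6409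
def n7290 : Q := act 5 n5695
theorem D7290 : act 5 n5695 = n7290 := rfl
theorem F15236 : act 0 n7290 = n5893 := d4_1 D7290 (iv D5893) (iv F10062)
theorem F15237 : act 1 n7290 = n6308 := d9_1 D7290 (iv D6308) F10064
theorem F15238 : act 2 n7290 = n5696 := d13_1 D7290 (iv D5696) D5695
theorem F15239 : act 4 n7290 = n5703 := d18_1 D7290 (iv D5703) (iv F10063)
theorem F15240 : act 6 n7290 = n6426 := d20_2 (iv F14419) D7290 F14478 F14456 D5703 F14480 (iv D6308)
theorem F15241 : act 3 n6330 = n7290 := d15_5 F15239 F10082 F5564 D3240 D6330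
def n7291 : Q := act 3 n5701
theorem D7291 : act 3 n5701 = n7291 := rfl
theorem F15242 : act 0 n7291 = n5913 := d2_1 D7291 (iv D5913) (iv F14454)
theorem F15243 : act 1 n7291 = n5702 := d7_1 D7291 (iv D5702) D5701
theorem F15244 : act 2 n7291 = n7291 := d11_1 D7291 (iv D7291) F14455 F13589 F5618 F13369 (iv F2825) (iv F13623) (iv F5272) D5913 F14500 (iv D5913) F5272 F13623 F2825 (iv F13369) (iv F5618) (iv F13589) (iv F14455)
theorem F15245 : act 4 n7291 = n7282 := d15_2 (iv F10074) D7291 F15202 F10854 F14389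
theorem F15246 : act 5 n7291 = n5913 := d16_2 F14478 D7291 (iv D5913) D5914 (iv F14477)
def n7292 : Q := act 6 n5719
theorem D7292 : act 6 n5719 = n7292 := rfl
theorem F15247 : act 1 n7292 = n5724 := d10_1 D7292 (iv D5724) (iv F10122)
theorem F15248 : act 3 n7292 = n5734 := d17_1 D7292 (iv D5734) (iv D2928) (iv F5095) D5719
theorem F15249 : act 5 n7292 = n7260 := d21_2 F13936 D7292 (iv D7260) (iv F9473)
theorem F15250 : act 2 n6495 = n7292 := d23_0 F15248 F14662 (iv D3567) (iv D1739) (iv D834) F752 D789 D1661 D3420 F13512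
theorem F15251 : act 0 n7292 = n6667 := d23_10 (iv D6667) (iv D3420) (iv D1661) (iv D789) (iv F752) D834 D1739 D3567 (iv F14662) (iv F15248)
theorem F15252 : act 6 n6495 = n6381 := d24_4 D5979 (iv F14077) (iv F15248) (iv F15250) F14644 (iv D6389) F5597 (iv D1595) D1594 D3273 D6393 (iv F14862) (iv D7164) (iv F14668) F10558
theorem F15253 : act 0 n6381 = n6670 := d5_1 F15252 (iv D6670) F13512
theorem F15254 : act 4 n6383 = n6495 := d19_3 F15252 (iv D6381) D6383
theorem F15255 : act 0 n6668 = n6383 := d3_3 F15254 (iv F13512) D6668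
theorem F15256 : act 6 n6066 = n6668 := d5_0 F15255 (iv D6383) (iv F10688)
theorem F15257 : act 2 n6668 = n7210 := d14_1 F15256 (iv D7210) (iv F14636)
theorem F15258 : act 4 n6670 = n6066 := d19_3 F15256 (iv D6668) D6670
theorem F15259 : act 2 n5949 = n6670 := d12_3 F15258 F14636 F14646
theorem F15260 : act 5 n6670 = n5947 := d13_2 D5949 F15259 (iv D5947)
theorem F15261 : act 6 n6667 = n5949 := d14_0 F15259 (iv D6670) D6667
theorem F15262 : act 1 n5958 = n6667 := d10_3 F15261 F10529 D5958
theorem F15263 : act 4 n7210 = n6667 := d19_3 F15261 (iv F14646) D7210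
def n7293 : Q := act 2 n5729
theorem D7293 : act 2 n5729 = n7293 := rfl
theorem F15264 : act 0 n7293 = n5731 := d1_1 D7293 (iv D5731) (iv F10146)
theorem F15265 : act 5 n7293 = n5968 := d13_2 (iv F14071) D7293 (iv D5968)
theorem F15266 : act 6 n7293 = n6794 := d24_4 D2298 (iv F13829) D5729 D7293 F14852 (iv D7162) F6752 (iv D1912) F13335 (iv D1048) (iv F1109) F13450 (iv F1075) D1138 F13676
def n7294 : Q := act 6 n5729
theorem D7294 : act 6 n5729 = n7294 := rfl
theorem F15267 : act 0 n7294 = n5734 := d5_1 D7294 (iv D5734) (iv F10146)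
theorem F15268 : act 1 n7294 = n5815 := d10_1 D7294 (iv D5815) (iv F10147)
theorem F15269 : act 2 n7294 = n6794 := d14_1 D7294 (iv F15266) (iv D7293)
theorem F15270 : act 3 n7294 = n6667 := d17_1 D7294 F15261 (iv F13815) (iv F13830) D5729
def n7295 : Q := act 4 n5731
theorem D7295 : act 4 n5731 = n7295 := rfl
theorem F15271 : act 1 n7295 = n7295 := d8_1 D7295 (iv D7295) F14661
theorem F15272 : act 2 n7295 = n5732 := d12_1 D7295 (iv D5732) D5731
theorem F15273 : act 5 n7295 = n5974 := d18_2 (iv F14072) D7295 (iv D5974)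
theorem F15274 : act 6 n7295 = n6919 := d19_2 (iv F14660) D7295 (iv D6919)
def n7296 : Q := act 3 n5732
theorem D7296 : act 3 n5732 = n7296 := rfl
theorem F15275 : act 0 n7296 = n5803 := d2_1 D7296 (iv F14268) F14272
theorem F15276 : act 1 n7296 = n5738 := d7_1 D7296 (iv D5738) (iv F10154)
theorem F15277 : act 4 n7296 = n5735 := d15_2 D5732 D7296 (iv D5735) (iv D2929) D2928
theorem F15278 : act 5 n7296 = n6544 := d16_2 (iv F14073) D7296 (iv D6544) (iv F14313) (iv D5977)
theorem F15279 : act 2 n7296 = n6060 := d24_3 (iv D5979) (iv F14073) D7296 F14190 (iv D3363) (iv D1634) (iv F1445) D1705 F2876 (iv F13381) (iv F3744) (iv F13442) (iv D3885) D3884 F14664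
theorem F15280 : act 6 n6558 = n7296 := d14_0 F15279 F14190 (iv F11387)
def n7297 : Q := act 5 n5738
theorem D7297 : act 5 n5738 = n7297 := rfl
theorem F15281 : act 0 n7297 = n6001 := d4_1 D7297 (iv D6001) (iv F10167)
theorem F15282 : act 1 n7297 = n6544 := d9_1 D7297 (iv F15278) F15276
theorem F15283 : act 2 n7297 = n6325 := d13_1 D7297 F14253 F14256
theorem F15284 : act 3 n7297 = n6001 := d16_1 D7297 (iv D6001) (iv D3066) F14123 D5738
theorem F15285 : act 4 n7297 = n5745 := d18_1 D7297 (iv D5745) (iv F10168)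
theorem F15286 : act 6 n7297 = n6333 := d20_2 F15067 D7297 F14236 (iv F13902) D5745 (iv F14524) (iv F15066)
def n7298 : Q := act 1 n5749
theorem D7298 : act 1 n5749 = n7298 := rfl
theorem F15287 : act 0 n7298 = n5791 := d0_1 D7298 (iv D5791) F5182 D3140 F10615 (iv D6022) (iv F10188)
theorem F15288 : act 2 n7298 = n7298 := d6_2 D5749 D7298 (iv D7298) (iv D5749) F5135
theorem F15289 : act 3 n7298 = n6147 := d7_2 F15178 D7298 (iv F15176)
theorem F15290 : act 4 n7298 = n5800 := d8_2 (iv F10189) D7298 (iv D5800)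
def n7299 : Q := act 3 n5760
theorem D7299 : act 3 n5760 = n7299 := rfl
theorem F15291 : act 1 n7299 = n6053 := d7_1 D7299 (iv D6053) (iv F13402)
theorem F15292 : act 5 n7299 = n7192 := d16_2 D5760 D7299 (iv D7192) (iv F14619) (iv D5758)
theorem F15293 : act 2 n7299 = n7299 := d23_2 (iv F10213) D7299 (iv D7299) F10213 (iv F13981) (iv F14827) F14828 F9020 D5107 F13984
def n7300 : Q := act 1 n5768
theorem D7300 : act 1 n5768 = n7300 := rfl
theorem F15294 : act 2 n7300 = n5780 := d6_2 D5768 D7300 (iv D5780) (iv D2954) (iv F5151)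
theorem F15295 : act 4 n7300 = n6375 := d8_2 (iv F13707) D7300 F13711
theorem F15296 : act 6 n7300 = n6377 := d10_2 (iv F13709) D7300 F11104
theorem F15297 : act 0 n6377 = n7300 := d22_0 (iv D7300) (iv D5768) F5150 F2710 D1564 F2713 D1597 (iv F5594) D6377
def n7301 : Q := act 3 n5768
theorem D7301 : act 3 n5768 = n7301 := rfl
theorem F15298 : act 0 n7301 = n6248 := d2_1 D7301 (iv D6248) (iv F10231)
def n7302 : Q := act 3 n5791
theorem D7302 : act 3 n5791 = n7302 := rfl
theorem F15299 : act 0 n7302 = n6147 := d2_1 D7302 (iv F15289) F15287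
theorem F15300 : act 1 n7302 = n5792 := d7_1 D7302 (iv D5792) D5791
theorem F15301 : act 5 n7302 = n6023 := d16_2 F10303 D7302 (iv D6023) (iv F5432) (iv F14502)
theorem F15302 : act 2 n7302 = n7230 := d23_2 F10283 D7302 (iv F15065) F15064 F11458 F14584 (iv F15043) F15042 (iv F15289) F15287
theorem F15303 : act 4 n5792 = n7302 := d12_0 F15302 (iv D7230) (iv F14515)
def n7303 : Q := act 4 n5791
theorem D7303 : act 4 n5791 = n7303 := rfl
theorem F15304 : act 0 n7303 = n5800 := d3_1 D7303 (iv F15290) F15287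
theorem F15305 : act 1 n7303 = n5793 := d8_1 D7303 (iv D5793) D5791
theorem F15306 : act 2 n7303 = n7303 := d12_1 D7303 (iv D7303) F10283
theorem F15307 : act 3 n7303 = n5793 := d15_1 D7303 (iv D5793) D5792 F15303 (iv D7302)
theorem F15308 : act 5 n7303 = n7298 := d18_2 F10303 D7303 F15290
theorem F15309 : act 6 n7303 = n7291 := d19_2 F15203 D7303 F15245
def n7304 : Q := act 6 n5792
theorem D7304 : act 6 n5792 = n7304 := rfl
theorem F15310 : act 0 n7304 = n6149 := d5_1 D7304 (iv D6149) (iv F10284)
theorem F15311 : act 2 n7304 = n7231 := d14_1 D7304 (iv D7231) (iv F14515)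
theorem F15312 : act 3 n7304 = n6492 := d17_1 D7304 (iv D6492) (iv F9599) F13904 D5792
theorem F15313 : act 5 n7304 = n6581 := d21_2 (iv F14513) D7304 F14707 (iv F14279)
def n7305 : Q := act 2 n5794
theorem D7305 : act 2 n5794 = n7305 := rfl
theorem F15314 : act 1 n7305 = n6582 := d6_1 D7305 (iv D6582) (iv F14370) (iv D5796) (iv F10288)
theorem F15315 : act 4 n7305 = n6151 := d12_2 (iv F14106) D7305 (iv D6151)
theorem F15316 : act 6 n7305 = n7278 := d14_2 F13932 D7305 (iv D7278)
def n7306 : Q := act 5 n5794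
theorem D7306 : act 5 n5794 = n7306 := rfl
theorem F15317 : act 1 n7306 = n5798 := d9_1 D7306 (iv D5798) (iv F10288)
theorem F15318 : act 3 n7306 = n5804 := d16_1 D7306 (iv D5804) (iv D2968) (iv F5188) D5794
theorem F15319 : act 4 n7306 = n6153 := d18_1 D7306 (iv D6153) (iv F14106)
def n7307 : Q := act 5 n5796
theorem D7307 : act 5 n5796 = n7307 := rfl
theorem F15320 : act 0 n7307 = n6158 := d4_1 D7307 (iv D6158) (iv F10295)
theorem F15321 : act 1 n7307 = n6232 := d9_1 D7307 F10901 (iv F14370)
theorem F15322 : act 2 n7307 = n5798 := d13_1 D7307 (iv D5798) D5796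
theorem F15323 : act 3 n7307 = n6229 := d16_1 D7307 (iv D6229) F5471 D3371 (iv F14371)
theorem F15324 : act 4 n7307 = n6158 := d18_1 D7307 (iv D6158) (iv F14107)
theorem F15325 : act 6 n7307 = n6317 := d21_1 D7307 F14565 (iv D6159) (iv F14107)
def n7308 : Q := act 5 n5803
theorem D7308 : act 5 n5803 = n7308 := rfl
theorem F15326 : act 0 n7308 = n6544 := d4_1 D7308 (iv F15278) F15275
theorem F15327 : act 1 n7308 = n5808 := d9_1 D7308 (iv D5808) (iv F10305)
theorem F15328 : act 2 n7308 = n6391 := d13_1 D7308 F14152 (iv F14576)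
theorem F15329 : act 3 n7308 = n6176 := d16_1 D7308 (iv D6176) (iv F10552) (iv F14273) F14268
theorem F15330 : act 4 n7308 = n5804 := d18_1 D7308 (iv D5804) D5803
theorem F15331 : act 6 n7308 = n6473 := d20_2 F14548 D7308 F14549 F13836 D5804 F14547 D6474
theorem F15332 : act 5 n7197 = n7301 := d24_9 F15331 F14549 (iv D4641) (iv F8350) (iv D4633) (iv D2373) D2371 D4625 D7197 (iv D7301) (iv D5768) F13572 D3271 D6391 (iv F15328)
theorem F15333 : act 2 n7301 = n7203 := d13_1 F15332 (iv D7203) (iv F14937)
def n7309 : Q := act 3 n5848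
theorem D7309 : act 3 n5848 = n7309 := rfl
theorem F15334 : act 0 n7309 = n6294 := d2_1 D7309 (iv D6294) (iv F10384)
theorem F15335 : act 1 n7309 = n5895 := d7_1 D7309 (iv D5895) (iv F10385)
theorem F15336 : act 4 n7309 = n5852 := d15_2 (iv F10386) D7309 (iv D5852) F13545 (iv F5248)
theorem F15337 : act 5 n7309 = n5850 := d16_2 D5848 D7309 (iv D5850) (iv D2987) D2986
def n7310 : Q := act 2 n5850
theorem D7310 : act 2 n5850 = n7310 := rfl
theorem F15338 : act 1 n7310 = n6066 := d6_1 D7310 F14636 F8364 (iv F9192) (iv F10390)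
theorem F15339 : act 3 n6065 = n7310 := d7_0 F15338 (iv D6066) D6065
def n7311 : Q := act 2 n5852
theorem D7311 : act 2 n5852 = n7311 := rfl
theorem F15340 : act 0 n7311 = n7310 := d1_1 D7311 (iv D7310) F14488
theorem F15341 : act 1 n7311 = n5947 := d6_1 D7311 (iv D5947) F5303 F14140 (iv F10392)
def n7312 : Q := act 3 n5862
theorem D7312 : act 3 n5862 = n7312 := rfl
theorem F15342 : act 0 n7312 = n6302 := d2_1 D7312 (iv D6302) (iv F10411)
theorem F15343 : act 1 n7312 = n7173 := d7_1 D7312 F14881 (iv F14499)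
theorem F15344 : act 2 n7312 = n7312 := d11_1 D7312 (iv D7312) (iv D5862) (iv D2995) F2603 (iv F13385) (iv F1369) D1574 D3226 D6302 F14802 (iv D6302) (iv D3226) (iv D1574) F1369 F13385 (iv F2603) D2995 D5862
theorem F15345 : act 6 n7312 = n6302 := d17_2 F14492 D7312 (iv D6302) (iv F11011) (iv F14489)
theorem F15346 : act 5 n7170 = n7312 := d9_0 F15343 (iv D7173) D7170
def n7313 : Q := act 5 n5862
theorem D7313 : act 5 n5862 = n7313 := rfl
theorem F15347 : act 0 n7313 = n6304 := d4_1 D7313 (iv D6304) (iv F10411)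
theorem F15348 : act 1 n7313 = n6673 := d9_1 D7313 (iv F11566) (iv F14499)
theorem F15349 : act 2 n7313 = n5864 := d13_1 D7313 (iv D5864) D5862
theorem F15350 : act 4 n7313 = n6304 := d18_1 D7313 (iv D6304) (iv F13700)
theorem F15351 : act 6 n7313 = n6662 := d20_2 F14492 D7313 F14491 F11011 D6304 F13663 D6665
def n7314 : Q := act 1 n5881
theorem D7314 : act 1 n5881 = n7314 := rfl
theorem F15352 : act 0 n7314 = n7282 := d0_1 D7314 (iv D7282) (iv F13927) D6025 F14063 F11416 (iv F10449)
theorem F15353 : act 2 n7314 = n7314 := d6_2 D5881 D7314 (iv D7314) (iv D5881) F14060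
theorem F15354 : act 3 n7314 = n6311 := d7_2 (iv F10452) D7314 F11029
theorem F15355 : act 4 n7314 = n5913 := d8_2 (iv F10450) D7314 F14457
theorem F15356 : act 5 n7314 = n7282 := d9_2 (iv F10451) D7314 (iv D7282)
theorem F15357 : act 6 n7314 = n7298 := d10_2 F14685 D7314 (iv D7298)
def n7315 : Q := act 3 n5893
theorem D7315 : act 3 n5893 = n7315 := rfl
theorem F15358 : act 0 n7315 = n6330 := d2_1 D7315 F15241 F15236
theorem F15359 : act 1 n7315 = n6158 := d7_1 D7315 F14237 (iv F14420)
theorem F15360 : act 4 n7315 = n6232 := d15_2 (iv F10462) D7315 (iv D6232) F10480 (iv D5911)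
theorem F15361 : act 5 n7315 = n6155 := d16_2 D5893 D7315 F14571 (iv D6590) F9554
theorem F15362 : act 6 n7315 = n6330 := d17_2 F10485 D7315 F15241 F15240 F14477
def n7316 : Q := act 4 n5947
theorem D7316 : act 4 n5947 = n7316 := rfl
theorem F15363 : act 0 n7316 = n6382 := d3_1 D7316 (iv F14643) F14612
theorem F15364 : act 2 n7316 = n5948 := d12_1 D7316 (iv D5948) D5947
theorem F15365 : act 5 n7316 = n6066 := d18_2 F15260 D7316 (iv F15258)
theorem F15366 : act 6 n6669 = n7316 := d21_3 (iv F15260) (iv D6670) D6669 (iv D7316)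
def n7317 : Q := act 6 n5947
theorem D7317 : act 6 n5947 = n7317 := rfl
theorem F15367 : act 2 n7317 = n5950 := d14_1 D7317 (iv D5950) D5947
theorem F15368 : act 3 n7317 = n6668 := d17_1 D7317 (iv F15256) (iv D6066) D6068 (iv F14610)
theorem F15369 : act 4 n7317 = n6669 := d19_1 D7317 F15366 (iv D7316)
theorem F15370 : act 5 n7317 = n6668 := d20_1 D7317 (iv F15256) (iv F15365) (iv F15366) (iv D6669) D6670 F15260
def n7318 : Q := act 6 n5948
theorem D7318 : act 6 n5948 = n7318 := rfl
theorem F15371 : act 0 n7318 = n7260 := d5_1 D7318 (iv D7260) F14648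
theorem F15372 : act 1 n7318 = n5957 := d10_1 D7318 (iv D5957) (iv F10527)
theorem F15373 : act 2 n7318 = n6669 := d14_1 D7318 F15366 F15364
theorem F15374 : act 4 n7318 = n5950 := d19_1 D7318 (iv D5950) D5948
theorem F15375 : act 5 n7318 = n6667 := d20_1 D7318 F15261 (iv D5949) D5950 (iv F14962) (iv D7210) (iv F14647)
def n7319 : Q := act 2 n5962
theorem D7319 : act 2 n5962 = n7319 := rfl
theorem F15376 : act 1 n7319 = n6381 := d6_1 D7319 (iv F14645) F10122 F13860 (iv F10547)
theorem F15377 : act 4 n6376 = n7319 := d8_0 F15376 (iv D6381) (iv F11103)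
def n7320 : Q := act 4 n5962
theorem D7320 : act 4 n5962 = n7320 := rfl
theorem F15378 : act 0 n7320 = n7281 := d3_1 D7320 F15199 F15157
theorem F15379 : act 1 n7320 = n5964 := d8_1 D7320 (iv D5964) (iv F10547)
theorem F15380 : act 2 n7320 = n6376 := d12_1 D7320 F15377 (iv D7319)
theorem F15381 : act 3 n7320 = n7286 := d15_1 D7320 F15222 F10055 (iv F14116) D5962
theorem F15382 : act 5 n7320 = n7271 := d18_2 F15200 D7320 (iv F15199)
def n7321 : Q := act 6 n5962
theorem D7321 : act 6 n5962 = n7321 := rfl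
theorem F15383 : act 1 n7321 = n5966 := d10_1 D7321 (iv D5966) (iv F10547)
theorem F15384 : act 3 n7321 = n6223 := d17_1 D7321 (iv D6223) F5468 (iv F14117) D5962
def n7322 : Q := act 1 n5968
theorem D7322 : act 1 n5968 = n7322 := rfl
theorem F15385 : act 2 n7322 = n6204 := d6_2 D5968 D7322 (iv D6204) (iv D3168) (iv F5317)
theorem F15386 : act 0 n7295 = n7322 := d22_0 (iv D7322) (iv D5968) F5316 F2634 F13499 (iv F2528) (iv F5118) D5731 D7295
theorem F15387 : act 4 n7322 = n7293 := d3_2 D7295 F15386 F15264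
def n7323 : Q := act 4 n5968
theorem D7323 : act 4 n5968 = n7323 := rfl
theorem F15388 : act 0 n7323 = n5974 := d3_1 D7323 (iv D5974) (iv F10549)
theorem F15389 : act 1 n7323 = n7293 := d8_1 D7323 (iv F15387) (iv D7322)
theorem F15390 : act 2 n7323 = n5969 := d12_1 D7323 (iv D5969) D5968
theorem F15391 : act 5 n7323 = n7322 := d18_2 F15265 D7323 F15387
theorem F15392 : act 6 n7162 = n7323 := d21_3 (iv F15265) F15266 F14852 (iv D7323)
theorem F15393 : act 3 n7323 = n7161 := d17_1 F15392 (iv D7161) (iv D3862) D3865 D7162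
def n7324 : Q := act 6 n5968
theorem D7324 : act 6 n5968 = n7324 := rfl
theorem F15394 : act 0 n7324 = n5976 := d5_1 D7324 (iv D5976) (iv F10549)
theorem F15395 : act 2 n7324 = n5971 := d14_1 D7324 (iv D5971) D5968
theorem F15396 : act 4 n7324 = n7162 := d19_1 D7324 F15392 (iv D7323)
def n7325 : Q := act 6 n5969
theorem D7325 : act 6 n5969 = n7325 := rfl
theorem F15397 : act 0 n7325 = n5979 := d5_1 D7325 (iv D5979) (iv F10550)
theorem F15398 : act 1 n7325 = n6196 := d10_1 D7325 (iv D6196) (iv F10551)
theorem F15399 : act 2 n7325 = n7162 := d14_1 D7325 F15392 F15390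
theorem F15400 : act 4 n7325 = n5971 := d19_1 D7325 (iv D5971) D5969
theorem F15401 : act 5 n7325 = n7294 := d21_2 F14273 D7325 (iv D7294) F14271
def n7326 : Q := act 5 n5971
theorem D7326 : act 5 n5971 = n7326 := rfl
theorem F15402 : act 0 n7326 = n5982 := d4_1 D7326 (iv D5982) (iv F10555)
theorem F15403 : act 1 n7326 = n6207 := d9_1 D7326 F14265 (iv F10556)
theorem F15404 : act 4 n7326 = n7294 := d18_1 D7326 (iv F15401) F15400
theorem F15405 : act 6 n7326 = n6204 := d20_2 D5971 D7326 F14273 D7325 F15401 (iv D7294) F14071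
def n7327 : Q := act 4 n5973
theorem D7327 : act 4 n5973 = n7327 := rfl
theorem F15406 : act 1 n7327 = n7327 := d8_1 D7327 (iv D7327) F14777
theorem F15407 : act 3 n7327 = n6401 := d15_1 D7327 (iv F14740) (iv F14668) (iv D5974) D5973
def n7328 : Q := act 6 n5973
theorem D7328 : act 6 n5973 = n7328 := rfl
theorem F15408 : act 1 n7328 = n7328 := d10_1 D7328 (iv D7328) F14777
theorem F15409 : act 3 n7328 = n7295 := d17_1 D7328 F15274 (iv F14674) (iv D5976) D5973
def n7329 : Q := act 3 n5979
theorem D7329 : act 3 n5979 = n7329 := rfl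
theorem F15410 : act 1 n7329 = n6004 := d7_1 D7329 (iv D6004) (iv F10566)
theorem F15411 : act 5 n7329 = n7262 := d16_2 F14077 D7329 F15127 (iv F15249) F15248
def n7330 : Q := act 3 n5982
theorem D7330 : act 3 n5982 = n7330 := rfl
theorem F15412 : act 1 n7330 = n6009 := d7_1 D7330 (iv D6009) (iv F10572)
theorem F15413 : act 5 n7330 = n7213 := d16_2 D5982 D7330 F14973 F14962 F10532
def n7331 : Q := act 2 n6004
theorem D7331 : act 2 n6004 = n7331 := rfl
theorem F15414 : act 4 n7331 = n6149 := d12_2 F15049 D7331 (iv F15047)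
theorem F15415 : act 5 n7331 = n7276 := d13_2 F14533 D7331 F15182
theorem F15416 : act 6 n7331 = n6147 := d14_2 (iv F15045) D7331 (iv F15042)
theorem F15417 : act 3 n7284 = n7331 := d17_5 F15416 (iv F15289) (iv F15357) F15354 (iv F15214)
def n7332 : Q := act 2 n6009
theorem D7332 : act 2 n6009 = n7332 := rfl
theorem F15418 : act 0 n7332 = n7331 := d1_1 D7332 (iv D7331) F14534
theorem F15419 : act 4 n7332 = n7304 := d12_2 F15024 D7332 F15311
theorem F15420 : act 5 n7332 = n7232 := d13_2 F14529 D7332 F15026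
theorem F15421 : act 6 n7332 = n7302 := d14_2 (iv F15023) D7332 F15302
theorem F15422 : act 3 n7332 = n6188 := d23_1 D7332 F10847 (iv F14269) (iv F15212) F15417 (iv D7331) (iv D6004) F13809 D6004 F14534
theorem F15423 : act 1 n7304 = n7332 := d7_3 F15422 (iv F14577) (iv F15312)
def n7333 : Q := act 2 n6014
theorem D7333 : act 2 n6014 = n7333 := rfl
theorem F15424 : act 0 n7333 = n6317 := d1_1 D7333 (iv F14568) F10819
theorem F15425 : act 3 n7333 = n6308 := d11_2 D6014 D7333 F14481 (iv F15161) F15160 (iv F9124) (iv F15182) F15183 (iv F14526) (iv F10820) F14568 (iv D6317) (iv F14453) (iv F13706) F10468 (iv F8445) (iv F15026) F15027 F10604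
theorem F15426 : act 4 n7333 = n6317 := d12_2 (iv F14121) D7333 (iv F14568)
theorem F15427 : act 5 n7333 = n6017 := d13_2 (iv F10606) D7333 (iv D6017)
theorem F15428 : act 6 n7333 = n6158 := d14_2 (iv F14122) D7333 F10811
theorem F15429 : act 1 n6330 = n7333 := d10_3 F15428 (iv F15359) F15362
def n7334 : Q := act 5 n6028
theorem D7334 : act 5 n6028 = n7334 := rfl
theorem F15430 : act 0 n7334 = n6051 := d4_1 D7334 (iv D6051) (iv F13405)
theorem F15431 : act 1 n7334 = n6031 := d9_1 D7334 (iv D6031) D6028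
theorem F15432 : act 2 n7334 = n6033 := d13_1 D7334 (iv D6033) (iv F13406)
theorem F15433 : act 4 n7334 = n6031 := d18_1 D7334 (iv D6031) (iv F13407)
def n7335 : Q := act 5 n6032
theorem D7335 : act 5 n6032 = n7335 := rfl
theorem F15434 : act 0 n7335 = n6056 := d4_1 D7335 (iv D6056) (iv F10630)
theorem F15435 : act 1 n7335 = n7267 := d9_1 D7335 F15144 (iv F14650)
theorem F15436 : act 2 n7335 = n6037 := d13_1 D7335 (iv D6037) (iv F10631)
theorem F15437 : act 3 n7335 = n7216 := d16_1 D7335 (iv D7216) (iv D4647) D4648 F14607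
theorem F15438 : act 4 n7335 = n7267 := d18_1 D7335 F15144 (iv F14652)
theorem F15439 : act 6 n7335 = n7334 := d20_2 D6032 D7335 (iv D7334) (iv F14651) (iv F15144) F15145 (iv D6031)
def n7336 : Q := act 2 n6053
theorem D7336 : act 2 n6053 = n7336 := rfl
theorem F15440 : act 1 n7336 = n7336 := d6_1 D7336 (iv D7336) (iv F15291) F15293 F15291
theorem F15441 : act 5 n7336 = n7204 := d13_2 (iv F14620) D7336 (iv D7204)
theorem F15442 : act 4 n7328 = n7336 := d21_4 F15441 F14945 (iv F14717) D7328
theorem F15443 : act 6 n7336 = n7327 := d21_3 F14717 (iv F14945) (iv F15441) (iv D7327)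
def n7337 : Q := act 4 n6053
theorem D7337 : act 4 n6053 = n7337 := rfl
theorem F15444 : act 0 n7337 = n7256 := d3_1 D7337 (iv F15119) F15117
theorem F15445 : act 2 n7337 = n7328 := d12_1 D7337 F15442 (iv D7336)
theorem F15446 : act 5 n7337 = n7198 := d18_2 (iv F14620) D7337 F14938
theorem F15447 : act 6 n7216 = n7337 := d21_3 F14620 (iv F14721) D7216 (iv D7337)
def n7338 : Q := act 6 n6053
theorem D7338 : act 6 n6053 = n7338 := rfl
theorem F15448 : act 0 n7338 = n7254 := d5_1 D7338 (iv F15120) F15117
theorem F15449 : act 2 n7338 = n7327 := d14_1 D7338 (iv F15443) (iv D7336)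
theorem F15450 : act 4 n7338 = n7216 := d19_1 D7338 F15447 (iv D7337)
theorem F15451 : act 5 n7338 = n7215 := d20_1 D7338 F14979 (iv F15446) (iv F15447) (iv D7216) F14721 (iv F14620)
def n7339 : Q := act 1 n6057
theorem D7339 : act 1 n6057 = n7339 := rfl
theorem F15452 : act 0 n7339 = n6247 := d0_1 D7339 (iv D6247) (iv F10231) D7300 (iv F15297) F11104 (iv F10674)
theorem F15453 : act 2 n7339 = n6102 := d6_2 D6057 D7339 (iv D6102) (iv D3116) (iv F5371)
theorem F15454 : act 4 n7339 = n6065 := d8_2 (iv F10675) D7339 (iv D6065)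
theorem F15455 : act 6 n7339 = n6247 := d10_2 (iv F13426) D7339 (iv D6247)
def n7340 : Q := act 3 n6057
theorem D7340 : act 3 n6057 = n7340 := rfl
theorem F15456 : act 0 n7340 = n6384 := d2_1 D7340 (iv D6384) (iv F10674)
def n7341 : Q := act 5 n6057
theorem D7341 : act 5 n6057 = n7341 := rfl
theorem F15457 : act 0 n7341 = n6385 := d4_1 D7341 (iv D6385) (iv F10674)
theorem F15458 : act 2 n7341 = n6058 := d13_1 D7341 (iv D6058) D6057
theorem F15459 : act 4 n7341 = n6067 := d18_1 D7341 (iv D6067) (iv F10675)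
def n7342 : Q := act 3 n6062
theorem D7342 : act 3 n6062 = n7342 := rfl
theorem F15460 : act 0 n7342 = n7193 := d2_1 D7342 (iv D7193) F14655
theorem F15461 : act 1 n7342 = n7206 := d7_1 D7342 F14960 F14956
theorem F15462 : act 4 n7342 = n7193 := d15_2 F14752 D7342 (iv D7193) (iv F14807) F14806
def n7343 : Q := act 0 n6065
theorem D7343 : act 0 n6065 = n7343 := rfl
theorem F15463 : act 1 n7343 = n6068 := d0_2 D6065 D7343 F10691 (iv F13711) (iv D6375) (iv D3266) (iv F5384)
theorem F15464 : act 2 n7343 = n6116 := d1_2 (iv F10687) D7343 (iv D6116)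
theorem F15465 : act 3 n7343 = n7311 := d2_2 (iv F15339) D7343 F15340
theorem F15466 : act 4 n7343 = n6247 := d3_2 F15454 D7343 (iv F15452)
theorem F15467 : act 6 n6065 = n7343 := d19_0 F15466 (iv F15455) F15454
def n7344 : Q := act 5 n6065
theorem D7344 : act 5 n6065 = n7344 := rfl
theorem F15468 : act 1 n7344 = n6067 := d9_1 D7344 (iv D6067) D6065
theorem F15469 : act 2 n7344 = n6118 := d13_1 D7344 (iv D6118) (iv F10687)
def n7345 : Q := act 3 n6067
theorem D7345 : act 3 n6067 = n7345 := rfl
theorem F15470 : act 0 n7345 = n6387 := d2_1 D7345 (iv D6387) (iv F10689)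
def n7346 : Q := act 5 n6068
theorem D7346 : act 5 n6068 = n7346 := rfl
theorem F15471 : act 0 n7346 = n6390 := d4_1 D7346 (iv D6390) (iv F10691)
theorem F15472 : act 2 n7346 = n6071 := d13_1 D7346 (iv D6071) (iv F10692)
theorem F15473 : act 4 n7346 = n6250 := d18_1 D7346 (iv D6250) (iv F13507)
theorem F15474 : act 6 n7346 = n7341 := d20_2 D6068 D7346 (iv D7341) F13426 D6250 F14787 (iv D6067)
def n7347 : Q := act 2 n6069
theorem D7347 : act 2 n6069 = n7347 := rfl
theorem F15475 : act 0 n7347 = n6393 := d1_1 D7347 (iv D6393) (iv F10693)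
theorem F15476 : act 4 n7347 = n7160 := d12_2 F14293 D7347 F14847
theorem F15477 : act 5 n7347 = n6072 := d13_2 (iv F10695) D7347 (iv D6072)
def n7348 : Q := act 1 n6072
theorem D7348 : act 1 n6072 = n7348 := rfl
theorem F15478 : act 2 n7348 = n6128 := d6_2 D6072 D7348 (iv D6128) (iv D3130) (iv F5391)
theorem F15479 : act 4 n7348 = n7159 := d8_2 F14738 D7348 F14844
theorem F15480 : act 0 n6399 = n7348 := d22_0 (iv D7348) (iv D6072) F5390 F2743 F14043 (iv F2720) (iv F5505) (iv F14713) F14735
theorem F15481 : act 3 n7348 = n6072 := d2_2 D6399 F15480 F10703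
def n7349 : Q := act 6 n6072
theorem D7349 : act 6 n6072 = n7349 := rfl
theorem F15482 : act 0 n7349 = n6401 := d5_1 D7349 (iv D6401) (iv F10703)
theorem F15483 : act 2 n7349 = n6074 := d14_1 D7349 (iv D6074) D6072
theorem F15484 : act 4 n7349 = n7161 := d19_1 D7349 (iv D7161) F14738
theorem F15485 : act 5 n7349 = n6563 := d21_2 F15477 D7349 F14848 (iv F15476)
def n7350 : Q := act 6 n6073
theorem D7350 : act 6 n6073 = n7350 := rfl
theorem F15486 : act 0 n7350 = n6402 := d5_1 D7350 (iv D6402) (iv F10704)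
theorem F15487 : act 1 n7350 = n6132 := d10_1 D7350 (iv D6132) (iv F10705)
theorem F15488 : act 2 n7350 = n7161 := d14_1 D7350 (iv D7161) (iv F14745)
theorem F15489 : act 4 n7350 = n6074 := d19_1 D7350 (iv D6074) D6073
theorem F15490 : act 5 n7350 = n6564 := d20_1 D7350 F14051 F10695 D6074 F14124 (iv F11395) (iv F14292)
def n7351 : Q := act 5 n6116
theorem D7351 : act 5 n6116 = n7351 := rfl
theorem F15491 : act 0 n7351 = n6118 := d4_1 D7351 (iv D6118) D6116
theorem F15492 : act 1 n7351 = n6120 := d9_1 D7351 (iv D6120) (iv F13418)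
theorem F15493 : act 4 n7351 = n6260 := d18_1 D7351 (iv D6260) (iv F10761)
theorem F15494 : act 6 n7351 = n6300 := d20_2 (iv F13423) D7351 (iv F14771) F13421 D6260 F14772 (iv D6118)
def n7352 : Q := act 3 n6118
theorem D7352 : act 3 n6118 = n7352 := rfl
theorem F15495 : act 1 n7352 = n6121 := d7_1 D7352 (iv D6121) (iv F10763)
theorem F15496 : act 4 n7352 = n6296 := d15_2 F14770 D7352 (iv D6296) (iv F5549) D6300
theorem F15497 : act 6 n7352 = n7309 := d17_2 F14772 D7352 (iv D7309) (iv F10410) (iv F14774)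
def n7353 : Q := act 6 n6128
theorem D7353 : act 6 n6128 = n7353 := rfl
theorem F15498 : act 0 n7353 = n6570 := d5_1 D7353 (iv F14086) F14084
theorem F15499 : act 1 n7353 = n6131 := d10_1 D7353 (iv D6131) D6128
theorem F15500 : act 4 n7353 = n6530 := d19_1 D7353 F14681 (iv F14680)
theorem F15501 : act 5 n7353 = n6529 := d20_1 D7353 (iv F14678) (iv F14679) (iv F14681) (iv D6530) (iv F11329) (iv F11330)
def n7354 : Q := act 5 n6149
theorem D7354 : act 5 n6149 = n7354 := rfl
theorem F15502 : act 0 n7354 = n6581 := d4_1 D7354 (iv F15313) F15310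
theorem F15503 : act 1 n7354 = n7331 := d9_1 D7354 F15415 F15181
theorem F15504 : act 2 n7354 = n7277 := d13_1 D7354 F15187 F15047
theorem F15505 : act 3 n7354 = n6322 := d16_1 D7354 (iv F11054) (iv F14206) (iv D6613) (iv F14778)
theorem F15506 : act 4 n7354 = n7276 := d18_1 D7354 (iv F15415) F15414
theorem F15507 : act 6 n7354 = n7275 := d20_2 D6149 D7354 F15179 (iv F15416) F15415 (iv D7276) F14512
def n7355 : Q := act 1 n6151
theorem D7355 : act 1 n6151 = n7355 := rfl
theorem F15508 : act 2 n7355 = n6155 := d6_2 D6151 D7355 (iv D6155) (iv D3145) (iv F5433)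
theorem F15509 : act 4 n7355 = n6582 := d8_2 F15315 D7355 (iv F15314)
theorem F15510 : act 6 n6735 = n7355 := d21_3 F14227 F13654 D6735 F15509
def n7356 : Q := act 5 n6151
theorem D7356 : act 5 n6151 = n7356 := rfl
theorem F15511 : act 2 n7356 = n6153 := d13_1 D7356 (iv D6153) D6151
def n7357 : Q := act 6 n6151
theorem D7357 : act 6 n6151 = n7357 := rfl
theorem F15512 : act 0 n7357 = n7305 := d5_1 D7357 F15316 F15188
theorem F15513 : act 1 n7357 = n6735 := d10_1 D7357 F15510 (iv D7355)
theorem F15514 : act 2 n7357 = n6154 := d14_1 D7357 (iv D6154) D6151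
theorem F15515 : act 4 n7357 = n7278 := d19_1 D7357 (iv F15316) F15315
theorem F15516 : act 5 n7357 = n6686 := d24_1 D7357 (iv D6686) (iv F11565) (iv D6675) (iv D3422) D3420 D6667 F15261 (iv D5949) (iv D3041) F13741 (iv F13746) (iv F2682) D3143 D6151
def n7358 : Q := act 5 n6154
theorem D7358 : act 5 n6154 = n7358 := rfl
theorem F15517 : act 0 n7358 = n7306 := d4_1 D7358 (iv D7306) (iv F10805)
theorem F15518 : act 1 n7358 = n6163 := d9_1 D7358 (iv D6163) (iv F10806)
theorem F15519 : act 2 n7358 = n6686 := d13_1 D7358 (iv F15516) F15514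
theorem F15520 : act 3 n7358 = n6559 := d16_1 D7358 (iv F14544) (iv D5735) (iv F13887) F13886
theorem F15521 : act 4 n7358 = n7279 := d18_1 D7358 (iv D7279) F14708
theorem F15522 : act 6 n7358 = n7306 := d20_2 D6154 D7358 (iv D7306) (iv F13932) D7279 F15193 (iv D6153)
def n7359 : Q := act 6 n6184
theorem D7359 : act 6 n6184 = n7359 := rfl
theorem F15523 : act 0 n7359 = n6590 := d5_1 D7359 (iv F11468) (iv F14324)
theorem F15524 : act 1 n7359 = n6189 := d10_1 D7359 (iv D6189) (iv F10844)
theorem F15525 : act 2 n7359 = n6484 := d14_1 D7359 (iv F14179) (iv F14325)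
theorem F15526 : act 3 n7359 = n6584 := d17_1 D7359 (iv D6584) (iv D3376) D3377 F14345
theorem F15527 : act 4 n7359 = n6186 := d19_1 D7359 (iv D6186) D6184
theorem F15528 : act 5 n7359 = n6483 := d20_1 D7359 (iv F14331) (iv D6185) D6186 F14335 D6492 (iv F14326)
def n7360 : Q := act 2 n6217
theorem D7360 : act 2 n6217 = n7360 := rfl
theorem F15529 : act 6 n7360 = n6226 := d14_2 (iv F14431) D7360 (iv D6226)
def n7361 : Q := act 1 n6226
theorem D7361 : act 1 n6226 = n7361 := rfl
theorem F15530 : act 2 n7361 = n6244 := d6_2 D6226 D7361 (iv D6244) (iv D3192) (iv F5470)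
theorem F15531 : act 0 n6301 = n7361 := d22_0 (iv D7361) (iv D6226) (iv F10058) F10059 F13590 F5696 (iv F5830) (iv F11565) (iv F13664)
theorem F15532 : act 5 n7361 = n6498 := d4_2 (iv F13665) F15531 (iv F13515)
def n7362 : Q := act 3 n6226
theorem D7362 : act 3 n6226 = n7362 := rfl
def n7363 : Q := act 5 n6226
theorem D7363 : act 5 n6226 = n7363 := rfl
theorem F15533 : act 1 n7363 = n6498 := d9_1 D7363 (iv F15532) (iv D7361)
theorem F15534 : act 2 n7363 = n6228 := d13_1 D7363 (iv D6228) D6226
theorem F15535 : act 6 n6407 = n7363 := d14_0 F15534 F13649 D6407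
def n7364 : Q := act 3 n6247
theorem D7364 : act 3 n6247 = n7364 := rfl
theorem F15536 : act 1 n7364 = n6248 := d7_1 D7364 (iv D6248) D6247
def n7365 : Q := act 5 n6247
theorem D7365 : act 5 n6247 = n7365 := rfl
theorem F15537 : act 1 n7365 = n6250 := d9_1 D7365 (iv D6250) D6247
theorem F15538 : act 2 n7365 = n6260 := d13_1 D7365 (iv D6260) (iv F10933)
theorem F15539 : act 6 n7365 = n7344 := d21_1 D7365 (iv D7344) F15467 F15466
def n7366 : Q := act 2 n6248
theorem D7366 : act 2 n6248 = n7366 := rfl
theorem F15540 : act 0 n7366 = n7203 := d1_1 D7366 (iv F15333) F15298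
theorem F15541 : act 3 n7366 = n7203 := d23_1 D7366 (iv F15333) (iv D7301) (iv D5768) (iv D2945) F2547 D2945 D5768 D7301 F15298
theorem F15542 : act 5 n7182 = n7366 := d4_0 F15540 (iv D7203) (iv F14901)
def n7367 : Q := act 4 n6248
theorem D7367 : act 4 n6248 = n7367 := rfl
theorem F15543 : act 3 n7367 = n7316 := d15_1 D7367 (iv D7316) F14610 F13507 D6248
theorem F15544 : act 5 n7345 = n7367 := d16_0 F15543 F15365 (iv D6066) D6067 D7345
def n7368 : Q := act 5 n6248
theorem D7368 : act 5 n6248 = n7368 := rfl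
theorem F15545 : act 0 n7368 = n7197 := d4_1 D7368 F15332 F15298
theorem F15546 : act 2 n7368 = n7182 := d13_1 D7368 F15542 (iv D7366)
theorem F15547 : act 4 n7368 = n7345 := d18_1 D7368 F15544 (iv D7367)
theorem F15548 : act 6 n7171 = n7368 := d24_0 (iv D7368) (iv D6248) (iv D3195) F13428 D6058 F14294 (iv F14917) (iv F14916) (iv F14921) (iv D7186) (iv F14823) (iv F14824) (iv D4610) D4608 (iv F14877)
def n7369 : Q := act 6 n6248
theorem D7369 : act 6 n6248 = n7369 := rfl
def n7370 : Q := act 3 n6250
theorem D7370 : act 3 n6250 = n7370 := rfl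
def n7371 : Q := act 2 n6290
theorem D7371 : act 2 n6290 = n7371 := rfl
theorem F15549 : act 1 n7371 = n6668 := d6_1 D7371 F15257 F14961 (iv F10468) F14469
theorem F15550 : act 6 n7371 = n7310 := d14_2 (iv F14470) D7371 (iv D7310)
theorem F15551 : act 4 n6663 = n7371 := d8_0 F15549 (iv D6668) (iv F11554)
def n7372 : Q := act 4 n6290
theorem D7372 : act 4 n6290 = n7372 := rfl
theorem F15552 : act 0 n7372 = n7352 := d3_1 D7372 F15496 F14487
theorem F15553 : act 1 n7372 = n6341 := d8_1 D7372 F11068 F14469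
theorem F15554 : act 2 n7372 = n6663 := d12_1 D7372 F15551 (iv D7371)
theorem F15555 : act 3 n7372 = n7351 := d15_1 D7372 F15493 F14774 (iv F14465) D6290
theorem F15556 : act 5 n7372 = n7352 := d18_2 (iv F14468) D7372 F15496
theorem F15557 : act 6 n7372 = n6294 := d19_2 (iv F14470) D7372 F11007
def n7373 : Q := act 2 n6294
theorem D7373 : act 2 n6294 = n7373 := rfl
theorem F15558 : act 1 n7373 = n6670 := d6_1 D7373 (iv F15259) F10529 (iv F14020) (iv F11006)
theorem F15559 : act 4 n7373 = n7310 := d12_2 (iv F11007) D7373 (iv D7310)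
theorem F15560 : act 5 n7373 = n7311 := d13_2 (iv F14471) D7373 (iv D7311)
theorem F15561 : act 6 n7373 = n6663 := d14_2 F15557 D7373 (iv F15554)
def n7374 : Q := act 2 n6296
theorem D7374 : act 2 n6296 = n7374 := rfl
theorem F15562 : act 0 n7374 = n7371 := d1_1 D7374 (iv D7371) (iv F14487)
theorem F15563 : act 1 n7374 = n7317 := d6_1 D7374 F15367 F10531 F14169 (iv F11009)
theorem F15564 : act 5 n7374 = n7371 := d13_2 F14468 D7374 (iv D7371)
theorem F15565 : act 6 n7374 = n7311 := d14_2 (iv F11010) D7374 (iv D7311)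
theorem F15566 : act 3 n7374 = n7371 := d23_1 D7374 (iv D7371) (iv D6290) F5538 F2723 F14110 (iv F2723) (iv F5538) D6290 (iv F14487)
def n7375 : Q := act 2 n6300
theorem D7375 : act 2 n6300 = n7375 := rfl
theorem F15567 : act 0 n7375 = n7365 := d1_1 D7375 F15538 (iv F14773)
theorem F15568 : act 1 n7375 = n7341 := d6_1 D7375 F15458 F10677 F13950 (iv F11015)
theorem F15569 : act 4 n7375 = n7344 := d12_2 (iv F14770) D7375 F15469
theorem F15570 : act 5 n7375 = n7339 := d13_2 F14771 D7375 F15453
def n7376 : Q := act 3 n6301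
theorem D7376 : act 3 n6301 = n7376 := rfl
theorem F15571 : act 1 n7376 = n6302 := d7_1 D7376 (iv D6302) D6301
theorem F15572 : act 6 n7376 = n7173 := d17_2 (iv F13666) D7376 F14881 (iv D6675) (iv F14495)
theorem F15573 : act 2 n7376 = n7177 := d24_3 D3423 (iv F13665) D7376 (iv D7177) (iv D4241) (iv D2138) (iv D1050) D1053 F13218 (iv D834) F752 (iv F1382) F13231 D789 D1661
def n7377 : Q := act 4 n6302
theorem D7377 : act 4 n6302 = n7377 := rfl
theorem F15574 : act 2 n7377 = n7377 := d12_1 D7377 (iv D7377) F14802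
def n7378 : Q := act 5 n6302
theorem D7378 : act 5 n6302 = n7378 := rfl
theorem F15575 : act 0 n7378 = n7170 := d4_1 D7378 F15346 F15342
theorem F15576 : act 2 n7378 = n7378 := d13_1 D7378 (iv D7378) F14802
def n7379 : Q := act 3 n6304
theorem D7379 : act 3 n6304 = n7379 := rfl
theorem F15577 : act 1 n7379 = n6676 := d7_1 D7379 (iv D6676) (iv F13662)
def n7380 : Q := act 2 n6364
theorem D7380 : act 2 n6364 = n7380 := rfl
theorem F15578 : act 0 n7380 = n7202 := d1_1 D7380 (iv F15146) (iv F15149)
theorem F15579 : act 1 n7380 = n7221 := d6_1 D7380 (iv D7221) F8423 (iv F13831) (iv F11090)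
theorem F15580 : act 5 n7380 = n7202 := d13_2 F15148 D7380 (iv F15146)
theorem F15581 : act 6 n7380 = n7183 := d24_4 D1664 (iv F13527) D6364 D7380 (iv F14951) F14960 F14957 (iv D4638) D4637 F14649 (iv F15364) (iv F15366) (iv D6669) (iv D3420) (iv D1661)
theorem F15582 : act 3 n7182 = n7380 := d17_5 F15581 (iv D7183) (iv D4611) D4608 D7182
def n7381 : Q := act 4 n6364
theorem D7381 : act 4 n6364 = n7381 := rfl
theorem F15583 : act 1 n7381 = n6368 := d8_1 D7381 (iv D6368) (iv F11090)
def n7382 : Q := act 6 n6364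
theorem D7382 : act 6 n6364 = n7382 := rfl
theorem F15584 : act 0 n7382 = n7205 := d5_1 D7382 F15150 (iv F15149)
theorem F15585 : act 1 n7382 = n6370 := d10_1 D7382 (iv D6370) (iv F11090)
theorem F15586 : act 2 n7382 = n7183 := d14_1 D7382 (iv F15581) (iv D7380)
def n7383 : Q := act 6 n6368
theorem D7383 : act 6 n6368 = n7383 := rfl
theorem F15587 : act 2 n7383 = n7223 := d14_1 D7383 (iv D7223) F14779
theorem F15588 : act 4 n7383 = n6370 := d19_1 D7383 (iv D6370) D6368
theorem F15589 : act 5 n7383 = n7270 := d21_2 F15153 D7383 (iv D7270) D7269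
def n7384 : Q := act 5 n6370
theorem D7384 : act 5 n6370 = n7384 := rfl
theorem F15590 : act 0 n7384 = n7383 := d4_1 D7384 F15589 F15154
theorem F15591 : act 2 n7384 = n7224 := d13_1 D7384 (iv D7224) F14711
theorem F15592 : act 4 n7384 = n7270 := d18_1 D7384 (iv F15589) F15588
theorem F15593 : act 6 n7384 = n7269 := d20_2 D6370 D7384 F15153 D7383 F15589 (iv D7270) F14003
theorem F15594 : act 3 n7384 = n7383 := d24_2 D6370 D7384 F15587 (iv D7223) (iv F9081) (iv F13978) F8483 F4306 (iv D2408) (iv D1190) (iv F2201) (iv D1185) D1184 D2396 (iv F13831)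
def n7385 : Q := act 3 n6375
theorem D7385 : act 3 n6375 = n7385 := rfl
theorem F15595 : act 0 n7385 = n6376 := d2_1 D7385 (iv D6376) D6375
theorem F15596 : act 1 n7385 = n6389 := d7_1 D7385 (iv D6389) (iv F13711)
theorem F15597 : act 2 n7281 = n7385 := d6_0 F15596 (iv F14611) F9472 D5372 D7281
theorem F15598 : act 5 n7319 = n7385 := d9_0 F15596 (iv F14644) (iv F15376)
def n7386 : Q := act 5 n6375
theorem D7386 : act 5 n6375 = n7386 := rfl
theorem F15599 : act 0 n7386 = n6378 := d4_1 D7386 (iv D6378) D6375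
theorem F15600 : act 1 n7386 = n6390 := d9_1 D7386 (iv D6390) (iv F13711)
theorem F15601 : act 2 n7386 = n6405 := d13_1 D7386 (iv D6405) (iv F11102)
def n7387 : Q := act 5 n6376
theorem D7387 : act 5 n6376 = n7387 := rfl
theorem F15602 : act 0 n7387 = n7319 := d4_1 D7387 F15598 F15595
theorem F15603 : act 1 n7387 = n6382 := d9_1 D7387 (iv D6382) (iv F11103)
theorem F15604 : act 2 n7387 = n7271 := d13_1 D7387 (iv F15382) F15380
theorem F15605 : act 4 n7387 = n7385 := d18_1 D7387 (iv F15598) (iv F15377)
def n7388 : Q := act 6 n6376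
theorem D7388 : act 6 n6376 = n7388 := rfl
theorem F15606 : act 1 n7388 = n6383 := d10_1 D7388 (iv D6383) (iv F11103)
def n7389 : Q := act 3 n6377
theorem D7389 : act 3 n6377 = n7389 := rfl
theorem F15607 : act 1 n7389 = n6384 := d7_1 D7389 (iv D6384) (iv F11104)
def n7390 : Q := act 5 n6377
theorem D7390 : act 5 n6377 = n7390 := rfl
theorem F15608 : act 1 n7390 = n6385 := d9_1 D7390 (iv D6385) (iv F11104)
theorem F15609 : act 2 n7390 = n6412 := d13_1 D7390 (iv D6412) (iv F11105)
theorem F15610 : act 4 n7390 = n6378 := d18_1 D7390 (iv D6378) D6377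
theorem F15611 : act 6 n7390 = n7386 := d21_1 D7390 (iv D7386) F13712 D6377
def n7391 : Q := act 3 n6378
theorem D7391 : act 3 n6378 = n7391 := rfl
theorem F15612 : act 1 n7391 = n6387 := d7_1 D7391 (iv D6387) (iv F11106)
def n7392 : Q := act 6 n6378
theorem D7392 : act 6 n6378 = n7392 := rfl
theorem F15613 : act 0 n7392 = n7390 := d5_1 D7392 F15611 F15599
theorem F15614 : act 1 n7392 = n6388 := d10_1 D7392 (iv D6388) (iv F11106)
theorem F15615 : act 2 n7392 = n6415 := d14_1 D7392 (iv D6415) (iv F11107)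
theorem F15616 : act 4 n7392 = n7386 := d19_1 D7392 (iv F15611) F15610
theorem F15617 : act 5 n7392 = n7300 := d20_1 D7392 F15296 D7390 F15611 (iv D7386) F13712 D6378
def n7393 : Q := act 6 n6380
theorem D7393 : act 6 n6380 = n7393 := rfl
theorem F15618 : act 0 n7393 = n7210 := d5_1 D7393 (iv D7210) (iv F14638)
theorem F15619 : act 1 n7393 = n7240 := d10_1 D7393 (iv D7240) F14639
theorem F15620 : act 2 n7393 = n6383 := d14_1 D7393 (iv D6383) D6380
theorem F15621 : act 4 n7393 = n7292 := d19_1 D7393 (iv D7292) F14640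
theorem F15622 : act 5 n7393 = n7280 := d20_1 D7393 (iv D7280) F13936 D7292 F15249 (iv D7260) F14641
def n7394 : Q := act 3 n6381
theorem D7394 : act 3 n6381 = n7394 := rfl
theorem F15623 : act 4 n7394 = n6384 := d15_2 D6381 D7394 (iv D6384) (iv D3268) D3267
def n7395 : Q := act 3 n6382
theorem D7395 : act 3 n6382 = n7395 := rfl
theorem F15624 : act 0 n7395 = n7367 := d2_1 D7395 F15543 F15363
theorem F15625 : act 4 n7395 = n7301 := d15_2 F14643 D7395 (iv D7301) F13707 D6389
theorem F15626 : act 5 n7395 = n6387 := d16_2 D6382 D7395 (iv D6387) (iv D3269) D3267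
theorem F15627 : act 2 n7201 = n7395 := d13_3 F15626 F15085 (iv F14941)
theorem F15628 : act 6 n7196 = n7395 := d21_1 D7196 F15626 (iv F15087) (iv D7195)
def n7396 : Q := act 6 n6382
theorem D7396 : act 6 n6382 = n7396 := rfl
theorem F15629 : act 0 n7396 = n6669 := d5_1 D7396 F15366 F15363
theorem F15630 : act 2 n7396 = n7260 := d14_1 D7396 (iv D7260) (iv F14642)
theorem F15631 : act 5 n7396 = n6495 := d21_2 D6382 D7396 F15252 (iv D6381)
theorem F15632 : act 3 n6496 = n7396 := d2_0 F15629 F14496 F13513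
def n7397 : Q := act 3 n6383
theorem D7397 : act 3 n6383 = n7397 := rfl
theorem F15633 : act 0 n7397 = n7317 := d2_1 D7397 F15368 F15255
theorem F15634 : act 4 n7397 = n7396 := d15_2 (iv F15254) D7397 (iv F15632) (iv D6496) D6495
theorem F15635 : act 6 n7397 = n6389 := d17_2 D6383 D7397 (iv D6389) (iv D3270) D3267
theorem F15636 : act 5 n6383 = n7397 := d24_1 D6383 (iv D7397) (iv F15620) (iv D7393) (iv F14641) (iv D5084) (iv F9021) (iv F9029) (iv D5083) D5082 (iv F14722) (iv D4613) D4612 (iv F14637) (iv D6380)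
theorem F15637 : act 2 n7397 = n7280 := d13_1 F15636 (iv F15622) F15620
def n7398 : Q := act 5 n6384
theorem D7398 : act 5 n6384 = n7398 := rfl
def n7399 : Q := act 3 n6385
theorem D7399 : act 3 n6385 = n7399 := rfl
def n7400 : Q := act 3 n6388
theorem D7400 : act 3 n6388 = n7400 := rfl
theorem F15638 : act 0 n7400 = n7370 := d2_1 D7400 (iv D7370) (iv F14786)
def n7401 : Q := act 3 n6390
theorem D7401 : act 3 n6390 = n7401 := rfl
theorem F15639 : act 5 n7401 = n7394 := d16_2 D6390 D7401 (iv D7394) F14644 (iv D6389)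
theorem F15640 : act 2 n7401 = n7259 := d24_3 D3270 D6390 D7401 (iv D7259) (iv F14626) (iv D4621) F4243 D2392 (iv F13963) (iv D3086) (iv F2661) F2663 (iv D759) D758 D1592
theorem F15641 : act 6 n7258 = n7401 := d14_0 F15640 (iv D7259) D7258
theorem F15642 : act 4 n7401 = n7398 := d21_4 (iv D7398) (iv F14932) (iv F15121) F15641
def n7402 : Q := act 3 n6393
theorem D7402 : act 3 n6393 = n7402 := rfl
theorem F15643 : act 1 n7402 = n7402 := d7_1 D7402 (iv D7402) F14694
def n7403 : Q := act 2 n6396
theorem D7403 : act 2 n6396 = n7403 := rfl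
theorem F15644 : act 0 n7403 = n7165 := d1_1 D7403 F14864 (iv F14677)
theorem F15645 : act 1 n7403 = n7160 := d6_1 D7403 F14847 F11394 F13716 (iv F11126)
theorem F15646 : act 5 n7403 = n7159 := d13_2 F14679 D7403 F14845
def n7404 : Q := act 6 n6399
theorem D7404 : act 6 n6399 = n7404 := rfl
theorem F15647 : act 1 n7404 = n7404 := d10_1 D7404 (iv D7404) F14692
theorem F15648 : act 2 n7404 = n6570 := d14_1 D7404 (iv F14086) (iv F14734)
theorem F15649 : act 3 n7404 = n7336 := d17_1 D7404 F15443 F15407 (iv D6401) D6399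
theorem F15650 : act 4 n7404 = n6569 := d19_1 D7404 (iv F14714) F14735
theorem F15651 : act 5 n7404 = n6568 := d20_1 D7404 (iv F14866) (iv D7165) F14714 (iv D6569) (iv F11374) F14732
def n7405 : Q := act 2 n6404
theorem D7405 : act 2 n6404 = n7405 := rfl
theorem F15652 : act 0 n7405 = n6407 := d1_1 D7405 (iv D6407) (iv F11138)
theorem F15653 : act 1 n7405 = n6496 := d6_1 D7405 F11262 F5680 (iv F5616) (iv F13464)
theorem F15654 : act 4 n7405 = n6407 := d12_2 (iv F13465) D7405 (iv D6407)
theorem F15655 : act 5 n7405 = n7360 := d13_2 F14430 D7405 (iv D7360)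
def n7406 : Q := act 3 n6407
theorem D7406 : act 3 n6407 = n7406 := rfl
theorem F15656 : act 1 n7406 = n6495 := d7_1 D7406 (iv D6495) (iv F11141)
theorem F15657 : act 2 n7406 = n7321 := d23_2 D6407 D7406 F15384 (iv F14473) (iv F15198) F15597 (iv D7385) F11102 D6404 F11138
theorem F15658 : act 6 n7319 = n7406 := d14_0 F15657 (iv D7321) D7319
theorem F15659 : act 4 n7406 = n7388 := d19_1 F15658 (iv D7388) F15377
def n7407 : Q := act 5 n6407
theorem D7407 : act 5 n6407 = n7407 := rfl
theorem F15660 : act 0 n7407 = n7360 := d4_1 D7407 (iv F15655) F15652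
theorem F15661 : act 1 n7407 = n6497 := d9_1 D7407 (iv D6497) (iv F11141)
theorem F15662 : act 2 n7407 = n6409 := d13_1 D7407 (iv D6409) D6407
theorem F15663 : act 4 n7407 = n7360 := d18_1 D7407 (iv F15655) F15654
theorem F15664 : act 6 n7407 = n7288 := d21_3 D7363 (iv F15535) D7407 F15230
theorem F15665 : act 3 n7407 = n7360 := d23_9 F15662 (iv F14485) (iv D5689) (iv D2902) F2498 D2902 D5689 F14485 (iv F15662) (iv F15660)
def n7408 : Q := act 3 n6412
theorem D7408 : act 3 n6412 = n7408 := rfl
theorem F15666 : act 1 n7408 = n6425 := d7_1 D7408 (iv D6425) (iv F11146)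
theorem F15667 : act 6 n7408 = n7281 := d17_2 F13715 D7408 F15198 (iv F14437) (iv F14483)
def n7409 : Q := act 3 n6415
theorem D7409 : act 3 n6415 = n7409 := rfl
theorem F15668 : act 0 n7409 = n7408 := d2_1 D7409 (iv D7408) F14785
theorem F15669 : act 1 n7409 = n6429 := d7_1 D7409 (iv D6429) (iv F11151)
theorem F15670 : act 4 n7409 = n7321 := d15_2 F13714 D7409 F15384 (iv F14436) (iv F14483)
theorem F15671 : act 5 n7409 = n7408 := d16_2 F13581 D7409 (iv D7408) (iv D6412) (iv F13580)
theorem F15672 : act 6 n7409 = n7320 := d17_2 D6415 D7409 F15381 F15223 (iv D6414)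
theorem F15673 : act 2 n7388 = n7409 := d14_3 F15672 F15380 D7388
def n7410 : Q := act 3 n6481
theorem D7410 : act 3 n6481 = n7410 := rfl
theorem F15674 : act 1 n7410 = n7410 := d7_1 D7410 (iv D7410) F14730
def n7411 : Q := act 5 n6496
theorem D7411 : act 5 n6496 = n7411 := rfl
theorem F15675 : act 0 n7411 = n6672 := d4_1 D7411 (iv D6672) F13513
theorem F15676 : act 1 n7411 = n7360 := d9_1 D7411 (iv F15655) F15653
theorem F15677 : act 2 n7411 = n6499 := d13_1 D7411 (iv D6499) (iv F11262)
theorem F15678 : act 3 n7411 = n6497 := d16_1 D7411 (iv D6497) D6495 (iv F15631) (iv F15632)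
theorem F15679 : act 4 n7411 = n6497 := d18_1 D7411 (iv D6497) D6496
theorem F15680 : act 6 n7411 = n7361 := d21_1 D7411 F15532 (iv D6498) D6496
def n7412 : Q := act 6 n6496
theorem D7412 : act 6 n6496 = n7412 := rfl
theorem F15681 : act 0 n7412 = n6673 := d5_1 D7412 (iv D6673) F13513
theorem F15682 : act 2 n7412 = n6500 := d14_1 D7412 (iv D6500) (iv F11262)
theorem F15683 : act 3 n7412 = n7196 := d17_1 D7412 F15628 (iv D7395) D7396 (iv F15632)
theorem F15684 : act 4 n7412 = n6498 := d19_1 D7412 (iv D6498) D6496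
def n7413 : Q := act 6 n6497
theorem D7413 : act 6 n6497 = n7413 := rfl
theorem F15685 : act 0 n7413 = n6675 := d5_1 D7413 (iv D6675) F13514
theorem F15686 : act 1 n7413 = n7288 := d10_1 D7413 (iv F15664) F15661
theorem F15687 : act 2 n7413 = n6502 := d14_1 D7413 (iv D6502) (iv F11263)
theorem F15688 : act 4 n7413 = n7361 := d19_1 D7413 (iv F15680) F15679
theorem F15689 : act 5 n7413 = n7412 := d20_1 D7413 (iv D7412) D7411 F15680 F15532 (iv D6498) D6497
def n7414 : Q := act 3 n6498
theorem D7414 : act 3 n6498 = n7414 := rfl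
theorem F15690 : act 0 n7414 = n6676 := d2_1 D7414 (iv D6676) F13515
theorem F15691 : act 6 n7414 = n7394 := d17_2 D6498 D7414 (iv D7394) (iv F15252) (iv D6495)
theorem F15692 : act 4 n7189 = n7414 := d19_3 F15691 F15623 (iv F14932)
theorem F15693 : act 2 n7414 = n7190 := d12_1 F15692 (iv D7190) D7189
def n7415 : Q := act 3 n6499
theorem D7415 : act 3 n6499 = n7415 := rfl
theorem F15694 : act 0 n7415 = n6681 := d2_1 D7415 (iv D6681) F13516
theorem F15695 : act 1 n7415 = n6509 := d7_1 D7415 (iv D6509) (iv F11265)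
theorem F15696 : act 2 n7415 = n7415 := d11_1 D7415 (iv D7415) (iv F15677) F15678 F11263 F13500 (iv F5819) (iv F14495) F11561 D6681 F14497 (iv D6681) (iv F11561) F14495 F5819 (iv F13500) (iv F11263) (iv F15678) F15677
theorem F15697 : act 4 n7415 = n6681 := d15_2 (iv F11266) D7415 (iv D6681) F5825 (iv F13500)
theorem F15698 : act 5 n7415 = n7415 := d16_2 D6499 D7415 (iv D7415) (iv D6499) F13332
def n7416 : Q := act 3 n6500
theorem D7416 : act 3 n6500 = n7416 := rfl
theorem F15699 : act 0 n7416 = n6682 := d2_1 D7416 (iv D6682) F13517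
theorem F15700 : act 1 n7416 = n6510 := d7_1 D7416 (iv D6510) (iv F11267)
theorem F15701 : act 4 n7416 = n6682 := d15_2 (iv F11268) D7416 (iv D6682) F5827 (iv F5683)
theorem F15702 : act 6 n7416 = n7416 := d17_2 D6500 D7416 (iv D7416) (iv D6500) F13332
def n7417 : Q := act 3 n6502
theorem D7417 : act 3 n6502 = n7417 := rfl
theorem F15703 : act 0 n7417 = n6686 := d2_1 D7417 (iv D6686) F13518
theorem F15704 : act 1 n7417 = n6511 := d7_1 D7417 (iv D6511) (iv F11273)
theorem F15705 : act 6 n7417 = n6686 := d17_2 D6502 D7417 (iv D6686) (iv D3428) (iv F13500)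
theorem F15706 : act 2 n7417 = n7306 := d23_2 F15687 D7417 F15318 F14546 (iv F14037) F14743 (iv F14800) (iv F14879) F14881 (iv F15685)
theorem F15707 : act 5 n7305 = n7417 := d24_1 (iv F15316) (iv D7417) (iv F15687) (iv D7413) (iv D6497) D6495 F15250 (iv D7292) (iv F13936) (iv D5316) (iv F14057) (iv F13876) F13934 D5311 D7278
theorem F15708 : act 4 n7417 = n7356 := d18_1 F15707 (iv D7356) (iv F15315)
def n7418 : Q := act 2 n6509
theorem D7418 : act 2 n6509 = n7418 := rfl
theorem F15709 : act 0 n7418 = n6726 := d1_1 D7418 (iv D6726) (iv F11288)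
theorem F15710 : act 1 n7418 = n7418 := d6_1 D7418 (iv D7418) (iv F15695) F15696 F15695
theorem F15711 : act 4 n7418 = n6726 := d12_2 (iv F13653) D7418 (iv D6726)
theorem F15712 : act 5 n7418 = n7418 := d13_2 F14792 D7418 (iv D7418)
def n7419 : Q := act 6 n6509
theorem D7419 : act 6 n6509 = n7419 := rfl
theorem F15713 : act 0 n7419 = n6728 := d5_1 D7419 (iv D6728) (iv F11288)
theorem F15714 : act 3 n7419 = n7270 := d17_1 D7419 (iv D7270) F14002 F13505 D6509
theorem F15715 : act 4 n7419 = n6728 := d19_1 D7419 (iv D6728) (iv F13653)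
theorem F15716 : act 5 n7419 = n6728 := d21_2 F14792 D7419 (iv D6728) (iv F13653)
def n7420 : Q := act 5 n6510
theorem D7420 : act 5 n6510 = n7420 := rfl
theorem F15717 : act 0 n7420 = n6729 := d4_1 D7420 (iv D6729) (iv F11290)
theorem F15718 : act 2 n7420 = n7420 := d13_1 D7420 (iv D7420) F11292
theorem F15719 : act 3 n7420 = n6582 := d16_1 D7420 F14227 (iv D6511) F5697 D6510
theorem F15720 : act 4 n7420 = n6729 := d18_1 D7420 (iv D6729) (iv F11291)
theorem F15721 : act 6 n7420 = n6729 := d21_1 D7420 (iv D6729) F13526 (iv F11291)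
def n7421 : Q := act 4 n6511
theorem D7421 : act 4 n6511 = n7421 := rfl
theorem F15722 : act 0 n7421 = n6734 := d3_1 D7421 (iv D6734) (iv F11293)
theorem F15723 : act 1 n7421 = n7356 := d8_1 D7421 (iv F15708) F15704
theorem F15724 : act 2 n7421 = n7315 := d12_1 D7421 F15360 (iv F14222)
theorem F15725 : act 3 n7421 = n7269 := d15_1 D7421 (iv D7269) F14002 F13503 D6511
theorem F15726 : act 5 n7421 = n7355 := d18_2 F14227 D7421 F15509
theorem F15727 : act 6 n7421 = n6734 := d19_2 (iv F13654) D7421 (iv D6734)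
def n7422 : Q := act 2 n6526
theorem D7422 : act 2 n6526 = n7422 := rfl
theorem F15728 : act 0 n7422 = n6552 := d1_1 D7422 (iv D6552) (iv F11327)
theorem F15729 : act 1 n7422 = n7347 := d6_1 D7422 (iv D7347) F10694 (iv F5796) (iv F11328)
theorem F15730 : act 4 n7422 = n7403 := d12_2 (iv F14676) D7422 (iv D7403)
theorem F15731 : act 5 n7422 = n7348 := d13_2 F11330 D7422 F15478
theorem F15732 : act 6 n7422 = n6528 := d14_2 (iv F11329) D7422 (iv D6528)
def n7423 : Q := act 1 n6528
theorem D7423 : act 1 n6528 = n7423 := rfl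
theorem F15733 : act 2 n7423 = n6564 := d6_2 D6528 D7423 F11402 (iv F14052) (iv F5717)
theorem F15734 : act 3 n7423 = n7249 := d7_2 (iv F14729) D7423 (iv D7249)
theorem F15735 : act 6 n7423 = n7347 := d10_2 F15732 D7423 (iv F15729)
theorem F15736 : act 0 n7164 = n7423 := d22_0 (iv D7423) (iv D6528) F5716 F2788 F13620 (iv F2764) (iv F5656) D6481 (iv F14861)
theorem F15737 : act 4 n7423 = n6563 := d3_2 (iv F14861) F15736 F11400
theorem F15738 : act 5 n7423 = n7161 := d4_2 D7164 F15736 F14849
def n7424 : Q := act 4 n6528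
theorem D7424 : act 4 n6528 = n7424 := rfl
theorem F15739 : act 0 n7424 = n6568 := d3_1 D7424 (iv D6568) (iv F11335)
theorem F15740 : act 1 n7424 = n6563 := d8_1 D7424 (iv F15737) (iv D7423)
theorem F15741 : act 2 n7424 = n6529 := d12_1 D7424 (iv D6529) D6528
theorem F15742 : act 6 n7424 = n7403 := d19_2 F15732 D7424 (iv F15730)
def n7425 : Q := act 5 n6528
theorem D7425 : act 5 n6528 = n7425 := rfl
theorem F15743 : act 0 n7425 = n6569 := d4_1 D7425 (iv D6569) (iv F11335)
theorem F15744 : act 1 n7425 = n7161 := d9_1 D7425 (iv F15738) (iv D7423)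
theorem F15745 : act 2 n7425 = n6530 := d13_1 D7425 (iv D6530) D6528
theorem F15746 : act 3 n7425 = n7293 := d16_1 D7425 F15265 F15101 (iv D7251) (iv F14729)
theorem F15747 : act 6 n7425 = n7159 := d21_1 D7425 (iv F15646) (iv F15742) (iv D7424)
def n7426 : Q := act 2 n6532
theorem D7426 : act 2 n6532 = n7426 := rfl
theorem F15748 : act 1 n7426 = n7426 := d6_1 D7426 (iv D7426) F11343 F5719 (iv F11343)
theorem F15749 : act 4 n7426 = n7274 := d12_2 (iv F14589) D7426 F15172
theorem F15750 : act 5 n7426 = n7225 := d13_2 F14591 D7426 (iv D7225)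
theorem F15751 : act 3 n7426 = n6726 := d23_1 D7426 (iv D6726) (iv D3451) (iv F13624) (iv D1584) (iv F2730) D3242 D6333 (iv F15019) F15017
def n7427 : Q := act 3 n6540
theorem D7427 : act 3 n6540 = n7427 := rfl
theorem F15752 : act 0 n7427 = n7261 := d2_1 D7427 F15125 (iv F14557)
theorem F15753 : act 1 n7427 = n7236 := d7_1 D7427 F15043 F14585
theorem F15754 : act 4 n7427 = n7217 := d15_2 (iv F11354) D7427 (iv D7217) F13872 F14338
theorem F15755 : act 5 n7427 = n7261 := d16_2 D6540 D7427 F15125 (iv F10837) F14604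
theorem F15756 : act 6 n7427 = n7329 := d17_2 F14314 D7427 (iv D7329) (iv D5979) D5977
theorem F15757 : act 2 n7261 = n7427 := d24_15 F15756 F15411 F15127 (iv F15630) (iv D7396) (iv D6382) (iv D3267) (iv D1592) D1595 D3275 (iv F14305) F10830 D6178 F10837 (iv F15125)
def n7428 : Q := act 2 n6549
theorem D7428 : act 2 n6549 = n7428 := rfl
theorem F15758 : act 1 n7428 = n7428 := d6_1 D7428 (iv D7428) F11371 F9558 (iv F11371)
theorem F15759 : act 6 n7428 = n7264 := d14_2 F14684 D7428 (iv D7264)
theorem F15760 : act 3 n7428 = n7428 := d23_1 D7428 (iv D7428) (iv D6549) (iv F11353) D7427 (iv F15757) F15125 F14558 (iv F15054) F15052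
def n7429 : Q := act 3 n6552
theorem D7429 : act 3 n6552 = n7429 := rfl
theorem F15761 : act 1 n7429 = n7429 := d7_1 D7429 (iv D7429) F14733
theorem F15762 : act 5 n7429 = n7402 := d16_2 (iv F14732) D7429 (iv D7402) F11122 D6399
theorem F15763 : act 2 n7429 = n7399 := d23_2 D6552 D7429 (iv D7399) F11110 D6391 (iv F15328) F15329 F14351 D6526 F11327
def n7430 : Q := act 3 n6558
theorem D7430 : act 3 n6558 = n7430 := rfl
theorem F15764 : act 0 n7430 = n7212 := d2_1 D7430 F14971 (iv F11386)
theorem F15765 : act 1 n7430 = n7230 := d7_1 D7430 (iv F15065) F15063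
theorem F15766 : act 2 n7430 = n7187 := d11_1 D7430 (iv D7187) (iv F14905) F14908 F10710 F14338 F5721 (iv F5654) (iv F11216) (iv F14971) (iv D7212) (iv D4645) (iv F8352) F14613 F9025 (iv F13865) F14311 (iv F5740) (iv F11387)
theorem F15767 : act 4 n7430 = n7187 := d15_2 F14924 D7430 (iv D7187) F8329 D7186
theorem F15768 : act 5 n7430 = n7212 := d16_2 D6558 D7430 F14971 (iv D6474) F11866
theorem F15769 : act 6 n7430 = n7330 := d17_2 (iv F15280) D7430 (iv D7330) (iv F14074) D7296
def n7431 : Q := act 3 n6563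
theorem D7431 : act 3 n6563 = n7431 := rfl
theorem F15770 : act 0 n7431 = n7410 := d2_1 D7431 (iv D7410) (iv F11400)
def n7432 : Q := act 4 n6567
theorem D7432 : act 4 n6567 = n7432 := rfl
theorem F15771 : act 0 n7432 = n7250 := d3_1 D7432 (iv D7250) F14728
theorem F15772 : act 1 n7432 = n7432 := d8_1 D7432 (iv D7432) F14775
theorem F15773 : act 2 n7432 = n7215 := d12_1 D7432 (iv D7215) (iv F14727)
theorem F15774 : act 5 n7432 = n7327 := d18_2 F14717 D7432 (iv D7327)
def n7433 : Q := act 3 n6568
theorem D7433 : act 3 n6568 = n7433 := rfl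
theorem F15775 : act 1 n7433 = n7433 := d7_1 D7433 (iv D7433) F14776
def n7434 : Q := act 6 n6582
theorem D7434 : act 6 n6582 = n7434 := rfl
theorem F15776 : act 0 n7434 = n7355 := d5_1 D7434 (iv F15510) F14226
theorem F15777 : act 1 n7434 = n7278 := d10_1 D7434 (iv F15316) F15314
theorem F15778 : act 2 n7434 = n6584 := d14_1 D7434 (iv D6584) D6582
theorem F15779 : act 3 n7434 = n7355 := d17_1 D7434 (iv F15510) F11657 (iv F15721) F15719
theorem F15780 : act 4 n7434 = n6735 := d19_1 D7434 F15510 F15509
theorem F15781 : act 5 n7434 = n6734 := d20_1 D7434 (iv F15727) F15726 (iv F15510) (iv D6735) (iv F13654) (iv F14227)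
def n7435 : Q := act 3 n6662
theorem D7435 : act 3 n6662 = n7435 := rfl
theorem F15782 : act 0 n7435 = n6663 := d2_1 D7435 (iv D6663) D6662
theorem F15783 : act 1 n7435 = n6669 := d7_1 D7435 F14496 (iv F13655)
theorem F15784 : act 4 n7435 = n7374 := d15_2 (iv F13656) D7435 F15566 (iv F15551) (iv D6663)
theorem F15785 : act 5 n7435 = n6663 := d16_2 (iv F14491) D7435 (iv D6663) D6665 F14489
theorem F15786 : act 2 n7435 = n7352 := d24_3 (iv F11011) (iv F14491) D7435 F15497 F15337 (iv D5850) F14138 F13548 (iv D2978) (iv D1458) (iv F1303) D1465 F2605 D1574 D3226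
def n7436 : Q := act 3 n6670
theorem D7436 : act 3 n6670 = n7436 := rfl
theorem F15787 : act 0 n7436 = n7394 := d2_1 D7436 (iv D7394) F15253
theorem F15788 : act 4 n7436 = n7340 := d15_2 (iv F15258) D7436 (iv D7340) F10675 D6066
theorem F15789 : act 6 n7436 = n6676 := d17_2 D6670 D7436 (iv D6676) (iv D3423) D3420
def n7437 : Q := act 3 n6673
theorem D7437 : act 3 n6673 = n7437 := rfl
theorem F15790 : act 0 n7437 = n7196 := d2_1 D7437 (iv F15683) F15681
theorem F15791 : act 5 n7437 = n7171 := d16_2 F11566 D7437 (iv D7171) D7173 F14881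
theorem F15792 : act 6 n7437 = n7367 := d17_2 D6673 D7437 F15543 (iv F15366) F14496
theorem F15793 : act 4 n7369 = n7437 := d19_3 F15792 (iv D7367) D7369
theorem F15794 : act 2 n7179 = n7437 := d24_15 F15792 (iv F15544) (iv D7345) F10690 (iv F13576) (iv D3197) (iv D1562) F1359 F1360 D1439 D2947 (iv F14769) D7156 (iv F14834) D7179
def n7438 : Q := act 2 n6676
theorem D7438 : act 2 n6676 = n7438 := rfl
theorem F15795 : act 0 n7438 = n7190 := d1_1 D7438 (iv F15693) F15690
theorem F15796 : act 4 n7188 = n7438 := d3_0 F15795 (iv D7190) (iv F14928)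
def n7439 : Q := act 4 n6676
theorem D7439 : act 4 n6676 = n7439 := rfl
theorem F15797 : act 0 n7439 = n7189 := d3_1 D7439 F15692 F15690
theorem F15798 : act 2 n7439 = n7188 := d12_1 D7439 F15796 (iv D7438)
theorem F15799 : act 3 n7439 = n7369 := d15_1 D7439 F15793 (iv D7437) F11564 D6676
theorem F15800 : act 6 n7439 = n7340 := d19_2 F15789 D7439 (iv F15788)
def n7440 : Q := act 5 n6676
theorem D7440 : act 5 n6676 = n7440 := rfl
def n7441 : Q := act 6 n6681
theorem D7441 : act 6 n6681 = n7441 := rfl
theorem F15801 : act 1 n7441 = n6728 := d10_1 D7441 (iv D6728) (iv F11579)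
theorem F15802 : act 2 n7441 = n7441 := d14_1 D7441 (iv D7441) F14497
theorem F15803 : act 3 n7441 = n7382 := d17_1 D7441 (iv D7382) (iv D6364) (iv F13621) D6681
def n7442 : Q := act 2 n6682
theorem D7442 : act 2 n6682 = n7442 := rfl
theorem F15804 : act 1 n7442 = n7442 := d6_1 D7442 (iv D7442) F11580 F9856 (iv F11580)
theorem F15805 : act 6 n7442 = n7442 := d14_2 F14795 D7442 (iv D7442)
theorem F15806 : act 3 n7442 = n7264 := d23_1 D7442 (iv D7264) (iv D5102) (iv F9016) (iv F14628) (iv F14936) (iv F15683) F15682 D7416 F15699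
def n7443 : Q := act 5 n6682
theorem D7443 : act 5 n6682 = n7443 := rfl
theorem F15807 : act 1 n7443 = n6729 := d9_1 D7443 (iv D6729) (iv F11580)
theorem F15808 : act 3 n7443 = n7357 := d16_1 D7443 F15516 (iv D6686) F5831 D6682
def n7444 : Q := act 4 n6686
theorem D7444 : act 4 n6686 = n7444 := rfl
theorem F15809 : act 0 n7444 = n7356 := d3_1 D7444 (iv F15708) F15703
theorem F15810 : act 1 n7444 = n6734 := d8_1 D7444 (iv D6734) (iv F11588)
theorem F15811 : act 2 n7444 = n7279 := d12_1 D7444 (iv F15521) F15519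
theorem F15812 : act 3 n7444 = n7381 := d15_1 D7444 (iv D7381) (iv D6364) (iv F13622) D6686
theorem F15813 : act 5 n7444 = n7278 := d18_2 F15516 D7444 (iv F15515)
theorem F15814 : act 6 n7444 = n7356 := d19_2 F15705 D7444 (iv F15708)
def n7445 : Q := act 6 n6726
theorem D7445 : act 6 n6726 = n7445 := rfl
theorem F15815 : act 1 n7445 = n7445 := d10_1 D7445 (iv D7445) F14498
theorem F15816 : act 2 n7445 = n6728 := d14_1 D7445 (iv D6728) D6726
def n7446 : Q := act 4 n6794
theorem D7446 : act 4 n6794 = n7446 := rfl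
theorem F15817 : act 0 n7446 = n6919 := d3_1 D7446 (iv D6919) F13471
theorem F15818 : act 1 n7446 = n7324 := d8_1 D7446 F15396 F14851
theorem F15819 : act 2 n7446 = n7326 := d12_1 D7446 F15404 F15269
theorem F15820 : act 3 n7446 = n7324 := d15_1 D7446 F15396 (iv D7162) F13339 D6794
theorem F15821 : act 5 n7446 = n7324 := d18_2 (iv F14852) D7446 F15396
theorem F15822 : act 6 n7446 = n7322 := d19_2 F15266 D7446 F15387
def n7447 : Q := act 3 n7157
theorem D7447 : act 3 n7157 = n7447 := rfl
theorem F15823 : act 1 n7447 = n7447 := d7_1 D7447 (iv D7447) F14835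
theorem F15824 : act 2 n7447 = n7220 := d23_2 D7157 D7447 F14991 F14552 (iv D4641) (iv F8350) F14762 F6720 D3860 F6740
theorem F15825 : act 4 n7428 = n7447 := d12_0 F15824 F14992 D7428
theorem F15826 : act 6 n7219 = n7447 := d14_0 F15824 (iv D7220) D7219
def n7448 : Q := act 3 n7158
theorem D7448 : act 3 n7158 = n7448 := rfl
theorem F15827 : act 0 n7448 = n7447 := d2_1 D7448 (iv D7447) (iv F14838)
theorem F15828 : act 1 n7448 = n7448 := d7_1 D7448 (iv D7448) F14839
theorem F15829 : act 2 n7448 = n7235 := d11_1 D7448 F15039 F14923 (iv D7186) (iv F14823) (iv D7154) F6734 D3859 D7157 D7447 F15824 F14991 F14552 (iv D4641) (iv F8350) F14762 F6720 D3860 D7158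
theorem F15830 : act 6 n7448 = n7234 := d17_2 (iv F14842) D7448 F15036 F15826 (iv D7447)
theorem F15831 : act 5 n7428 = n7448 := d24_1 (iv F15759) (iv D7448) (iv D7158) F6744 F6739 (iv D3859) (iv F6734) F6736 (iv F6725) D7152 F14812 F9072 (iv D5103) D5102 D7264
def n7449 : Q := act 3 n7164
theorem D7449 : act 3 n7164 = n7449 := rfl
theorem F15832 : act 0 n7449 = n7249 := d2_1 D7449 (iv F15734) (iv F15736)
theorem F15833 : act 1 n7449 = n7449 := d7_1 D7449 (iv D7449) F14859
theorem F15834 : act 5 n7449 = n7328 := d16_2 D7164 D7449 F15409 F15273 F14668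
theorem F15835 : act 2 n7198 = n7449 := d13_3 F15834 (iv F15445) F15446
theorem F15836 : act 4 n7204 = n7449 := d18_3 F15834 F15442 F15441
theorem F15837 : act 6 n7432 = n7449 := d20_0 F15834 (iv D7328) F14717 (iv F14945) (iv F15441) F15443 (iv F15774)
def n7450 : Q := act 2 n7166
theorem D7450 : act 2 n7166 = n7450 := rfl
theorem F15838 : act 0 n7450 = n7174 := d1_1 D7450 F14880 (iv F14867)
theorem F15839 : act 6 n7450 = n7167 := d14_2 (iv F14869) D7450 (iv D7167)
def n7451 : Q := act 4 n7166
theorem D7451 : act 4 n7166 = n7451 := rfl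
theorem F15840 : act 0 n7451 = n7175 := d3_1 D7451 F14883 (iv F14867)
theorem F15841 : act 1 n7451 = n7168 := d8_1 D7451 (iv D7168) (iv F14868)
theorem F15842 : act 3 n7451 = n7168 := d15_1 D7451 (iv D7168) (iv D4228) (iv F7522) D7166
theorem F15843 : act 6 n7451 = n7168 := d19_2 (iv F14869) D7451 (iv D7168)
def n7452 : Q := act 5 n7166
theorem D7452 : act 5 n7166 = n7452 := rfl
theorem F15844 : act 0 n7452 = n7178 := d4_1 D7452 (iv D7178) (iv F14867)
theorem F15845 : act 1 n7452 = n7169 := d9_1 D7452 (iv D7169) (iv F14868)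
theorem F15846 : act 3 n7452 = n7403 := d16_1 D7452 F15646 (iv D7159) (iv F13474) D7166
def n7453 : Q := act 1 n7167
theorem D7453 : act 1 n7167 = n7453 := rfl
theorem F15847 : act 3 n7453 = n7194 := d7_2 (iv F14871) D7453 (iv D7194)
def n7454 : Q := act 4 n7167
theorem D7454 : act 4 n7167 = n7454 := rfl
theorem F15848 : act 0 n7454 = n7172 := d3_1 D7454 (iv D7172) (iv F14870)
theorem F15849 : act 2 n7454 = n7168 := d12_1 D7454 (iv D7168) D7167
def n7455 : Q := act 5 n7167
theorem D7455 : act 5 n7167 = n7455 := rfl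
theorem F15850 : act 0 n7455 = n7173 := d4_1 D7455 (iv D7173) (iv F14870)
theorem F15851 : act 2 n7455 = n7169 := d13_1 D7455 (iv D7169) D7167
theorem F15852 : act 3 n7455 = n7413 := d16_1 D7455 F15689 F15683 (iv D7196) (iv F14871)
def n7456 : Q := act 5 n7168
theorem D7456 : act 5 n7168 = n7456 := rfl
theorem F15853 : act 0 n7456 = n7176 := d4_1 D7456 (iv D7176) (iv F14872)
theorem F15854 : act 4 n7456 = n7169 := d18_1 D7456 (iv D7169) D7168
theorem F15855 : act 6 n7456 = n7452 := d21_1 D7456 (iv D7452) F14869 D7168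
def n7457 : Q := act 6 n7169
theorem D7457 : act 6 n7169 = n7457 := rfl
theorem F15856 : act 0 n7457 = n7177 := d5_1 D7457 (iv D7177) (iv F14873)
theorem F15857 : act 1 n7457 = n7456 := d10_1 D7457 F15855 F15845
theorem F15858 : act 4 n7457 = n7452 := d19_1 D7457 (iv F15855) F15854
theorem F15859 : act 5 n7457 = n7451 := d20_1 D7457 F15843 D7456 F15855 (iv D7452) F14869 D7169
def n7458 : Q := act 3 n7170
theorem D7458 : act 3 n7170 = n7458 := rfl
theorem F15860 : act 1 n7458 = n7171 := d7_1 D7458 (iv D7171) D7170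
def n7459 : Q := act 4 n7170
theorem D7459 : act 4 n7170 = n7459 := rfl
theorem F15861 : act 1 n7459 = n7172 := d8_1 D7459 (iv D7172) D7170
theorem F15862 : act 2 n7459 = n7459 := d12_1 D7459 (iv D7459) F14875
theorem F15863 : act 6 n7378 = n7459 := d21_3 F15346 F15345 D7378 (iv D7459)
def n7460 : Q := act 6 n7170
theorem D7460 : act 6 n7170 = n7460 := rfl
theorem F15864 : act 0 n7460 = n7459 := d5_1 D7460 (iv F15863) F15575
theorem F15865 : act 1 n7460 = n7174 := d10_1 D7460 (iv D7174) D7170
theorem F15866 : act 2 n7460 = n7460 := d14_1 D7460 (iv D7460) F14875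
theorem F15867 : act 4 n7460 = n7378 := d19_1 D7460 F15863 (iv D7459)
theorem F15868 : act 5 n7377 = n7460 := d21_0 (iv D7460) F15346 F15345 D7377
def n7461 : Q := act 4 n7171
theorem D7461 : act 4 n7171 = n7461 := rfl
theorem F15869 : act 0 n7461 = n7195 := d3_1 D7461 (iv D7195) (iv F14876)
theorem F15870 : act 2 n7461 = n7181 := d12_1 D7461 (iv D7181) (iv F14877)
theorem F15871 : act 5 n7461 = n7369 := d18_2 F15791 D7461 F15793
theorem F15872 : act 6 n7461 = n7345 := d19_2 (iv F15548) D7461 (iv F15547)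
def n7462 : Q := act 3 n7172
theorem D7462 : act 3 n7172 = n7462 := rfl
def n7463 : Q := act 5 n7172
theorem D7463 : act 5 n7172 = n7463 := rfl
theorem F15873 : act 2 n7463 = n7176 := d13_1 D7463 (iv D7176) (iv F14878)
theorem F15874 : act 4 n7463 = n7173 := d18_1 D7463 (iv D7173) D7172
def n7464 : Q := act 6 n7172
theorem D7464 : act 6 n7172 = n7464 := rfl
theorem F15875 : act 1 n7464 = n7378 := d10_1 D7464 F15863 F15861
theorem F15876 : act 2 n7464 = n7175 := d14_1 D7464 (iv F14884) (iv F14878)
theorem F15877 : act 4 n7464 = n7174 := d19_1 D7464 (iv D7174) D7172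
theorem F15878 : act 5 n7464 = n7376 := d21_2 (iv D7463) D7464 F15572 (iv F15874)
theorem F15879 : act 3 n7440 = n7464 := d16_5 F15878 (iv D7376) F13665 D6676 D7440
def n7465 : Q := act 3 n7174
theorem D7465 : act 3 n7174 = n7465 := rfl
theorem F15880 : act 2 n7465 = n7431 := d23_2 (iv F14880) D7465 (iv D7431) (iv D6563) (iv D3365) (iv F2874) (iv F13463) (iv F7520) D7166 F14867
def n7466 : Q := act 5 n7174
theorem D7466 : act 5 n7174 = n7466 := rfl
theorem F15881 : act 1 n7466 = n7377 := d9_1 D7466 F15868 F15865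
theorem F15882 : act 2 n7466 = n7178 := d13_1 D7466 (iv D7178) (iv F14880)
theorem F15883 : act 4 n7466 = n7376 := d18_1 D7466 (iv F15878) F15877
theorem F15884 : act 6 n7466 = n7463 := d20_2 D7174 D7466 (iv D7463) D7464 F15878 F15572 (iv D7173)
theorem F15885 : act 3 n7466 = n7463 := d24_2 D7174 D7466 F15873 (iv F14892) (iv D7178) F14793 F3744 (iv F13284) (iv D1923) F1695 (iv F3301) (iv D1918) F13443 D2138 D4239
theorem F15886 : act 5 n7465 = n7462 := d16_2 (iv D7466) D7465 (iv D7462) D7463 (iv F15885)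
def n7467 : Q := act 3 n7176
theorem D7467 : act 3 n7176 = n7467 := rfl
theorem F15887 : act 1 n7467 = n7467 := d7_1 D7467 (iv D7467) F14885
theorem F15888 : act 4 n7467 = n7402 := d15_2 (iv F14886) D7467 (iv D7402) (iv F14739) (iv F14800)
theorem F15889 : act 6 n7467 = n7433 := d17_2 F14892 D7467 (iv D7433) (iv F14866) (iv F14890)
theorem F15890 : act 2 n7467 = n7400 := d23_4 (iv F15882) F15885 F15873 D7467 (iv D7400) F11114 D6396 D7403 (iv F15846) F15844
def n7468 : Q := act 3 n7177
theorem D7468 : act 3 n7177 = n7468 := rfl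
theorem F15891 : act 1 n7468 = n7468 := d7_1 D7468 (iv D7468) F14887
theorem F15892 : act 4 n7468 = n7429 := d15_2 F14891 D7468 (iv D7429) (iv F14865) (iv F14890)
theorem F15893 : act 5 n7468 = n7467 := d16_2 (iv F14888) D7468 (iv D7467) (iv D7176) D7175
theorem F15894 : act 6 n7468 = n7410 := d17_2 D7177 D7468 (iv D7410) (iv F14741) (iv F14800)
def n7469 : Q := act 4 n7179
theorem D7469 : act 4 n7179 = n7469 := rfl
theorem F15895 : act 0 n7469 = n7199 := d3_1 D7469 F14939 (iv F14893)
theorem F15896 : act 1 n7469 = n7181 := d8_1 D7469 (iv D7181) (iv F14894)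
theorem F15897 : act 2 n7469 = n7369 := d12_1 D7469 F15793 (iv F15794)
theorem F15898 : act 3 n7469 = n7244 := d15_1 D7469 F15077 (iv D7242) (iv F9012) D7179
theorem F15899 : act 5 n7469 = n7181 := d18_2 (iv F14895) D7469 (iv D7181)
theorem F15900 : act 6 n7366 = n7469 := d21_3 F14895 D7182 F15542 (iv D7469)
def n7470 : Q := act 6 n7179
theorem D7470 : act 6 n7179 = n7470 := rfl
theorem F15901 : act 0 n7470 = n7201 := d5_1 D7470 (iv D7201) (iv F14893)
theorem F15902 : act 1 n7470 = n7182 := d10_1 D7470 (iv D7182) (iv F14894)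
theorem F15903 : act 2 n7470 = n7367 := d14_1 D7470 (iv F15792) (iv F15794)
theorem F15904 : act 4 n7470 = n7366 := d19_1 D7470 F15900 (iv D7469)
theorem F15905 : act 3 n7221 = n7470 := d23_1 D7221 F15903 F15543 F15364 (iv F14649) (iv F14816) F14817 F14758 D7218 F14986
def n7471 : Q := act 3 n7180
theorem D7471 : act 3 n7180 = n7471 := rfl
theorem F15906 : act 1 n7471 = n7183 := d7_1 D7471 (iv D7183) (iv F14896)
theorem F15907 : act 5 n7471 = n7342 := d16_2 F14899 D7471 (iv D7342) F10684 D6076
theorem F15908 : act 6 n7471 = n7221 := d17_2 D7180 D7471 F15905 (iv D7470) (iv D7179)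
theorem F15909 : act 2 n7471 = n7222 := d23_2 (iv F14897) D7471 F14994 F14744 (iv F14668) F10558 D5977 F14312 (iv F14161) (iv F13969)
def n7472 : Q := act 6 n7181
theorem D7472 : act 6 n7181 = n7472 := rfl
theorem F15910 : act 0 n7472 = n7200 := d5_1 D7472 (iv D7200) (iv F14900)
theorem F15911 : act 1 n7472 = n7366 := d10_1 D7472 F15900 F15896
theorem F15912 : act 2 n7472 = n7345 := d14_1 D7472 (iv F15872) F15870
theorem F15913 : act 4 n7472 = n7182 := d19_1 D7472 (iv D7182) D7181
theorem F15914 : act 5 n7472 = n7470 := d20_1 D7472 (iv D7470) F14895 D7182 F15542 F15900 F15899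
def n7473 : Q := act 6 n7187
theorem D7473 : act 6 n7187 = n7473 := rfl
theorem F15915 : act 0 n7473 = n7213 := d5_1 D7473 (iv D7213) (iv F14925)
theorem F15916 : act 1 n7473 = n7231 := d10_1 D7473 (iv D7231) (iv F14926)
theorem F15917 : act 2 n7473 = n7330 := d14_1 D7473 (iv F15769) F15766
theorem F15918 : act 3 n7473 = n7393 := d17_1 D7473 (iv D7393) F14637 (iv F8330) D7187
theorem F15919 : act 4 n7473 = n7330 := d19_1 D7473 (iv F15769) F15767
def n7474 : Q := act 6 n7188
theorem D7474 : act 6 n7188 = n7474 := rfl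
theorem F15920 : act 0 n7474 = n7191 := d5_1 D7474 (iv D7191) (iv F14928)
theorem F15921 : act 2 n7474 = n7340 := d14_1 D7474 (iv F15800) F15798
def n7475 : Q := act 1 n7189
theorem D7475 : act 1 n7189 = n7475 := rfl
theorem F15922 : act 2 n7475 = n7194 := d6_2 D7189 D7475 (iv D7194) (iv D4625) (iv F8339)
theorem F15923 : act 6 n7475 = n7389 := d10_2 (iv F14932) D7475 F15607
def n7476 : Q := act 3 n7189
theorem D7476 : act 3 n7189 = n7476 := rfl
theorem F15924 : act 0 n7476 = n7369 := d2_1 D7476 (iv F15799) F15797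
theorem F15925 : act 2 n7476 = n7199 := d11_1 D7476 (iv F15081) F15080 (iv D7242) F9011 F4586 (iv F8338) D7188 (iv F15798) F15799 (iv F15897) F15898 (iv D7244) (iv D5069) F4567 F2326 (iv F4243) D4621 D7189
theorem F15926 : act 4 n7476 = n7196 := d15_2 (iv F15692) D7476 (iv F15683) F15684 D7414
theorem F15927 : act 6 n7476 = n7301 := d17_2 (iv F14932) D7476 (iv D7301) F13709 D6384
theorem F15928 : act 5 n7195 = n7476 := d20_7 F15927 (iv F15332) (iv D7197) D7196 F15628 F15626 (iv F15087)
def n7477 : Q := act 3 n7190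
theorem D7477 : act 3 n7190 = n7477 := rfl
theorem F15929 : act 1 n7477 = n7198 := d7_1 D7477 (iv D7198) (iv F14929)
theorem F15930 : act 4 n7477 = n7192 := d15_2 D7190 D7477 (iv D7192) (iv D4622) D4621
theorem F15931 : act 2 n7477 = n7477 := d23_2 F15693 D7477 (iv D7477) (iv F15693) (iv D7414) F11264 F5683 (iv F5820) D6676 (iv F15690)
def n7478 : Q := act 6 n7190
theorem D7478 : act 6 n7190 = n7478 := rfl
theorem F15932 : act 1 n7478 = n7200 := d10_1 D7478 (iv D7200) (iv F14929)
theorem F15933 : act 2 n7478 = n7394 := d14_1 D7478 (iv F15691) F15693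
theorem F15934 : act 4 n7478 = n7191 := d19_1 D7478 (iv D7191) D7190
theorem F15935 : act 5 n7478 = n7259 := d21_2 (iv F15109) D7478 (iv D7259) (iv F15108)
def n7479 : Q := act 5 n7191
theorem D7479 : act 5 n7191 = n7479 := rfl
theorem F15936 : act 1 n7479 = n7203 := d9_1 D7479 (iv D7203) (iv F14930)
theorem F15937 : act 2 n7479 = n7398 := d13_1 D7479 (iv D7398) F14931
theorem F15938 : act 3 n7479 = n7472 := d16_1 D7479 F15914 (iv F15905) (iv F15136) F15137
theorem F15939 : act 4 n7479 = n7259 := d18_1 D7479 (iv F15935) F15934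
theorem F15940 : act 6 n7479 = n7253 := d20_2 D7191 D7479 (iv F15109) D7478 F15935 (iv D7259) (iv F14626)
def n7480 : Q := act 5 n7193
theorem D7480 : act 5 n7193 = n7480 := rfl
theorem F15941 : act 0 n7480 = n7471 := d4_1 D7480 F15907 F15460
theorem F15942 : act 1 n7480 = n7207 := d9_1 D7480 (iv D7207) (iv F14934)
theorem F15943 : act 3 n7480 = n7247 := d16_1 D7480 (iv F15097) F15095 F14654 D7193
theorem F15944 : act 4 n7480 = n7471 := d18_1 D7480 F15907 F15462
def n7481 : Q := act 0 n7194
theorem D7481 : act 0 n7194 = n7481 := rfl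
def n7482 : Q := act 4 n7194
theorem D7482 : act 4 n7194 = n7482 := rfl
theorem F15945 : act 1 n7482 = n7195 := d8_1 D7482 (iv D7195) D7194
theorem F15946 : act 6 n7391 = n7482 := d10_0 F15945 F15087 (iv F15612)
def n7483 : Q := act 5 n7194
theorem D7483 : act 5 n7194 = n7483 := rfl
theorem F15947 : act 1 n7483 = n7196 := d9_1 D7483 (iv D7196) D7194
def n7484 : Q := act 6 n7194
theorem D7484 : act 6 n7194 = n7484 := rfl
theorem F15948 : act 1 n7484 = n7197 := d10_1 D7484 (iv D7197) D7194
theorem F15949 : act 2 n7484 = n7389 := d14_1 D7484 (iv F15923) F15922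
theorem F15950 : act 4 n7484 = n7391 := d19_1 D7484 F15946 (iv D7482)
def n7485 : Q := act 3 n7195
theorem D7485 : act 3 n7195 = n7485 := rfl
theorem F15951 : act 6 n7485 = n7400 := d17_2 (iv F15087) D7485 (iv D7400) (iv D6388) D6387
theorem F15952 : act 2 n7485 = n7433 := d23_2 (iv F14935) D7485 (iv D7433) F11409 (iv F11403) (iv F15733) F15734 (iv F15113) (iv F15115) F14900
def n7486 : Q := act 3 n7197
theorem D7486 : act 3 n7197 = n7486 := rfl
theorem F15953 : act 4 n7486 = n7399 := d15_2 (iv F15086) D7486 (iv D7399) F11111 D6387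
theorem F15954 : act 5 n7486 = n7400 := d16_2 (iv F15332) D7486 (iv D7400) (iv F13708) D7301
theorem F15955 : act 2 n7486 = n7468 := d23_2 (iv F14937) D7486 (iv D7468) (iv F15573) (iv D7376) F11016 D6364 D7380 (iv F15582) F14901
def n7487 : Q := act 3 n7200
theorem D7487 : act 3 n7200 = n7487 := rfl
theorem F15956 : act 0 n7487 = n7479 := d2_1 D7487 F15938 F15910
theorem F15957 : act 5 n7474 = n7487 := d24_1 D7474 (iv D7487) (iv F15085) (iv F15087) F15928 (iv D7476) (iv D7189) D7191 D7479 F15938 F15912 (iv F15872) F15871 (iv F15799) F15798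
def n7488 : Q := act 3 n7201
theorem D7488 : act 3 n7201 = n7488 := rfl
theorem F15958 : act 0 n7488 = n7221 := d2_1 D7488 F15905 F15901
theorem F15959 : act 2 n7488 = n7218 := d11_1 D7488 (iv D7218) (iv F14758) (iv F14817) F14816 F14649 (iv F15364) (iv F15543) (iv F15903) (iv F15905) (iv D7221) (iv D4671) (iv F8343) (iv F14624) F9021 D5084 (iv F14642) D7395 (iv F15627)
theorem F15960 : act 4 n7488 = n7221 := d15_2 F14943 D7488 F15905 F15904 F15541
theorem F15961 : act 6 n7488 = n7480 := d17_2 D7201 D7488 F15943 (iv D7247) (iv F14628)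
def n7489 : Q := act 4 n7202
theorem D7489 : act 4 n7202 = n7489 := rfl
theorem F15962 : act 6 n7489 = n7206 := d19_2 (iv F14942) D7489 (iv D7206)
def n7490 : Q := act 3 n7204
theorem D7490 : act 3 n7204 = n7490 := rfl
theorem F15963 : act 1 n7490 = n7490 := d7_1 D7490 (iv D7490) F14946
theorem F15964 : act 4 n7490 = n7410 := d15_2 (iv F15836) D7490 (iv D7410) (iv F14861) D7449
theorem F15965 : act 5 n7490 = n7433 := d16_2 F15441 D7490 (iv D7433) (iv F15651) F15649
theorem F15966 : act 6 n7490 = n7429 := d17_2 (iv F14945) D7490 (iv D7429) F11374 D6567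
def n7491 : Q := act 3 n7205
theorem D7491 : act 3 n7205 = n7491 := rfl
theorem F15967 : act 0 n7491 = n7441 := d2_1 D7491 F15803 F15584
theorem F15968 : act 1 n7491 = n7419 := d7_1 D7491 F15714 F15155
theorem F15969 : act 2 n7491 = n7491 := d11_1 D7491 (iv D7491) (iv D7205) (iv D4634) F4246 (iv F13678) (iv F8314) D7183 (iv F15586) (iv F15803) F15802 F15803 F15586 (iv D7183) F8314 F13678 (iv F4246) D4634 D7205
theorem F15970 : act 6 n7491 = n7415 := d17_2 (iv F15150) D7491 (iv D7415) F13645 (iv F15147)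
theorem F15971 : act 5 n7441 = n7491 := d24_1 D7441 (iv D7491) (iv D7205) (iv F14942) (iv F15580) (iv F15582) (iv F15546) (iv F15548) (iv F15791) (iv D7437) F11563 (iv D3426) D3425 D6681 F14497
theorem F15972 : act 4 n7491 = n7441 := d21_4 F15971 F15970 F15698 (iv F15970)
def n7492 : Q := act 4 n7205
theorem D7492 : act 4 n7205 = n7492 := rfl
theorem F15973 : act 1 n7492 = n7384 := d8_1 D7492 F15592 F15155
theorem F15974 : act 2 n7492 = n7206 := d12_1 D7492 (iv D7206) D7205
theorem F15975 : act 5 n7492 = n7382 := d21_0 (iv D7382) (iv F15148) (iv F15150) D7492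
def n7493 : Q := act 5 n7205
theorem D7493 : act 5 n7205 = n7493 := rfl
theorem F15976 : act 0 n7493 = n7492 := d4_1 D7493 F15975 F15584
theorem F15977 : act 1 n7493 = n7383 := d9_1 D7493 F15589 F15155
theorem F15978 : act 2 n7493 = n7207 := d13_1 D7493 (iv D7207) D7205
theorem F15979 : act 3 n7493 = n7492 := d16_1 D7493 F15975 (iv F15803) F15971 (iv D7491)
theorem F15980 : act 4 n7493 = n7382 := d18_1 D7493 (iv F15975) (iv D7492)
theorem F15981 : act 6 n7493 = n7381 := d21_3 (iv F15148) (iv F15150) D7493 (iv D7381)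
def n7494 : Q := act 6 n7207
theorem D7494 : act 6 n7207 = n7494 := rfl
theorem F15982 : act 0 n7494 = n7489 := d5_1 D7494 F15962 (iv F14950)
theorem F15983 : act 1 n7494 = n7488 := d10_1 D7494 F15961 F15942
theorem F15984 : act 2 n7494 = n7381 := d14_1 D7494 (iv F15981) F15978
theorem F15985 : act 3 n7494 = n7259 := d17_1 D7494 (iv D7259) (iv D5077) D5079 (iv F14948)
theorem F15986 : act 4 n7494 = n7380 := d19_1 D7494 F15581 F14949
theorem F15987 : act 5 n7494 = n7489 := d20_1 D7494 F15962 F14951 (iv F15581) F15580 F14942 D7207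
def n7495 : Q := act 2 n7208
theorem D7495 : act 2 n7208 = n7495 := rfl
theorem F15988 : act 0 n7495 = n7258 := d1_1 D7495 (iv D7258) (iv F14952)
theorem F15989 : act 5 n7495 = n7439 := d13_2 (iv F14954) D7495 F15798
theorem F15990 : act 4 n7440 = n7495 := d18_3 F15989 (iv D7439) D7440
def n7496 : Q := act 4 n7208
theorem D7496 : act 4 n7208 = n7496 := rfl
theorem F15991 : act 0 n7496 = n7253 := d3_1 D7496 F15108 (iv F14952)
theorem F15992 : act 1 n7496 = n7438 := d8_1 D7496 (iv F15796) (iv F14953)
theorem F15993 : act 2 n7496 = n7440 := d12_1 D7496 F15990 (iv D7495)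
theorem F15994 : act 3 n7496 = n7215 := d15_1 D7496 (iv D7215) (iv D4647) (iv F8357) D7208
theorem F15995 : act 5 n7496 = n7438 := d18_2 (iv F14954) D7496 (iv F15796)
theorem F15996 : act 6 n7487 = n7496 := d21_3 F14954 D7474 F15957 (iv D7496)
def n7497 : Q := act 6 n7208
theorem D7497 : act 6 n7208 = n7497 := rfl
theorem F15997 : act 0 n7497 = n7259 := d5_1 D7497 (iv D7259) (iv F14952)
theorem F15998 : act 1 n7497 = n7474 := d10_1 D7497 (iv D7474) (iv F14953)
theorem F15999 : act 3 n7497 = n7489 := d17_1 D7497 F15962 F14960 (iv D7209) D7208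
theorem F16000 : act 4 n7497 = n7487 := d19_1 D7497 F15996 (iv D7496)
def n7498 : Q := act 6 n7212
theorem D7498 : act 6 n7212 = n7498 := rfl
theorem F16001 : act 0 n7498 = n7330 := d5_1 D7498 (iv F15769) F15764
theorem F16002 : act 1 n7498 = n7233 := d10_1 D7498 (iv D7233) (iv F14969)
theorem F16003 : act 2 n7498 = n7213 := d14_1 D7498 (iv D7213) D7212
theorem F16004 : act 3 n7498 = n7326 := d17_1 D7498 F15405 F14268 (iv F14548) (iv F14971)
theorem F16005 : act 4 n7498 = n7213 := d19_1 D7498 (iv D7213) (iv F14970)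
theorem F16006 : act 5 n7498 = n7473 := d20_1 D7498 (iv D7473) F14927 D7213 (iv F15413) (iv F15769) F15768
def n7499 : Q := act 4 n7214
theorem D7499 : act 4 n7214 = n7499 := rfl
theorem F16007 : act 0 n7499 = n7477 := d3_1 D7499 F15930 (iv F14974)
theorem F16008 : act 1 n7499 = n7215 := d8_1 D7499 (iv D7215) (iv F14975)
theorem F16009 : act 2 n7499 = n7499 := d12_1 D7499 (iv D7499) F14977
theorem F16010 : act 3 n7499 = n7438 := d15_1 D7499 (iv F15796) (iv D7188) (iv F8373) D7214
theorem F16011 : act 6 n7499 = n7477 := d19_2 (iv F14976) D7499 F15930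
def n7500 : Q := act 5 n7214
theorem D7500 : act 5 n7214 = n7500 := rfl
theorem F16012 : act 0 n7500 = n7299 := d4_1 D7500 F15292 (iv F14974)
theorem F16013 : act 1 n7500 = n7216 := d9_1 D7500 (iv D7216) (iv F14975)
theorem F16014 : act 2 n7500 = n7500 := d13_1 D7500 (iv D7500) F14977
theorem F16015 : act 3 n7500 = n7267 := d16_1 D7500 F15144 F14633 (iv F13866) D7214
def n7501 : Q := act 6 n7217
theorem D7501 : act 6 n7217 = n7501 := rfl
theorem F16016 : act 0 n7501 = n7262 := d5_1 D7501 (iv D7262) (iv F14982)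
theorem F16017 : act 1 n7501 = n7237 := d10_1 D7501 (iv D7237) (iv F14983)
theorem F16018 : act 2 n7501 = n7262 := d14_1 D7501 (iv D7262) (iv F14985)
theorem F16019 : act 3 n7501 = n7318 := d17_1 D7501 (iv D7318) (iv F14649) (iv F8389) D7217
theorem F16020 : act 4 n7501 = n7329 := d19_1 D7501 (iv F15756) F15754
def n7502 : Q := act 6 n7218
theorem D7502 : act 6 n7218 = n7502 := rfl
theorem F16021 : act 0 n7502 = n7222 := d5_1 D7502 (iv D7222) (iv F14986)
theorem F16022 : act 1 n7502 = n7223 := d10_1 D7502 (iv D7223) (iv F14987)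
theorem F16023 : act 2 n7502 = n7480 := d14_1 D7502 (iv F15961) F15959
theorem F16024 : act 3 n7502 = n7350 := d17_1 D7502 (iv D7350) F10706 (iv F13956) D7218
theorem F16025 : act 4 n7502 = n7222 := d19_1 D7502 (iv D7222) (iv F14988)
theorem F16026 : act 5 n7502 = n7266 := d21_2 F15131 D7502 (iv D7266) (iv F15130)
def n7503 : Q := act 5 n7222
theorem D7503 : act 5 n7222 = n7503 := rfl
theorem F16027 : act 0 n7503 = n7266 := d4_1 D7503 (iv F16026) F16021
theorem F16028 : act 1 n7503 = n7224 := d9_1 D7503 (iv D7224) (iv F14993)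
theorem F16029 : act 2 n7503 = n7342 := d13_1 D7503 (iv F15907) F15909
theorem F16030 : act 3 n7503 = n7353 := d16_1 D7503 F15501 (iv F14033) (iv F11134) (iv F14994)
theorem F16031 : act 4 n7503 = n7266 := d18_1 D7503 (iv F16026) F16025
theorem F16032 : act 6 n7503 = n7263 := d20_2 D7222 D7503 F15131 D7502 F16026 (iv D7266) F9065
def n7504 : Q := act 5 n7227
theorem D7504 : act 5 n7227 = n7504 := rfl
theorem F16033 : act 0 n7504 = n7426 := d4_1 D7504 F15750 (iv F15010)
theorem F16034 : act 1 n7504 = n7504 := d9_1 D7504 (iv D7504) F15011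
theorem F16035 : act 2 n7504 = n7229 := d13_1 D7504 (iv D7229) (iv F15012)
theorem F16036 : act 4 n7504 = n7228 := d18_1 D7504 (iv D7228) D7227
theorem F16037 : act 6 n7504 = n7426 := d20_2 (iv F15014) D7504 F15750 F15004 D7228 (iv F15174) (iv D7274)
theorem F16038 : act 3 n7504 = n7418 := d24_2 (iv F15014) D7504 (iv D7418) D7419 F15716 (iv F13761) (iv F14711) (iv D4681) (iv F4599) (iv D2614) F2330 D1287 F2340 D2622 D5125
def n7505 : Q := act 3 n7238
theorem D7505 : act 3 n7238 = n7505 := rfl
theorem F16039 : act 0 n7505 = n7442 := d2_1 D7505 F15806 F15132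
theorem F16040 : act 1 n7505 = n7505 := d7_1 D7505 (iv D7505) F15050
theorem F16041 : act 2 n7505 = n7416 := d11_1 D7505 (iv D7416) (iv F15682) F15683 F14936 F14628 F9016 D5102 D7264 (iv F15806) (iv D7442) (iv D6682) (iv F11563) D7437 (iv F15794) (iv D7179) F13846 D4726 D7238
theorem F16042 : act 4 n7505 = n7442 := d15_2 (iv F15051) D7505 F15806 F15134 (iv F15036)
theorem F16043 : act 6 n7505 = n7505 := d19_0 F16042 F15805 (iv F16042)
def n7506 : Q := act 6 n7238
theorem D7506 : act 6 n7238 = n7506 := rfl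
theorem F16044 : act 0 n7506 = n7428 := d5_1 D7506 F15759 F15132
theorem F16045 : act 1 n7506 = n7506 := d10_1 D7506 (iv D7506) F15050
theorem F16046 : act 2 n7506 = n7239 := d14_1 D7506 (iv D7239) D7238
theorem F16047 : act 3 n7506 = n7506 := d17_1 D7506 (iv D7506) D7505 F16043 (iv D7505)
theorem F16048 : act 4 n7506 = n7448 := d19_1 D7506 F15830 (iv F15051)
theorem F16049 : act 5 n7506 = n7447 := d20_1 D7506 (iv F15826) (iv F15035) (iv F15830) (iv F15831) F15759 F15135
def n7507 : Q := act 5 n7242
theorem D7507 : act 5 n7242 = n7507 := rfl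
theorem F16050 : act 0 n7507 = n7246 := d4_1 D7507 (iv D7246) (iv F15068)
theorem F16051 : act 1 n7507 = n7257 := d9_1 D7507 (iv D7257) (iv F15069)
theorem F16052 : act 3 n7507 = n7334 := d16_1 D7507 (iv D7334) (iv F15076) (iv D7243) D7242
def n7508 : Q := act 5 n7244
theorem D7508 : act 5 n7244 = n7508 := rfl
theorem F16053 : act 1 n7508 = n7256 := d9_1 D7508 F15116 F15112
theorem F16054 : act 2 n7508 = n7246 := d13_1 D7508 (iv D7246) D7244
theorem F16055 : act 3 n7508 = n7256 := d16_1 D7508 F15116 (iv F15115) (iv F15899) F15898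
theorem F16056 : act 4 n7508 = n7507 := d18_1 D7508 (iv D7507) (iv F15077)
theorem F16057 : act 6 n7508 = n7246 := d21_1 D7508 (iv D7246) (iv F15070) (iv F15077)
def n7509 : Q := act 5 n7245
theorem D7509 : act 5 n7245 = n7509 := rfl
theorem F16058 : act 0 n7509 = n7508 := d4_1 D7509 (iv D7508) (iv F15078)
theorem F16059 : act 1 n7509 = n7254 := d9_1 D7509 (iv D7254) (iv F15079)
theorem F16060 : act 2 n7509 = n7507 := d13_1 D7509 (iv D7507) (iv F15080)
theorem F16061 : act 3 n7509 = n7337 := d16_1 D7509 F15446 (iv D7198) D7199 (iv F15081)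
theorem F16062 : act 4 n7509 = n7246 := d18_1 D7509 (iv D7246) D7245
theorem F16063 : act 6 n7509 = n7507 := d20_2 (iv F15082) D7509 (iv D7507) F15070 D7246 (iv F16057) (iv D7508)
def n7510 : Q := act 5 n7249
theorem D7510 : act 5 n7249 = n7510 := rfl
theorem F16064 : act 0 n7510 = n7328 := d4_1 D7510 (iv F15834) F15832
theorem F16065 : act 1 n7510 = n7251 := d9_1 D7510 (iv D7251) D7249
theorem F16066 : act 2 n7510 = n7256 := d13_1 D7510 F15116 F15113
theorem F16067 : act 3 n7510 = n7322 := d16_1 D7510 (iv F15391) F15393 (iv F15738) F15734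
theorem F16068 : act 6 n7510 = n7251 := d21_1 D7510 (iv D7251) D7252 F15105
def n7511 : Q := act 3 n7250
theorem D7511 : act 3 n7250 = n7511 := rfl
theorem F16069 : act 2 n7511 = n7462 := d23_2 (iv F15098) D7511 (iv D7462) F14878 D7175 (iv F15876) (iv F15879) (iv F15993) F15994 F14978
theorem F16070 : act 5 n7431 = n7511 := d13_0 F16069 (iv F15886) F15880
def n7512 : Q := act 5 n7250
theorem D7512 : act 5 n7250 = n7512 := rfl
theorem F16071 : act 0 n7512 = n7327 := d4_1 D7512 (iv F15774) F15771
theorem F16072 : act 2 n7512 = n7254 := d13_1 D7512 (iv D7254) (iv F15098)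
theorem F16073 : act 3 n7512 = n7349 := d16_1 D7512 F15485 D7431 F16070 (iv D7511)
theorem F16074 : act 4 n7512 = n7251 := d18_1 D7512 (iv D7251) D7250
def n7513 : Q := act 3 n7252
theorem D7513 : act 3 n7252 = n7513 := rfl
theorem F16075 : act 0 n7513 = n7490 := d2_1 D7513 (iv D7490) (iv F15102)
theorem F16076 : act 1 n7513 = n7511 := d7_1 D7513 (iv D7511) F15104
theorem F16077 : act 4 n7513 = n7431 := d15_2 (iv F15105) D7513 (iv D7431) (iv F15737) F15734
def n7514 : Q := act 5 n7252
theorem D7514 : act 5 n7252 = n7514 := rfl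
theorem F16078 : act 0 n7514 = n7336 := d4_1 D7514 F15441 (iv F15102)
theorem F16079 : act 1 n7514 = n7512 := d9_1 D7514 (iv D7512) F15104
theorem F16080 : act 2 n7514 = n7257 := d13_1 D7514 (iv D7257) (iv F15103)
theorem F16081 : act 4 n7514 = n7510 := d18_1 D7514 (iv D7510) (iv F15105)
theorem F16082 : act 6 n7514 = n7512 := d20_2 D7252 D7514 (iv D7512) (iv F15106) D7510 F16068 (iv D7251)
def n7515 : Q := act 2 n7253
theorem D7515 : act 2 n7253 = n7515 := rfl
theorem F16083 : act 0 n7515 = n7440 := d1_1 D7515 (iv F15993) F15991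
theorem F16084 : act 4 n7515 = n7258 := d12_2 (iv F15108) D7515 (iv D7258)
theorem F16085 : act 5 n7515 = n7414 := d13_2 F15109 D7515 F15693
theorem F16086 : act 6 n7515 = n7398 := d14_2 F15940 D7515 (iv F15937)
theorem F16087 : act 1 n7481 = n7515 := d22_4 F15797 D7475 F15922 D7481 (iv D7515) (iv F15991) F15992 (iv D7438) D7439
def n7516 : Q := act 3 n7254
theorem D7516 : act 3 n7254 = n7516 := rfl
theorem F16088 : act 1 n7516 = n7337 := d7_1 D7516 (iv F16061) F16059
theorem F16089 : act 4 n7516 = n7299 := d15_2 (iv F15110) D7516 (iv D7299) F13398 (iv F14608)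
theorem F16090 : act 5 n7516 = n7477 := d16_2 D7254 D7516 (iv D7477) F15109 (iv D7253)
theorem F16091 : act 6 n7516 = n7500 := d17_2 F15120 D7516 F16015 F15145 (iv F15118)
theorem F16092 : act 2 n7516 = n7516 := d23_2 F16072 D7516 (iv D7516) (iv F16072) F16073 F15483 F10709 (iv F11131) (iv F15407) (iv F16071)
def n7517 : Q := act 1 n7258
theorem D7517 : act 1 n7258 = n7517 := rfl
theorem F16093 : act 2 n7517 = n7483 := d6_2 D7258 D7517 F15947 F14936 (iv F14627)
theorem F16094 : act 4 n7517 = n7481 := d8_2 F16084 D7517 F16087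
theorem F16095 : act 5 n7517 = n7475 := d9_2 (iv F15121) D7517 (iv D7475)
theorem F16096 : act 0 n7482 = n7517 := d22_0 (iv D7517) (iv D7258) (iv F14952) F14953 (iv F15798) F15797 D7475 F15922 D7482
def n7518 : Q := act 3 n7258
theorem D7518 : act 3 n7258 = n7518 := rfl
theorem F16097 : act 5 n7518 = n7485 := d16_2 (iv F15121) D7518 (iv D7485) F15928 (iv D7476)
theorem F16098 : act 6 n7518 = n7399 := d17_2 (iv F15641) D7518 (iv D7399) (iv F11118) D7401
theorem F16099 : act 2 n7518 = n7490 := d23_2 D7258 D7518 (iv D7490) (iv D7204) (iv D4629) F4244 D2375 D4636 D7208 F14952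
def n7519 : Q := act 6 n7261
theorem D7519 : act 6 n7261 = n7519 := rfl
theorem F16100 : act 0 n7519 = n7329 := d5_1 D7519 (iv F15756) F15752
theorem F16101 : act 1 n7519 = n7277 := d10_1 D7519 (iv D7277) (iv F15124)
theorem F16102 : act 2 n7519 = n7329 := d14_1 D7519 (iv F15756) (iv F15757)
theorem F16103 : act 3 n7519 = n7325 := d17_1 D7519 (iv D7325) F10552 D6177 (iv F15125)
theorem F16104 : act 4 n7519 = n7262 := d19_1 D7519 (iv D7262) D7261
theorem F16105 : act 5 n7519 = n7501 := d20_1 D7519 (iv D7501) F14984 D7262 (iv F15411) (iv F15756) F15755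
def n7520 : Q := act 2 n7263
theorem D7520 : act 2 n7263 = n7520 := rfl
theorem F16106 : act 0 n7520 = n7265 := d1_1 D7520 (iv D7265) (iv F15128)
theorem F16107 : act 3 n7520 = n7474 := d11_2 D7263 D7520 F15921 (iv D7340) (iv D6057) (iv D3092) (iv F5367) (iv F14605) F9018 D5105 D7265 F15137 (iv F14931) (iv D6384) F5595 (iv F5359) (iv F13406) (iv F15076) F15073
theorem F16108 : act 4 n7520 = n7265 := d12_2 (iv F15130) D7520 (iv D7265)
theorem F16109 : act 5 n7520 = n7488 := d13_2 (iv F15131) D7520 F15959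
theorem F16110 : act 6 n7520 = n7342 := d14_2 F16032 D7520 (iv F16029)
theorem F16111 : act 1 n7489 = n7520 := d22_1 F15982 (iv D7520) F15128 F9064 D5111 F14001 (iv F11090) D7380 (iv F15986)
def n7521 : Q := act 4 n7268
theorem D7521 : act 4 n7268 = n7521 := rfl
theorem F16112 : act 0 n7521 = n7381 := d3_1 D7521 (iv D7381) F15149
theorem F16113 : act 1 n7521 = n7269 := d8_1 D7521 (iv D7269) D7268
theorem F16114 : act 2 n7521 = n7489 := d12_1 D7521 (iv D7489) (iv F15146)
theorem F16115 : act 3 n7521 = n7356 := d15_1 D7521 (iv F15708) (iv D7417) F13646 (iv F15147)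
theorem F16116 : act 5 n7521 = n7381 := d18_2 (iv F15148) D7521 (iv D7381)
theorem F16117 : act 6 n7521 = n7492 := d19_2 F15150 D7521 (iv D7492)
def n7522 : Q := act 6 n7271
theorem D7522 : act 6 n7271 = n7522 := rfl
theorem F16118 : act 0 n7522 = n7321 := d5_1 D7522 (iv D7321) (iv F15157)
theorem F16119 : act 1 n7522 = n7272 := d10_1 D7522 (iv D7272) D7271
theorem F16120 : act 3 n7522 = n7287 := d17_1 D7522 (iv D7287) F10055 F13488 (iv F15158)
theorem F16121 : act 4 n7522 = n7408 := d19_1 D7522 F15667 F15199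
theorem F16122 : act 5 n7522 = n7321 := d20_1 D7522 (iv D7321) (iv F15200) (iv F15667) (iv F15671) F15672 F15382
def n7523 : Q := act 3 n7288
theorem D7523 : act 3 n7288 = n7523 := rfl
theorem F16123 : act 0 n7523 = n7362 := d2_1 D7523 (iv D7362) (iv F15229)
theorem F16124 : act 1 n7523 = n7455 := d7_1 D7523 F15852 F15686
theorem F16125 : act 6 n7523 = n7362 := d17_2 F15664 D7523 (iv D7362) (iv F15529) (iv F15665)
theorem F16126 : act 5 n7453 = n7523 := d9_0 F16124 (iv D7455) D7453
def n7524 : Q := act 5 n7288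
theorem D7524 : act 5 n7288 = n7524 := rfl
theorem F16127 : act 0 n7524 = n7363 := d4_1 D7524 (iv D7363) (iv F15229)
theorem F16128 : act 1 n7524 = n7412 := d9_1 D7524 (iv F15689) F15686
theorem F16129 : act 2 n7524 = n7289 := d13_1 D7524 (iv D7289) D7288
theorem F16130 : act 3 n7524 = n7483 := d16_1 D7524 (iv D7483) (iv F15847) F16126 (iv D7523)
theorem F16131 : act 4 n7524 = n7363 := d18_1 D7524 (iv D7363) (iv F15230)
theorem F16132 : act 6 n7524 = n7405 := d20_2 F15664 D7524 F15655 F15529 D7363 (iv F15535) D7407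
def n7525 : Q := act 6 n7299
theorem D7525 : act 6 n7299 = n7525 := rfl
theorem F16133 : act 0 n7525 = n7516 := d5_1 D7525 F16091 F16012
theorem F16134 : act 1 n7525 = n7338 := d10_1 D7525 (iv D7338) (iv F15291)
theorem F16135 : act 2 n7525 = n7525 := d14_1 D7525 (iv D7525) F15293
theorem F16136 : act 3 n7525 = n7338 := d17_1 D7525 (iv D7338) (iv D6053) (iv F13399) D7299
theorem F16137 : act 4 n7525 = n7500 := d19_1 D7525 (iv F16091) F16089
theorem F16138 : act 5 n7525 = n7499 := d20_1 D7525 F16011 (iv F16090) F16091 (iv D7500) F14976 (iv F15292)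
def n7526 : Q := act 3 n7300
theorem D7526 : act 3 n7300 = n7526 := rfl
theorem F16139 : act 0 n7526 = n7389 := d2_1 D7526 (iv D7389) F15297
theorem F16140 : act 1 n7526 = n7301 := d7_1 D7526 (iv D7301) D7300
theorem F16141 : act 5 n7484 = n7526 := d9_0 F16140 (iv F15332) (iv F15948)
def n7527 : Q := act 3 n7305
theorem D7527 : act 3 n7305 = n7527 := rfl
theorem F16142 : act 0 n7527 = n7443 := d2_1 D7527 F15808 F15512
theorem F16143 : act 1 n7527 = n7420 := d7_1 D7527 F15719 (iv F15314)
theorem F16144 : act 4 n7527 = n7443 := d15_2 (iv F15315) D7527 F15808 F15515 F15189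
theorem F16145 : act 5 n7527 = n7416 := d16_2 (iv F15707) D7527 (iv D7416) (iv F11274) D7417
theorem F16146 : act 6 n7527 = n7443 := d17_2 (iv F15316) D7527 F15808 (iv D7357) (iv F15189)
def n7528 : Q := act 2 n7309
theorem D7528 : act 2 n7309 = n7528 := rfl
theorem F16147 : act 0 n7528 = n7373 := d1_1 D7528 (iv D7373) (iv F15334)
theorem F16148 : act 1 n7528 = n7316 := d6_1 D7528 F15364 F10527 (iv F14026) (iv F15335)
theorem F16149 : act 4 n7528 = n7311 := d12_2 (iv F15336) D7528 (iv D7311)
theorem F16150 : act 5 n7528 = n7310 := d13_2 (iv F15337) D7528 (iv D7310)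
theorem F16151 : act 6 n7528 = n7435 := d14_2 F15497 D7528 F15786
def n7529 : Q := act 4 n7312
theorem D7529 : act 4 n7312 = n7529 := rfl
theorem F16152 : act 0 n7529 = n7377 := d3_1 D7529 (iv D7377) (iv F15342)
theorem F16153 : act 1 n7529 = n7463 := d8_1 D7529 F15874 (iv F15343)
theorem F16154 : act 2 n7529 = n7529 := d12_1 D7529 (iv D7529) F15344
theorem F16155 : act 3 n7529 = n7377 := d15_1 D7529 (iv D7377) (iv D6302) (iv F13700) D7312
theorem F16156 : act 5 n7529 = n7459 := d18_2 F15346 D7529 (iv D7459)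
theorem F16157 : act 6 n7529 = n7377 := d19_2 (iv F15345) D7529 (iv D7377)
def n7530 : Q := act 3 n7313
theorem D7530 : act 3 n7313 = n7530 := rfl
theorem F16158 : act 0 n7530 = n7379 := d2_1 D7530 (iv D7379) (iv F15347)
theorem F16159 : act 1 n7530 = n7437 := d7_1 D7530 (iv D7437) (iv F15348)
theorem F16160 : act 5 n7530 = n7458 := d16_2 D7313 D7530 (iv D7458) F15346 (iv D7312)
theorem F16161 : act 2 n7458 = n7530 := d6_0 F16159 (iv F15794) F14894 (iv F14877) (iv F15860)
def n7531 : Q := act 3 n7319
theorem D7531 : act 3 n7319 = n7531 := rfl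
theorem F16162 : act 1 n7531 = n7394 := d7_1 D7531 (iv D7394) (iv F15376)
theorem F16163 : act 4 n7531 = n7389 := d15_2 F15377 D7531 (iv D7389) (iv D6377) D6376
theorem F16164 : act 2 n7531 = n7391 := d23_2 D7319 D7531 (iv D7391) F11107 D6414 F14476 F10055 F14114 (iv F15158) F15157
def n7532 : Q := act 3 n7339
theorem D7532 : act 3 n7339 = n7532 := rfl
theorem F16165 : act 0 n7532 = n7364 := d2_1 D7532 (iv D7364) (iv F15452)
theorem F16166 : act 1 n7532 = n7340 := d7_1 D7532 (iv D7340) D7339
def n7533 : Q := act 5 n7340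
theorem D7533 : act 5 n7340 = n7533 := rfl
theorem F16167 : act 0 n7533 = n7398 := d4_1 D7533 (iv D7398) (iv F15456)
theorem F16168 : act 2 n7533 = n7487 := d13_1 D7533 (iv F15957) F15921
theorem F16169 : act 6 n7533 = n7440 := d21_1 D7533 (iv D7440) (iv F15789) F15788
def n7534 : Q := act 3 n7341
theorem D7534 : act 3 n7341 = n7534 := rfl
theorem F16170 : act 0 n7534 = n7399 := d2_1 D7534 (iv D7399) (iv F15457)
def n7535 : Q := act 5 n7343
theorem D7535 : act 5 n7343 = n7535 := rfl
theorem F16171 : act 0 n7535 = n7344 := d4_1 D7535 (iv D7344) D7343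
theorem F16172 : act 1 n7535 = n7346 := d9_1 D7535 (iv D7346) (iv F15463)
theorem F16173 : act 2 n7535 = n7351 := d13_1 D7535 (iv D7351) (iv F15464)
theorem F16174 : act 4 n7535 = n7365 := d18_1 D7535 (iv D7365) (iv F15466)
theorem F16175 : act 6 n7535 = n7375 := d20_2 F15467 D7535 F15570 F15455 D7365 F15539 (iv D7344)
def n7536 : Q := act 3 n7344
theorem D7536 : act 3 n7344 = n7536 := rfl
theorem F16176 : act 1 n7536 = n7345 := d7_1 D7536 (iv D7345) (iv F15468)
theorem F16177 : act 2 n7536 = n7364 := d23_2 (iv F15469) D7536 (iv D7364) F10933 F5506 (iv F5817) D6663 (iv F15554) F15555 F15491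
def n7537 : Q := act 3 n7346
theorem D7537 : act 3 n7346 = n7537 := rfl
theorem F16178 : act 0 n7537 = n7401 := d2_1 D7537 (iv D7401) (iv F15471)
theorem F16179 : act 2 n7537 = n7497 := d11_1 D7537 F15999 (iv F16114) F16115 F15511 F10804 (iv F10830) F14305 (iv F11116) D7401 F15640 (iv F15985) F15984 (iv F15812) F15811 F15192 F14315 (iv F14158) (iv F15472)
theorem F16180 : act 5 n7537 = n7436 := d16_2 D7346 D7537 (iv D7436) F15260 F14610
theorem F16181 : act 4 n7533 = n7537 := d18_3 F16180 F15788 D7533
theorem F16182 : act 6 n7495 = n7537 := d20_0 F16180 F15789 D7440 (iv F16169) (iv D7533) (iv F15800) (iv F15989)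
def n7538 : Q := act 3 n7347
theorem D7538 : act 3 n7347 = n7538 := rfl
theorem F16183 : act 0 n7538 = n7402 := d2_1 D7538 (iv D7402) (iv F15475)
theorem F16184 : act 6 n7538 = n7511 := d17_2 F15735 D7538 (iv D7511) (iv F15106) (iv F15734)
def n7539 : Q := act 6 n7348
theorem D7539 : act 6 n7348 = n7539 := rfl
theorem F16185 : act 0 n7539 = n7404 := d5_1 D7539 (iv D7404) F15480
theorem F16186 : act 1 n7539 = n7349 := d10_1 D7539 (iv D7349) D7348
theorem F16187 : act 2 n7539 = n7353 := d14_1 D7539 (iv D7353) (iv F15478)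
theorem F16188 : act 3 n7539 = n7514 := d17_1 D7539 F16082 F16073 (iv D7349) (iv F15481)
theorem F16189 : act 4 n7539 = n7425 := d19_1 D7539 F15747 (iv F15479)
theorem F16190 : act 5 n7539 = n7424 := d20_1 D7539 F15742 F15646 (iv F15747) (iv D7425) (iv F15732) F15731
def n7540 : Q := act 3 n7361
theorem D7540 : act 3 n7361 = n7540 := rfl
theorem F16191 : act 0 n7540 = n7376 := d2_1 D7540 (iv D7376) F15531
theorem F16192 : act 1 n7540 = n7362 := d7_1 D7540 (iv D7362) D7361
theorem F16193 : act 6 n7540 = n7455 := d17_2 F15680 D7540 F15852 (iv D7413) (iv F15678)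
theorem F16194 : act 2 n7540 = n7457 := d24_3 D6498 (iv F15532) D7540 (iv D7457) (iv D7169) (iv D4228) (iv D2133) D2136 F13189 (iv D1695) F1431 F1382 (iv F13231) D1621 D3331
def n7541 : Q := act 2 n7362
theorem D7541 : act 2 n7362 = n7541 := rfl
theorem F16195 : act 4 n7541 = n7523 := d22_9 F16123 (iv F16192) F16194 F15856 F14887 (iv F15573) (iv F16191) F16192 D7541
def n7542 : Q := act 4 n7362
theorem D7542 : act 4 n7362 = n7542 := rfl
theorem F16196 : act 0 n7542 = n7541 := d3_1 D7542 F16195 F16123
theorem F16197 : act 2 n7542 = n7523 := d12_1 D7542 (iv F16195) (iv D7541)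
theorem F16198 : act 3 n7542 = n7541 := d15_1 D7542 F16195 (iv D7523) F15230 D7362
theorem F16199 : act 6 n7542 = n7541 := d19_2 F16125 D7542 F16195
def n7543 : Q := act 5 n7362
theorem D7543 : act 5 n7362 = n7543 := rfl
theorem F16200 : act 0 n7543 = n7453 := d4_1 D7543 F16126 F16123
theorem F16201 : act 3 n7481 = n7543 := d2_0 F16200 F15847 D7481
def n7544 : Q := act 3 n7363
theorem D7544 : act 3 n7363 = n7544 := rfl
theorem F16202 : act 0 n7544 = n7483 := d2_1 D7544 (iv F16130) F16127
theorem F16203 : act 1 n7544 = n7414 := d7_1 D7544 (iv D7414) (iv F15533)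
theorem F16204 : act 5 n7544 = n7481 := d16_2 D7363 D7544 F16201 (iv D7543) (iv D7362)
theorem F16205 : act 6 n7544 = n7531 := d17_2 F15535 D7544 (iv D7531) F15658 (iv D7406)
theorem F16206 : act 2 n7482 = n7544 := d14_3 F16205 F16164 F15946
theorem F16207 : act 4 n7475 = n7544 := d19_3 F16205 F16163 (iv F15923)
def n7545 : Q := act 4 n7364
theorem D7545 : act 4 n7364 = n7545 := rfl
theorem F16208 : act 1 n7545 = n7367 := d8_1 D7545 (iv D7367) (iv F15536)
theorem F16209 : act 3 n7545 = n7528 := d15_1 D7545 F16149 (iv F15465) F15466 D7364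
theorem F16210 : act 5 n7536 = n7545 := d16_0 F16209 F16150 (iv F15339) D7344 D7536
theorem F16211 : act 6 n7530 = n7545 := d17_0 F16209 F16151 (iv D7435) (iv F15351) D7530
def n7546 : Q := act 5 n7364
theorem D7546 : act 5 n7364 = n7546 := rfl
theorem F16212 : act 1 n7546 = n7368 := d9_1 D7546 (iv D7368) (iv F15536)
theorem F16213 : act 2 n7546 = n7545 := d13_1 D7546 (iv F16210) F16177
theorem F16214 : act 4 n7546 = n7536 := d18_1 D7546 F16210 (iv D7545)
theorem F16215 : act 6 n7546 = n7458 := d21_1 D7546 (iv F16160) F16211 (iv D7545)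
def n7547 : Q := act 6 n7364
theorem D7547 : act 6 n7364 = n7547 := rfl
theorem F16216 : act 1 n7547 = n7369 := d10_1 D7547 (iv D7369) (iv F15536)
theorem F16217 : act 4 n7547 = n7530 := d19_1 D7547 F16211 (iv D7545)
def n7548 : Q := act 3 n7365
theorem D7548 : act 3 n7365 = n7548 := rfl
theorem F16218 : act 1 n7548 = n7370 := d7_1 D7548 (iv D7370) (iv F15537)
def n7549 : Q := act 3 n7368
theorem D7549 : act 3 n7368 = n7549 := rfl
theorem F16219 : act 0 n7549 = n7486 := d2_1 D7549 (iv D7486) (iv F15545)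
theorem F16220 : act 4 n7549 = n7534 := d15_2 (iv F15547) D7549 (iv D7534) F15459 D7345
theorem F16221 : act 5 n7549 = n7370 := d16_2 D7368 D7549 (iv D7370) (iv D6250) D6248
theorem F16222 : act 6 n7549 = n7465 := d17_2 F15548 D7549 (iv D7465) (iv D7174) D7171
def n7550 : Q := act 2 n7370
theorem D7550 : act 2 n7370 = n7550 := rfl
theorem F16223 : act 0 n7550 = n7467 := d1_1 D7550 F15890 F15638
theorem F16224 : act 3 n7550 = n7456 := d23_9 (iv F15873) (iv F15885) F15882 F14890 F14864 (iv D6254) (iv F10935) D7370 D7550 F15853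
theorem F16225 : act 4 n7538 = n7550 := d15_0 F16224 F15854 F14874 (iv F15476) D7538
def n7551 : Q := act 4 n7370
theorem D7551 : act 4 n7370 = n7551 := rfl
theorem F16226 : act 2 n7551 = n7538 := d12_1 D7551 F16225 (iv D7550)
theorem F16227 : act 3 n7551 = n7533 := d15_1 D7551 F16181 (iv D7537) F15473 D7370
theorem F16228 : act 5 n7551 = n7534 := d18_2 F16221 D7551 (iv F16220)
theorem F16229 : act 6 n7462 = n7551 := d21_3 (iv F16221) F16222 F15886 (iv D7551)
def n7552 : Q := act 6 n7370
theorem D7552 : act 6 n7370 = n7552 := rfl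
theorem F16230 : act 0 n7552 = n7485 := d5_1 D7552 F15951 F15638
theorem F16231 : act 3 n7552 = n7461 := d17_1 D7552 F15872 (iv D7345) (iv F14787) D7370
theorem F16232 : act 4 n7552 = n7462 := d19_1 D7552 F16229 (iv D7551)
def n7553 : Q := act 3 n7373
theorem D7553 : act 3 n7373 = n7553 := rfl
theorem F16233 : act 0 n7553 = n7545 := d2_1 D7553 F16209 F16147
theorem F16234 : act 1 n7553 = n7436 := d7_1 D7553 (iv D7436) (iv F15558)
theorem F16235 : act 4 n7553 = n7532 := d15_2 (iv F15559) D7553 (iv D7532) F15454 F15339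
theorem F16236 : act 6 n7553 = n7379 := d17_2 (iv F15561) D7553 (iv D7379) F13663 D6663
def n7554 : Q := act 3 n7375
theorem D7554 : act 3 n7375 = n7554 := rfl
theorem F16237 : act 0 n7554 = n7548 := d2_1 D7554 (iv D7548) (iv F15567)
theorem F16238 : act 1 n7554 = n7534 := d7_1 D7554 (iv D7534) (iv F15568)
def n7555 : Q := act 3 n7378
theorem D7555 : act 3 n7378 = n7555 := rfl
theorem F16239 : act 0 n7555 = n7458 := d2_1 D7555 (iv D7458) (iv F15575)
theorem F16240 : act 1 n7555 = n7440 := d7_1 D7555 F15879 F15875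
theorem F16241 : act 5 n7555 = n7379 := d16_2 D7378 D7555 (iv D7379) (iv D6304) D6302
theorem F16242 : act 2 n7555 = n7379 := d23_2 F15576 D7555 (iv D7379) F11018 (iv F10417) (iv F15349) D7530 (iv F16161) (iv D7458) (iv F15575)
def n7556 : Q := act 4 n7379
theorem D7556 : act 4 n7379 = n7556 := rfl
theorem F16243 : act 0 n7556 = n7547 := d3_1 D7556 F16217 F16158
theorem F16244 : act 1 n7556 = n7439 := d8_1 D7556 (iv D7439) (iv F15577)
theorem F16245 : act 3 n7556 = n7547 := d15_1 D7556 F16217 (iv D7530) F15350 D7379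
theorem F16246 : act 6 n7556 = n7532 := d19_2 F16236 D7556 (iv F16235)
def n7557 : Q := act 6 n7385
theorem D7557 : act 6 n7385 = n7557 := rfl
theorem F16247 : act 0 n7557 = n7388 := d5_1 D7557 (iv D7388) (iv F15595)
theorem F16248 : act 1 n7557 = n7397 := d10_1 D7557 F15635 (iv F15596)
theorem F16249 : act 2 n7557 = n7408 := d14_1 D7557 F15667 F15597
theorem F16250 : act 3 n7557 = n7388 := d17_1 D7557 (iv D7388) (iv D6376) (iv F13712) D7385
theorem F16251 : act 5 n7557 = n7388 := d21_2 F15598 D7557 (iv D7388) F15377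
def n7558 : Q := act 3 n7386
theorem D7558 : act 3 n7386 = n7558 := rfl
theorem F16252 : act 0 n7558 = n7391 := d2_1 D7558 (iv D7391) (iv F15599)
theorem F16253 : act 1 n7558 = n7401 := d7_1 D7558 (iv D7401) (iv F15600)
theorem F16254 : act 5 n7558 = n7531 := d16_2 D7386 D7558 (iv D7531) F15598 (iv D7385)
theorem F16255 : act 6 n7517 = n7558 := d21_1 (iv F16095) F16254 (iv F16205) (iv F16207)
def n7559 : Q := act 3 n7387
theorem D7559 : act 3 n7387 = n7559 := rfl
theorem F16256 : act 0 n7559 = n7531 := d2_1 D7559 (iv D7531) (iv F15602)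
theorem F16257 : act 1 n7559 = n7395 := d7_1 D7559 (iv D7395) (iv F15603)
theorem F16258 : act 2 n7559 = n7558 := d11_1 D7559 (iv D7558) F15601 F14483 F10879 F5468 (iv F14112) D5962 D7319 D7531 F16164 (iv D7391) F11107 D6414 F14476 F10055 F14114 (iv F15158) (iv F15604)
theorem F16259 : act 4 n7559 = n7526 := d15_2 (iv F15605) D7559 (iv D7526) F15295 D7385
theorem F16260 : act 5 n7559 = n7391 := d16_2 D7387 D7559 (iv D7391) (iv D6378) D6376
theorem F16261 : act 6 n7483 = n7559 := d21_1 D7483 F16260 F15946 (iv D7482)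
def n7560 : Q := act 6 n7387
theorem D7560 : act 6 n7387 = n7560 := rfl
theorem F16262 : act 0 n7560 = n7406 := d5_1 D7560 (iv F15658) (iv F15602)
theorem F16263 : act 1 n7560 = n7396 := d10_1 D7560 (iv D7396) (iv F15603)
theorem F16264 : act 2 n7560 = n7522 := d14_1 D7560 (iv D7522) (iv F15604)
theorem F16265 : act 3 n7560 = n7405 := d17_1 D7560 (iv F16132) F16130 F16261 (iv D7559)
theorem F16266 : act 4 n7560 = n7557 := d19_1 D7560 (iv D7557) (iv F15605)
theorem F16267 : act 5 n7560 = n7406 := d20_1 D7560 (iv F15658) F15598 D7557 F16251 (iv D7388) D7387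
def n7561 : Q := act 5 n7389
theorem D7561 : act 5 n7389 = n7561 := rfl
theorem F16268 : act 0 n7561 = n7484 := d4_1 D7561 F16141 F16139
theorem F16269 : act 1 n7561 = n7398 := d9_1 D7561 (iv D7398) (iv F15607)
theorem F16270 : act 2 n7561 = n7526 := d13_1 D7561 (iv F16141) F15949
theorem F16271 : act 4 n7561 = n7558 := d18_1 D7561 F16254 F16163
theorem F16272 : act 6 n7561 = n7481 := d20_2 F15923 D7561 (iv F16204) F16205 (iv F16254) (iv F16255) F16095
def n7562 : Q := act 3 n7390
theorem D7562 : act 3 n7390 = n7562 := rfl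
theorem F16273 : act 1 n7562 = n7399 := d7_1 D7562 (iv D7399) (iv F15608)
theorem F16274 : act 2 n7562 = n7562 := d23_2 (iv F15609) D7562 (iv D7562) F15609 D7408 (iv F16249) F16250 F15673 (iv D7409) (iv F14785)
def n7563 : Q := act 3 n7392
theorem D7563 : act 3 n7392 = n7563 := rfl
theorem F16275 : act 0 n7563 = n7562 := d2_1 D7563 (iv D7562) (iv F15613)
theorem F16276 : act 1 n7563 = n7400 := d7_1 D7563 (iv D7400) (iv F15614)
theorem F16277 : act 2 n7563 = n7563 := d11_1 D7563 (iv D7563) F15615 D7409 (iv F15673) (iv F16250) F16249 (iv D7408) (iv F15609) D7562 F16274 (iv D7562) F15609 D7408 (iv F16249) F16250 F15673 (iv D7409) (iv F15615)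
def n7564 : Q := act 3 n7398
theorem D7564 : act 3 n7398 = n7564 := rfl
theorem F16278 : act 0 n7564 = n7551 := d2_1 D7564 F16227 F16167
theorem F16279 : act 2 n7564 = n7402 := d11_1 D7564 (iv D7402) (iv D6393) (iv D3273) (iv F5596) D6387 F15085 D7487 (iv F16168) (iv F16227) F16226 (iv D7538) (iv D7347) (iv D6069) (iv F10690) D7345 (iv F15912) (iv F15938) F15937
theorem F16280 : act 4 n7564 = n7400 := d15_2 F15642 D7564 (iv D7400) (iv F11117) D7401
theorem F16281 : act 5 n7564 = n7399 := d16_2 D7398 D7564 (iv D7399) (iv D6385) D6384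
def n7565 : Q := act 6 n7402
theorem D7565 : act 6 n7402 = n7565 := rfl
theorem F16282 : act 0 n7565 = n7511 := d5_1 D7565 (iv F16184) F16183
theorem F16283 : act 1 n7565 = n7565 := d10_1 D7565 (iv D7565) F15643
theorem F16284 : act 3 n7565 = n7432 := d17_1 D7565 F15837 (iv D7449) F14862 D7402
theorem F16285 : act 4 n7565 = n7433 := d19_1 D7565 (iv F15889) F15888
theorem F16286 : act 5 n7565 = n7410 := d20_1 D7565 (iv F15894) F15893 F15889 (iv F15965) F15966 F15762
def n7566 : Q := act 2 n7410
theorem D7566 : act 2 n7410 = n7566 := rfl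
theorem F16287 : act 0 n7566 = n7465 := d1_1 D7566 F15880 F15770
theorem F16288 : act 3 n7566 = n7450 := d11_2 D7410 D7566 (iv D7450) (iv D7166) F7520 F13463 F2874 D3365 D6563 D7431 (iv F15880) (iv D7465) F14880 F14793 F3744 F13381 F2846 D3320 D6481
theorem F16289 : act 4 n7566 = n7518 := d12_2 F15964 D7566 F16099
theorem F16290 : act 6 n7566 = n7486 := d14_2 F15894 D7566 F15955
def n7567 : Q := act 6 n7418
theorem D7567 : act 6 n7418 = n7567 := rfl
theorem F16291 : act 0 n7567 = n7445 := d5_1 D7567 (iv D7445) (iv F15709)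
theorem F16292 : act 1 n7567 = n7567 := d10_1 D7567 (iv D7567) F15710
theorem F16293 : act 2 n7567 = n7419 := d14_1 D7567 (iv D7419) D7418
theorem F16294 : act 3 n7567 = n7445 := d17_1 D7567 (iv D7445) (iv F15751) (iv F16037) F16038
theorem F16295 : act 4 n7567 = n7445 := d19_1 D7567 (iv D7445) (iv F15711)
theorem F16296 : act 5 n7567 = n7445 := d21_2 F15712 D7567 (iv D7445) (iv F15711)
def n7568 : Q := act 3 n7422
theorem D7568 : act 3 n7422 = n7568 := rfl
theorem F16297 : act 0 n7568 = n7429 := d2_1 D7568 (iv D7429) (iv F15728)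
theorem F16298 : act 1 n7568 = n7538 := d7_1 D7568 (iv D7538) (iv F15729)
theorem F16299 : act 2 n7568 = n7534 := d11_1 D7568 (iv D7534) F15458 F14294 (iv F14917) (iv D6544) F5722 D3360 D6552 D7429 F15763 (iv D7399) F11110 D6391 (iv F15328) F15329 F14351 D6526 D7422
theorem F16300 : act 5 n7568 = n7538 := d16_2 (iv F15731) D7568 (iv D7538) F15477 (iv F15481)
theorem F16301 : act 6 n7568 = n7513 := d17_2 (iv F15732) D7568 (iv D7513) (iv D7252) (iv F14729)
def n7569 : Q := act 3 n7424
theorem D7569 : act 3 n7424 = n7569 := rfl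
theorem F16302 : act 0 n7569 = n7433 := d2_1 D7569 (iv D7433) (iv F15739)
theorem F16303 : act 1 n7569 = n7431 := d7_1 D7569 (iv D7431) (iv F15740)
theorem F16304 : act 2 n7569 = n7552 := d11_1 D7569 F16231 F15870 F15115 F15113 (iv F15734) F15733 F11403 (iv F11409) D7433 (iv F15952) (iv D7485) F14935 D7198 F15835 (iv D7449) F14860 F14033 (iv F15741)
theorem F16305 : act 4 n7569 = n7511 := d15_2 D7424 D7569 (iv D7511) (iv D7250) (iv F14729)
theorem F16306 : act 5 n7569 = n7513 := d16_2 F16190 D7569 (iv D7513) D7514 (iv F16188)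
theorem F16307 : act 6 n7569 = n7550 := d17_2 (iv F15742) D7569 F16224 F15855 F15846
def n7570 : Q := act 6 n7431
theorem D7570 : act 6 n7431 = n7570 := rfl
theorem F16308 : act 0 n7570 = n7468 := d5_1 D7570 F15894 (iv F15770)
theorem F16309 : act 1 n7570 = n7550 := d10_1 D7570 (iv F16307) F16303
theorem F16310 : act 2 n7570 = n7549 := d14_1 D7570 F16222 F15880
theorem F16311 : act 3 n7570 = n7457 := d17_1 D7570 (iv D7457) F14874 (iv F14848) D7431
theorem F16312 : act 4 n7570 = n7568 := d19_1 D7570 F16301 F16077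
theorem F16313 : act 5 n7570 = n7550 := d20_1 D7570 (iv F16307) F16306 (iv F16301) F16300 F16184 (iv F16070)
def n7571 : Q := act 2 n7436
theorem D7571 : act 2 n7436 = n7571 := rfl
theorem F16314 : act 0 n7571 = n7478 := d1_1 D7571 F15933 (iv F15787)
theorem F16315 : act 4 n7571 = n7474 := d12_2 (iv F15788) D7571 F15921
theorem F16316 : act 5 n7571 = n7497 := d13_2 F16180 D7571 (iv F16179)
theorem F16317 : act 6 n7571 = n7438 := d14_2 (iv F15789) D7571 (iv D7438)
theorem F16318 : act 3 n7571 = n7478 := d23_1 D7571 F15933 (iv D7394) (iv F14645) (iv D5719) F5094 D5719 F14645 D7394 (iv F15787)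
theorem F16319 : act 1 n7487 = n7571 := d22_1 (iv F15956) (iv D7571) F15787 (iv F16162) F16164 (iv F16252) F16253 F15640 (iv F15939)
def n7572 : Q := act 5 n7442
theorem D7572 : act 5 n7442 = n7572 := rfl
theorem F16320 : act 1 n7572 = n7572 := d9_1 D7572 (iv D7572) F15804
theorem F16321 : act 2 n7572 = n7443 := d13_1 D7572 (iv D7443) D7442
def n7573 : Q := act 1 n7450
theorem D7573 : act 1 n7450 = n7573 := rfl
theorem F16322 : act 2 n7573 = n7453 := d6_2 D7450 D7573 (iv D7453) (iv D7167) (iv F14868)
theorem F16323 : act 6 n7573 = n7453 := d10_2 (iv F15839) D7573 (iv D7453)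
theorem F16324 : act 5 n7542 = n7573 := d21_0 F16323 F16126 F16125 D7542
theorem F16325 : act 4 n7573 = n7543 := d21_4 (iv D7543) (iv F16125) (iv F16126) (iv F16323)
def n7574 : Q := act 4 n7450
theorem D7574 : act 4 n7450 = n7574 := rfl
theorem F16326 : act 0 n7574 = n7464 := d3_1 D7574 F15877 (iv F15838)
theorem F16327 : act 1 n7574 = n7543 := d8_1 D7574 (iv F16325) (iv D7573)
theorem F16328 : act 2 n7574 = n7451 := d12_1 D7574 (iv D7451) D7450
theorem F16329 : act 3 n7574 = n7515 := d15_1 D7574 F16084 D7518 (iv F16289) F16288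
theorem F16330 : act 6 n7574 = n7454 := d19_2 (iv F15839) D7574 (iv D7454)
theorem F16331 : act 5 n7574 = n7540 := d21_0 F16193 (iv D7455) (iv F15839) D7574
def n7575 : Q := act 5 n7450
theorem D7575 : act 5 n7450 = n7575 := rfl
theorem F16332 : act 0 n7575 = n7466 := d4_1 D7575 (iv D7466) (iv F15838)
theorem F16333 : act 1 n7575 = n7542 := d9_1 D7575 F16324 (iv D7573)
theorem F16334 : act 2 n7575 = n7452 := d13_1 D7575 (iv D7452) D7450
theorem F16335 : act 4 n7575 = n7540 := d18_1 D7575 (iv F16331) (iv D7574)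
def n7576 : Q := act 4 n7453
theorem D7576 : act 4 n7453 = n7576 := rfl
theorem F16336 : act 0 n7576 = n7573 := d3_1 D7576 F16325 F16200
theorem F16337 : act 1 n7576 = n7454 := d8_1 D7576 (iv D7454) D7453
theorem F16338 : act 2 n7576 = n7543 := d12_1 D7576 (iv F16325) F16322
theorem F16339 : act 5 n7576 = n7541 := d18_2 (iv F16126) D7576 F16195
theorem F16340 : act 6 n7576 = n7543 := d19_2 F16323 D7576 (iv F16325)
def n7577 : Q := act 3 n7454
theorem D7577 : act 3 n7454 = n7577 := rfl
theorem F16341 : act 0 n7577 = n7462 := d2_1 D7577 (iv D7462) (iv F15848)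
theorem F16342 : act 2 n7577 = n7565 := d11_1 D7577 F16284 F15773 (iv F15994) F15993 F15879 F15876 (iv D7175) (iv F14878) D7462 (iv F16069) (iv D7511) F15098 D7253 D7515 (iv F16329) F16328 F15842 (iv F15849)
theorem F16343 : act 4 n7577 = n7485 := d15_2 D7454 D7577 (iv D7485) (iv D7195) (iv F14871)
theorem F16344 : act 6 n7577 = n7564 := d17_2 F16330 D7577 (iv D7564) (iv F16086) (iv F16329)
theorem F16345 : act 5 n7566 = n7577 := d24_1 (iv F16290) (iv D7577) F15849 (iv F15843) (iv F15859) (iv F16311) F16310 F16222 F15886 (iv D7462) F14878 F14884 (iv F14888) D7468 (iv F15955)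
def n7578 : Q := act 5 n7454
theorem D7578 : act 5 n7454 = n7578 := rfl
theorem F16346 : act 0 n7578 = n7463 := d4_1 D7578 (iv D7463) (iv F15848)
theorem F16347 : act 1 n7578 = n7541 := d9_1 D7578 (iv F16339) F16337
theorem F16348 : act 2 n7578 = n7456 := d13_1 D7578 (iv D7456) (iv F15849)
theorem F16349 : act 3 n7578 = n7575 := d16_1 D7578 (iv D7575) (iv F16288) F16345 (iv D7577)
theorem F16350 : act 4 n7578 = n7455 := d18_1 D7578 (iv D7455) D7454
theorem F16351 : act 6 n7578 = n7575 := d20_2 F16330 D7578 (iv D7575) F15839 D7455 (iv F16193) (iv F16331)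
def n7579 : Q := act 4 n7458
theorem D7579 : act 4 n7458 = n7579 := rfl
theorem F16352 : act 1 n7579 = n7461 := d8_1 D7579 (iv D7461) (iv F15860)
theorem F16353 : act 2 n7579 = n7547 := d12_1 D7579 F16217 (iv F16161)
theorem F16354 : act 5 n7579 = n7547 := d18_2 F16160 D7579 F16217
theorem F16355 : act 6 n7579 = n7536 := d19_2 F16215 D7579 (iv F16214)
def n7580 : Q := act 3 n7459
theorem D7580 : act 3 n7459 = n7580 := rfl
theorem F16356 : act 1 n7580 = n7462 := d7_1 D7580 (iv D7462) (iv F15861)
def n7581 : Q := act 3 n7460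
theorem D7581 : act 3 n7460 = n7581 := rfl
theorem F16357 : act 0 n7581 = n7580 := d2_1 D7581 (iv D7580) (iv F15864)
theorem F16358 : act 1 n7581 = n7465 := d7_1 D7581 (iv D7465) (iv F15865)
theorem F16359 : act 5 n7581 = n7580 := d16_2 F15868 D7581 (iv D7580) (iv F16156) F16155
def n7582 : Q := act 4 n7465
theorem D7582 : act 4 n7465 = n7582 := rfl
theorem F16360 : act 0 n7582 = n7518 := d3_1 D7582 (iv F16289) F16287
theorem F16361 : act 2 n7582 = n7513 := d12_1 D7582 F16077 (iv F15880)
theorem F16362 : act 3 n7582 = n7495 := d15_1 D7582 (iv F15990) F15879 F15877 D7465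
theorem F16363 : act 5 n7582 = n7552 := d18_2 (iv F15886) D7582 F16232
theorem F16364 : act 6 n7582 = n7534 := d19_2 F16222 D7582 (iv F16220)
def n7583 : Q := act 0 n7475
theorem D7583 : act 0 n7475 = n7583 := rfl
theorem F16365 : act 1 n7583 = n7476 := d0_2 D7475 D7583 F15924 (iv F16216) (iv F16243) F16244 F15797
theorem F16366 : act 2 n7583 = n7481 := d1_2 (iv F15922) D7583 (iv D7481)
theorem F16367 : act 4 n7583 = n7483 := d3_2 (iv F16207) D7583 (iv F16202)
theorem F16368 : act 5 n7583 = n7482 := d4_2 F16095 D7583 F16096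
theorem F16369 : act 6 n7583 = n7526 := d5_2 (iv F15923) D7583 F16139
theorem F16370 : act 3 n7475 = n7583 := d17_5 F16369 (iv D7526) F15296 D7389 (iv F15923)
def n7584 : Q := act 3 n7482
theorem D7584 : act 3 n7482 = n7584 := rfl
theorem F16371 : act 1 n7584 = n7485 := d7_1 D7584 (iv D7485) (iv F15945)
theorem F16372 : act 6 n7584 = n7563 := d17_2 F15946 D7584 (iv D7563) (iv D7392) D7391
theorem F16373 : act 2 n7584 = n7584 := d23_2 (iv F16206) D7584 (iv D7584) F16206 (iv D7544) F15534 (iv F15233) (iv F16129) F16130 (iv F16202)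
def n7585 : Q := act 3 n7484
theorem D7585 : act 3 n7484 = n7585 := rfl
theorem F16374 : act 1 n7585 = n7486 := d7_1 D7585 (iv D7486) (iv F15948)
theorem F16375 : act 4 n7585 = n7562 := d15_2 (iv F15950) D7585 (iv D7562) F15610 D7391
theorem F16376 : act 5 n7585 = n7563 := d16_2 (iv F16141) D7585 (iv D7563) F15617 D7526
theorem F16377 : act 2 n7585 = n7585 := d23_2 (iv F15949) D7585 (iv D7585) F15949 (iv D7389) F11105 (iv F13580) (iv F15294) D7526 F16139
def n7586 : Q := act 1 n7495
theorem D7586 : act 1 n7495 = n7586 := rfl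
theorem F16378 : act 0 n7586 = n7579 := d0_1 D7586 F16352 F15869 (iv F15945) F16096 (iv D7517) (iv F15988)
theorem F16379 : act 2 n7586 = n7556 := d6_2 D7495 D7586 F16244 F15798 (iv F14953)
theorem F16380 : act 4 n7586 = n7555 := d8_2 F15990 D7586 F16240
theorem F16381 : act 5 n7586 = n7556 := d9_2 (iv F15989) D7586 F16244
def n7587 : Q := act 5 n7505
theorem D7587 : act 5 n7505 = n7587 := rfl
theorem F16382 : act 0 n7587 = n7572 := d4_1 D7587 (iv D7572) (iv F16039)
theorem F16383 : act 1 n7587 = n7587 := d9_1 D7587 (iv D7587) F16040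
theorem F16384 : act 2 n7587 = n7527 := d13_1 D7587 F16145 (iv F16041)
theorem F16385 : act 3 n7587 = n7572 := d16_1 D7587 (iv D7572) F15806 F15135 D7505
theorem F16386 : act 4 n7587 = n7572 := d18_1 D7587 (iv D7572) (iv F16042)
theorem F16387 : act 6 n7587 = n7572 := d21_1 D7587 (iv D7572) F15805 (iv F16042)
def n7588 : Q := act 3 n7517
theorem D7588 : act 3 n7517 = n7588 := rfl
theorem F16388 : act 0 n7588 = n7584 := d2_1 D7588 (iv D7584) F16096
theorem F16389 : act 1 n7588 = n7518 := d7_1 D7588 (iv D7518) D7517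
theorem F16390 : act 2 n7588 = n7588 := d11_1 D7588 (iv D7588) F16093 (iv F16130) F16129 F15233 (iv F15534) D7544 (iv F16206) D7584 F16373 (iv D7584) F16206 (iv D7544) F15534 (iv F15233) (iv F16129) F16130 (iv F16093)
theorem F16391 : act 5 n7588 = n7584 := d16_2 (iv F16095) D7588 (iv D7584) (iv F16368) (iv F16370)
theorem F16392 : act 6 n7588 = n7562 := d17_2 (iv F16255) D7588 (iv D7562) F15611 D7558
def n7589 : Q := act 2 n7532
theorem D7589 : act 2 n7532 = n7589 := rfl
theorem F16393 : act 0 n7589 = n7536 := d1_1 D7589 F16177 (iv F16165)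
theorem F16394 : act 1 n7589 = n7537 := d6_1 D7589 F16179 F15998 F15921 (iv F16166)
theorem F16395 : act 3 n7589 = n7535 := d11_2 D7532 D7589 F16173 (iv F15555) F15554 (iv D6663) F5817 (iv F5506) (iv F10933) D7364 (iv F16177) (iv D7536) F15469 D7352 (iv F15786) (iv D7435) F11553 (iv F10747) (iv F15453)
theorem F16396 : act 6 n7589 = n7586 := d14_2 F16246 D7589 F16379
theorem F16397 : act 5 n7553 = n7589 := d21_0 F16396 F16381 F16246 (iv F16235)
def n7590 : Q := act 5 n7532
theorem D7590 : act 5 n7532 = n7590 := rfl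
theorem F16398 : act 0 n7590 = n7546 := d4_1 D7590 (iv D7546) (iv F16165)
theorem F16399 : act 1 n7590 = n7533 := d9_1 D7590 (iv D7533) (iv F16166)
theorem F16400 : act 2 n7590 = n7553 := d13_1 D7590 F16397 (iv D7589)
theorem F16401 : act 4 n7590 = n7589 := d18_1 D7590 (iv F16397) F16235
theorem F16402 : act 6 n7590 = n7555 := d20_2 F16246 D7590 F16241 (iv F16236) F16397 F16396 F16381
def n7591 : Q := act 3 n7546
theorem D7591 : act 3 n7546 = n7591 := rfl
theorem F16403 : act 1 n7591 = n7549 := d7_1 D7591 (iv D7549) (iv F16212)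
theorem F16404 : act 4 n7591 = n7554 := d15_2 (iv F16214) D7591 (iv D7554) F15569 D7536
theorem F16405 : act 5 n7591 = n7548 := d16_2 D7546 D7591 (iv D7548) (iv D7365) D7364
theorem F16406 : act 6 n7591 = n7581 := d17_2 (iv F16215) D7591 (iv D7581) (iv D7460) D7458
theorem F16407 : act 2 n7591 = n7548 := d23_2 (iv F16213) D7591 (iv D7548) F15538 F14774 F14462 D6294 D7373 D7553 F16233
def n7592 : Q := act 4 n7548
theorem D7592 : act 4 n7548 = n7592 := rfl
theorem F16408 : act 0 n7592 = n7591 := d3_1 D7592 F16404 F16237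
theorem F16409 : act 1 n7592 = n7551 := d8_1 D7592 (iv D7551) (iv F16218)
theorem F16410 : act 2 n7592 = n7554 := d12_1 D7592 (iv F16404) F16407
theorem F16411 : act 3 n7592 = n7590 := d15_1 D7592 F16401 F16395 F16174 D7548
theorem F16412 : act 5 n7592 = n7554 := d18_2 F16405 D7592 (iv F16404)
theorem F16413 : act 6 n7580 = n7592 := d21_3 (iv F16405) F16406 F16359 (iv D7592)
def n7593 : Q := act 6 n7548
theorem D7593 : act 6 n7548 = n7593 := rfl
theorem F16414 : act 1 n7593 = n7552 := d10_1 D7593 (iv D7552) (iv F16218)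
theorem F16415 : act 2 n7593 = n7581 := d14_1 D7593 (iv F16406) F16407
theorem F16416 : act 3 n7593 = n7579 := d17_1 D7593 F16355 (iv D7536) (iv F15539) D7548
theorem F16417 : act 4 n7593 = n7580 := d19_1 D7593 F16413 (iv D7592)
def n7594 : Q := act 6 n7554
theorem D7594 : act 6 n7554 = n7594 := rfl
theorem F16418 : act 0 n7594 = n7593 := d5_1 D7594 (iv D7593) (iv F16237)
theorem F16419 : act 1 n7594 = n7582 := d10_1 D7594 F16364 (iv F16238)
theorem F16420 : act 2 n7594 = n7580 := d14_1 D7594 F16413 F16410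
theorem F16421 : act 3 n7594 = n7586 := d17_1 D7594 (iv F16396) F16395 F16175 D7554
theorem F16422 : act 4 n7594 = n7581 := d19_1 D7594 (iv F16406) F16404
theorem F16423 : act 5 n7594 = n7593 := d20_1 D7594 (iv D7593) (iv F16405) F16406 F16359 F16413 F16412
def n7595 : Q := act 3 n7561
theorem D7595 : act 3 n7561 = n7595 := rfl
theorem F16424 : act 0 n7595 = n7585 := d2_1 D7595 (iv D7585) (iv F16268)
theorem F16425 : act 1 n7595 = n7564 := d7_1 D7595 (iv D7564) (iv F16269)
theorem F16426 : act 2 n7595 = n7595 := d11_1 D7595 (iv D7595) F16270 (iv D7526) F15294 F13580 (iv F11105) D7389 (iv F15949) D7585 F16377 (iv D7585) F15949 (iv D7389) F11105 (iv F13580) (iv F15294) D7526 (iv F16270)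
theorem F16427 : act 4 n7595 = n7563 := d15_2 (iv F16271) D7595 (iv D7563) F15616 D7558
theorem F16428 : act 5 n7595 = n7562 := d16_2 D7561 D7595 (iv D7562) (iv D7390) D7389
def n7596 : Q := act 1 n7566
theorem D7596 : act 1 n7566 = n7596 := rfl
theorem F16429 : act 2 n7596 = n7596 := d6_2 D7566 D7596 (iv D7596) (iv D7566) F15674
theorem F16430 : act 3 n7596 = n7573 := d7_2 (iv F16288) D7596 (iv D7573)
theorem F16431 : act 4 n7596 = n7588 := d8_2 (iv F16289) D7596 F16389
theorem F16432 : act 6 n7596 = n7585 := d10_2 (iv F16290) D7596 F16374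
def n7597 : Q := act 3 n7576
theorem D7597 : act 3 n7576 = n7597 := rfl
theorem F16433 : act 0 n7597 = n7596 := d2_1 D7597 F16430 (iv F16336)
theorem F16434 : act 1 n7597 = n7577 := d7_1 D7597 (iv D7577) (iv F16337)
theorem F16435 : act 2 n7597 = n7597 := d11_1 D7597 (iv D7597) F16338 (iv F16201) (iv F16366) (iv F16370) F15922 (iv F15847) (iv F16322) (iv F16430) F16429 F16430 F16322 F15847 (iv F15922) F16370 F16366 F16201 (iv F16338)
theorem F16436 : act 4 n7597 = n7584 := d15_2 D7576 D7597 (iv D7584) (iv D7482) (iv F15847)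
theorem F16437 : act 5 n7597 = n7596 := d16_2 (iv F16339) D7597 F16430 (iv F16324) F16198
theorem F16438 : act 6 n7597 = n7595 := d17_2 (iv F16340) D7597 (iv D7595) F16272 F16201

end Cfsg.Agent.Helper17.HeTC
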