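import Cfsg.Agent.Helper17.HeTC.Facts2

set_option autoImplicit false
set_option linter.all false
set_option maxRecDepth 100000

noncomputable section

namespace Cfsg.Agent.Helper17.HeTC

def N : ℕ := 2058

def nl : ℕ := 7

def parT : ℕ := 844142210678593251316936811774553432748894294374379547972320257346171333659720908141691592687473781380254985580196206657173928063115508081214006725543203636988176875759511480349134158258731582637562181925139101134873492859882260883762311943054088781622090106809491202569686254087510838624772418274267342521044616084137016063138527857790816525675841363283686828324467312722743924740848653392641245491415789658252203236123868084321927202259139569106886395805102915833882949702575662190474261931679658441758077525776453589434768660795417655992671027129856665734998668723318608280642423503266751629236406820470457345985201241685574797028855933543608950264126585105407796881485267183920615235150230030175705681360034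387258000856471724758959053541672223310551814821250159722317413104552923083324720455821976682684854691658916842154834644920528285236267099570336417044179389230340504831873744774851435467463031730479370686932931757777014344447846907783761975592778325548611780908970814682368571635484237817318176296262436210818177117950720532524133293384544120608836802617913063368025788322247793287076263363648546008542955700778438439238245589917720049083481472705739392917620689746751406830737666647833356642995661581143324986688076920743245794420489475131809094145420390389624677051932278359219874620012179833180274372530396360293819419509099496332310501887658271575112579169264883504540384718571995103841165742092443064304458875011938796816542438764445630533427227232755868839540528112273351933635359901790332300104584093601917261423334553408026490631710957467331176989933691146250558341492662433384232943855651537355648990469751279168973511002709964333243050620099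311565832053628045036144927607950232691834114149581634017158666523721992093463155613419368184294954295218415157231942454537919735331031700234770715050971989593887757966126177114806712758580094632228643521538845422267903653118996231492909791987058244284714635375342270844460418542837929484455981330091404997467526909385942077174526486296962578960142505298670410267809174402748571295631550622849360896456726690961425445210637369381576426247021017267932775064088424842473771670120021814387246564333510123720492619636915507076805200190742891432061390351093056820997950395930994140820371840524572856984491741212766781885971717791604887373325300586449046320105638711109013187081222356076021588597138137415352321070629235685574363388951603294973850211277142005123807343071397852275237772844674056827156406726143414411276312014058415479965761593763005480168214036265935980626615385559515414545804885108154055496976171345587088488449235106826305412986471946487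874477727456041341567584602825683089615798672533481796343986789809596384750290732456498319686506724772638253013557588711933181227468835124584622838906452878876435815556509058585679392506680809438419306737270247343444264509514424290927667368877817667703608504086399659990162783941657598060294927701330721414333396347965286044061750413075911555033850149104511963561328278586722811516355181224894445973362199309547313192613062244009946280764744801170122361220975138512817705698304208049581816002265561828367295168088959016080683719945633687496160217738622240369455139223044792621458667054207447145856758687556512775527057971455182323904302943020601244610325670111806544304806268184947834631513487102626583543708092407319312082124237624104000604541469393788110949005540853617164275579235361033713000769793862099353332648581209213667459145581411803858698188084443270759120775882858863075916466359668721925193171674202388527995369477768857180843677619159138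497371172232455964933127680650420744381669796670702068634314991215983339169143545067279088556087632524887100197330804498412228128927037381831132725831459516902895782582644216213852659350747211093686614764588443055727553419274291533334156573037777648389236636718435617265155546084952586724103067805273240404232296443185164865126009393960963163986913514345711860684293338866161470537038277630125140573770139227603560895306796467069036137791643997742715780835472160980647215513452929249543299894826121636293489042289788279087653923122896355397129508203453376330401627608227653165228040743771079910083562462812748470671105877208703350891549950616720155613143418460006473462233663852750168019439899329017516857061646850359530194541491670776532656588023861867677769554712810674338553727968664312460880983359499417157795520002812004984302082181663724969858649159699576146349537850562782464332374904338248017254030584917874657944334234240184548825253162693761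661973179623162539872360941449960461555120884351670412540430926382226877034643614544174497674605671598276552733132696131291737583523678018826040969221620211940395372557715339301579515451681519503870626808835453111557954966189679889733641400919429207147487456614470945248413622796343586054624356546854835518717806684114240320976251229403252254762346485998664979735710788199013409566788069785685921446016022156057423374603616986931193628509392132393306089690526889726208404633840362948892633413025600554121534997329363884150746961155310499977084837127793924217305855051595022746185129001392729736243309664852560124683828442765719720041415111166028299274675628336972521817864520438300719567885464184983841539812546842722879974843607336804063504076317149164090966497197758148001813719235007714155844503350819008771490252366360103936653848501022558057586246507103578832626896972355556418700840703068892322198273613270465824726312149454587751797863400312856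378287117174953315620202188762462880974627874111689452366428514953691166405198450063687007619473610627359759922443413094615165633987075557458341876754314479295700918230008322318989449756277378134581138786488977353339086655577371426421168624457010332742578059372492547995052229196091799389568398500630138314151613344909672299562802627063599346229450777004066254258012250195663537519017839231715785426180646539925673572946273409217377126509402431188709144007527989086049548346231293405278123639670634378642511449162600536100210597024753025595319631134278538136128619092842834908456180003934595161030425427930812218949994650862182586245033514798881751737150809009770545828298126927873405112125848713362372684964607225408388887161381895195956773440409865494046328506652174987740076578652245806150621672145611917663651523367890121669932224424009024197971741527742568392127467857653707775174563404008532262621613980908002758580706146239957673607562796622815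161970203711758317719755286823640035764024217228320204645952588815473801929496894928782751535558617250365058213591102167238996218635606501554824793384284261555683077397500388671968139406786133465282233806531860023084400527954203106219721006108754328712786531846718980947850360428826513855549957089524852145052880514023689253929965918606588478489700656718019046982624736587205686960268683885404190990020545579219184526112790854643888086003299540210748294236090410329854773144327681819260985289622332528379780031678928854097654332508905297242721829867124395009773418385994964980948691069200909511339733672884118008232684476680132871970889064758492697319915421174317216039366009018520677348768554691505535690675342689602175077531705349718046729004211024645781256706857136597709831921855856065627965951910428641169942051087540987443290116058360203196453308145251206371758359186450107486685046383016717837315643196827402666468779119756846636921371953559308502364093061938490830306109038785373369521014369546261605581324288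

def pletT : ℕ := 81860678508894734448442131283369654504892429595040578433621493213823481557936614059841503831994297928189544168825511935800170063047257588568377045784632567761517371436415257531744749050776514020229796141139408942855798176643197776201598363764440228819820534476823343382190810231960104064295338029646889552250991833972065303465890177817929464728738387161714291791820813783043479779290290799621497465249764461005701801293176188158476983100097185377675337873300551494427417679857482373964801167780839194412273726949403107711137080757033634535749615959155564878449178271586693765695686482728689405859906213198182628994835937067047323152031096831855760269078213650029123957296820127106681511127910393109837759694235257310530913037200238287125431088814258072227484097712217503596324597314871923908544065665381057011776019979221803962924851977805787897249921894432966102819455761076156395410562570236718769782571289792579302826981130037521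71818476169470375609675448217975322369840715655459419368707174806754744214356752514981286247147797373159267765837164707016199298092051334128989352792786013698204703594386831137076897397337507616577685750838005731324098993463123702147005215473418687565046564295094845548326998199594181526096640557641176483118212477595594866346624161399461193720453327421521956472247655531261212280310818573624257127963918095239210201559435505474444437130391839384656408831699265152577147470604282039637635169721878375817267765350618807843619417393711293717405283283865921122088697241519136002490238597230933734745252114412540094154936502361541200642148927658216933635411717249914928759169157750426958462544462131194691867698924844287377683034606450633156187705103032774841954122605568510173068837150493805412692355587118957414338307469474817244362303628003855342512661575745227592783168946518918981856058542113061107236777053391201598941554056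

def par (i : ℕ) : ℕ := (parT >>> (12 * i)) &&& 4095

def plet (i : ℕ) : ℕ := (pletT >>> (3 * i)) &&& 7

def chk (i p l : ℕ) : Bool :=
  decide (0 < i) && decide (i < N) && decide (par i = p) && decide (p < i) && decide (plet i = l)

def nd (i : ℕ) : Q :=
  if h : 0 < i ∧ i < N ∧ par i < i then act (plet i) (nd (par i)) else n0
termination_by i
decreasing_by exact h.2.2

theorem nd_zero : nd 0 = n0 := by
  rw [nd, dif_neg]; omega

theorem nd_ge {i : ℕ} (h : N ≤ i) : nd i = n0 := by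
  rw [nd, dif_neg]; omega

theorem nd_step {i p l : ℕ} (h : chk i p l = true) : nd i = act l (nd p) := by
  simp only [chk, Bool.and_eq_true, decide_eq_true_eq] at h
  obtain ⟨⟨⟨⟨h1, h2⟩, h3⟩, h4⟩, h5⟩ := h
  rw [nd, dif_pos ⟨h1, h2, h3 ▸ h4⟩, h3, h5]

theorem ndS {i p l : ℕ} {y x : Q} (h : chk i p l = true) (e : nd p = y) (F : act l y = x) :
    nd i = x := by
  rw [nd_step h, e, F]

def P (i : ℕ) : Prop := ∀ l, l < nl → ∃ j, act l (nd i) = nd j

theorem tt {l j : ℕ} {x y : Q} (e : nd j = y) (F : act l x = y) : ∃ j, act l x = nd j :=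
  ⟨j, F.trans e.symm⟩

theorem allL {i : ℕ} {x : Q} (e : nd i = x) (h0 : ∃ j, act 0 x = nd j) (h1 : ∃ j, act 1 x = nd j) (h2 : ∃ j, act 2 x = nd j) (h3 : ∃ j, act 3 x = nd j) (h4 : ∃ j, act 4 x = nd j) (h5 : ∃ j, act 5 x = nd j) (h6 : ∃ j, act 6 x = nd j) : P i := by
  intro l hl; rw [e]; unfold nl at hl; interval_cases l <;> assumption

theorem stepQ (k : ℕ) (h : ∀ i, i < k → P i) (hk : P k) : ∀ i, i < k + 1 → P i := by
  intro i hi
  rcases Nat.lt_succ_iff_lt_or_eq.mp hi with h1 | h1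
  · exact h i h1
  · exact h1 ▸ hk

theorem Q0 : ∀ i, i < 0 → P i := fun i h => absurd h (Nat.not_lt_zero i)

theorem N0 : nd 0 = n0 := nd_zero

theorem N1 : nd 1 = n1 := ndS (p := 0) (l := 1) rfl N0 D1
theorem N2 : nd 2 = n21 := ndS (p := 0) (l := 6) rfl N0 D21
theorem N3 : nd 3 = n2 := ndS (p := 1) (l := 2) rfl N1 D2
theorem N4 : nd 4 = n22 := ndS (p := 1) (l := 6) rfl N1 D22
theorem N5 : nd 5 = n54 := ndS (p := 2) (l := 3) rfl N2 D54
theorem N6 : nd 6 = n5 := ndS (p := 3) (l := 3) rfl N3 (iv F19)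
theorem N7 : nd 7 = n23 := ndS (p := 3) (l := 6) rfl N3 D23
theorem N8 : nd 8 = n55 := ndS (p := 4) (l := 3) rfl N4 D55
theorem N9 : nd 9 = n104 := ndS (p := 5) (l := 2) rfl N5 D104
theorem N10 : nd 10 = n105 := ndS (p := 5) (l := 4) rfl N5 D105
theorem N11 : nd 11 = n106 := ndS (p := 5) (l := 5) rfl N5 D106
theorem N12 : nd 12 = n6 := ndS (p := 6) (l := 2) rfl N6 D6
theorem N13 : nd 13 = n18 := ndS (p := 6) (l := 4) rfl N6 (iv F22)
theorem N14 : nd 14 = n24 := ndS (p := 6) (l := 5) rfl N6 D24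
theorem N15 : nd 15 = n107 := ndS (p := 8) (l := 2) rfl N8 D107
theorem N16 : nd 16 = n108 := ndS (p := 8) (l := 4) rfl N8 D108
theorem N17 : nd 17 = n109 := ndS (p := 8) (l := 5) rfl N8 D109
theorem N18 : nd 18 = n211 := ndS (p := 9) (l := 1) rfl N9 D211
theorem N19 : nd 19 = n212 := ndS (p := 9) (l := 3) rfl N9 D212
theorem N20 : nd 20 = n213 := ndS (p := 9) (l := 4) rfl N9 D213
theorem N21 : nd 21 = n214 := ndS (p := 9) (l := 5) rfl N9 D214
theorem N22 : nd 22 = n215 := ndS (p := 10) (l := 5) rfl N10 D215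
theorem N23 : nd 23 = n7 := ndS (p := 12) (l := 1) rfl N12 D7
theorem N24 : nd 24 = n26 := ndS (p := 12) (l := 3) rfl N12 D26
theorem N25 : nd 25 = n17 := ndS (p := 12) (l := 4) rfl N12 (iv F23)
theorem N26 : nd 26 = n27 := ndS (p := 12) (l := 5) rfl N12 D27
theorem N27 : nd 27 = n52 := ndS (p := 13) (l := 5) rfl N13 D52
theorem N28 : nd 28 = n216 := ndS (p := 15) (l := 1) rfl N15 D216
theorem N29 : nd 29 = n217 := ndS (p := 15) (l := 3) rfl N15 D217
theorem N30 : nd 30 = n218 := ndS (p := 15) (l := 4) rfl N15 D218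
theorem N31 : nd 31 = n219 := ndS (p := 15) (l := 5) rfl N15 D219
theorem N32 : nd 32 = n220 := ndS (p := 16) (l := 5) rfl N16 D220
theorem N33 : nd 33 = n436 := ndS (p := 18) (l := 0) rfl N18 D436
theorem N34 : nd 34 = n437 := ndS (p := 18) (l := 3) rfl N18 D437
theorem N35 : nd 35 = n438 := ndS (p := 18) (l := 5) rfl N18 D438
theorem N36 : nd 36 = n439 := ndS (p := 19) (l := 2) rfl N19 D439
theorem N37 : nd 37 = n440 := ndS (p := 19) (l := 4) rfl N19 D440
theorem N38 : nd 38 = n441 := ndS (p := 19) (l := 5) rfl N19 D441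
theorem N39 : nd 39 = n444 := ndS (p := 20) (l := 5) rfl N20 D444
theorem N40 : nd 40 = n445 := ndS (p := 22) (l := 3) rfl N22 D445
theorem N41 : nd 41 = n8 := ndS (p := 23) (l := 0) rfl N23 F35
theorem N42 : nd 42 = n29 := ndS (p := 23) (l := 3) rfl N23 D29
theorem N43 : nd 43 = n30 := ndS (p := 23) (l := 5) rfl N23 D30
theorem N44 : nd 44 = n45 := ndS (p := 24) (l := 4) rfl N24 (iv F100)
theorem N45 : nd 45 = n60 := ndS (p := 24) (l := 5) rfl N24 D60
theorem N46 : nd 46 = n61 := ndS (p := 24) (l := 6) rfl N24 D61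
theorem N47 : nd 47 = n16 := ndS (p := 25) (l := 3) rfl N25 (iv D17)
theorem N48 : nd 48 = n50 := ndS (p := 25) (l := 5) rfl N25 D50
theorem N49 : nd 49 = n62 := ndS (p := 26) (l := 3) rfl N26 D62
theorem N50 : nd 50 = n102 := ndS (p := 27) (l := 3) rfl N27 D102
theorem N51 : nd 51 = n446 := ndS (p := 28) (l := 0) rfl N28 D446
theorem N52 : nd 52 = n447 := ndS (p := 28) (l := 3) rfl N28 D447
theorem N53 : nd 53 = n448 := ndS (p := 28) (l := 5) rfl N28 D448
theorem N54 : nd 54 = n450 := ndS (p := 29) (l := 4) rfl N29 D450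
theorem N55 : nd 55 = n247 := ndS (p := 29) (l := 5) rfl N29 (iv F13198)
theorem N56 : nd 56 = n452 := ndS (p := 29) (l := 6) rfl N29 D452
theorem N57 : nd 57 = n453 := ndS (p := 30) (l := 3) rfl N30 D453
theorem N58 : nd 58 = n454 := ndS (p := 30) (l := 5) rfl N30 D454
theorem N59 : nd 59 = n238 := ndS (p := 31) (l := 3) rfl N31 (iv F13346)
theorem N60 : nd 60 = n456 := ndS (p := 32) (l := 3) rfl N32 D456
theorem N61 : nd 61 = n917 := ndS (p := 33) (l := 3) rfl N33 D917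
theorem N62 : nd 62 = n918 := ndS (p := 33) (l := 5) rfl N33 D918
theorem N63 : nd 63 = n919 := ndS (p := 34) (l := 2) rfl N34 D919
theorem N64 : nd 64 = n920 := ndS (p := 34) (l := 4) rfl N34 D920
theorem N65 : nd 65 = n921 := ndS (p := 34) (l := 6) rfl N34 D921
theorem N66 : nd 66 = n922 := ndS (p := 36) (l := 4) rfl N36 D922
theorem N67 : nd 67 = n923 := ndS (p := 36) (l := 5) rfl N36 D923
theorem N68 : nd 68 = n924 := ndS (p := 37) (l := 3) rfl N37 D924
theorem N69 : nd 69 = n925 := ndS (p := 38) (l := 6) rfl N38 D925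
theorem N70 : nd 70 = n9 := ndS (p := 41) (l := 3) rfl N41 D9
theorem N71 : nd 71 = n32 := ndS (p := 41) (l := 5) rfl N41 D32
theorem N72 : nd 72 = n36 := ndS (p := 42) (l := 2) rfl N42 (iv F76)
theorem N73 : nd 73 = n42 := ndS (p := 42) (l := 4) rfl N42 (iv F92)
theorem N74 : nd 74 = n66 := ndS (p := 42) (l := 5) rfl N42 D66
theorem N75 : nd 75 = n67 := ndS (p := 42) (l := 6) rfl N42 D67
theorem N76 : nd 76 = n68 := ndS (p := 43) (l := 3) rfl N43 D68
theorem N77 : nd 77 = n15 := ndS (p := 44) (l := 3) rfl N44 (iv D45)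
theorem N78 : nd 78 = n92 := ndS (p := 44) (l := 5) rfl N44 D92
theorem N79 : nd 79 = n93 := ndS (p := 44) (l := 6) rfl N44 D93
theorem N80 : nd 80 = n118 := ndS (p := 45) (l := 3) rfl N45 D118
theorem N81 : nd 81 = n119 := ndS (p := 45) (l := 6) rfl N45 D119
theorem N82 : nd 82 = n121 := ndS (p := 46) (l := 5) rfl N46 D121
theorem N83 : nd 83 = n48 := ndS (p := 47) (l := 5) rfl N47 D48
theorem N84 : nd 84 = n49 := ndS (p := 47) (l := 6) rfl N47 D49
theorem N85 : nd 85 = n100 := ndS (p := 48) (l := 3) rfl N48 D100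
theorem N86 : nd 86 = n122 := ndS (p := 49) (l := 2) rfl N49 D122
theorem N87 : nd 87 = n123 := ndS (p := 49) (l := 4) rfl N49 D123
theorem N88 : nd 88 = n124 := ndS (p := 49) (l := 6) rfl N49 D124
theorem N89 : nd 89 = n206 := ndS (p := 50) (l := 2) rfl N50 D206
theorem N90 : nd 90 = n926 := ndS (p := 51) (l := 3) rfl N51 D926
theorem N91 : nd 91 = n927 := ndS (p := 51) (l := 5) rfl N51 D927
theorem N92 : nd 92 = n928 := ndS (p := 52) (l := 2) rfl N52 D928
theorem N93 : nd 93 = n929 := ndS (p := 52) (l := 4) rfl N52 D929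
theorem N94 : nd 94 = n508 := ndS (p := 52) (l := 5) rfl N52 F13285
theorem N95 : nd 95 = n931 := ndS (p := 52) (l := 6) rfl N52 D931
theorem N96 : nd 96 = n491 := ndS (p := 53) (l := 3) rfl N53 F13382
theorem N97 : nd 97 = n937 := ndS (p := 54) (l := 3) rfl N54 D937
theorem N98 : nd 98 = n511 := ndS (p := 54) (l := 5) rfl N54 (iv F13216)
theorem N99 : nd 99 = n399 := ndS (p := 54) (l := 6) rfl N54 F13152
theorem N100 : nd 100 = n513 := ndS (p := 55) (l := 6) rfl N55 D513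
theorem N101 : nd 101 = n942 := ndS (p := 56) (l := 5) rfl N56 D942
theorem N102 : nd 102 = n516 := ndS (p := 57) (l := 5) rfl N57 (iv F13446)
theorem N103 : nd 103 = n945 := ndS (p := 57) (l := 6) rfl N57 D945
theorem N104 : nd 104 = n410 := ndS (p := 58) (l := 3) rfl N58 F13209
theorem N105 : nd 105 = n409 := ndS (p := 59) (l := 4) rfl N59 F2004
theorem N106 : nd 106 = n194 := ndS (p := 59) (l := 6) rfl N59 F13312
theorem N107 : nd 107 = n948 := ndS (p := 60) (l := 2) rfl N60 D948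
theorem N108 : nd 108 = n1899 := ndS (p := 61) (l := 2) rfl N61 D1899
theorem N109 : nd 109 = n1900 := ndS (p := 61) (l := 4) rfl N61 D1900
theorem N110 : nd 110 = n1901 := ndS (p := 61) (l := 6) rfl N61 D1901
theorem N111 : nd 111 = n1902 := ndS (p := 63) (l := 1) rfl N63 D1902
theorem N112 : nd 112 = n1903 := ndS (p := 63) (l := 3) rfl N63 D1903
theorem N113 : nd 113 = n1904 := ndS (p := 63) (l := 4) rfl N63 D1904
theorem N114 : nd 114 = n1905 := ndS (p := 64) (l := 6) rfl N64 D1905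
theorem N115 : nd 115 = n1906 := ndS (p := 65) (l := 5) rfl N65 D1906
theorem N116 : nd 116 = n1907 := ndS (p := 66) (l := 3) rfl N66 D1907
theorem N117 : nd 117 = n1908 := ndS (p := 67) (l := 3) rfl N67 D1908
theorem N118 : nd 118 = n10 := ndS (p := 70) (l := 2) rfl N70 D10
theorem N119 : nd 119 = n14 := ndS (p := 70) (l := 4) rfl N70 F28
theorem N120 : nd 120 = n34 := ndS (p := 70) (l := 5) rfl N70 D34
theorem N121 : nd 121 = n35 := ndS (p := 70) (l := 6) rfl N70 D35
theorem N122 : nd 122 = n72 := ndS (p := 71) (l := 3) rfl N71 D72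
theorem N123 : nd 123 = n39 := ndS (p := 72) (l := 3) rfl N72 (iv F85)
theorem N124 : nd 124 = n78 := ndS (p := 72) (l := 5) rfl N72 D78
theorem N125 : nd 125 = n79 := ndS (p := 72) (l := 6) rfl N72 D79
theorem N126 : nd 126 = n88 := ndS (p := 73) (l := 5) rfl N73 D88
theorem N127 : nd 127 = n89 := ndS (p := 73) (l := 6) rfl N73 D89
theorem N128 : nd 128 = n130 := ndS (p := 74) (l := 3) rfl N74 D130
theorem N129 : nd 129 = n131 := ndS (p := 74) (l := 6) rfl N74 D131
theorem N130 : nd 130 = n133 := ndS (p := 75) (l := 5) rfl N75 D133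
theorem N131 : nd 131 = n134 := ndS (p := 76) (l := 2) rfl N76 D134
theorem N132 : nd 132 = n135 := ndS (p := 76) (l := 4) rfl N76 D135
theorem N133 : nd 133 = n136 := ndS (p := 76) (l := 6) rfl N76 D136
theorem N134 : nd 134 = n46 := ndS (p := 77) (l := 5) rfl N77 D46
theorem N135 : nd 135 = n47 := ndS (p := 77) (l := 6) rfl N77 D47
theorem N136 : nd 136 = n184 := ndS (p := 78) (l := 3) rfl N78 D184
theorem N137 : nd 137 = n185 := ndS (p := 79) (l := 3) rfl N79 D185
theorem N138 : nd 138 = n239 := ndS (p := 80) (l := 4) rfl N80 D239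
theorem N139 : nd 139 = n98 := ndS (p := 80) (l := 6) rfl N80 F13179
theorem N140 : nd 140 = n97 := ndS (p := 81) (l := 3) rfl N81 F13027
theorem N141 : nd 141 = n245 := ndS (p := 82) (l := 3) rfl N82 D245
theorem N142 : nd 142 = n95 := ndS (p := 84) (l := 5) rfl N84 (iv F219)
theorem N143 : nd 143 = n200 := ndS (p := 85) (l := 2) rfl N85 D200
theorem N144 : nd 144 = n246 := ndS (p := 86) (l := 1) rfl N86 D246
theorem N145 : nd 145 = n248 := ndS (p := 86) (l := 4) rfl N86 D248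
theorem N146 : nd 146 = n249 := ndS (p := 86) (l := 6) rfl N86 D249
theorem N147 : nd 147 = n195 := ndS (p := 88) (l := 5) rfl N88 (iv F13180)
theorem N148 : nd 148 = n428 := ndS (p := 89) (l := 1) rfl N89 D428
theorem N149 : nd 149 = n429 := ndS (p := 89) (l := 3) rfl N89 D429
theorem N150 : nd 150 = n1909 := ndS (p := 90) (l := 2) rfl N90 D1909
theorem N151 : nd 151 = n1910 := ndS (p := 90) (l := 4) rfl N90 D1910
theorem N152 : nd 152 = n1048 := ndS (p := 90) (l := 5) rfl N90 F13335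
theorem N153 : nd 153 = n1912 := ndS (p := 90) (l := 6) rfl N90 D1912
theorem N154 : nd 154 = n858 := ndS (p := 91) (l := 3) rfl N91 (iv F13323)
theorem N155 : nd 155 = n1915 := ndS (p := 92) (l := 3) rfl N92 D1915
theorem N156 : nd 156 = n1916 := ndS (p := 92) (l := 4) rfl N92 D1916
theorem N157 : nd 157 = n1050 := ndS (p := 92) (l := 5) rfl N92 F13443
theorem N158 : nd 158 = n1918 := ndS (p := 92) (l := 6) rfl N92 D1918
theorem N159 : nd 159 = n1051 := ndS (p := 93) (l := 5) rfl N93 F13219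
theorem N160 : nd 160 = n834 := ndS (p := 93) (l := 6) rfl N93 F13220
theorem N161 : nd 161 = n1053 := ndS (p := 94) (l := 6) rfl N94 D1053
theorem N162 : nd 162 = n1923 := ndS (p := 95) (l := 5) rfl N95 D1923
theorem N163 : nd 163 = n552 := ndS (p := 96) (l := 2) rfl N96 (iv F1074)
theorem N164 : nd 164 = n856 := ndS (p := 96) (l := 4) rfl N96 F1542
theorem N165 : nd 165 = n408 := ndS (p := 96) (l := 6) rfl N96 F13452
theorem N166 : nd 166 = n1068 := ndS (p := 97) (l := 5) rfl N97 F13290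
theorem N167 : nd 167 = n807 := ndS (p := 97) (l := 6) rfl N97 (iv F13191)
theorem N168 : nd 168 = n805 := ndS (p := 98) (l := 3) rfl N98 (iv F13302)
theorem N169 : nd 169 = n190 := ndS (p := 99) (l := 3) rfl N99 (iv D399)
theorem N170 : nd 170 = n1062 := ndS (p := 100) (l := 3) rfl N100 D1062
theorem N171 : nd 171 = n1693 := ndS (p := 101) (l := 3) rfl N101 (iv F13444)
theorem N172 : nd 172 = n1949 := ndS (p := 103) (l := 5) rfl N103 D1949
theorem N173 : nd 173 = n1708 := ndS (p := 107) (l := 3) rfl N107 F13609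
theorem N174 : nd 174 = n3848 := ndS (p := 108) (l := 1) rfl N108 D3848
theorem N175 : nd 175 = n3849 := ndS (p := 108) (l := 3) rfl N108 D3849
theorem N176 : nd 176 = n3850 := ndS (p := 108) (l := 4) rfl N108 D3850
theorem N177 : nd 177 = n3851 := ndS (p := 108) (l := 6) rfl N108 D3851
theorem N178 : nd 178 = n3852 := ndS (p := 111) (l := 3) rfl N111 D3852
theorem N179 : nd 179 = n3853 := ndS (p := 111) (l := 4) rfl N111 D3853
theorem N180 : nd 180 = n3103 := ndS (p := 112) (l := 2) rfl N112 F14747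
theorem N181 : nd 181 = n3102 := ndS (p := 112) (l := 4) rfl N112 (iv F14748)
theorem N182 : nd 182 = n3856 := ndS (p := 112) (l := 5) rfl N112 D3856
theorem N183 : nd 183 = n3857 := ndS (p := 112) (l := 6) rfl N112 D3857
theorem N184 : nd 184 = n3858 := ndS (p := 113) (l := 3) rfl N113 D3858
theorem N185 : nd 185 = n3859 := ndS (p := 114) (l := 3) rfl N114 D3859
theorem N186 : nd 186 = n3860 := ndS (p := 115) (l := 3) rfl N115 D3860
theorem N187 : nd 187 = n11 := ndS (p := 118) (l := 1) rfl N118 D11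
theorem N188 : nd 188 = n37 := ndS (p := 118) (l := 5) rfl N118 D37
theorem N189 : nd 189 = n38 := ndS (p := 118) (l := 6) rfl N118 D38
theorem N190 : nd 190 = n43 := ndS (p := 119) (l := 5) rfl N119 D43
theorem N191 : nd 191 = n44 := ndS (p := 119) (l := 6) rfl N119 D44
theorem N192 : nd 192 = n74 := ndS (p := 120) (l := 3) rfl N120 D74
theorem N193 : nd 193 = n75 := ndS (p := 120) (l := 6) rfl N120 D75
theorem N194 : nd 194 = n77 := ndS (p := 121) (l := 5) rfl N121 D77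
theorem N195 : nd 195 = n142 := ndS (p := 122) (l := 2) rfl N122 D142
theorem N196 : nd 196 = n84 := ndS (p := 123) (l := 5) rfl N123 D84
theorem N197 : nd 197 = n85 := ndS (p := 123) (l := 6) rfl N123 D85
theorem N198 : nd 198 = n156 := ndS (p := 124) (l := 3) rfl N124 D156
theorem N199 : nd 199 = n157 := ndS (p := 124) (l := 6) rfl N124 D157
theorem N200 : nd 200 = n158 := ndS (p := 125) (l := 3) rfl N125 D158
theorem N201 : nd 201 = n159 := ndS (p := 125) (l := 5) rfl N125 D159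
theorem N202 : nd 202 = n176 := ndS (p := 126) (l := 3) rfl N126 D176
theorem N203 : nd 203 = n177 := ndS (p := 127) (l := 3) rfl N127 D177
theorem N204 : nd 204 = n266 := ndS (p := 128) (l := 2) rfl N128 D266
theorem N205 : nd 205 = n267 := ndS (p := 128) (l := 4) rfl N128 D267
theorem N206 : nd 206 = n273 := ndS (p := 130) (l := 3) rfl N130 D273
theorem N207 : nd 207 = n274 := ndS (p := 131) (l := 1) rfl N131 D274
theorem N208 : nd 208 = n275 := ndS (p := 131) (l := 3) rfl N131 D275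
theorem N209 : nd 209 = n276 := ndS (p := 131) (l := 4) rfl N131 D276
theorem N210 : nd 210 = n277 := ndS (p := 131) (l := 6) rfl N131 D277
theorem N211 : nd 211 = n149 := ndS (p := 133) (l := 5) rfl N133 (iv F13305)
theorem N212 : nd 212 = n94 := ndS (p := 134) (l := 3) rfl N134 D94
theorem N213 : nd 213 = n96 := ndS (p := 135) (l := 3) rfl N135 D96
theorem N214 : nd 214 = n382 := ndS (p := 136) (l := 2) rfl N136 D382
theorem N215 : nd 215 = n383 := ndS (p := 136) (l := 4) rfl N136 D383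
theorem N216 : nd 216 = n384 := ndS (p := 136) (l := 6) rfl N136 D384
theorem N217 : nd 217 = n385 := ndS (p := 137) (l := 2) rfl N137 D385
theorem N218 : nd 218 = n504 := ndS (p := 141) (l := 2) rfl N141 D504
theorem N219 : nd 219 = n189 := ndS (p := 141) (l := 4) rfl N141 (iv F13037)
theorem N220 : nd 220 = n506 := ndS (p := 141) (l := 6) rfl N141 D506
theorem N221 : nd 221 = n420 := ndS (p := 143) (l := 1) rfl N143 D420
theorem N222 : nd 222 = n391 := ndS (p := 143) (l := 3) rfl N143 (iv F13300)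
theorem N223 : nd 223 = n507 := ndS (p := 144) (l := 0) rfl N144 D507
theorem N224 : nd 224 = n509 := ndS (p := 144) (l := 4) rfl N144 D509
theorem N225 : nd 225 = n514 := ndS (p := 145) (l := 3) rfl N145 D514
theorem N226 : nd 226 = n187 := ndS (p := 147) (l := 3) rfl N147 F389
theorem N227 : nd 227 = n899 := ndS (p := 148) (l := 3) rfl N148 D899
theorem N228 : nd 228 = n393 := ndS (p := 149) (l := 2) rfl N149 (iv F13157)
theorem N229 : nd 229 = n902 := ndS (p := 149) (l := 4) rfl N149 D902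
theorem N230 : nd 230 = n395 := ndS (p := 149) (l := 6) rfl N149 (iv F13048)
theorem N231 : nd 231 = n3861 := ndS (p := 150) (l := 1) rfl N150 D3861
theorem N232 : nd 232 = n3862 := ndS (p := 150) (l := 3) rfl N150 D3862
theorem N233 : nd 233 = n2133 := ndS (p := 150) (l := 5) rfl N150 F13472
theorem N234 : nd 234 = n3865 := ndS (p := 150) (l := 6) rfl N150 D3865
theorem N235 : nd 235 = n2134 := ndS (p := 151) (l := 5) rfl N151 (iv F13337)
theorem N236 : nd 236 = n1695 := ndS (p := 151) (l := 6) rfl N151 F13192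
theorem N237 : nd 237 = n2136 := ndS (p := 152) (l := 6) rfl N152 D2136
theorem N238 : nd 238 = n3869 := ndS (p := 153) (l := 5) rfl N153 D3869
theorem N239 : nd 239 = n640 := ndS (p := 154) (l := 2) rfl N154 F1546
theorem N240 : nd 240 = n3277 := ndS (p := 155) (l := 2) rfl N155 (iv F14736)
theorem N241 : nd 241 = n3276 := ndS (p := 155) (l := 4) rfl N155 (iv F14737)
theorem N242 : nd 242 = n3877 := ndS (p := 155) (l := 5) rfl N155 D3877
theorem N243 : nd 243 = n3878 := ndS (p := 155) (l := 6) rfl N155 D3878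
theorem N244 : nd 244 = n3879 := ndS (p := 156) (l := 3) rfl N156 D3879
theorem N245 : nd 245 = n2139 := ndS (p := 156) (l := 5) rfl N156 F13352
theorem N246 : nd 246 = n1739 := ndS (p := 156) (l := 6) rfl N156 F13353
theorem N247 : nd 247 = n2138 := ndS (p := 157) (l := 3) rfl N157 D2138
theorem N248 : nd 248 = n2141 := ndS (p := 157) (l := 6) rfl N157 D2141
theorem N249 : nd 249 = n3884 := ndS (p := 158) (l := 3) rfl N158 D3884
theorem N250 : nd 250 = n3885 := ndS (p := 158) (l := 5) rfl N158 D3885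
theorem N251 : nd 251 = n1691 := ndS (p := 159) (l := 3) rfl N159 F13381
theorem N252 : nd 252 = n398 := ndS (p := 160) (l := 3) rfl N160 (iv D834)
theorem N253 : nd 253 = n3481 := ndS (p := 162) (l := 3) rfl N162 F13533
theorem N254 : nd 254 = n1138 := ndS (p := 163) (l := 3) rfl N163 D1138
theorem N255 : nd 255 = n638 := ndS (p := 163) (l := 4) rfl N163 F1219
theorem N256 : nd 256 = n306 := ndS (p := 163) (l := 6) rfl N163 (iv F13476)
theorem N257 : nd 257 = n819 := ndS (p := 166) (l := 3) rfl N166 F13325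
theorem N258 : nd 258 = n3484 := ndS (p := 171) (l := 2) rfl N171 (iv F5911)
theorem N259 : nd 259 = n1709 := ndS (p := 171) (l := 4) rfl N171 (iv F2884)
theorem N260 : nd 260 = n803 := ndS (p := 171) (l := 6) rfl N171 (iv D1693)
theorem N261 : nd 261 = n818 := ndS (p := 173) (l := 2) rfl N173 (iv D1708)
theorem N262 : nd 262 = n1692 := ndS (p := 173) (l := 4) rfl N173 F2881
theorem N263 : nd 263 = n3517 := ndS (p := 173) (l := 6) rfl N173 D3517
theorem N264 : nd 264 = n4633 := ndS (p := 174) (l := 3) rfl N174 (iv F14762)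
theorem N265 : nd 265 = n4672 := ndS (p := 175) (l := 2) rfl N175 F14746
theorem N266 : nd 266 = n6038 := ndS (p := 175) (l := 4) rfl N175 F14749
theorem N267 : nd 267 = n7151 := ndS (p := 175) (l := 5) rfl N175 D7151
theorem N268 : nd 268 = n4623 := ndS (p := 175) (l := 6) rfl N175 (iv F14759)
theorem N269 : nd 269 = n7152 := ndS (p := 176) (l := 3) rfl N176 D7152
theorem N270 : nd 270 = n5083 := ndS (p := 177) (l := 3) rfl N177 F14760
theorem N271 : nd 271 = n4652 := ndS (p := 178) (l := 2) rfl N178 F14764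
theorem N272 : nd 272 = n6075 := ndS (p := 178) (l := 4) rfl N178 F14750
theorem N273 : nd 273 = n4649 := ndS (p := 178) (l := 5) rfl N178 F14763
theorem N274 : nd 274 = n7153 := ndS (p := 178) (l := 6) rfl N178 D7153
theorem N275 : nd 275 = n7154 := ndS (p := 179) (l := 3) rfl N179 D7154
theorem N276 : nd 276 = n1533 := ndS (p := 180) (l := 1) rfl N180 F5392
theorem N277 : nd 277 = n6073 := ndS (p := 180) (l := 3) rfl N180 (iv F10706)
theorem N278 : nd 278 = n1517 := ndS (p := 180) (l := 4) rfl N180 (iv D3103)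
theorem N279 : nd 279 = n4707 := ndS (p := 180) (l := 5) rfl N180 (iv F13914)
theorem N280 : nd 280 = n4666 := ndS (p := 180) (l := 6) rfl N180 (iv F13956)
theorem N281 : nd 281 = n6076 := ndS (p := 181) (l := 3) rfl N181 D6076
theorem N282 : nd 282 = n6062 := ndS (p := 181) (l := 5) rfl N181 (iv F10684)
theorem N283 : nd 283 = n6078 := ndS (p := 181) (l := 6) rfl N181 D6078
theorem N284 : nd 284 = n4646 := ndS (p := 182) (l := 6) rfl N182 F14754
theorem N285 : nd 285 = n4620 := ndS (p := 183) (l := 5) rfl N183 (iv F14756)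
theorem N286 : nd 286 = n2947 := ndS (p := 184) (l := 2) rfl N184 F14769
theorem N287 : nd 287 = n7155 := ndS (p := 184) (l := 5) rfl N184 D7155
theorem N288 : nd 288 = n7156 := ndS (p := 184) (l := 6) rfl N184 D7156
theorem N289 : nd 289 = n7157 := ndS (p := 185) (l := 2) rfl N185 D7157
theorem N290 : nd 290 = n7158 := ndS (p := 186) (l := 2) rfl N186 D7158
theorem N291 : nd 291 = n40 := ndS (p := 187) (l := 5) rfl N187 D40
theorem N292 : nd 292 = n41 := ndS (p := 187) (l := 6) rfl N187 D41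
theorem N293 : nd 293 = n80 := ndS (p := 188) (l := 3) rfl N188 D80
theorem N294 : nd 294 = n81 := ndS (p := 188) (l := 6) rfl N188 D81
theorem N295 : nd 295 = n82 := ndS (p := 189) (l := 3) rfl N189 D82
theorem N296 : nd 296 = n83 := ndS (p := 189) (l := 5) rfl N189 D83
theorem N297 : nd 297 = n90 := ndS (p := 190) (l := 3) rfl N190 D90
theorem N298 : nd 298 = n91 := ndS (p := 191) (l := 3) rfl N191 D91
theorem N299 : nd 299 = n148 := ndS (p := 192) (l := 2) rfl N192 D148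
theorem N300 : nd 300 = n155 := ndS (p := 194) (l := 3) rfl N194 D155
theorem N301 : nd 301 = n294 := ndS (p := 195) (l := 1) rfl N195 D294
theorem N302 : nd 302 = n295 := ndS (p := 195) (l := 3) rfl N195 D295
theorem N303 : nd 303 = n168 := ndS (p := 196) (l := 3) rfl N196 D168
theorem N304 : nd 304 = n169 := ndS (p := 197) (l := 3) rfl N197 D169
theorem N305 : nd 305 = n322 := ndS (p := 198) (l := 2) rfl N198 D322
theorem N306 : nd 306 = n323 := ndS (p := 198) (l := 4) rfl N198 D323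
theorem N307 : nd 307 = n324 := ndS (p := 198) (l := 6) rfl N198 D324
theorem N308 : nd 308 = n325 := ndS (p := 199) (l := 3) rfl N199 D325
theorem N309 : nd 309 = n326 := ndS (p := 200) (l := 2) rfl N200 D326
theorem N310 : nd 310 = n327 := ndS (p := 200) (l := 4) rfl N200 D327
theorem N311 : nd 311 = n328 := ndS (p := 200) (l := 5) rfl N200 D328
theorem N312 : nd 312 = n329 := ndS (p := 201) (l := 3) rfl N201 D329
theorem N313 : nd 313 = n364 := ndS (p := 202) (l := 2) rfl N202 D364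
theorem N314 : nd 314 = n365 := ndS (p := 202) (l := 4) rfl N202 D365
theorem N315 : nd 315 = n366 := ndS (p := 202) (l := 6) rfl N202 D366
theorem N316 : nd 316 = n367 := ndS (p := 203) (l := 2) rfl N203 D367
theorem N317 : nd 317 = n553 := ndS (p := 204) (l := 3) rfl N204 D553
theorem N318 : nd 318 = n554 := ndS (p := 204) (l := 4) rfl N204 D554
theorem N319 : nd 319 = n565 := ndS (p := 206) (l := 2) rfl N206 D565
theorem N320 : nd 320 = n567 := ndS (p := 206) (l := 6) rfl N206 D567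
theorem N321 : nd 321 = n568 := ndS (p := 207) (l := 0) rfl N207 D568
theorem N322 : nd 322 = n569 := ndS (p := 207) (l := 3) rfl N207 D569
theorem N323 : nd 323 = n570 := ndS (p := 207) (l := 4) rfl N207 D570
theorem N324 : nd 324 = n572 := ndS (p := 208) (l := 2) rfl N208 D572
theorem N325 : nd 325 = n573 := ndS (p := 208) (l := 4) rfl N208 D573
theorem N326 : nd 326 = n574 := ndS (p := 208) (l := 5) rfl N208 D574
theorem N327 : nd 327 = n575 := ndS (p := 208) (l := 6) rfl N208 D575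
theorem N328 : nd 328 = n576 := ndS (p := 209) (l := 3) rfl N209 D576
theorem N329 : nd 329 = n578 := ndS (p := 210) (l := 3) rfl N210 D578
theorem N330 : nd 330 = n308 := ndS (p := 210) (l := 5) rfl N210 (iv F13454)
theorem N331 : nd 331 = n179 := ndS (p := 211) (l := 3) rfl N211 (iv F364)
theorem N332 : nd 332 = n186 := ndS (p := 212) (l := 2) rfl N212 D186
theorem N333 : nd 333 = n188 := ndS (p := 212) (l := 6) rfl N212 D188
theorem N334 : nd 334 = n802 := ndS (p := 214) (l := 1) rfl N214 D802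
theorem N335 : nd 335 = n389 := ndS (p := 214) (l := 4) rfl N214 F2010
theorem N336 : nd 336 = n394 := ndS (p := 215) (l := 6) rfl N215 (iv F745)
theorem N337 : nd 337 = n392 := ndS (p := 216) (l := 5) rfl N216 (iv F738)
theorem N338 : nd 338 = n806 := ndS (p := 217) (l := 1) rfl N217 D806
theorem N339 : nd 339 = n1042 := ndS (p := 218) (l := 1) rfl N218 D1042
theorem N340 : nd 340 = n1043 := ndS (p := 218) (l := 3) rfl N218 D1043
theorem N341 : nd 341 = n813 := ndS (p := 221) (l := 3) rfl N221 (iv F13328)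
theorem N342 : nd 342 = n1054 := ndS (p := 224) (l := 3) rfl N224 D1054
theorem N343 : nd 343 = n390 := ndS (p := 226) (l := 2) rfl N226 (iv F732)
theorem N344 : nd 344 = n1403 := ndS (p := 227) (l := 2) rfl N227 (iv F13163)
theorem N345 : nd 345 = n1858 := ndS (p := 227) (l := 4) rfl N227 D1858
theorem N346 : nd 346 = n827 := ndS (p := 227) (l := 6) rfl N227 F13213
theorem N347 : nd 347 = n321 := ndS (p := 228) (l := 1) rfl N228 F740
theorem N348 : nd 348 = n7159 := ndS (p := 231) (l := 3) rfl N231 D7159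
theorem N349 : nd 349 = n4227 := ndS (p := 231) (l := 5) rfl N231 (iv F13474)
theorem N350 : nd 350 = n3489 := ndS (p := 231) (l := 6) rfl N231 F13340
theorem N351 : nd 351 = n6072 := ndS (p := 232) (l := 4) rfl N232 F14738
theorem N352 : nd 352 = n7160 := ndS (p := 232) (l := 5) rfl N232 D7160
theorem N353 : nd 353 = n7161 := ndS (p := 232) (l := 6) rfl N232 D7161
theorem N354 : nd 354 = n4228 := ndS (p := 233) (l := 3) rfl N233 D4228
theorem N355 : nd 355 = n4230 := ndS (p := 233) (l := 6) rfl N233 D4230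
theorem N356 : nd 356 = n7162 := ndS (p := 234) (l := 3) rfl N234 D7162
theorem N357 : nd 357 = n7163 := ndS (p := 234) (l := 5) rfl N234 D7163
theorem N358 : nd 358 = n1705 := ndS (p := 235) (l := 3) rfl N235 F13463
theorem N359 : nd 359 = n3510 := ndS (p := 238) (l := 3) rfl N238 F13584
theorem N360 : nd 360 = n1335 := ndS (p := 239) (l := 3) rfl N239 D1335
theorem N361 : nd 361 = n1612 := ndS (p := 240) (l := 1) rfl N240 F5609
theorem N362 : nd 362 = n1596 := ndS (p := 240) (l := 4) rfl N240 (iv D3277)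
theorem N363 : nd 363 = n6394 := ndS (p := 240) (l := 5) rfl N240 (iv F11124)
theorem N364 : nd 364 = n6402 := ndS (p := 240) (l := 6) rfl N240 D6402
theorem N365 : nd 365 = n6399 := ndS (p := 241) (l := 3) rfl N241 D6399
theorem N366 : nd 366 = n6393 := ndS (p := 241) (l := 5) rfl N241 (iv F11122)
theorem N367 : nd 367 = n6401 := ndS (p := 241) (l := 6) rfl N241 D6401
theorem N368 : nd 368 = n4241 := ndS (p := 242) (l := 3) rfl N242 (iv F14800)
theorem N369 : nd 369 = n6481 := ndS (p := 242) (l := 6) rfl N242 F14741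
theorem N370 : nd 370 = n5974 := ndS (p := 243) (l := 3) rfl N243 (iv F14668)
theorem N371 : nd 371 = n7164 := ndS (p := 243) (l := 5) rfl N243 D7164
theorem N372 : nd 372 = n3199 := ndS (p := 244) (l := 2) rfl N244 F14713
theorem N373 : nd 373 = n7165 := ndS (p := 244) (l := 5) rfl N244 D7165
theorem N374 : nd 374 = n6569 := ndS (p := 244) (l := 6) rfl N244 F14714
theorem N375 : nd 375 = n4242 := ndS (p := 245) (l := 3) rfl N245 (iv F14793)
theorem N376 : nd 376 = n3567 := ndS (p := 246) (l := 3) rfl N246 D3567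
theorem N377 : nd 377 = n4239 := ndS (p := 247) (l := 2) rfl N247 D4239
theorem N378 : nd 378 = n4240 := ndS (p := 247) (l := 4) rfl N247 D4240
theorem N379 : nd 379 = n5979 := ndS (p := 249) (l := 2) rfl N249 F14664
theorem N380 : nd 380 = n5976 := ndS (p := 249) (l := 4) rfl N249 F14665
theorem N381 : nd 381 = n1615 := ndS (p := 251) (l := 2) rfl N251 F2846
theorem N382 : nd 382 = n376 := ndS (p := 252) (l := 2) rfl N252 F752
theorem N383 : nd 383 = n1690 := ndS (p := 253) (l := 6) rfl N253 (iv D3481)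
theorem N384 : nd 384 = n2296 := ndS (p := 254) (l := 4) rfl N254 D2296
theorem N385 : nd 385 = n2297 := ndS (p := 254) (l := 5) rfl N254 D2297
theorem N386 : nd 386 = n2298 := ndS (p := 254) (l := 6) rfl N254 D2298
theorem N387 : nd 387 = n1330 := ndS (p := 255) (l := 3) rfl N255 D1330
theorem N388 : nd 388 = n639 := ndS (p := 256) (l := 3) rfl N256 D639
theorem N389 : nd 389 = n4221 := ndS (p := 258) (l := 3) rfl N258 F13583
theorem N390 : nd 390 = n1704 := ndS (p := 261) (l := 1) rfl N261 (iv F2869)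
theorem N391 : nd 391 = n2378 := ndS (p := 264) (l := 2) rfl N264 F8350
theorem N392 : nd 392 = n4635 := ndS (p := 264) (l := 4) rfl N264 (iv F8353)
theorem N393 : nd 393 = n4631 := ndS (p := 264) (l := 5) rfl N264 F8351
theorem N394 : nd 394 = n2373 := ndS (p := 264) (l := 6) rfl N264 (iv D4633)
theorem N395 : nd 395 = n2397 := ndS (p := 265) (l := 1) rfl N265 F8424
theorem N396 : nd 396 = n3086 := ndS (p := 265) (l := 4) rfl N265 F13967
theorem N397 : nd 397 = n4670 := ndS (p := 265) (l := 5) rfl N265 F8425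
theorem N398 : nd 398 = n2391 := ndS (p := 265) (l := 6) rfl N265 (iv D4672)
theorem N399 : nd 399 = n7248 := ndS (p := 266) (l := 3) rfl N266 (iv F15095)
theorem N400 : nd 400 = n4624 := ndS (p := 266) (l := 5) rfl N266 F14654
theorem N401 : nd 401 = n5758 := ndS (p := 266) (l := 6) rfl N266 (iv F14632)
theorem N402 : nd 402 = n4622 := ndS (p := 267) (l := 6) rfl N267 F14808
theorem N403 : nd 403 = n5078 := ndS (p := 268) (l := 3) rfl N268 (iv F14624)
theorem N404 : nd 404 = n2370 := ndS (p := 268) (l := 5) rfl N268 (iv D4623)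
theorem N405 : nd 405 = n5108 := ndS (p := 269) (l := 2) rfl N269 F14812
theorem N406 : nd 406 = n5072 := ndS (p := 269) (l := 5) rfl N269 (iv F14813)
theorem N407 : nd 407 = n4632 := ndS (p := 269) (l := 6) rfl N269 F14811
theorem N408 : nd 408 = n2602 := ndS (p := 270) (l := 2) rfl N270 F9027
theorem N409 : nd 409 = n5081 := ndS (p := 270) (l := 4) rfl N270 F9028
theorem N410 : nd 410 = n2597 := ndS (p := 270) (l := 5) rfl N270 (iv D5083)
theorem N411 : nd 411 = n2416 := ndS (p := 271) (l := 1) rfl N271 F8387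
theorem N412 : nd 412 = n7217 := ndS (p := 271) (l := 3) rfl N271 D7217
theorem N413 : nd 413 = n3133 := ndS (p := 271) (l := 4) rfl N271 F13872
theorem N414 : nd 414 = n2383 := ndS (p := 271) (l := 5) rfl N271 (iv D4652)
theorem N415 : nd 415 = n4637 := ndS (p := 271) (l := 6) rfl N271 F8389
theorem N416 : nd 416 = n7184 := ndS (p := 272) (l := 3) rfl N272 (iv F14908)
theorem N417 : nd 417 = n7209 := ndS (p := 272) (l := 5) rfl N272 (iv F14959)
theorem N418 : nd 418 = n4648 := ndS (p := 272) (l := 6) rfl N272 (iv F13868)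
theorem N419 : nd 419 = n2381 := ndS (p := 273) (l := 6) rfl N273 (iv D4649)
theorem N420 : nd 420 = n4636 := ndS (p := 274) (l := 5) rfl N274 (iv F14819)
theorem N421 : nd 421 = n4614 := ndS (p := 275) (l := 2) rfl N275 F14823
theorem N422 : nd 422 = n5082 := ndS (p := 275) (l := 5) rfl N275 F14822
theorem N423 : nd 423 = n4610 := ndS (p := 275) (l := 6) rfl N275 (iv F14824)
theorem N424 : nd 424 = n2958 := ndS (p := 276) (l := 0) rfl N276 (iv F5178)
theorem N425 : nd 425 = n3131 := ndS (p := 276) (l := 3) rfl N276 (iv F5419)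
theorem N426 : nd 426 = n729 := ndS (p := 276) (l := 4) rfl N276 (iv D1533)
theorem N427 : nd 427 = n2413 := ndS (p := 276) (l := 5) rfl N276 F13923
theorem N428 : nd 428 = n3135 := ndS (p := 276) (l := 6) rfl N276 D3135
theorem N429 : nd 429 = n3101 := ndS (p := 277) (l := 4) rfl N277 (iv D6073)
theorem N430 : nd 430 = n6561 := ndS (p := 277) (l := 5) rfl N277 F14292
theorem N431 : nd 431 = n7350 := ndS (p := 277) (l := 6) rfl N277 D7350
theorem N432 : nd 432 = n722 := ndS (p := 278) (l := 3) rfl N278 (iv D1517)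
theorem N433 : nd 433 = n3095 := ndS (p := 278) (l := 5) rfl N278 (iv F5378)
theorem N434 : nd 434 = n3104 := ndS (p := 278) (l := 6) rfl N278 D3104
theorem N435 : nd 435 = n6562 := ndS (p := 279) (l := 3) rfl N279 (iv F14205)
theorem N436 : nd 436 = n2410 := ndS (p := 279) (l := 6) rfl N279 (iv D4707)
theorem N437 : nd 437 = n7218 := ndS (p := 280) (l := 3) rfl N280 D7218
theorem N438 : nd 438 = n2389 := ndS (p := 280) (l := 5) rfl N280 (iv D4666)
theorem N439 : nd 439 = n5773 := ndS (p := 281) (l := 2) rfl N281 (iv F14768)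
theorem N440 : nd 440 = n7180 := ndS (p := 281) (l := 5) rfl N281 F14899
theorem N441 : nd 441 = n7243 := ndS (p := 281) (l := 6) rfl N281 (iv F15075)
theorem N442 : nd 442 = n7342 := ndS (p := 282) (l := 3) rfl N282 D7342
theorem N443 : nd 443 = n5753 := ndS (p := 283) (l := 3) rfl N283 (iv F14633)
theorem N444 : nd 444 = n7214 := ndS (p := 284) (l := 3) rfl N284 D7214
theorem N445 : nd 445 = n7188 := ndS (p := 285) (l := 3) rfl N285 D7188
theorem N446 : nd 446 = n1445 := ndS (p := 286) (l := 1) rfl N286 F5157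
theorem N447 : nd 447 = n1439 := ndS (p := 286) (l := 3) rfl N286 (iv D2947)
theorem N448 : nd 448 = n5101 := ndS (p := 286) (l := 5) rfl N286 (iv F13983)
theorem N449 : nd 449 = n4728 := ndS (p := 286) (l := 6) rfl N286 F8480
theorem N450 : nd 450 = n5068 := ndS (p := 287) (l := 6) rfl N287 (iv F14829)
theorem N451 : nd 451 = n4607 := ndS (p := 288) (l := 5) rfl N288 (iv F14834)
theorem N452 : nd 452 = n7447 := ndS (p := 289) (l := 3) rfl N289 D7447
theorem N453 : nd 453 = n7448 := ndS (p := 290) (l := 3) rfl N290 D7448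
theorem N454 : nd 454 = n86 := ndS (p := 291) (l := 3) rfl N291 D86
theorem N455 : nd 455 = n87 := ndS (p := 292) (l := 3) rfl N292 D87
theorem N456 : nd 456 = n160 := ndS (p := 293) (l := 2) rfl N293 D160
theorem N457 : nd 457 = n161 := ndS (p := 293) (l := 4) rfl N293 D161
theorem N458 : nd 458 = n162 := ndS (p := 293) (l := 6) rfl N293 D162
theorem N459 : nd 459 = n163 := ndS (p := 294) (l := 3) rfl N294 D163
theorem N460 : nd 460 = n164 := ndS (p := 295) (l := 2) rfl N295 D164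
theorem N461 : nd 461 = n165 := ndS (p := 295) (l := 4) rfl N295 D165
theorem N462 : nd 462 = n166 := ndS (p := 295) (l := 5) rfl N295 D166
theorem N463 : nd 463 = n167 := ndS (p := 296) (l := 3) rfl N296 D167
theorem N464 : nd 464 = n178 := ndS (p := 297) (l := 2) rfl N297 D178
theorem N465 : nd 465 = n180 := ndS (p := 297) (l := 6) rfl N297 D180
theorem N466 : nd 466 = n181 := ndS (p := 298) (l := 2) rfl N298 D181
theorem N467 : nd 467 = n307 := ndS (p := 299) (l := 3) rfl N299 D307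
theorem N468 : nd 468 = n319 := ndS (p := 300) (l := 2) rfl N300 D319
theorem N469 : nd 469 = n614 := ndS (p := 301) (l := 3) rfl N301 D614
theorem N470 : nd 470 = n616 := ndS (p := 302) (l := 2) rfl N302 D616
theorem N471 : nd 471 = n617 := ndS (p := 302) (l := 4) rfl N302 D617
theorem N472 : nd 472 = n618 := ndS (p := 302) (l := 5) rfl N302 D618
theorem N473 : nd 473 = n619 := ndS (p := 302) (l := 6) rfl N302 D619
theorem N474 : nd 474 = n350 := ndS (p := 303) (l := 2) rfl N303 D350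
theorem N475 : nd 475 = n351 := ndS (p := 303) (l := 4) rfl N303 D351
theorem N476 : nd 476 = n352 := ndS (p := 303) (l := 6) rfl N303 D352
theorem N477 : nd 477 = n353 := ndS (p := 304) (l := 2) rfl N304 D353
theorem N478 : nd 478 = n354 := ndS (p := 304) (l := 4) rfl N304 D354
theorem N479 : nd 479 = n355 := ndS (p := 304) (l := 5) rfl N304 D355
theorem N480 : nd 480 = n676 := ndS (p := 305) (l := 1) rfl N305 D676
theorem N481 : nd 481 = n677 := ndS (p := 305) (l := 3) rfl N305 D677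
theorem N482 : nd 482 = n678 := ndS (p := 305) (l := 4) rfl N305 D678
theorem N483 : nd 483 = n679 := ndS (p := 305) (l := 6) rfl N305 D679
theorem N484 : nd 484 = n680 := ndS (p := 306) (l := 6) rfl N306 D680
theorem N485 : nd 485 = n681 := ndS (p := 307) (l := 3) rfl N307 D681
theorem N486 : nd 486 = n682 := ndS (p := 307) (l := 5) rfl N307 D682
theorem N487 : nd 487 = n683 := ndS (p := 308) (l := 2) rfl N308 D683
theorem N488 : nd 488 = n684 := ndS (p := 308) (l := 4) rfl N308 D684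
theorem N489 : nd 489 = n685 := ndS (p := 308) (l := 5) rfl N308 D685
theorem N490 : nd 490 = n686 := ndS (p := 309) (l := 1) rfl N309 D686
theorem N491 : nd 491 = n687 := ndS (p := 309) (l := 3) rfl N309 D687
theorem N492 : nd 492 = n688 := ndS (p := 309) (l := 4) rfl N309 D688
theorem N493 : nd 493 = n689 := ndS (p := 309) (l := 5) rfl N309 D689
theorem N494 : nd 494 = n690 := ndS (p := 310) (l := 5) rfl N310 D690
theorem N495 : nd 495 = n691 := ndS (p := 311) (l := 3) rfl N311 D691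
theorem N496 : nd 496 = n692 := ndS (p := 311) (l := 6) rfl N311 D692
theorem N497 : nd 497 = n693 := ndS (p := 312) (l := 2) rfl N312 D693
theorem N498 : nd 498 = n694 := ndS (p := 312) (l := 4) rfl N312 D694
theorem N499 : nd 499 = n695 := ndS (p := 312) (l := 6) rfl N312 D695
theorem N500 : nd 500 = n766 := ndS (p := 313) (l := 1) rfl N313 D766
theorem N501 : nd 501 = n767 := ndS (p := 313) (l := 3) rfl N313 D767
theorem N502 : nd 502 = n768 := ndS (p := 313) (l := 4) rfl N313 D768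
theorem N503 : nd 503 = n769 := ndS (p := 313) (l := 6) rfl N313 D769
theorem N504 : nd 504 = n375 := ndS (p := 314) (l := 6) rfl N314 (iv F705)
theorem N505 : nd 505 = n374 := ndS (p := 315) (l := 5) rfl N315 (iv F702)
theorem N506 : nd 506 = n770 := ndS (p := 316) (l := 1) rfl N316 D770
theorem N507 : nd 507 = n771 := ndS (p := 316) (l := 3) rfl N316 D771
theorem N508 : nd 508 = n1140 := ndS (p := 317) (l := 2) rfl N317 D1140
theorem N509 : nd 509 = n1141 := ndS (p := 317) (l := 4) rfl N317 D1141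
theorem N510 : nd 510 = n1142 := ndS (p := 317) (l := 5) rfl N317 D1142
theorem N511 : nd 511 = n1143 := ndS (p := 317) (l := 6) rfl N317 D1143
theorem N512 : nd 512 = n1144 := ndS (p := 318) (l := 3) rfl N318 D1144
theorem N513 : nd 513 = n1166 := ndS (p := 319) (l := 1) rfl N319 D1166
theorem N514 : nd 514 = n1167 := ndS (p := 319) (l := 3) rfl N319 D1167
theorem N515 : nd 515 = n1169 := ndS (p := 319) (l := 6) rfl N319 D1169
theorem N516 : nd 516 = n1172 := ndS (p := 321) (l := 3) rfl N321 D1172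
theorem N517 : nd 517 = n1174 := ndS (p := 322) (l := 2) rfl N322 D1174
theorem N518 : nd 518 = n1175 := ndS (p := 322) (l := 4) rfl N322 D1175
theorem N519 : nd 519 = n1176 := ndS (p := 322) (l := 5) rfl N322 D1176
theorem N520 : nd 520 = n1177 := ndS (p := 322) (l := 6) rfl N322 D1177
theorem N521 : nd 521 = n1178 := ndS (p := 323) (l := 3) rfl N323 D1178
theorem N522 : nd 522 = n1182 := ndS (p := 324) (l := 1) rfl N324 D1182
theorem N523 : nd 523 = n1183 := ndS (p := 324) (l := 4) rfl N324 D1183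
theorem N524 : nd 524 = n1184 := ndS (p := 324) (l := 5) rfl N324 D1184
theorem N525 : nd 525 = n1185 := ndS (p := 324) (l := 6) rfl N324 D1185
theorem N526 : nd 526 = n1186 := ndS (p := 325) (l := 3) rfl N325 D1186
theorem N527 : nd 527 = n1187 := ndS (p := 325) (l := 5) rfl N325 D1187
theorem N528 : nd 528 = n1188 := ndS (p := 325) (l := 6) rfl N325 D1188
theorem N529 : nd 529 = n1189 := ndS (p := 326) (l := 6) rfl N326 D1189
theorem N530 : nd 530 = n1190 := ndS (p := 327) (l := 3) rfl N327 D1190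
theorem N531 : nd 531 = n1191 := ndS (p := 327) (l := 5) rfl N327 D1191
theorem N532 : nd 532 = n1192 := ndS (p := 328) (l := 2) rfl N328 D1192
theorem N533 : nd 533 = n1193 := ndS (p := 328) (l := 5) rfl N328 D1193
theorem N534 : nd 534 = n1194 := ndS (p := 328) (l := 6) rfl N328 D1194
theorem N535 : nd 535 = n1196 := ndS (p := 329) (l := 2) rfl N329 D1196
theorem N536 : nd 536 = n1197 := ndS (p := 329) (l := 4) rfl N329 D1197
theorem N537 : nd 537 = n1198 := ndS (p := 329) (l := 5) rfl N329 D1198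
theorem N538 : nd 538 = n646 := ndS (p := 330) (l := 3) rfl N330 D646
theorem N539 : nd 539 = n372 := ndS (p := 331) (l := 2) rfl N331 (iv F699)
theorem N540 : nd 540 = n388 := ndS (p := 332) (l := 1) rfl N332 D388
theorem N541 : nd 541 = n812 := ndS (p := 334) (l := 0) rfl N334 (iv F1443)
theorem N542 : nd 542 = n810 := ndS (p := 334) (l := 4) rfl N334 F1441
theorem N543 : nd 543 = n2126 := ndS (p := 339) (l := 3) rfl N339 D2126
theorem N544 : nd 544 = n2128 := ndS (p := 340) (l := 2) rfl N340 D2128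
theorem N545 : nd 545 = n2130 := ndS (p := 340) (l := 5) rfl N340 D2130
theorem N546 : nd 546 = n777 := ndS (p := 341) (l := 2) rfl N341 F1448
theorem N547 : nd 547 = n1629 := ndS (p := 342) (l := 2) rfl N342 (iv F13456)
theorem N548 : nd 548 = n673 := ndS (p := 344) (l := 1) rfl N344 F2481
theorem N549 : nd 549 = n2356 := ndS (p := 344) (l := 3) rfl N344 (iv F13380)
theorem N550 : nd 550 = n670 := ndS (p := 344) (l := 6) rfl N344 (iv D1403)
theorem N551 : nd 551 = n5771 := ndS (p := 348) (l := 2) rfl N348 F14845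
theorem N552 : nd 552 = n7348 := ndS (p := 348) (l := 4) rfl N348 (iv F15479)
theorem N553 : nd 553 = n7403 := ndS (p := 348) (l := 5) rfl N348 (iv F15646)
theorem N554 : nd 554 = n7425 := ndS (p := 348) (l := 6) rfl N348 (iv F15747)
theorem N555 : nd 555 = n7166 := ndS (p := 349) (l := 3) rfl N349 D7166
theorem N556 : nd 556 = n6794 := ndS (p := 350) (l := 3) rfl N350 D6794
theorem N557 : nd 557 = n7347 := ndS (p := 351) (l := 5) rfl N351 (iv F15477)
theorem N558 : nd 558 = n7349 := ndS (p := 351) (l := 6) rfl N351 D7349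
theorem N559 : nd 559 = n7169 := ndS (p := 352) (l := 3) rfl N352 (iv F14874)
theorem N560 : nd 560 = n6563 := ndS (p := 352) (l := 6) rfl N352 (iv F14848)
theorem N561 : nd 561 = n7323 := ndS (p := 353) (l := 3) rfl N353 (iv F15393)
theorem N562 : nd 562 = n7423 := ndS (p := 353) (l := 5) rfl N353 (iv F15738)
theorem N563 : nd 563 = n7167 := ndS (p := 354) (l := 2) rfl N354 D7167
theorem N564 : nd 564 = n7168 := ndS (p := 354) (l := 4) rfl N354 D7168
theorem N565 : nd 565 = n7325 := ndS (p := 356) (l := 2) rfl N356 (iv F15399)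
theorem N566 : nd 566 = n7324 := ndS (p := 356) (l := 4) rfl N356 (iv F15396)
theorem N567 : nd 567 = n1635 := ndS (p := 358) (l := 2) rfl N358 F2874
theorem N568 : nd 568 = n2719 := ndS (p := 360) (l := 4) rfl N360 (iv F4806)
theorem N569 : nd 569 = n2726 := ndS (p := 360) (l := 5) rfl N360 D2726
theorem N570 : nd 570 = n2727 := ndS (p := 360) (l := 6) rfl N360 D2727
theorem N571 : nd 571 = n3214 := ndS (p := 361) (l := 0) rfl N361 (iv F5532)
theorem N572 : nd 572 = n765 := ndS (p := 361) (l := 4) rfl N361 (iv D1612)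
theorem N573 : nd 573 = n3300 := ndS (p := 361) (l := 5) rfl N361 (iv F5635)
theorem N574 : nd 574 = n3314 := ndS (p := 361) (l := 6) rfl N361 D3314
theorem N575 : nd 575 = n759 := ndS (p := 362) (l := 3) rfl N362 (iv D1596)
theorem N576 : nd 576 = n3273 := ndS (p := 362) (l := 5) rfl N362 (iv F5603)
theorem N577 : nd 577 = n3278 := ndS (p := 362) (l := 6) rfl N362 D3278
theorem N578 : nd 578 = n3319 := ndS (p := 363) (l := 3) rfl N363 F14037
theorem N579 : nd 579 = n3320 := ndS (p := 363) (l := 6) rfl N363 F14038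
theorem N580 : nd 580 = n7222 := ndS (p := 364) (l := 3) rfl N364 (iv F14994)
theorem N581 : nd 581 = n6395 := ndS (p := 364) (l := 5) rfl N364 F11134
theorem N582 : nd 582 = n6258 := ndS (p := 365) (l := 2) rfl N365 F14734
theorem N583 : nd 583 = n6552 := ndS (p := 365) (l := 5) rfl N365 (iv F14732)
theorem N584 : nd 584 = n7404 := ndS (p := 365) (l := 6) rfl N365 D7404
theorem N585 : nd 585 = n7402 := ndS (p := 366) (l := 3) rfl N366 D7402
theorem N586 : nd 586 = n7327 := ndS (p := 367) (l := 3) rfl N367 (iv F15407)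
theorem N587 : nd 587 = n7173 := ndS (p := 368) (l := 2) rfl N368 (iv F14879)
theorem N588 : nd 588 = n7176 := ndS (p := 368) (l := 4) rfl N368 (iv F14886)
theorem N589 : nd 589 = n7177 := ndS (p := 368) (l := 6) rfl N368 D7177
theorem N590 : nd 590 = n7410 := ndS (p := 369) (l := 3) rfl N369 D7410
theorem N591 : nd 591 = n3055 := ndS (p := 370) (l := 2) rfl N370 F10558
theorem N592 : nd 592 = n3054 := ndS (p := 370) (l := 4) rfl N370 (iv D5974)
theorem N593 : nd 593 = n7295 := ndS (p := 370) (l := 5) rfl N370 (iv F15273)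
theorem N594 : nd 594 = n7449 := ndS (p := 371) (l := 3) rfl N371 D7449
theorem N595 : nd 595 = n1569 := ndS (p := 372) (l := 1) rfl N372 F5505
theorem N596 : nd 596 = n1563 := ndS (p := 372) (l := 3) rfl N372 (iv D3199)
theorem N597 : nd 597 = n6254 := ndS (p := 372) (l := 5) rfl N372 (iv F10942)
theorem N598 : nd 598 = n3368 := ndS (p := 372) (l := 6) rfl N372 F14083
theorem N599 : nd 599 = n7178 := ndS (p := 373) (l := 3) rfl N373 (iv F14890)
theorem N600 : nd 600 = n6568 := ndS (p := 373) (l := 6) rfl N373 F14866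
theorem N601 : nd 601 = n5731 := ndS (p := 374) (l := 3) rfl N374 F14715
theorem N602 : nd 602 = n3366 := ndS (p := 374) (l := 5) rfl N374 (iv D6569)
theorem N603 : nd 603 = n7174 := ndS (p := 375) (l := 2) rfl N375 (iv F14880)
theorem N604 : nd 604 = n7175 := ndS (p := 375) (l := 4) rfl N375 (iv F14883)
theorem N605 : nd 605 = n5734 := ndS (p := 376) (l := 2) rfl N376 (iv F14662)
theorem N606 : nd 606 = n6919 := ndS (p := 376) (l := 4) rfl N376 D6919
theorem N607 : nd 607 = n7170 := ndS (p := 377) (l := 1) rfl N377 D7170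
theorem N608 : nd 608 = n7171 := ndS (p := 377) (l := 3) rfl N377 D7171
theorem N609 : nd 609 = n7172 := ndS (p := 377) (l := 4) rfl N377 D7172
theorem N610 : nd 610 = n3068 := ndS (p := 379) (l := 1) rfl N379 F10566
theorem N611 : nd 611 = n7329 := ndS (p := 379) (l := 3) rfl N379 D7329
theorem N612 : nd 612 = n3057 := ndS (p := 379) (l := 4) rfl N379 F10567
theorem N613 : nd 613 = n789 := ndS (p := 382) (l := 3) rfl N382 D789
theorem N614 : nd 614 = n1331 := ndS (p := 384) (l := 3) rfl N384 F13740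
theorem N615 : nd 615 = n4476 := ndS (p := 384) (l := 5) rfl N384 D4476
theorem N616 : nd 616 = n2962 := ndS (p := 384) (l := 6) rfl N384 (iv F13828)
theorem N617 : nd 617 = n1452 := ndS (p := 385) (l := 6) rfl N385 (iv F13817)
theorem N618 : nd 618 = n1334 := ndS (p := 386) (l := 3) rfl N386 (iv F13774)
theorem N619 : nd 619 = n2927 := ndS (p := 386) (l := 5) rfl N386 (iv F13829)
theorem N620 : nd 620 = n1332 := ndS (p := 387) (l := 2) rfl N387 F13873
theorem N621 : nd 621 = n2712 := ndS (p := 387) (l := 5) rfl N387 D2712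
theorem N622 : nd 622 = n1498 := ndS (p := 387) (l := 6) rfl N387 (iv F13720)
theorem N623 : nd 623 = n1333 := ndS (p := 388) (l := 5) rfl N388 D1333
theorem N624 : nd 624 = n4641 := ndS (p := 391) (l := 3) rfl N391 D4641
theorem N625 : nd 625 = n2380 := ndS (p := 391) (l := 4) rfl N391 (iv F4259)
theorem N626 : nd 626 = n2377 := ndS (p := 391) (l := 5) rfl N391 F4255
theorem N627 : nd 627 = n2374 := ndS (p := 392) (l := 5) rfl N392 (iv D4635)
theorem N628 : nd 628 = n3088 := ndS (p := 392) (l := 6) rfl N392 (iv F14614)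
theorem N629 : nd 629 = n2372 := ndS (p := 393) (l := 6) rfl N393 (iv D4631)
theorem N630 : nd 630 = n2615 := ndS (p := 395) (l := 0) rfl N395 (iv F4600)
theorem N631 : nd 631 = n1535 := ndS (p := 395) (l := 4) rfl N395 (iv F13765)
theorem N632 : nd 632 = n2395 := ndS (p := 395) (l := 5) rfl N395 F4280
theorem N633 : nd 633 = n1510 := ndS (p := 396) (l := 3) rfl N396 (iv D3086)
theorem N634 : nd 634 = n2392 := ndS (p := 396) (l := 5) rfl N396 F13963
theorem N635 : nd 635 = n4669 := ndS (p := 396) (l := 6) rfl N396 F13964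
theorem N636 : nd 636 = n5802 := ndS (p := 397) (l := 3) rfl N397 (iv F14540)
theorem N637 : nd 637 = n2390 := ndS (p := 397) (l := 6) rfl N397 (iv D4670)
theorem N638 : nd 638 = n4671 := ndS (p := 398) (l := 3) rfl N398 D4671
theorem N639 : nd 639 = n5106 := ndS (p := 399) (l := 2) rfl N399 F15094
theorem N640 : nd 640 = n7247 := ndS (p := 399) (l := 5) rfl N399 F15097
theorem N641 : nd 641 = n5071 := ndS (p := 399) (l := 6) rfl N399 (iv D7248)
theorem N642 : nd 642 = n7193 := ndS (p := 400) (l := 3) rfl N400 D7193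
theorem N643 : nd 643 = n2941 := ndS (p := 401) (l := 3) rfl N401 (iv D5758)
theorem N644 : nd 644 = n7192 := ndS (p := 402) (l := 3) rfl N402 D7192
theorem N645 : nd 645 = n2598 := ndS (p := 403) (l := 2) rfl N403 F9021
theorem N646 : nd 646 = n2596 := ndS (p := 403) (l := 4) rfl N403 F9022
theorem N647 : nd 647 = n2595 := ndS (p := 403) (l := 5) rfl N403 (iv D5078)
theorem N648 : nd 648 = n4621 := ndS (p := 404) (l := 3) rfl N404 D4621
theorem N649 : nd 649 = n2617 := ndS (p := 405) (l := 1) rfl N405 F9070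
theorem N650 : nd 650 = n2940 := ndS (p := 405) (l := 3) rfl N405 F13991
theorem N651 : nd 651 = n2610 := ndS (p := 405) (l := 5) rfl N405 (iv D5108)
theorem N652 : nd 652 = n5103 := ndS (p := 405) (l := 6) rfl N405 F9072
theorem N653 : nd 653 = n2593 := ndS (p := 406) (l := 6) rfl N406 (iv D5072)
theorem N654 : nd 654 = n5070 := ndS (p := 407) (l := 5) rfl N407 (iv F14629)
theorem N655 : nd 655 = n1289 := ndS (p := 408) (l := 1) rfl N408 F4579
theorem N656 : nd 656 = n5090 := ndS (p := 408) (l := 3) rfl N408 D5090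
theorem N657 : nd 657 = n2600 := ndS (p := 408) (l := 4) rfl N408 F4580
theorem N658 : nd 658 = n1277 := ndS (p := 408) (l := 5) rfl N408 (iv D2602)
theorem N659 : nd 659 = n5079 := ndS (p := 409) (l := 5) rfl N409 F9026
theorem N660 : nd 660 = n1274 := ndS (p := 410) (l := 6) rfl N410 (iv D2597)
theorem N661 : nd 661 = n2408 := ndS (p := 411) (l := 0) rfl N411 (iv F13770)
theorem N662 : nd 662 = n4718 := ndS (p := 411) (l := 3) rfl N411 D4718
theorem N663 : nd 663 = n1532 := ndS (p := 411) (l := 4) rfl N411 F13738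
theorem N664 : nd 664 = n2401 := ndS (p := 411) (l := 6) rfl N411 F4298
theorem N665 : nd 665 = n7427 := ndS (p := 412) (l := 4) rfl N412 (iv F15754)
theorem N666 : nd 666 = n7501 := ndS (p := 412) (l := 6) rfl N412 D7501
theorem N667 : nd 667 = n3354 := ndS (p := 413) (l := 3) rfl N413 F14338
theorem N668 : nd 668 = n4638 := ndS (p := 413) (l := 5) rfl N413 F13870
theorem N669 : nd 669 = n2382 := ndS (p := 413) (l := 6) rfl N413 F13871
theorem N670 : nd 670 = n5948 := ndS (p := 415) (l := 3) rfl N415 F14649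
theorem N671 : nd 671 = n2375 := ndS (p := 415) (l := 5) rfl N415 (iv D4637)
theorem N672 : nd 672 = n4616 := ndS (p := 416) (l := 2) rfl N416 F14905
theorem N673 : nd 673 = n4611 := ndS (p := 416) (l := 5) rfl N416 (iv D7184)
theorem N674 : nd 674 = n6029 := ndS (p := 416) (l := 6) rfl N416 F14907
theorem N675 : nd 675 = n7206 := ndS (p := 417) (l := 3) rfl N417 (iv F14960)
theorem N676 : nd 676 = n6032 := ndS (p := 418) (l := 3) rfl N418 F14607
theorem N677 : nd 677 = n4647 := ndS (p := 419) (l := 3) rfl N419 D4647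
theorem N678 : nd 678 = n7208 := ndS (p := 420) (l := 3) rfl N420 D7208
theorem N679 : nd 679 = n2426 := ndS (p := 421) (l := 1) rfl N421 F13848
theorem N680 : nd 680 = n7186 := ndS (p := 421) (l := 3) rfl N421 D7186
theorem N681 : nd 681 = n4613 := ndS (p := 421) (l := 5) rfl N421 F8323
theorem N682 : nd 682 = n2367 := ndS (p := 421) (l := 6) rfl N421 (iv D4614)
theorem N683 : nd 683 = n4609 := ndS (p := 422) (l := 6) rfl N422 F14724
theorem N684 : nd 684 = n2365 := ndS (p := 423) (l := 5) rfl N423 (iv D4610)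
theorem N685 : nd 685 = n3130 := ndS (p := 424) (l := 3) rfl N424 F14159
theorem N686 : nd 686 = n2406 := ndS (p := 424) (l := 5) rfl N424 F5180
theorem N687 : nd 687 = n4734 := ndS (p := 424) (l := 6) rfl N424 (iv F8485)
theorem N688 : nd 688 = n2957 := ndS (p := 425) (l := 2) rfl N425 F14128
theorem N689 : nd 689 = n1531 := ndS (p := 425) (l := 4) rfl N425 (iv D3131)
theorem N690 : nd 690 = n3395 := ndS (p := 425) (l := 5) rfl N425 F14129
theorem N691 : nd 691 = n6132 := ndS (p := 425) (l := 6) rfl N425 D6132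
theorem N692 : nd 692 = n343 := ndS (p := 426) (l := 3) rfl N426 (iv D729)
theorem N693 : nd 693 = n1525 := ndS (p := 426) (l := 5) rfl N426 (iv F2671)
theorem N694 : nd 694 = n1534 := ndS (p := 426) (l := 6) rfl N426 D1534
theorem N695 : nd 695 = n3396 := ndS (p := 427) (l := 3) rfl N427 F14204
theorem N696 : nd 696 = n4680 := ndS (p := 428) (l := 3) rfl N428 (iv F14062)
theorem N697 : nd 697 = n2400 := ndS (p := 428) (l := 5) rfl N428 F13917
theorem N698 : nd 698 = n1516 := ndS (p := 429) (l := 3) rfl N429 (iv D3101)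
theorem N699 : nd 699 = n6069 := ndS (p := 429) (l := 5) rfl N429 (iv F10695)
theorem N700 : nd 700 = n6074 := ndS (p := 429) (l := 6) rfl N429 D6074
theorem N701 : nd 701 = n3364 := ndS (p := 430) (l := 3) rfl N430 (iv D6561)
theorem N702 : nd 702 = n3365 := ndS (p := 430) (l := 6) rfl N430 F11395
theorem N703 : nd 703 = n7502 := ndS (p := 431) (l := 3) rfl N431 (iv F16024)
theorem N704 : nd 704 = n6564 := ndS (p := 431) (l := 5) rfl N431 F15490
theorem N705 : nd 705 = n340 := ndS (p := 432) (l := 5) rfl N432 (iv D722)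
theorem N706 : nd 706 = n1513 := ndS (p := 433) (l := 3) rfl N433 (iv D3095)
theorem N707 : nd 707 = n5735 := ndS (p := 435) (l := 2) rfl N435 F14537
theorem N708 : nd 708 = n6060 := ndS (p := 435) (l := 4) rfl N435 (iv F14188)
theorem N709 : nd 709 = n6547 := ndS (p := 435) (l := 6) rfl N435 F11399
theorem N710 : nd 710 = n4705 := ndS (p := 436) (l := 3) rfl N436 D4705
theorem N711 : nd 711 = n7488 := ndS (p := 437) (l := 2) rfl N437 (iv F15959)
theorem N712 : nd 712 = n7263 := ndS (p := 437) (l := 5) rfl N437 (iv F15131)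
theorem N713 : nd 713 = n2607 := ndS (p := 438) (l := 3) rfl N438 (iv F4586)
theorem N714 : nd 714 = n6128 := ndS (p := 439) (l := 3) rfl N439 F14682
theorem N715 : nd 715 = n4699 := ndS (p := 439) (l := 5) rfl N439 F10240
theorem N716 : nd 716 = n5100 := ndS (p := 439) (l := 6) rfl N439 F14691
theorem N717 : nd 717 = n7471 := ndS (p := 440) (l := 3) rfl N440 D7471
theorem N718 : nd 718 = n6028 := ndS (p := 441) (l := 3) rfl N441 F15076
theorem N719 : nd 719 = n7503 := ndS (p := 442) (l := 2) rfl N442 (iv F16029)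
theorem N720 : nd 720 = n7520 := ndS (p := 442) (l := 6) rfl N442 (iv F16110)
theorem N721 : nd 721 = n2939 := ndS (p := 443) (l := 2) rfl N443 (iv D5753)
theorem N722 : nd 722 = n7267 := ndS (p := 443) (l := 5) rfl N443 (iv F15144)
theorem N723 : nd 723 = n7499 := ndS (p := 444) (l := 4) rfl N444 D7499
theorem N724 : nd 724 = n7500 := ndS (p := 444) (l := 5) rfl N444 D7500
theorem N725 : nd 725 = n7439 := ndS (p := 445) (l := 2) rfl N445 (iv F15798)
theorem N726 : nd 726 = n7438 := ndS (p := 445) (l := 4) rfl N445 F15796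
theorem N727 : nd 727 = n7474 := ndS (p := 445) (l := 6) rfl N445 D7474
theorem N728 : nd 728 = n2951 := ndS (p := 446) (l := 5) rfl N446 (iv F5165)
theorem N729 : nd 729 = n2423 := ndS (p := 446) (l := 6) rfl N446 F4304
theorem N730 : nd 730 = n2946 := ndS (p := 447) (l := 4) rfl N447 (iv F5155)
theorem N731 : nd 731 = n2943 := ndS (p := 448) (l := 3) rfl N448 F13981
theorem N732 : nd 732 = n2420 := ndS (p := 449) (l := 5) rfl N449 (iv D4728)
theorem N733 : nd 733 = n7242 := ndS (p := 450) (l := 3) rfl N450 D7242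
theorem N734 : nd 734 = n7179 := ndS (p := 451) (l := 3) rfl N451 D7179
theorem N735 : nd 735 = n7220 := ndS (p := 452) (l := 2) rfl N452 F15824
theorem N736 : nd 736 = n7428 := ndS (p := 452) (l := 4) rfl N452 (iv F15825)
theorem N737 : nd 737 = n7506 := ndS (p := 452) (l := 5) rfl N452 (iv F16049)
theorem N738 : nd 738 = n7219 := ndS (p := 452) (l := 6) rfl N452 (iv F15826)
theorem N739 : nd 739 = n7235 := ndS (p := 453) (l := 2) rfl N453 F15829
theorem N740 : nd 740 = n7234 := ndS (p := 453) (l := 6) rfl N453 F15830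
theorem N741 : nd 741 = n170 := ndS (p := 454) (l := 2) rfl N454 D170
theorem N742 : nd 742 = n171 := ndS (p := 454) (l := 4) rfl N454 D171
theorem N743 : nd 743 = n172 := ndS (p := 454) (l := 6) rfl N454 D172
theorem N744 : nd 744 = n173 := ndS (p := 455) (l := 2) rfl N455 D173
theorem N745 : nd 745 = n174 := ndS (p := 455) (l := 4) rfl N455 D174
theorem N746 : nd 746 = n175 := ndS (p := 455) (l := 5) rfl N455 D175
theorem N747 : nd 747 = n330 := ndS (p := 456) (l := 1) rfl N456 D330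
theorem N748 : nd 748 = n331 := ndS (p := 456) (l := 3) rfl N456 D331
theorem N749 : nd 749 = n332 := ndS (p := 456) (l := 4) rfl N456 D332
theorem N750 : nd 750 = n333 := ndS (p := 456) (l := 6) rfl N456 D333
theorem N751 : nd 751 = n334 := ndS (p := 457) (l := 6) rfl N457 D334
theorem N752 : nd 752 = n335 := ndS (p := 458) (l := 3) rfl N458 D335
theorem N753 : nd 753 = n336 := ndS (p := 458) (l := 5) rfl N458 D336
theorem N754 : nd 754 = n337 := ndS (p := 459) (l := 2) rfl N459 D337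
theorem N755 : nd 755 = n338 := ndS (p := 459) (l := 4) rfl N459 D338
theorem N756 : nd 756 = n339 := ndS (p := 459) (l := 5) rfl N459 D339
theorem N757 : nd 757 = n341 := ndS (p := 460) (l := 3) rfl N460 D341
theorem N758 : nd 758 = n342 := ndS (p := 460) (l := 4) rfl N460 D342
theorem N759 : nd 759 = n344 := ndS (p := 461) (l := 5) rfl N461 D344
theorem N760 : nd 760 = n345 := ndS (p := 462) (l := 3) rfl N462 D345
theorem N761 : nd 761 = n346 := ndS (p := 462) (l := 6) rfl N462 D346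
theorem N762 : nd 762 = n347 := ndS (p := 463) (l := 2) rfl N463 D347
theorem N763 : nd 763 = n348 := ndS (p := 463) (l := 4) rfl N463 D348
theorem N764 : nd 764 = n349 := ndS (p := 463) (l := 6) rfl N463 D349
theorem N765 : nd 765 = n370 := ndS (p := 464) (l := 1) rfl N464 D370
theorem N766 : nd 766 = n371 := ndS (p := 464) (l := 3) rfl N464 D371
theorem N767 : nd 767 = n373 := ndS (p := 464) (l := 6) rfl N464 D373
theorem N768 : nd 768 = n377 := ndS (p := 466) (l := 3) rfl N466 D377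
theorem N769 : nd 769 = n642 := ndS (p := 467) (l := 2) rfl N467 D642
theorem N770 : nd 770 = n643 := ndS (p := 467) (l := 4) rfl N467 D643
theorem N771 : nd 771 = n644 := ndS (p := 467) (l := 5) rfl N467 D644
theorem N772 : nd 772 = n645 := ndS (p := 467) (l := 6) rfl N467 D645
theorem N773 : nd 773 = n671 := ndS (p := 468) (l := 3) rfl N468 D671
theorem N774 : nd 774 = n1275 := ndS (p := 469) (l := 4) rfl N469 D1275
theorem N775 : nd 775 = n1276 := ndS (p := 469) (l := 5) rfl N469 D1276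
theorem N776 : nd 776 = n1280 := ndS (p := 470) (l := 1) rfl N470 D1280
theorem N777 : nd 777 = n1281 := ndS (p := 470) (l := 4) rfl N470 D1281
theorem N778 : nd 778 = n1282 := ndS (p := 470) (l := 5) rfl N470 D1282
theorem N779 : nd 779 = n1283 := ndS (p := 470) (l := 6) rfl N470 D1283
theorem N780 : nd 780 = n1285 := ndS (p := 471) (l := 5) rfl N471 D1285
theorem N781 : nd 781 = n1286 := ndS (p := 471) (l := 6) rfl N471 D1286
theorem N782 : nd 782 = n1287 := ndS (p := 472) (l := 6) rfl N472 D1287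
theorem N783 : nd 783 = n742 := ndS (p := 474) (l := 1) rfl N474 D742
theorem N784 : nd 784 = n743 := ndS (p := 474) (l := 3) rfl N474 D743
theorem N785 : nd 785 = n744 := ndS (p := 474) (l := 4) rfl N474 D744
theorem N786 : nd 786 = n745 := ndS (p := 474) (l := 6) rfl N474 D745
theorem N787 : nd 787 = n746 := ndS (p := 477) (l := 1) rfl N477 D746
theorem N788 : nd 788 = n747 := ndS (p := 477) (l := 3) rfl N477 D747
theorem N789 : nd 789 = n748 := ndS (p := 477) (l := 4) rfl N477 D748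
theorem N790 : nd 790 = n749 := ndS (p := 477) (l := 5) rfl N477 D749
theorem N791 : nd 791 = n1414 := ndS (p := 480) (l := 0) rfl N480 D1414
theorem N792 : nd 792 = n1415 := ndS (p := 480) (l := 3) rfl N480 D1415
theorem N793 : nd 793 = n1416 := ndS (p := 480) (l := 4) rfl N480 D1416
theorem N794 : nd 794 = n1417 := ndS (p := 480) (l := 6) rfl N480 D1417
theorem N795 : nd 795 = n1338 := ndS (p := 481) (l := 2) rfl N481 (iv F2418)
theorem N796 : nd 796 = n1418 := ndS (p := 481) (l := 4) rfl N481 D1418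
theorem N797 : nd 797 = n1419 := ndS (p := 481) (l := 5) rfl N481 D1419
theorem N798 : nd 798 = n1420 := ndS (p := 481) (l := 6) rfl N481 D1420
theorem N799 : nd 799 = n1421 := ndS (p := 482) (l := 3) rfl N482 D1421
theorem N800 : nd 800 = n1422 := ndS (p := 482) (l := 6) rfl N482 D1422
theorem N801 : nd 801 = n1423 := ndS (p := 483) (l := 3) rfl N483 D1423
theorem N802 : nd 802 = n1425 := ndS (p := 484) (l := 3) rfl N484 D1425
theorem N803 : nd 803 = n1426 := ndS (p := 485) (l := 2) rfl N485 D1426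
theorem N804 : nd 804 = n1427 := ndS (p := 485) (l := 4) rfl N485 D1427
theorem N805 : nd 805 = n1428 := ndS (p := 485) (l := 5) rfl N485 D1428
theorem N806 : nd 806 = n1429 := ndS (p := 486) (l := 3) rfl N486 D1429
theorem N807 : nd 807 = n1430 := ndS (p := 487) (l := 1) rfl N487 D1430
theorem N808 : nd 808 = n1431 := ndS (p := 487) (l := 3) rfl N487 D1431
theorem N809 : nd 809 = n1432 := ndS (p := 487) (l := 4) rfl N487 D1432
theorem N810 : nd 810 = n1350 := ndS (p := 487) (l := 5) rfl N487 F13731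
theorem N811 : nd 811 = n1434 := ndS (p := 488) (l := 5) rfl N488 D1434
theorem N812 : nd 812 = n1348 := ndS (p := 489) (l := 6) rfl N489 F13729
theorem N813 : nd 813 = n1436 := ndS (p := 490) (l := 0) rfl N490 D1436
theorem N814 : nd 814 = n1437 := ndS (p := 490) (l := 3) rfl N490 D1437
theorem N815 : nd 815 = n1438 := ndS (p := 490) (l := 4) rfl N490 D1438
theorem N816 : nd 816 = n726 := ndS (p := 491) (l := 4) rfl N491 (iv F13125)
theorem N817 : nd 817 = n1441 := ndS (p := 491) (l := 5) rfl N491 D1441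
theorem N818 : nd 818 = n724 := ndS (p := 491) (l := 6) rfl N491 (iv F13122)
theorem N819 : nd 819 = n1443 := ndS (p := 492) (l := 3) rfl N492 D1443
theorem N820 : nd 820 = n1444 := ndS (p := 492) (l := 5) rfl N492 D1444
theorem N821 : nd 821 = n1446 := ndS (p := 493) (l := 6) rfl N493 D1446
theorem N822 : nd 822 = n1447 := ndS (p := 494) (l := 3) rfl N494 D1447
theorem N823 : nd 823 = n1448 := ndS (p := 495) (l := 2) rfl N495 D1448
theorem N824 : nd 824 = n1449 := ndS (p := 495) (l := 4) rfl N495 D1449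
theorem N825 : nd 825 = n1450 := ndS (p := 495) (l := 6) rfl N495 D1450
theorem N826 : nd 826 = n1451 := ndS (p := 496) (l := 3) rfl N496 D1451
theorem N827 : nd 827 = n1453 := ndS (p := 497) (l := 3) rfl N497 D1453
theorem N828 : nd 828 = n1454 := ndS (p := 497) (l := 4) rfl N497 D1454
theorem N829 : nd 829 = n1456 := ndS (p := 498) (l := 6) rfl N498 D1456
theorem N830 : nd 830 = n776 := ndS (p := 500) (l := 0) rfl N500 (iv F1392)
theorem N831 : nd 831 = n1614 := ndS (p := 500) (l := 3) rfl N500 D1614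
theorem N832 : nd 832 = n774 := ndS (p := 500) (l := 4) rfl N500 F1390
theorem N833 : nd 833 = n1576 := ndS (p := 501) (l := 2) rfl N501 (iv F2727)
theorem N834 : nd 834 = n1616 := ndS (p := 501) (l := 4) rfl N501 D1616
theorem N835 : nd 835 = n1617 := ndS (p := 501) (l := 5) rfl N501 D1617
theorem N836 : nd 836 = n1618 := ndS (p := 501) (l := 6) rfl N501 D1618
theorem N837 : nd 837 = n1619 := ndS (p := 502) (l := 3) rfl N502 D1619
theorem N838 : nd 838 = n785 := ndS (p := 502) (l := 6) rfl N502 (iv F1402)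
theorem N839 : nd 839 = n1620 := ndS (p := 503) (l := 3) rfl N503 D1620
theorem N840 : nd 840 = n783 := ndS (p := 503) (l := 5) rfl N503 (iv F1398)
theorem N841 : nd 841 = n1621 := ndS (p := 506) (l := 3) rfl N506 D1621
theorem N842 : nd 842 = n1598 := ndS (p := 507) (l := 2) rfl N507 (iv F2745)
theorem N843 : nd 843 = n1623 := ndS (p := 507) (l := 4) rfl N507 D1623
theorem N844 : nd 844 = n1624 := ndS (p := 507) (l := 5) rfl N507 D1624
theorem N845 : nd 845 = n1625 := ndS (p := 507) (l := 6) rfl N507 D1625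
theorem N846 : nd 846 = n700 := ndS (p := 508) (l := 3) rfl N508 F2116
theorem N847 : nd 847 = n1491 := ndS (p := 509) (l := 3) rfl N509 (iv F13613)
theorem N848 : nd 848 = n2305 := ndS (p := 509) (l := 5) rfl N509 D2305
theorem N849 : nd 849 = n718 := ndS (p := 512) (l := 2) rfl N512 (iv F13611)
theorem N850 : nd 850 = n1490 := ndS (p := 512) (l := 5) rfl N512 (iv F13617)
theorem N851 : nd 851 = n716 := ndS (p := 512) (l := 6) rfl N512 (iv F13619)
theorem N852 : nd 852 = n2355 := ndS (p := 513) (l := 3) rfl N513 D2355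
theorem N853 : nd 853 = n2357 := ndS (p := 514) (l := 2) rfl N514 D2357
theorem N854 : nd 854 = n2358 := ndS (p := 514) (l := 4) rfl N514 D2358
theorem N855 : nd 855 = n2359 := ndS (p := 514) (l := 5) rfl N514 D2359
theorem N856 : nd 856 = n2366 := ndS (p := 516) (l := 4) rfl N516 D2366
theorem N857 : nd 857 = n2368 := ndS (p := 516) (l := 6) rfl N516 D2368
theorem N858 : nd 858 = n2371 := ndS (p := 517) (l := 3) rfl N517 D2371
theorem N859 : nd 859 = n2376 := ndS (p := 518) (l := 5) rfl N518 D2376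
theorem N860 : nd 860 = n2393 := ndS (p := 523) (l := 3) rfl N523 D2393
theorem N861 : nd 861 = n2394 := ndS (p := 523) (l := 5) rfl N523 D2394
theorem N862 : nd 862 = n2396 := ndS (p := 524) (l := 3) rfl N524 D2396
theorem N863 : nd 863 = n1609 := ndS (p := 525) (l := 3) rfl N525 (iv F13763)
theorem N864 : nd 864 = n2402 := ndS (p := 526) (l := 6) rfl N526 D2402
theorem N865 : nd 865 = n2403 := ndS (p := 527) (l := 3) rfl N527 D2403
theorem N866 : nd 866 = n2404 := ndS (p := 528) (l := 3) rfl N528 D2404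
theorem N867 : nd 867 = n2405 := ndS (p := 529) (l := 3) rfl N529 D2405
theorem N868 : nd 868 = n2407 := ndS (p := 530) (l := 4) rfl N530 D2407
theorem N869 : nd 869 = n2409 := ndS (p := 531) (l := 3) rfl N531 D2409
theorem N870 : nd 870 = n2411 := ndS (p := 532) (l := 3) rfl N532 D2411
theorem N871 : nd 871 = n2421 := ndS (p := 535) (l := 3) rfl N535 D2421
theorem N872 : nd 872 = n2422 := ndS (p := 535) (l := 4) rfl N535 D2422
theorem N873 : nd 873 = n2424 := ndS (p := 536) (l := 5) rfl N536 D2424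
theorem N874 : nd 874 = n1349 := ndS (p := 537) (l := 3) rfl N537 (iv F13686)
theorem N875 : nd 875 = n1342 := ndS (p := 538) (l := 4) rfl N538 (iv F2422)
theorem N876 : nd 876 = n782 := ndS (p := 539) (l := 3) rfl N539 D782
theorem N877 : nd 877 = n4217 := ndS (p := 543) (l := 5) rfl N543 D4217
theorem N878 : nd 878 = n1636 := ndS (p := 546) (l := 3) rfl N546 D1636
theorem N879 : nd 879 = n3350 := ndS (p := 547) (l := 3) rfl N547 D3350
theorem N880 : nd 880 = n1401 := ndS (p := 550) (l := 3) rfl N550 D1401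
theorem N881 : nd 881 = n6396 := ndS (p := 551) (l := 5) rfl N551 F14679
theorem N882 : nd 882 = n6530 := ndS (p := 551) (l := 6) rfl N551 (iv F14681)
theorem N883 : nd 883 = n7422 := ndS (p := 552) (l := 5) rfl N552 (iv F15731)
theorem N884 : nd 884 = n7539 := ndS (p := 552) (l := 6) rfl N552 D7539
theorem N885 : nd 885 = n7452 := ndS (p := 553) (l := 3) rfl N553 (iv F15846)
theorem N886 : nd 886 = n7424 := ndS (p := 553) (l := 6) rfl N553 (iv F15742)
theorem N887 : nd 887 = n7293 := ndS (p := 554) (l := 3) rfl N554 F15746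
theorem N888 : nd 888 = n6528 := ndS (p := 554) (l := 5) rfl N554 (iv D7425)
theorem N889 : nd 889 = n7450 := ndS (p := 555) (l := 2) rfl N555 D7450
theorem N890 : nd 890 = n7451 := ndS (p := 555) (l := 4) rfl N555 D7451
theorem N891 : nd 891 = n7294 := ndS (p := 556) (l := 2) rfl N556 (iv F15269)
theorem N892 : nd 892 = n7446 := ndS (p := 556) (l := 4) rfl N556 D7446
theorem N893 : nd 893 = n7538 := ndS (p := 557) (l := 3) rfl N557 D7538
theorem N894 : nd 894 = n7512 := ndS (p := 558) (l := 3) rfl N558 (iv F16073)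
theorem N895 : nd 895 = n7455 := ndS (p := 559) (l := 2) rfl N559 (iv F15851)
theorem N896 : nd 896 = n7456 := ndS (p := 559) (l := 4) rfl N559 (iv F15854)
theorem N897 : nd 897 = n7457 := ndS (p := 559) (l := 6) rfl N559 D7457
theorem N898 : nd 898 = n7431 := ndS (p := 560) (l := 3) rfl N560 D7431
theorem N899 : nd 899 = n5969 := ndS (p := 561) (l := 2) rfl N561 F15390
theorem N900 : nd 900 = n5968 := ndS (p := 561) (l := 4) rfl N561 (iv D7323)
theorem N901 : nd 901 = n7322 := ndS (p := 561) (l := 5) rfl N561 F15391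
theorem N902 : nd 902 = n7249 := ndS (p := 562) (l := 3) rfl N562 F15734
theorem N903 : nd 903 = n7453 := ndS (p := 563) (l := 1) rfl N563 D7453
theorem N904 : nd 904 = n4625 := ndS (p := 563) (l := 3) rfl N563 F14871
theorem N905 : nd 905 = n7454 := ndS (p := 563) (l := 4) rfl N563 D7454
theorem N906 : nd 906 = n6196 := ndS (p := 565) (l := 1) rfl N565 F15398
theorem N907 : nd 907 = n7519 := ndS (p := 565) (l := 3) rfl N565 (iv F16103)
theorem N908 : nd 908 = n5971 := ndS (p := 565) (l := 4) rfl N565 F15400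
theorem N909 : nd 909 = n2920 := ndS (p := 568) (l := 5) rfl N568 (iv F13880)
theorem N910 : nd 910 = n5315 := ndS (p := 568) (l := 6) rfl N568 D5315
theorem N911 : nd 911 = n2929 := ndS (p := 569) (l := 6) rfl N569 (iv F13881)
theorem N912 : nd 912 = n1645 := ndS (p := 571) (l := 5) rfl N571 F13948
theorem N913 : nd 913 = n3403 := ndS (p := 571) (l := 6) rfl N571 F13949
theorem N914 : nd 914 = n363 := ndS (p := 572) (l := 3) rfl N572 (iv D765)
theorem N915 : nd 915 = n1605 := ndS (p := 572) (l := 5) rfl N572 (iv F2752)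
theorem N916 : nd 916 = n1613 := ndS (p := 572) (l := 6) rfl N572 D1613
theorem N917 : nd 917 = n4681 := ndS (p := 574) (l := 3) rfl N574 (iv F14710)
theorem N918 : nd 918 = n3301 := ndS (p := 574) (l := 5) rfl N574 F5647
theorem N919 : nd 919 = n360 := ndS (p := 575) (l := 5) rfl N575 (iv D759)
theorem N920 : nd 920 = n1594 := ndS (p := 576) (l := 3) rfl N576 (iv D3273)
theorem N921 : nd 921 = n5804 := ndS (p := 578) (l := 2) rfl N578 (iv F14546)
theorem N922 : nd 922 = n6391 := ndS (p := 578) (l := 4) rfl N578 (iv F14151)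
theorem N923 : nd 923 = n6529 := ndS (p := 581) (l := 3) rfl N581 F14033
theorem N924 : nd 924 = n3360 := ndS (p := 582) (l := 5) rfl N582 F14085
theorem N925 : nd 925 = n6570 := ndS (p := 582) (l := 6) rfl N582 F14086
theorem N926 : nd 926 = n7429 := ndS (p := 583) (l := 3) rfl N583 D7429
theorem N927 : nd 927 = n7336 := ndS (p := 584) (l := 3) rfl N584 F15649
theorem N928 : nd 928 = n7564 := ndS (p := 585) (l := 2) rfl N585 (iv F16279)
theorem N929 : nd 929 = n7467 := ndS (p := 585) (l := 4) rfl N585 (iv F15888)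
theorem N930 : nd 930 = n7565 := ndS (p := 585) (l := 6) rfl N585 D7565
theorem N931 : nd 931 = n7338 := ndS (p := 586) (l := 2) rfl N586 (iv F15449)
theorem N932 : nd 932 = n5973 := ndS (p := 586) (l := 4) rfl N586 (iv D7327)
theorem N933 : nd 933 = n7432 := ndS (p := 586) (l := 5) rfl N586 (iv F15774)
theorem N934 : nd 934 = n7312 := ndS (p := 587) (l := 1) rfl N587 (iv F15343)
theorem N935 : nd 935 = n6675 := ndS (p := 587) (l := 3) rfl N587 F14881
theorem N936 : nd 936 = n7463 := ndS (p := 587) (l := 4) rfl N587 (iv F15874)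
theorem N937 : nd 937 = n7376 := ndS (p := 587) (l := 6) rfl N587 (iv F15572)
theorem N938 : nd 938 = n7468 := ndS (p := 589) (l := 3) rfl N589 D7468
theorem N939 : nd 939 = n7566 := ndS (p := 590) (l := 2) rfl N590 D7566
theorem N940 : nd 940 = n7490 := ndS (p := 590) (l := 4) rfl N590 (iv F15964)
theorem N941 : nd 941 = n1500 := ndS (p := 591) (l := 1) rfl N591 F5321
theorem N942 : nd 942 = n5977 := ndS (p := 591) (l := 3) rfl N591 D5977
theorem N943 : nd 943 = n1496 := ndS (p := 591) (l := 4) rfl N591 (iv D3055)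
theorem N944 : nd 944 = n5732 := ndS (p := 591) (l := 5) rfl N591 (iv F14073)
theorem N945 : nd 945 = n7328 := ndS (p := 593) (l := 3) rfl N593 (iv F15409)
theorem N946 : nd 946 = n7198 := ndS (p := 594) (l := 2) rfl N594 (iv F15835)
theorem N947 : nd 947 = n7204 := ndS (p := 594) (l := 4) rfl N594 (iv F15836)
theorem N948 : nd 948 = n3207 := ndS (p := 595) (l := 5) rfl N595 (iv F5520)
theorem N949 : nd 949 = n1653 := ndS (p := 595) (l := 6) rfl N595 F13945
theorem N950 : nd 950 = n3197 := ndS (p := 597) (l := 3) rfl N597 (iv D6254)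
theorem N951 : nd 951 = n3367 := ndS (p := 597) (l := 6) rfl N597 F14082
theorem N952 : nd 952 = n7466 := ndS (p := 599) (l := 2) rfl N599 (iv F15882)
theorem N953 : nd 953 = n7433 := ndS (p := 600) (l := 3) rfl N600 D7433
theorem N954 : nd 954 = n2928 := ndS (p := 601) (l := 2) rfl N601 (iv D5731)
theorem N955 : nd 955 = n6567 := ndS (p := 602) (l := 3) rfl N602 D6567
theorem N956 : nd 956 = n7460 := ndS (p := 603) (l := 1) rfl N603 (iv F15865)
theorem N957 : nd 957 = n7465 := ndS (p := 603) (l := 3) rfl N603 D7465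
theorem N958 : nd 958 = n7464 := ndS (p := 603) (l := 4) rfl N603 (iv F15877)
theorem N959 : nd 959 = n2933 := ndS (p := 605) (l := 1) rfl N605 F10156
theorem N960 : nd 960 = n7292 := ndS (p := 605) (l := 3) rfl N605 (iv F15248)
theorem N961 : nd 961 = n5982 := ndS (p := 605) (l := 4) rfl N605 F14076
theorem N962 : nd 962 = n7378 := ndS (p := 607) (l := 0) rfl N607 (iv F15575)
theorem N963 : nd 963 = n7458 := ndS (p := 607) (l := 3) rfl N607 D7458
theorem N964 : nd 964 = n7459 := ndS (p := 607) (l := 4) rfl N607 D7459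
theorem N965 : nd 965 = n4608 := ndS (p := 608) (l := 2) rfl N608 F14877
theorem N966 : nd 966 = n7461 := ndS (p := 608) (l := 4) rfl N608 D7461
theorem N967 : nd 967 = n7437 := ndS (p := 608) (l := 5) rfl N608 (iv F15791)
theorem N968 : nd 968 = n7368 := ndS (p := 608) (l := 6) rfl N608 F15548
theorem N969 : nd 969 = n7462 := ndS (p := 609) (l := 3) rfl N609 D7462
theorem N970 : nd 970 = n3071 := ndS (p := 610) (l := 0) rfl N610 F14147
theorem N971 : nd 971 = n6004 := ndS (p := 610) (l := 3) rfl N610 D6004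
theorem N972 : nd 972 = n1502 := ndS (p := 610) (l := 4) rfl N610 F5341
theorem N973 : nd 973 = n7262 := ndS (p := 611) (l := 5) rfl N611 F15411
theorem N974 : nd 974 = n5950 := ndS (p := 612) (l := 3) rfl N612 (iv F10532)
theorem N975 : nd 975 = n1661 := ndS (p := 613) (l := 2) rfl N613 D1661
theorem N976 : nd 976 = n1662 := ndS (p := 613) (l := 4) rfl N613 D1662
theorem N977 : nd 977 = n1663 := ndS (p := 613) (l := 5) rfl N613 D1663
theorem N978 : nd 978 = n1664 := ndS (p := 613) (l := 6) rfl N613 D1664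
theorem N979 : nd 979 = n1488 := ndS (p := 614) (l := 5) rfl N614 (iv F13743)
theorem N980 : nd 980 = n2718 := ndS (p := 614) (l := 6) rfl N614 D2718
theorem N981 : nd 981 = n5949 := ndS (p := 615) (l := 3) rfl N615 F13815
theorem N982 : nd 982 = n5794 := ndS (p := 616) (l := 3) rfl N616 D5794
theorem N983 : nd 983 = n2968 := ndS (p := 617) (l := 3) rfl N617 D2968
theorem N984 : nd 984 = n1538 := ndS (p := 618) (l := 4) rfl N618 (iv F13744)
theorem N985 : nd 985 = n1495 := ndS (p := 618) (l := 5) rfl N618 (iv F13747)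
theorem N986 : nd 986 = n5729 := ndS (p := 619) (l := 3) rfl N619 D5729
theorem N987 : nd 987 = n2720 := ndS (p := 620) (l := 5) rfl N620 D2720
theorem N988 : nd 988 = n1497 := ndS (p := 621) (l := 6) rfl N621 (iv F13876)
theorem N989 : nd 989 = n713 := ndS (p := 622) (l := 5) rfl N622 (iv D1498)
theorem N990 : nd 990 = n736 := ndS (p := 623) (l := 6) rfl N623 (iv F13746)
theorem N991 : nd 991 = n6476 := ndS (p := 624) (l := 2) rfl N624 (iv F14552)
theorem N992 : nd 992 = n6474 := ndS (p := 624) (l := 4) rfl N624 F14550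
theorem N993 : nd 993 = n6473 := ndS (p := 624) (l := 5) rfl N624 (iv F14549)
theorem N994 : nd 994 = n4645 := ndS (p := 625) (l := 3) rfl N625 D4645
theorem N995 : nd 995 = n4640 := ndS (p := 626) (l := 3) rfl N626 D4640
theorem N996 : nd 996 = n4634 := ndS (p := 627) (l := 3) rfl N627 D4634
theorem N997 : nd 997 = n1511 := ndS (p := 628) (l := 3) rfl N628 (iv D3088)
theorem N998 : nd 998 = n4629 := ndS (p := 629) (l := 3) rfl N629 D4629
theorem N999 : nd 999 = n2613 := ndS (p := 630) (l := 5) rfl N630 F4602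
theorem N1000 : nd 1000 = n730 := ndS (p := 631) (l := 3) rfl N631 (iv D1535)
theorem N1001 : nd 1001 = n3326 := ndS (p := 632) (l := 3) rfl N632 (iv F14171)
theorem N1002 : nd 1002 = n719 := ndS (p := 633) (l := 5) rfl N633 (iv D1510)
theorem N1003 : nd 1003 = n3084 := ndS (p := 634) (l := 3) rfl N634 (iv F13962)
theorem N1004 : nd 1004 = n6478 := ndS (p := 636) (l := 4) rfl N636 F14541
theorem N1005 : nd 1005 = n4668 := ndS (p := 637) (l := 3) rfl N637 D4668
theorem N1006 : nd 1006 = n7221 := ndS (p := 638) (l := 2) rfl N638 D7221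
theorem N1007 : nd 1007 = n5105 := ndS (p := 638) (l := 5) rfl N638 (iv F9065)
theorem N1008 : nd 1008 = n5104 := ndS (p := 639) (l := 5) rfl N639 F9067
theorem N1009 : nd 1009 = n2609 := ndS (p := 639) (l := 6) rfl N639 (iv D5106)
theorem N1010 : nd 1010 = n7480 := ndS (p := 640) (l := 3) rfl N640 (iv F15943)
theorem N1011 : nd 1011 = n3089 := ndS (p := 641) (l := 3) rfl N641 F14605
theorem N1012 : nd 1012 = n7266 := ndS (p := 642) (l := 2) rfl N642 (iv F15141)
theorem N1013 : nd 1013 = n7265 := ndS (p := 642) (l := 6) rfl N642 F15139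
theorem N1014 : nd 1014 = n3091 := ndS (p := 643) (l := 4) rfl N643 (iv F13404)
theorem N1015 : nd 1015 = n5760 := ndS (p := 643) (l := 5) rfl N643 D5760
theorem N1016 : nd 1016 = n7477 := ndS (p := 644) (l := 4) rfl N644 (iv F15930)
theorem N1017 : nd 1017 = n7299 := ndS (p := 644) (l := 5) rfl N644 (iv F15292)
theorem N1018 : nd 1018 = n5084 := ndS (p := 645) (l := 3) rfl N645 D5084
theorem N1019 : nd 1019 = n5077 := ndS (p := 647) (l := 3) rfl N647 D5077
theorem N1020 : nd 1020 = n7189 := ndS (p := 648) (l := 2) rfl N648 D7189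
theorem N1021 : nd 1021 = n7190 := ndS (p := 648) (l := 4) rfl N648 D7190
theorem N1022 : nd 1022 = n7191 := ndS (p := 648) (l := 6) rfl N648 D7191
theorem N1023 : nd 1023 = n2612 := ndS (p := 649) (l := 6) rfl N649 F4608
theorem N1024 : nd 1024 = n5107 := ndS (p := 651) (l := 3) rfl N651 D5107
theorem N1025 : nd 1025 = n2608 := ndS (p := 652) (l := 5) rfl N652 (iv D5103)
theorem N1026 : nd 1026 = n5069 := ndS (p := 653) (l := 3) rfl N653 D5069
theorem N1027 : nd 1027 = n4627 := ndS (p := 654) (l := 3) rfl N654 (iv F14628)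
theorem N1028 : nd 1028 = n2627 := ndS (p := 655) (l := 3) rfl N655 D2627
theorem N1029 : nd 1029 = n7261 := ndS (p := 656) (l := 4) rfl N656 D7261
theorem N1030 : nd 1030 = n3155 := ndS (p := 657) (l := 3) rfl N657 (iv F13865)
theorem N1031 : nd 1031 = n2599 := ndS (p := 657) (l := 5) rfl N657 F4576
theorem N1032 : nd 1032 = n7207 := ndS (p := 659) (l := 3) rfl N659 (iv F14948)
theorem N1033 : nd 1033 = n2594 := ndS (p := 660) (l := 3) rfl N660 D2594
theorem N1034 : nd 1034 = n4701 := ndS (p := 661) (l := 3) rfl N661 D4701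
theorem N1035 : nd 1035 = n3141 := ndS (p := 662) (l := 2) rfl N662 F14514
theorem N1036 : nd 1036 = n7236 := ndS (p := 662) (l := 4) rfl N662 D7236
theorem N1037 : nd 1037 = n7237 := ndS (p := 662) (l := 6) rfl N662 D7237
theorem N1038 : nd 1038 = n3074 := ndS (p := 663) (l := 3) rfl N663 (iv F13845)
theorem N1039 : nd 1039 = n3045 := ndS (p := 664) (l := 3) rfl N664 (iv F13832)
theorem N1040 : nd 1040 = n6540 := ndS (p := 665) (l := 3) rfl N665 (iv D7427)
theorem N1041 : nd 1041 = n7318 := ndS (p := 666) (l := 3) rfl N666 F16019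
theorem N1042 : nd 1042 = n1632 := ndS (p := 667) (l := 2) rfl N667 F5721
theorem N1043 : nd 1043 = n1630 := ndS (p := 667) (l := 5) rfl N667 (iv D3354)
theorem N1044 : nd 1044 = n3058 := ndS (p := 667) (l := 6) rfl N667 F14319
theorem N1045 : nd 1045 = n6537 := ndS (p := 668) (l := 3) rfl N668 F14593
theorem N1046 : nd 1046 = n7316 := ndS (p := 670) (l := 2) rfl N670 (iv F15364)
theorem N1047 : nd 1047 = n3041 := ndS (p := 670) (l := 4) rfl N670 (iv D5948)
theorem N1048 : nd 1048 = n4639 := ndS (p := 670) (l := 5) rfl N670 F14647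
theorem N1049 : nd 1049 = n7187 := ndS (p := 672) (l := 3) rfl N672 D7187
theorem N1050 : nd 1050 = n4612 := ndS (p := 672) (l := 6) rfl N672 F8330
theorem N1051 : nd 1051 = n7183 := ndS (p := 673) (l := 3) rfl N673 D7183
theorem N1052 : nd 1052 = n3082 := ndS (p := 674) (l := 3) rfl N674 (iv D6029)
theorem N1053 : nd 1053 = n7492 := ndS (p := 675) (l := 2) rfl N675 (iv F15974)
theorem N1054 : nd 1054 = n7489 := ndS (p := 675) (l := 6) rfl N675 (iv F15962)
theorem N1055 : nd 1055 = n3085 := ndS (p := 676) (l := 2) rfl N676 F10631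
theorem N1056 : nd 1056 = n7335 := ndS (p := 676) (l := 5) rfl N676 D7335
theorem N1057 : nd 1057 = n7215 := ndS (p := 677) (l := 4) rfl N677 D7215
theorem N1058 : nd 1058 = n7216 := ndS (p := 677) (l := 5) rfl N677 D7216
theorem N1059 : nd 1059 = n7495 := ndS (p := 678) (l := 2) rfl N678 D7495
theorem N1060 : nd 1060 = n7496 := ndS (p := 678) (l := 4) rfl N678 D7496
theorem N1061 : nd 1061 = n7497 := ndS (p := 678) (l := 6) rfl N678 D7497
theorem N1062 : nd 1062 = n4740 := ndS (p := 679) (l := 3) rfl N679 D4740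
theorem N1063 : nd 1063 = n6558 := ndS (p := 680) (l := 4) rfl N680 F14924
theorem N1064 : nd 1064 = n6546 := ndS (p := 680) (l := 5) rfl N680 F14921
theorem N1065 : nd 1065 = n7185 := ndS (p := 681) (l := 3) rfl N681 D7185
theorem N1066 : nd 1066 = n5076 := ndS (p := 683) (l := 3) rfl N683 F14725
theorem N1067 : nd 1067 = n3407 := ndS (p := 685) (l := 5) rfl N685 F5798
theorem N1068 : nd 1068 = n6131 := ndS (p := 685) (l := 6) rfl N685 D6131
theorem N1069 : nd 1069 = n4700 := ndS (p := 686) (l := 3) rfl N686 D4700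
theorem N1070 : nd 1070 = n5112 := ndS (p := 687) (l := 3) rfl N687 F13978
theorem N1071 : nd 1071 = n3302 := ndS (p := 688) (l := 5) rfl N688 F13667
theorem N1072 : nd 1072 = n3404 := ndS (p := 688) (l := 6) rfl N688 F14089
theorem N1073 : nd 1073 = n728 := ndS (p := 689) (l := 3) rfl N689 (iv D1531)
theorem N1074 : nd 1074 = n3127 := ndS (p := 689) (l := 5) rfl N689 (iv F5415)
theorem N1075 : nd 1075 = n3132 := ndS (p := 689) (l := 6) rfl N689 D3132
theorem N1076 : nd 1076 = n1649 := ndS (p := 690) (l := 3) rfl N690 (iv D3395)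
theorem N1077 : nd 1077 = n1650 := ndS (p := 690) (l := 6) rfl N690 F5779
theorem N1078 : nd 1078 = n7223 := ndS (p := 691) (l := 3) rfl N691 (iv F14995)
theorem N1079 : nd 1079 = n3398 := ndS (p := 691) (l := 5) rfl N691 F14055
theorem N1080 : nd 1080 = n725 := ndS (p := 693) (l := 3) rfl N693 (iv D1525)
theorem N1081 : nd 1081 = n6613 := ndS (p := 695) (l := 2) rfl N695 (iv F11466)
theorem N1082 : nd 1082 = n3119 := ndS (p := 695) (l := 4) rfl N695 F14186
theorem N1083 : nd 1083 = n3381 := ndS (p := 695) (l := 6) rfl N695 F5781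
theorem N1084 : nd 1084 = n6368 := ndS (p := 696) (l := 2) rfl N696 F14779
theorem N1085 : nd 1085 = n721 := ndS (p := 698) (l := 5) rfl N698 (iv D1516)
theorem N1086 : nd 1086 = n3099 := ndS (p := 699) (l := 3) rfl N699 (iv D6069)
theorem N1087 : nd 1087 = n6559 := ndS (p := 701) (l := 2) rfl N701 (iv F11389)
theorem N1088 : nd 1088 = n6548 := ndS (p := 701) (l := 4) rfl N701 (iv F11370)
theorem N1089 : nd 1089 = n1634 := ndS (p := 701) (l := 6) rfl N701 (iv D3364)
theorem N1090 : nd 1090 = n720 := ndS (p := 705) (l := 3) rfl N705 D720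
theorem N1091 : nd 1091 = n3090 := ndS (p := 706) (l := 2) rfl N706 (iv F5368)
theorem N1092 : nd 1092 = n3093 := ndS (p := 706) (l := 4) rfl N706 (iv F5374)
theorem N1093 : nd 1093 = n2934 := ndS (p := 707) (l := 1) rfl N707 F10158
theorem N1094 : nd 1094 = n7296 := ndS (p := 707) (l := 4) rfl N707 (iv F15277)
theorem N1095 : nd 1095 = n3363 := ndS (p := 708) (l := 6) rfl N708 F14190
theorem N1096 : nd 1096 = n3356 := ndS (p := 709) (l := 5) rfl N709 (iv D6547)
theorem N1097 : nd 1097 = n4726 := ndS (p := 710) (l := 4) rfl N710 (iv F13890)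
theorem N1098 : nd 1098 = n7494 := ndS (p := 711) (l := 1) rfl N711 (iv F15983)
theorem N1099 : nd 1099 = n7201 := ndS (p := 711) (l := 3) rfl N711 (iv D7488)
theorem N1100 : nd 1100 = n6526 := ndS (p := 714) (l := 5) rfl N714 F11330
theorem N1101 : nd 1101 = n7353 := ndS (p := 714) (l := 6) rfl N714 D7353
theorem N1102 : nd 1102 = n6173 := ndS (p := 715) (l := 3) rfl N715 (iv F14683)
theorem N1103 : nd 1103 = n3083 := ndS (p := 718) (l := 2) rfl N718 F13406
theorem N1104 : nd 1104 = n7334 := ndS (p := 718) (l := 5) rfl N718 D7334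
theorem N1105 : nd 1105 = n7224 := ndS (p := 719) (l := 1) rfl N719 F16028
theorem N1106 : nd 1106 = n1568 := ndS (p := 721) (l := 1) rfl N721 F5141
theorem N1107 : nd 1107 = n6031 := ndS (p := 722) (l := 6) rfl N722 F15145
theorem N1108 : nd 1108 = n7525 := ndS (p := 723) (l := 5) rfl N723 (iv F16138)
theorem N1109 : nd 1109 = n7516 := ndS (p := 724) (l := 6) rfl N724 (iv F16091)
theorem N1110 : nd 1110 = n7556 := ndS (p := 725) (l := 1) rfl N725 (iv F16244)
theorem N1111 : nd 1111 = n7369 := ndS (p := 725) (l := 3) rfl N725 F15799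
theorem N1112 : nd 1112 = n6676 := ndS (p := 725) (l := 4) rfl N725 (iv D7439)
theorem N1113 : nd 1113 = n7340 := ndS (p := 725) (l := 6) rfl N725 F15800
theorem N1114 : nd 1114 = n7571 := ndS (p := 726) (l := 6) rfl N726 (iv F16317)
theorem N1115 : nd 1115 = n7487 := ndS (p := 727) (l := 5) rfl N727 F15957
theorem N1116 : nd 1116 = n3097 := ndS (p := 731) (l := 4) rfl N731 (iv F13393)
theorem N1117 : nd 1117 = n7245 := ndS (p := 733) (l := 2) rfl N733 (iv F15080)
theorem N1118 : nd 1118 = n7244 := ndS (p := 733) (l := 4) rfl N733 (iv F15077)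
theorem N1119 : nd 1119 = n7507 := ndS (p := 733) (l := 5) rfl N733 D7507
theorem N1120 : nd 1120 = n7469 := ndS (p := 734) (l := 4) rfl N734 D7469
theorem N1121 : nd 1121 = n7470 := ndS (p := 734) (l := 6) rfl N734 D7470
theorem N1122 : nd 1122 = n4676 := ndS (p := 735) (l := 1) rfl N735 F14990
theorem N1123 : nd 1123 = n6549 := ndS (p := 735) (l := 4) rfl N735 F14992
theorem N1124 : nd 1124 = n7239 := ndS (p := 735) (l := 5) rfl N735 (iv F15056)
theorem N1125 : nd 1125 = n7264 := ndS (p := 736) (l := 6) rfl N736 F15759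
theorem N1126 : nd 1126 = n7238 := ndS (p := 737) (l := 6) rfl N737 (iv D7506)
theorem N1127 : nd 1127 = n4709 := ndS (p := 739) (l := 1) rfl N739 F15038
theorem N1128 : nd 1128 = n356 := ndS (p := 741) (l := 1) rfl N741 D356
theorem N1129 : nd 1129 = n357 := ndS (p := 741) (l := 3) rfl N741 D357
theorem N1130 : nd 1130 = n358 := ndS (p := 741) (l := 4) rfl N741 D358
theorem N1131 : nd 1131 = n359 := ndS (p := 741) (l := 6) rfl N741 D359
theorem N1132 : nd 1132 = n361 := ndS (p := 744) (l := 3) rfl N744 D361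
theorem N1133 : nd 1133 = n362 := ndS (p := 744) (l := 4) rfl N744 D362
theorem N1134 : nd 1134 = n696 := ndS (p := 747) (l := 0) rfl N747 D696
theorem N1135 : nd 1135 = n697 := ndS (p := 747) (l := 3) rfl N747 D697
theorem N1136 : nd 1136 = n698 := ndS (p := 747) (l := 4) rfl N747 D698
theorem N1137 : nd 1137 = n699 := ndS (p := 747) (l := 6) rfl N747 D699
theorem N1138 : nd 1138 = n701 := ndS (p := 748) (l := 4) rfl N748 D701
theorem N1139 : nd 1139 = n702 := ndS (p := 748) (l := 5) rfl N748 D702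
theorem N1140 : nd 1140 = n703 := ndS (p := 748) (l := 6) rfl N748 D703
theorem N1141 : nd 1141 = n704 := ndS (p := 749) (l := 3) rfl N749 D704
theorem N1142 : nd 1142 = n705 := ndS (p := 749) (l := 6) rfl N749 D705
theorem N1143 : nd 1143 = n706 := ndS (p := 750) (l := 3) rfl N750 D706
theorem N1144 : nd 1144 = n708 := ndS (p := 751) (l := 3) rfl N751 D708
theorem N1145 : nd 1145 = n709 := ndS (p := 752) (l := 2) rfl N752 D709
theorem N1146 : nd 1146 = n710 := ndS (p := 752) (l := 4) rfl N752 D710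
theorem N1147 : nd 1147 = n711 := ndS (p := 752) (l := 5) rfl N752 D711
theorem N1148 : nd 1148 = n712 := ndS (p := 753) (l := 3) rfl N753 D712
theorem N1149 : nd 1149 = n714 := ndS (p := 754) (l := 3) rfl N754 D714
theorem N1150 : nd 1150 = n715 := ndS (p := 754) (l := 4) rfl N754 D715
theorem N1151 : nd 1151 = n717 := ndS (p := 755) (l := 5) rfl N755 D717
theorem N1152 : nd 1152 = n727 := ndS (p := 758) (l := 3) rfl N758 D727
theorem N1153 : nd 1153 = n731 := ndS (p := 759) (l := 3) rfl N759 D731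
theorem N1154 : nd 1154 = n732 := ndS (p := 760) (l := 2) rfl N760 D732
theorem N1155 : nd 1155 = n733 := ndS (p := 760) (l := 4) rfl N760 D733
theorem N1156 : nd 1156 = n734 := ndS (p := 760) (l := 6) rfl N760 D734
theorem N1157 : nd 1157 = n735 := ndS (p := 761) (l := 3) rfl N761 D735
theorem N1158 : nd 1158 = n737 := ndS (p := 762) (l := 3) rfl N762 D737
theorem N1159 : nd 1159 = n738 := ndS (p := 762) (l := 4) rfl N762 D738
theorem N1160 : nd 1160 = n740 := ndS (p := 763) (l := 6) rfl N763 D740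
theorem N1161 : nd 1161 = n775 := ndS (p := 765) (l := 3) rfl N765 D775
theorem N1162 : nd 1162 = n778 := ndS (p := 766) (l := 2) rfl N766 D778
theorem N1163 : nd 1163 = n779 := ndS (p := 766) (l := 4) rfl N766 D779
theorem N1164 : nd 1164 = n780 := ndS (p := 766) (l := 5) rfl N766 D780
theorem N1165 : nd 1165 = n781 := ndS (p := 766) (l := 6) rfl N766 D781
theorem N1166 : nd 1166 = n784 := ndS (p := 767) (l := 3) rfl N767 D784
theorem N1167 : nd 1167 = n792 := ndS (p := 768) (l := 2) rfl N768 D792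
theorem N1168 : nd 1168 = n793 := ndS (p := 768) (l := 4) rfl N768 D793
theorem N1169 : nd 1169 = n794 := ndS (p := 768) (l := 5) rfl N768 D794
theorem N1170 : nd 1170 = n795 := ndS (p := 768) (l := 6) rfl N768 D795
theorem N1171 : nd 1171 = n1343 := ndS (p := 770) (l := 5) rfl N770 D1343
theorem N1172 : nd 1172 = n1404 := ndS (p := 773) (l := 2) rfl N773 D1404
theorem N1173 : nd 1173 = n1405 := ndS (p := 773) (l := 4) rfl N773 D1405
theorem N1174 : nd 1174 = n1406 := ndS (p := 773) (l := 5) rfl N773 D1406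
theorem N1175 : nd 1175 = n2611 := ndS (p := 777) (l := 3) rfl N777 D2611
theorem N1176 : nd 1176 = n2614 := ndS (p := 778) (l := 3) rfl N778 D2614
theorem N1177 : nd 1177 = n2616 := ndS (p := 779) (l := 3) rfl N779 D2616
theorem N1178 : nd 1178 = n2621 := ndS (p := 780) (l := 3) rfl N780 D2621
theorem N1179 : nd 1179 = n2622 := ndS (p := 781) (l := 3) rfl N781 D2622
theorem N1180 : nd 1180 = n1549 := ndS (p := 782) (l := 3) rfl N782 (iv F13797)
theorem N1181 : nd 1181 = n1554 := ndS (p := 783) (l := 3) rfl N783 D1554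
theorem N1182 : nd 1182 = n1555 := ndS (p := 783) (l := 6) rfl N783 D1555
theorem N1183 : nd 1183 = n1556 := ndS (p := 784) (l := 2) rfl N784 D1556
theorem N1184 : nd 1184 = n1557 := ndS (p := 784) (l := 4) rfl N784 D1557
theorem N1185 : nd 1185 = n1558 := ndS (p := 784) (l := 5) rfl N784 D1558
theorem N1186 : nd 1186 = n1559 := ndS (p := 784) (l := 6) rfl N784 D1559
theorem N1187 : nd 1187 = n1561 := ndS (p := 786) (l := 3) rfl N786 D1561
theorem N1188 : nd 1188 = n1562 := ndS (p := 787) (l := 3) rfl N787 D1562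
theorem N1189 : nd 1189 = n1564 := ndS (p := 788) (l := 2) rfl N788 D1564
theorem N1190 : nd 1190 = n1530 := ndS (p := 788) (l := 4) rfl N788 F13275
theorem N1191 : nd 1191 = n1566 := ndS (p := 788) (l := 5) rfl N788 D1566
theorem N1192 : nd 1192 = n1522 := ndS (p := 788) (l := 6) rfl N788 F13276
theorem N1193 : nd 1193 = n2896 := ndS (p := 791) (l := 3) rfl N791 D2896
theorem N1194 : nd 1194 = n2897 := ndS (p := 791) (l := 6) rfl N791 D2897
theorem N1195 : nd 1195 = n2898 := ndS (p := 792) (l := 2) rfl N792 D2898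
theorem N1196 : nd 1196 = n2899 := ndS (p := 792) (l := 4) rfl N792 D2899
theorem N1197 : nd 1197 = n2900 := ndS (p := 792) (l := 5) rfl N792 D2900
theorem N1198 : nd 1198 = n2902 := ndS (p := 793) (l := 3) rfl N793 D2902
theorem N1199 : nd 1199 = n2903 := ndS (p := 793) (l := 6) rfl N793 D2903
theorem N1200 : nd 1200 = n1492 := ndS (p := 795) (l := 1) rfl N795 (iv F13992)
theorem N1201 : nd 1201 = n2736 := ndS (p := 795) (l := 4) rfl N795 D2736
theorem N1202 : nd 1202 = n2738 := ndS (p := 795) (l := 6) rfl N795 D2738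
theorem N1203 : nd 1203 = n2905 := ndS (p := 796) (l := 3) rfl N796 D2905
theorem N1204 : nd 1204 = n2906 := ndS (p := 796) (l := 5) rfl N796 D2906
theorem N1205 : nd 1205 = n2907 := ndS (p := 796) (l := 6) rfl N796 D2907
theorem N1206 : nd 1206 = n1493 := ndS (p := 797) (l := 6) rfl N797 (iv F14016)
theorem N1207 : nd 1207 = n2910 := ndS (p := 798) (l := 5) rfl N798 D2910
theorem N1208 : nd 1208 = n2911 := ndS (p := 799) (l := 2) rfl N799 D2911
theorem N1209 : nd 1209 = n2912 := ndS (p := 799) (l := 5) rfl N799 D2912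
theorem N1210 : nd 1210 = n2913 := ndS (p := 799) (l := 6) rfl N799 D2913
theorem N1211 : nd 1211 = n2914 := ndS (p := 800) (l := 3) rfl N800 D2914
theorem N1212 : nd 1212 = n2918 := ndS (p := 802) (l := 4) rfl N802 D2918
theorem N1213 : nd 1213 = n2921 := ndS (p := 803) (l := 3) rfl N803 D2921
theorem N1214 : nd 1214 = n2924 := ndS (p := 805) (l := 3) rfl N805 D2924
theorem N1215 : nd 1215 = n1474 := ndS (p := 806) (l := 2) rfl N806 F14023
theorem N1216 : nd 1216 = n2926 := ndS (p := 806) (l := 4) rfl N806 D2926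
theorem N1217 : nd 1217 = n2931 := ndS (p := 808) (l := 4) rfl N808 D2931
theorem N1218 : nd 1218 = n2748 := ndS (p := 809) (l := 5) rfl N809 (iv F13730)
theorem N1219 : nd 1219 = n2937 := ndS (p := 811) (l := 3) rfl N811 D2937
theorem N1220 : nd 1220 = n2757 := ndS (p := 812) (l := 3) rfl N812 D2757
theorem N1221 : nd 1221 = n1514 := ndS (p := 814) (l := 4) rfl N814 F13391
theorem N1222 : nd 1222 = n1512 := ndS (p := 814) (l := 6) rfl N814 F13392
theorem N1223 : nd 1223 = n2945 := ndS (p := 815) (l := 3) rfl N815 D2945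
theorem N1224 : nd 1224 = n763 := ndS (p := 816) (l := 3) rfl N816 (iv F1374)
theorem N1225 : nd 1225 = n1527 := ndS (p := 816) (l := 5) rfl N816 D1527
theorem N1226 : nd 1226 = n1523 := ndS (p := 818) (l := 5) rfl N818 D1523
theorem N1227 : nd 1227 = n2954 := ndS (p := 819) (l := 2) rfl N819 D2954
theorem N1228 : nd 1228 = n1606 := ndS (p := 819) (l := 5) rfl N819 (iv F13433)
theorem N1229 : nd 1229 = n761 := ndS (p := 819) (l := 6) rfl N819 F13415
theorem N1230 : nd 1230 = n2960 := ndS (p := 822) (l := 2) rfl N822 D2960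
theorem N1231 : nd 1231 = n2961 := ndS (p := 822) (l := 4) rfl N822 D2961
theorem N1232 : nd 1232 = n2963 := ndS (p := 823) (l := 3) rfl N823 D2963
theorem N1233 : nd 1233 = n2966 := ndS (p := 825) (l := 3) rfl N825 D2966
theorem N1234 : nd 1234 = n2967 := ndS (p := 826) (l := 2) rfl N826 D2967
theorem N1235 : nd 1235 = n2878 := ndS (p := 827) (l := 2) rfl N827 (iv F5030)
theorem N1236 : nd 1236 = n2970 := ndS (p := 827) (l := 4) rfl N827 D2970
theorem N1237 : nd 1237 = n2971 := ndS (p := 827) (l := 5) rfl N827 D2971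
theorem N1238 : nd 1238 = n2973 := ndS (p := 828) (l := 3) rfl N828 D2973
theorem N1239 : nd 1239 = n3316 := ndS (p := 831) (l := 2) rfl N831 D3316
theorem N1240 : nd 1240 = n3317 := ndS (p := 831) (l := 4) rfl N831 D3317
theorem N1241 : nd 1241 = n3318 := ndS (p := 831) (l := 5) rfl N831 D3318
theorem N1242 : nd 1242 = n1628 := ndS (p := 832) (l := 3) rfl N832 D1628
theorem N1243 : nd 1243 = n3230 := ndS (p := 833) (l := 1) rfl N833 (iv F5553)
theorem N1244 : nd 1244 = n752 := ndS (p := 833) (l := 3) rfl N833 (iv D1576)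
theorem N1245 : nd 1245 = n3234 := ndS (p := 833) (l := 4) rfl N833 D3234
theorem N1246 : nd 1246 = n3235 := ndS (p := 833) (l := 5) rfl N833 D3235
theorem N1247 : nd 1247 = n3236 := ndS (p := 833) (l := 6) rfl N833 D3236
theorem N1248 : nd 1248 = n3321 := ndS (p := 834) (l := 3) rfl N834 D3321
theorem N1249 : nd 1249 = n3322 := ndS (p := 834) (l := 5) rfl N834 D3322
theorem N1250 : nd 1250 = n3297 := ndS (p := 834) (l := 6) rfl N834 F14156
theorem N1251 : nd 1251 = n3324 := ndS (p := 835) (l := 6) rfl N835 D3324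
theorem N1252 : nd 1252 = n3327 := ndS (p := 837) (l := 2) rfl N837 D3327
theorem N1253 : nd 1253 = n3328 := ndS (p := 837) (l := 5) rfl N837 D3328
theorem N1254 : nd 1254 = n3329 := ndS (p := 837) (l := 6) rfl N837 D3329
theorem N1255 : nd 1255 = n1654 := ndS (p := 838) (l := 3) rfl N838 D1654
theorem N1256 : nd 1256 = n3331 := ndS (p := 841) (l := 2) rfl N841 D3331
theorem N1257 : nd 1257 = n3332 := ndS (p := 841) (l := 4) rfl N841 D3332
theorem N1258 : nd 1258 = n3333 := ndS (p := 841) (l := 5) rfl N841 D3333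
theorem N1259 : nd 1259 = n3334 := ndS (p := 841) (l := 6) rfl N841 D3334
theorem N1260 : nd 1260 = n3280 := ndS (p := 842) (l := 1) rfl N842 (iv F5611)
theorem N1261 : nd 1261 = n760 := ndS (p := 842) (l := 3) rfl N842 (iv D1598)
theorem N1262 : nd 1262 = n3284 := ndS (p := 842) (l := 4) rfl N842 D3284
theorem N1263 : nd 1263 = n3285 := ndS (p := 842) (l := 5) rfl N842 D3285
theorem N1264 : nd 1264 = n3194 := ndS (p := 842) (l := 6) rfl N842 (iv F13502)
theorem N1265 : nd 1265 = n3337 := ndS (p := 843) (l := 5) rfl N843 D3337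
theorem N1266 : nd 1266 = n3338 := ndS (p := 843) (l := 6) rfl N843 D3338
theorem N1267 : nd 1267 = n3340 := ndS (p := 844) (l := 6) rfl N844 D3340
theorem N1268 : nd 1268 = n3192 := ndS (p := 845) (l := 5) rfl N845 (iv F13504)
theorem N1269 : nd 1269 = n1468 := ndS (p := 846) (l := 4) rfl N846 D1468
theorem N1270 : nd 1270 = n1470 := ndS (p := 846) (l := 6) rfl N846 D1470
theorem N1271 : nd 1271 = n1504 := ndS (p := 847) (l := 6) rfl N847 (iv F2641)
theorem N1272 : nd 1272 = n3046 := ndS (p := 848) (l := 3) rfl N848 (iv F13819)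
theorem N1273 : nd 1273 = n1508 := ndS (p := 849) (l := 3) rfl N849 D1508
theorem N1274 : nd 1274 = n4585 := ndS (p := 852) (l := 2) rfl N852 D4585
theorem N1275 : nd 1275 = n4586 := ndS (p := 852) (l := 4) rfl N852 D4586
theorem N1276 : nd 1276 = n4591 := ndS (p := 853) (l := 1) rfl N853 D4591
theorem N1277 : nd 1277 = n1546 := ndS (p := 853) (l := 3) rfl N853 F4218
theorem N1278 : nd 1278 = n4592 := ndS (p := 853) (l := 4) rfl N853 D4592
theorem N1279 : nd 1279 = n2885 := ndS (p := 854) (l := 5) rfl N854 (iv F13688)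
theorem N1280 : nd 1280 = n2883 := ndS (p := 855) (l := 6) rfl N855 (iv F13690)
theorem N1281 : nd 1281 = n4626 := ndS (p := 858) (l := 4) rfl N858 D4626
theorem N1282 : nd 1282 = n4628 := ndS (p := 858) (l := 6) rfl N858 D4628
theorem N1283 : nd 1283 = n3261 := ndS (p := 862) (l := 2) rfl N862 (iv F13831)
theorem N1284 : nd 1284 = n3295 := ndS (p := 863) (l := 2) rfl N863 (iv F13511)
theorem N1285 : nd 1285 = n764 := ndS (p := 863) (l := 5) rfl N863 (iv D1609)
theorem N1286 : nd 1286 = n4690 := ndS (p := 864) (l := 3) rfl N864 D4690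
theorem N1287 : nd 1287 = n3013 := ndS (p := 865) (l := 2) rfl N865 (iv F9192)
theorem N1288 : nd 1288 = n4692 := ndS (p := 865) (l := 6) rfl N865 D4692
theorem N1289 : nd 1289 = n4693 := ndS (p := 866) (l := 2) rfl N866 D4693
theorem N1290 : nd 1290 = n4694 := ndS (p := 866) (l := 4) rfl N866 D4694
theorem N1291 : nd 1291 = n4695 := ndS (p := 866) (l := 5) rfl N866 D4695
theorem N1292 : nd 1292 = n4696 := ndS (p := 867) (l := 2) rfl N867 D4696
theorem N1293 : nd 1293 = n4697 := ndS (p := 867) (l := 4) rfl N867 D4697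
theorem N1294 : nd 1294 = n4698 := ndS (p := 867) (l := 5) rfl N867 D4698
theorem N1295 : nd 1295 = n4702 := ndS (p := 869) (l := 2) rfl N869 D4702
theorem N1296 : nd 1296 = n4703 := ndS (p := 869) (l := 4) rfl N869 D4703
theorem N1297 : nd 1297 = n4704 := ndS (p := 869) (l := 6) rfl N869 D4704
theorem N1298 : nd 1298 = n4732 := ndS (p := 871) (l := 6) rfl N871 D4732
theorem N1299 : nd 1299 = n4736 := ndS (p := 873) (l := 3) rfl N873 D4736
theorem N1300 : nd 1300 = n1647 := ndS (p := 876) (l := 2) rfl N876 D1647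
theorem N1301 : nd 1301 = n1641 := ndS (p := 876) (l := 4) rfl N876 (iv F2792)
theorem N1302 : nd 1302 = n1648 := ndS (p := 876) (l := 5) rfl N876 D1648
theorem N1303 : nd 1303 = n2869 := ndS (p := 880) (l := 2) rfl N880 D2869
theorem N1304 : nd 1304 = n2870 := ndS (p := 880) (l := 4) rfl N880 D2870
theorem N1305 : nd 1305 = n2871 := ndS (p := 880) (l := 5) rfl N880 D2871
theorem N1306 : nd 1306 = n3274 := ndS (p := 881) (l := 3) rfl N881 (iv D6396)
theorem N1307 : nd 1307 = n7568 := ndS (p := 883) (l := 3) rfl N883 D7568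
theorem N1308 : nd 1308 = n7514 := ndS (p := 884) (l := 3) rfl N884 F16188
theorem N1309 : nd 1309 = n7575 := ndS (p := 885) (l := 2) rfl N885 (iv F16334)
theorem N1310 : nd 1310 = n7569 := ndS (p := 886) (l := 3) rfl N886 D7569
theorem N1311 : nd 1311 = n5073 := ndS (p := 888) (l := 3) rfl N888 F14729
theorem N1312 : nd 1312 = n7573 := ndS (p := 889) (l := 1) rfl N889 D7573
theorem N1313 : nd 1313 = n7574 := ndS (p := 889) (l := 4) rfl N889 D7574
theorem N1314 : nd 1314 = n5815 := ndS (p := 891) (l := 1) rfl N891 F15268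
theorem N1315 : nd 1315 = n6667 := ndS (p := 891) (l := 3) rfl N891 F15270
theorem N1316 : nd 1316 = n7326 := ndS (p := 891) (l := 4) rfl N891 (iv F15404)
theorem N1317 : nd 1317 = n7551 := ndS (p := 893) (l := 2) rfl N893 (iv F16226)
theorem N1318 : nd 1318 = n7550 := ndS (p := 893) (l := 4) rfl N893 F16225
theorem N1319 : nd 1319 = n7511 := ndS (p := 893) (l := 6) rfl N893 F16184
theorem N1320 : nd 1320 = n7254 := ndS (p := 894) (l := 2) rfl N894 F16072
theorem N1321 : nd 1321 = n7251 := ndS (p := 894) (l := 4) rfl N894 F16074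
theorem N1322 : nd 1322 = n7250 := ndS (p := 894) (l := 5) rfl N894 (iv D7512)
theorem N1323 : nd 1323 = n7523 := ndS (p := 895) (l := 1) rfl N895 (iv F16124)
theorem N1324 : nd 1324 = n7413 := ndS (p := 895) (l := 3) rfl N895 F15852
theorem N1325 : nd 1325 = n7578 := ndS (p := 895) (l := 4) rfl N895 (iv F16350)
theorem N1326 : nd 1326 = n7540 := ndS (p := 895) (l := 6) rfl N895 (iv F16193)
theorem N1327 : nd 1327 = n7570 := ndS (p := 897) (l := 3) rfl N897 (iv F16311)
theorem N1328 : nd 1328 = n7513 := ndS (p := 898) (l := 4) rfl N898 (iv F16077)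
theorem N1329 : nd 1329 = n3162 := ndS (p := 899) (l := 1) rfl N899 F10551
theorem N1330 : nd 1330 = n3153 := ndS (p := 899) (l := 3) rfl N899 F10552
theorem N1331 : nd 1331 = n3052 := ndS (p := 899) (l := 4) rfl N899 (iv D5969)
theorem N1332 : nd 1332 = n6204 := ndS (p := 899) (l := 5) rfl N899 (iv F14273)
theorem N1333 : nd 1333 = n7510 := ndS (p := 901) (l := 3) rfl N901 (iv F16067)
theorem N1334 : nd 1334 = n7255 := ndS (p := 902) (l := 2) rfl N902 (iv F15113)
theorem N1335 : nd 1335 = n7252 := ndS (p := 902) (l := 4) rfl N902 (iv F15105)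
theorem N1336 : nd 1336 = n7543 := ndS (p := 903) (l := 0) rfl N903 (iv F16200)
theorem N1337 : nd 1337 = n7194 := ndS (p := 903) (l := 3) rfl N903 F15847
theorem N1338 : nd 1338 = n7576 := ndS (p := 903) (l := 4) rfl N903 D7576
theorem N1339 : nd 1339 = n7195 := ndS (p := 904) (l := 4) rfl N904 D7195
theorem N1340 : nd 1340 = n7196 := ndS (p := 904) (l := 5) rfl N904 D7196
theorem N1341 : nd 1341 = n7197 := ndS (p := 904) (l := 6) rfl N904 D7197
theorem N1342 : nd 1342 = n7577 := ndS (p := 905) (l := 3) rfl N905 D7577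
theorem N1343 : nd 1343 = n6207 := ndS (p := 906) (l := 0) rfl N906 F14266
theorem N1344 : nd 1344 = n7277 := ndS (p := 906) (l := 3) rfl N906 (iv F15185)
theorem N1345 : nd 1345 = n3170 := ndS (p := 906) (l := 4) rfl N906 F10858
theorem N1346 : nd 1346 = n7280 := ndS (p := 908) (l := 3) rfl N908 (iv F15196)
theorem N1347 : nd 1347 = n5719 := ndS (p := 909) (l := 3) rfl N909 D5719
theorem N1348 : nd 1348 = n6154 := ndS (p := 910) (l := 3) rfl N910 F13886
theorem N1349 : nd 1349 = n5113 := ndS (p := 913) (l := 3) rfl N913 (iv F14709)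
theorem N1350 : nd 1350 = n1652 := ndS (p := 913) (l := 5) rfl N913 (iv D3403)
theorem N1351 : nd 1351 = n762 := ndS (p := 915) (l := 3) rfl N915 (iv D1605)
theorem N1352 : nd 1352 = n6370 := ndS (p := 917) (l := 2) rfl N917 F14711
theorem N1353 : nd 1353 = n3397 := ndS (p := 918) (l := 3) rfl N918 (iv F14049)
theorem N1354 : nd 1354 = n758 := ndS (p := 919) (l := 3) rfl N919 D758
theorem N1355 : nd 1355 = n3269 := ndS (p := 920) (l := 2) rfl N920 (iv F5596)
theorem N1356 : nd 1356 = n3271 := ndS (p := 920) (l := 4) rfl N920 (iv F5599)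
theorem N1357 : nd 1357 = n7306 := ndS (p := 921) (l := 3) rfl N921 (iv F15318)
theorem N1358 : nd 1358 = n7308 := ndS (p := 921) (l := 4) rfl N921 (iv F15330)
theorem N1359 : nd 1359 = n1633 := ndS (p := 924) (l := 3) rfl N924 (iv D3360)
theorem N1360 : nd 1360 = n7399 := ndS (p := 926) (l := 2) rfl N926 F15763
theorem N1361 : nd 1361 = n6053 := ndS (p := 927) (l := 2) rfl N927 (iv D7336)
theorem N1362 : nd 1362 = n7595 := ndS (p := 928) (l := 1) rfl N928 (iv F16425)
theorem N1363 : nd 1363 = n7398 := ndS (p := 928) (l := 3) rfl N928 (iv D7564)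
theorem N1364 : nd 1364 = n7400 := ndS (p := 928) (l := 4) rfl N928 F16280
theorem N1365 : nd 1365 = n6302 := ndS (p := 934) (l := 0) rfl N934 F15342
theorem N1366 : nd 1366 = n5862 := ndS (p := 934) (l := 3) rfl N934 (iv D7312)
theorem N1367 : nd 1367 = n7529 := ndS (p := 934) (l := 4) rfl N934 D7529
theorem N1368 : nd 1368 = n3428 := ndS (p := 935) (l := 2) rfl N935 F11565
theorem N1369 : nd 1369 = n6301 := ndS (p := 935) (l := 4) rfl N935 (iv F13664)
theorem N1370 : nd 1370 = n6673 := ndS (p := 935) (l := 5) rfl N935 F11566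
theorem N1371 : nd 1371 = n3422 := ndS (p := 935) (l := 6) rfl N935 (iv D6675)
theorem N1372 : nd 1372 = n7486 := ndS (p := 938) (l := 2) rfl N938 (iv F15955)
theorem N1373 : nd 1373 = n7596 := ndS (p := 939) (l := 1) rfl N939 D7596
theorem N1374 : nd 1374 = n7518 := ndS (p := 939) (l := 4) rfl N939 F16289
theorem N1375 : nd 1375 = n3066 := ndS (p := 941) (l := 3) rfl N941 D3066
theorem N1376 : nd 1376 = n3361 := ndS (p := 942) (l := 2) rfl N942 F14312
theorem N1377 : nd 1377 = n3355 := ndS (p := 942) (l := 5) rfl N942 F14313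
theorem N1378 : nd 1378 = n7337 := ndS (p := 945) (l := 2) rfl N945 (iv F15445)
theorem N1379 : nd 1379 = n6250 := ndS (p := 950) (l := 2) rfl N950 (iv F10935)
theorem N1380 : nd 1380 = n6071 := ndS (p := 950) (l := 4) rfl N950 F13575
theorem N1381 : nd 1381 = n7377 := ndS (p := 952) (l := 1) rfl N952 F15881
theorem N1382 : nd 1382 = n7485 := ndS (p := 953) (l := 2) rfl N953 (iv F15952)
theorem N1383 : nd 1383 = n7581 := ndS (p := 956) (l := 3) rfl N956 D7581
theorem N1384 : nd 1384 = n7582 := ndS (p := 957) (l := 4) rfl N957 D7582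
theorem N1385 : nd 1385 = n7549 := ndS (p := 957) (l := 6) rfl N957 (iv F16222)
theorem N1386 : nd 1386 = n7440 := ndS (p := 958) (l := 3) rfl N958 (iv F15879)
theorem N1387 : nd 1387 = n5724 := ndS (p := 959) (l := 3) rfl N959 (iv F10137)
theorem N1388 : nd 1388 = n6495 := ndS (p := 960) (l := 2) rfl N960 (iv F15250)
theorem N1389 : nd 1389 = n7393 := ndS (p := 960) (l := 4) rfl N960 (iv F15621)
theorem N1390 : nd 1390 = n7260 := ndS (p := 960) (l := 5) rfl N960 F15249
theorem N1391 : nd 1391 = n7330 := ndS (p := 961) (l := 3) rfl N961 D7330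
theorem N1392 : nd 1392 = n7555 := ndS (p := 962) (l := 3) rfl N962 D7555
theorem N1393 : nd 1393 = n7530 := ndS (p := 963) (l := 2) rfl N963 F16161
theorem N1394 : nd 1394 = n7579 := ndS (p := 963) (l := 4) rfl N963 D7579
theorem N1395 : nd 1395 = n7546 := ndS (p := 963) (l := 6) rfl N963 (iv F16215)
theorem N1396 : nd 1396 = n7580 := ndS (p := 964) (l := 3) rfl N964 D7580
theorem N1397 : nd 1397 = n7181 := ndS (p := 965) (l := 4) rfl N965 D7181
theorem N1398 : nd 1398 = n7182 := ndS (p := 965) (l := 6) rfl N965 D7182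
theorem N1399 : nd 1399 = n7552 := ndS (p := 966) (l := 3) rfl N966 (iv F16231)
theorem N1400 : nd 1400 = n7345 := ndS (p := 966) (l := 6) rfl N966 F15872
theorem N1401 : nd 1401 = n7367 := ndS (p := 967) (l := 6) rfl N967 F15792
theorem N1402 : nd 1402 = n6248 := ndS (p := 968) (l := 5) rfl N968 (iv D7368)
theorem N1403 : nd 1403 = n6009 := ndS (p := 970) (l := 3) rfl N970 D6009
theorem N1404 : nd 1404 = n7331 := ndS (p := 971) (l := 2) rfl N971 D7331
theorem N1405 : nd 1405 = n5136 := ndS (p := 971) (l := 5) rfl N971 (iv F14533)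
theorem N1406 : nd 1406 = n3047 := ndS (p := 972) (l := 3) rfl N972 (iv F5310)
theorem N1407 : nd 1407 = n7317 := ndS (p := 974) (l := 2) rfl N974 (iv F15367)
theorem N1408 : nd 1408 = n7210 := ndS (p := 974) (l := 5) rfl N974 (iv F14962)
theorem N1409 : nd 1409 = n3419 := ndS (p := 975) (l := 1) rfl N975 D3419
theorem N1410 : nd 1410 = n3420 := ndS (p := 975) (l := 3) rfl N975 D3420
theorem N1411 : nd 1411 = n3421 := ndS (p := 975) (l := 4) rfl N975 D3421
theorem N1412 : nd 1412 = n3423 := ndS (p := 975) (l := 6) rfl N975 D3423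
theorem N1413 : nd 1413 = n3425 := ndS (p := 976) (l := 5) rfl N976 D3425
theorem N1414 : nd 1414 = n3426 := ndS (p := 976) (l := 6) rfl N976 D3426
theorem N1415 : nd 1415 = n3260 := ndS (p := 978) (l := 5) rfl N978 (iv F13527)
theorem N1416 : nd 1416 = n5311 := ndS (p := 980) (l := 3) rfl N980 D5311
theorem N1417 : nd 1417 = n6670 := ndS (p := 981) (l := 2) rfl N981 F15259
theorem N1418 : nd 1418 = n7305 := ndS (p := 982) (l := 2) rfl N982 D7305
theorem N1419 : nd 1419 = n3143 := ndS (p := 982) (l := 4) rfl N982 F14106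
theorem N1420 : nd 1420 = n5803 := ndS (p := 983) (l := 4) rfl N983 D5803
theorem N1421 : nd 1421 = n5316 := ndS (p := 987) (l := 3) rfl N987 D5316
theorem N1422 : nd 1422 = n1544 := ndS (p := 990) (l := 3) rfl N990 D1544
theorem N1423 : nd 1423 = n7212 := ndS (p := 992) (l := 3) rfl N992 (iv F14971)
theorem N1424 : nd 1424 = n7211 := ndS (p := 993) (l := 3) rfl N993 (iv F14966)
theorem N1425 : nd 1425 = n7213 := ndS (p := 994) (l := 6) rfl N994 D7213
theorem N1426 : nd 1426 = n7205 := ndS (p := 996) (l := 2) rfl N996 D7205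
theorem N1427 : nd 1427 = n7202 := ndS (p := 996) (l := 6) rfl N996 (iv F14942)
theorem N1428 : nd 1428 = n1646 := ndS (p := 999) (l := 3) rfl N999 (iv F14162)
theorem N1429 : nd 1429 = n5634 := ndS (p := 1001) (l := 2) rfl N1001 (iv F14359)
theorem N1430 : nd 1430 = n1509 := ndS (p := 1002) (l := 3) rfl N1002 D1509
theorem N1431 : nd 1431 = n6033 := ndS (p := 1003) (l := 4) rfl N1003 (iv F10634)
theorem N1432 : nd 1432 = n5102 := ndS (p := 1005) (l := 4) rfl N1005 (iv F9059)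
theorem N1433 : nd 1433 = n7380 := ndS (p := 1006) (l := 1) rfl N1006 (iv F15579)
theorem N1434 : nd 1434 = n6051 := ndS (p := 1011) (l := 5) rfl N1011 D6051
theorem N1435 : nd 1435 = n6056 := ndS (p := 1014) (l := 5) rfl N1014 D6056
theorem N1436 : nd 1436 = n6382 := ndS (p := 1018) (l := 2) rfl N1018 (iv F14642)
theorem N1437 : nd 1437 = n6380 := ndS (p := 1018) (l := 5) rfl N1018 F14641
theorem N1438 : nd 1438 = n7258 := ndS (p := 1019) (l := 2) rfl N1019 D7258
theorem N1439 : nd 1439 = n7253 := ndS (p := 1019) (l := 4) rfl N1019 (iv F15108)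
theorem N1440 : nd 1440 = n7259 := ndS (p := 1019) (l := 6) rfl N1019 D7259
theorem N1441 : nd 1441 = n7475 := ndS (p := 1020) (l := 1) rfl N1020 D7475
theorem N1442 : nd 1442 = n7476 := ndS (p := 1020) (l := 3) rfl N1020 D7476
theorem N1443 : nd 1443 = n7414 := ndS (p := 1020) (l := 4) rfl N1020 F15692
theorem N1444 : nd 1444 = n6384 := ndS (p := 1020) (l := 6) rfl N1020 F14932
theorem N1445 : nd 1445 = n7478 := ndS (p := 1021) (l := 6) rfl N1021 D7478
theorem N1446 : nd 1446 = n7479 := ndS (p := 1022) (l := 5) rfl N1022 D7479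
theorem N1447 : nd 1447 = n6037 := ndS (p := 1024) (l := 4) rfl N1024 F13985
theorem N1448 : nd 1448 = n7246 := ndS (p := 1026) (l := 5) rfl N1026 D7246
theorem N1449 : nd 1449 = n7199 := ndS (p := 1027) (l := 4) rfl N1027 (iv F14939)
theorem N1450 : nd 1450 = n5134 := ndS (p := 1028) (l := 2) rfl N1028 D5134
theorem N1451 : nd 1451 = n5135 := ndS (p := 1028) (l := 4) rfl N1028 D5135
theorem N1452 : nd 1452 = n6177 := ndS (p := 1029) (l := 3) rfl N1029 F15125
theorem N1453 : nd 1453 = n3348 := ndS (p := 1030) (l := 2) rfl N1030 F14311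
theorem N1454 : nd 1454 = n3346 := ndS (p := 1030) (l := 5) rfl N1030 (iv F14336)
theorem N1455 : nd 1455 = n5085 := ndS (p := 1031) (l := 3) rfl N1031 D5085
theorem N1456 : nd 1456 = n7493 := ndS (p := 1032) (l := 2) rfl N1032 (iv F15978)
theorem N1457 : nd 1457 = n5074 := ndS (p := 1033) (l := 4) rfl N1033 D5074
theorem N1458 : nd 1458 = n5075 := ndS (p := 1033) (l := 5) rfl N1033 D5075
theorem N1459 : nd 1459 = n5792 := ndS (p := 1034) (l := 2) rfl N1034 (iv F14515)
theorem N1460 : nd 1460 = n7230 := ndS (p := 1034) (l := 4) rfl N1034 D7230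
theorem N1461 : nd 1461 = n7231 := ndS (p := 1034) (l := 6) rfl N1034 D7231
theorem N1462 : nd 1462 = n1536 := ndS (p := 1035) (l := 3) rfl N1035 (iv D3141)
theorem N1463 : nd 1463 = n6147 := ndS (p := 1035) (l := 4) rfl N1035 D6147
theorem N1464 : nd 1464 = n6149 := ndS (p := 1035) (l := 6) rfl N1035 D6149
theorem N1465 : nd 1465 = n6002 := ndS (p := 1036) (l := 3) rfl N1036 F15043
theorem N1466 : nd 1466 = n5957 := ndS (p := 1037) (l := 3) rfl N1037 F15048
theorem N1467 : nd 1467 = n3371 := ndS (p := 1038) (l := 2) rfl N1038 (iv F14353)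
theorem N1468 : nd 1468 = n3351 := ndS (p := 1038) (l := 5) rfl N1038 (iv F14354)
theorem N1469 : nd 1469 = n1503 := ndS (p := 1038) (l := 6) rfl N1038 (iv D3074)
theorem N1470 : nd 1470 = n5895 := ndS (p := 1039) (l := 2) rfl N1039 (iv F14026)
theorem N1471 : nd 1471 = n1489 := ndS (p := 1039) (l := 4) rfl N1039 (iv D3045)
theorem N1472 : nd 1472 = n3357 := ndS (p := 1040) (l := 2) rfl N1040 F11353
theorem N1473 : nd 1473 = n3353 := ndS (p := 1040) (l := 5) rfl N1040 (iv D6540)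
theorem N1474 : nd 1474 = n6669 := ndS (p := 1041) (l := 2) rfl N1041 F15373
theorem N1475 : nd 1475 = n3359 := ndS (p := 1042) (l := 6) rfl N1042 D3359
theorem N1476 : nd 1476 = n3352 := ndS (p := 1043) (l := 3) rfl N1043 D3352
theorem N1477 : nd 1477 = n5984 := ndS (p := 1044) (l := 5) rfl N1044 D5984
theorem N1478 : nd 1478 = n7528 := ndS (p := 1046) (l := 1) rfl N1046 (iv F16148)
theorem N1479 : nd 1479 = n5947 := ndS (p := 1046) (l := 4) rfl N1046 (iv D7316)
theorem N1480 : nd 1480 = n6066 := ndS (p := 1046) (l := 5) rfl N1046 F15365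
theorem N1481 : nd 1481 = n7430 := ndS (p := 1049) (l := 2) rfl N1049 (iv F15766)
theorem N1482 : nd 1482 = n7473 := ndS (p := 1049) (l := 6) rfl N1049 D7473
theorem N1483 : nd 1483 = n7382 := ndS (p := 1051) (l := 2) rfl N1051 (iv F15586)
theorem N1484 : nd 1484 = n7384 := ndS (p := 1053) (l := 1) rfl N1053 F15973
theorem N1485 : nd 1485 = n7521 := ndS (p := 1053) (l := 6) rfl N1053 (iv F16117)
theorem N1486 : nd 1486 = n1610 := ndS (p := 1055) (l := 1) rfl N1055 F5363
theorem N1487 : nd 1487 = n3100 := ndS (p := 1055) (l := 3) rfl N1055 (iv F5389)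
theorem N1488 : nd 1488 = n7586 := ndS (p := 1059) (l := 1) rfl N1059 D7586
theorem N1489 : nd 1489 = n7537 := ndS (p := 1059) (l := 6) rfl N1059 F16182
theorem N1490 : nd 1490 = n6156 := ndS (p := 1062) (l := 2) rfl N1062 (iv F10809)
theorem N1491 : nd 1491 = n7241 := ndS (p := 1062) (l := 4) rfl N1062 D7241
theorem N1492 : nd 1492 = n6333 := ndS (p := 1062) (l := 5) rfl N1062 (iv F14236)
theorem N1493 : nd 1493 = n3362 := ndS (p := 1063) (l := 5) rfl N1063 (iv D6558)
theorem N1494 : nd 1494 = n6538 := ndS (p := 1064) (l := 3) rfl N1064 (iv F14915)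
theorem N1495 : nd 1495 = n6544 := ndS (p := 1064) (l := 6) rfl N1064 F14916
theorem N1496 : nd 1496 = n7257 := ndS (p := 1066) (l := 5) rfl N1066 D7257
theorem N1497 : nd 1497 = n6184 := ndS (p := 1069) (l := 2) rfl N1069 (iv F14325)
theorem N1498 : nd 1498 = n3122 := ndS (p := 1069) (l := 4) rfl N1069 F13565
theorem N1499 : nd 1499 = n6484 := ndS (p := 1069) (l := 6) rfl N1069 F14179
theorem N1500 : nd 1500 = n7269 := ndS (p := 1070) (l := 2) rfl N1070 (iv F15152)
theorem N1501 : nd 1501 = n1529 := ndS (p := 1074) (l := 3) rfl N1074 (iv D3127)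
theorem N1502 : nd 1502 = n3393 := ndS (p := 1076) (l := 2) rfl N1076 (iv F5777)
theorem N1503 : nd 1503 = n3382 := ndS (p := 1076) (l := 4) rfl N1076 (iv F5762)
theorem N1504 : nd 1504 = n7383 := ndS (p := 1078) (l := 2) rfl N1078 (iv F15587)
theorem N1505 : nd 1505 = n5744 := ndS (p := 1081) (l := 1) rfl N1081 (iv F14531)
theorem N1506 : nd 1506 = n6324 := ndS (p := 1081) (l := 3) rfl N1081 F14206
theorem N1507 : nd 1507 = n5644 := ndS (p := 1081) (l := 4) rfl N1081 (iv F14250)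
theorem N1508 : nd 1508 = n6590 := ndS (p := 1081) (l := 6) rfl N1081 F11468
theorem N1509 : nd 1509 = n7381 := ndS (p := 1084) (l := 1) rfl N1084 (iv F15583)
theorem N1510 : nd 1510 = n6734 := ndS (p := 1084) (l := 3) rfl N1084 F13760
theorem N1511 : nd 1511 = n1515 := ndS (p := 1085) (l := 3) rfl N1085 D1515
theorem N1512 : nd 1512 = n6067 := ndS (p := 1086) (l := 2) rfl N1086 (iv F10690)
theorem N1513 : nd 1513 = n6058 := ndS (p := 1086) (l := 4) rfl N1086 (iv F10678)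
theorem N1514 : nd 1514 = n5745 := ndS (p := 1087) (l := 1) rfl N1087 (iv F14525)
theorem N1515 : nd 1515 = n7358 := ndS (p := 1087) (l := 3) rfl N1087 (iv F15520)
theorem N1516 : nd 1516 = n5738 := ndS (p := 1093) (l := 4) rfl N1093 (iv F10168)
theorem N1517 : nd 1517 = n1631 := ndS (p := 1096) (l := 3) rfl N1096 (iv D3356)
theorem N1518 : nd 1518 = n7395 := ndS (p := 1099) (l := 2) rfl N1099 F15627
theorem N1519 : nd 1519 = n7203 := ndS (p := 1099) (l := 4) rfl N1099 (iv F14943)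
theorem N1520 : nd 1520 = n7200 := ndS (p := 1099) (l := 5) rfl N1099 F14941
theorem N1521 : nd 1521 = n3349 := ndS (p := 1100) (l := 3) rfl N1100 (iv D6526)
theorem N1522 : nd 1522 = n3152 := ndS (p := 1102) (l := 4) rfl N1102 (iv D6173)
theorem N1523 : nd 1523 = n6523 := ndS (p := 1102) (l := 6) rfl N1102 F14302
theorem N1524 : nd 1524 = n1602 := ndS (p := 1103) (l := 1) rfl N1103 F5358
theorem N1525 : nd 1525 = n1593 := ndS (p := 1103) (l := 3) rfl N1103 F5359
theorem N1526 : nd 1526 = n7547 := ndS (p := 1110) (l := 0) rfl N1110 F16243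
theorem N1527 : nd 1527 = n7379 := ndS (p := 1110) (l := 4) rfl N1110 (iv D7556)
theorem N1528 : nd 1528 = n7532 := ndS (p := 1110) (l := 6) rfl N1110 F16246
theorem N1529 : nd 1529 = n7436 := ndS (p := 1112) (l := 6) rfl N1112 (iv F15789)
theorem N1530 : nd 1530 = n6057 := ndS (p := 1113) (l := 3) rfl N1113 (iv D7340)
theorem N1531 : nd 1531 = n7533 := ndS (p := 1113) (l := 5) rfl N1113 D7533
theorem N1532 : nd 1532 = n7509 := ndS (p := 1117) (l := 5) rfl N1117 D7509
theorem N1533 : nd 1533 = n7508 := ndS (p := 1118) (l := 5) rfl N1118 D7508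
theorem N1534 : nd 1534 = n7366 := ndS (p := 1120) (l := 6) rfl N1120 (iv F15900)
theorem N1535 : nd 1535 = n7472 := ndS (p := 1121) (l := 5) rfl N1121 (iv F15914)
theorem N1536 : nd 1536 = n3383 := ndS (p := 1122) (l := 0) rfl N1122 F14195
theorem N1537 : nd 1537 = n7442 := ndS (p := 1125) (l := 3) rfl N1125 (iv F15806)
theorem N1538 : nd 1538 = n7505 := ndS (p := 1126) (l := 3) rfl N1126 D7505
theorem N1539 : nd 1539 = n750 := ndS (p := 1128) (l := 3) rfl N1128 D750
theorem N1540 : nd 1540 = n751 := ndS (p := 1128) (l := 6) rfl N1128 D751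
theorem N1541 : nd 1541 = n753 := ndS (p := 1129) (l := 4) rfl N1129 D753
theorem N1542 : nd 1542 = n754 := ndS (p := 1129) (l := 5) rfl N1129 D754
theorem N1543 : nd 1543 = n755 := ndS (p := 1129) (l := 6) rfl N1129 D755
theorem N1544 : nd 1544 = n757 := ndS (p := 1131) (l := 3) rfl N1131 D757
theorem N1545 : nd 1545 = n1458 := ndS (p := 1134) (l := 3) rfl N1134 D1458
theorem N1546 : nd 1546 = n1459 := ndS (p := 1134) (l := 6) rfl N1134 D1459
theorem N1547 : nd 1547 = n1461 := ndS (p := 1135) (l := 4) rfl N1135 D1461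
theorem N1548 : nd 1548 = n1462 := ndS (p := 1135) (l := 5) rfl N1135 D1462
theorem N1549 : nd 1549 = n1464 := ndS (p := 1136) (l := 3) rfl N1136 D1464
theorem N1550 : nd 1550 = n1465 := ndS (p := 1136) (l := 6) rfl N1136 D1465
theorem N1551 : nd 1551 = n1471 := ndS (p := 1138) (l := 3) rfl N1138 D1471
theorem N1552 : nd 1552 = n1472 := ndS (p := 1138) (l := 5) rfl N1138 D1472
theorem N1553 : nd 1553 = n1473 := ndS (p := 1138) (l := 6) rfl N1138 D1473
theorem N1554 : nd 1554 = n1476 := ndS (p := 1140) (l := 5) rfl N1140 D1476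
theorem N1555 : nd 1555 = n1477 := ndS (p := 1141) (l := 2) rfl N1141 D1477
theorem N1556 : nd 1556 = n1478 := ndS (p := 1141) (l := 5) rfl N1141 D1478
theorem N1557 : nd 1557 = n1479 := ndS (p := 1141) (l := 6) rfl N1141 D1479
theorem N1558 : nd 1558 = n1480 := ndS (p := 1142) (l := 3) rfl N1142 D1480
theorem N1559 : nd 1559 = n1486 := ndS (p := 1144) (l := 4) rfl N1144 D1486
theorem N1560 : nd 1560 = n1494 := ndS (p := 1148) (l := 4) rfl N1148 D1494
theorem N1561 : nd 1561 = n1507 := ndS (p := 1151) (l := 3) rfl N1151 D1507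
theorem N1562 : nd 1562 = n1528 := ndS (p := 1152) (l := 2) rfl N1152 D1528
theorem N1563 : nd 1563 = n1537 := ndS (p := 1153) (l := 4) rfl N1153 D1537
theorem N1564 : nd 1564 = n1539 := ndS (p := 1154) (l := 3) rfl N1154 D1539
theorem N1565 : nd 1565 = n1542 := ndS (p := 1156) (l := 3) rfl N1156 D1542
theorem N1566 : nd 1566 = n1543 := ndS (p := 1157) (l := 2) rfl N1157 D1543
theorem N1567 : nd 1567 = n1547 := ndS (p := 1158) (l := 4) rfl N1158 D1547
theorem N1568 : nd 1568 = n1548 := ndS (p := 1158) (l := 5) rfl N1158 D1548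
theorem N1569 : nd 1569 = n1550 := ndS (p := 1159) (l := 3) rfl N1159 D1550
theorem N1570 : nd 1570 = n1637 := ndS (p := 1162) (l := 1) rfl N1162 D1637
theorem N1571 : nd 1571 = n1638 := ndS (p := 1162) (l := 4) rfl N1162 D1638
theorem N1572 : nd 1572 = n1639 := ndS (p := 1162) (l := 5) rfl N1162 D1639
theorem N1573 : nd 1573 = n1640 := ndS (p := 1162) (l := 6) rfl N1162 D1640
theorem N1574 : nd 1574 = n1642 := ndS (p := 1163) (l := 5) rfl N1163 D1642
theorem N1575 : nd 1575 = n1643 := ndS (p := 1163) (l := 6) rfl N1163 D1643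
theorem N1576 : nd 1576 = n1644 := ndS (p := 1164) (l := 6) rfl N1164 D1644
theorem N1577 : nd 1577 = n1668 := ndS (p := 1167) (l := 1) rfl N1167 D1668
theorem N1578 : nd 1578 = n1669 := ndS (p := 1167) (l := 4) rfl N1167 D1669
theorem N1579 : nd 1579 = n1670 := ndS (p := 1167) (l := 5) rfl N1167 D1670
theorem N1580 : nd 1580 = n1591 := ndS (p := 1167) (l := 6) rfl N1167 (iv F13467)
theorem N1581 : nd 1581 = n1673 := ndS (p := 1168) (l := 5) rfl N1168 D1673
theorem N1582 : nd 1582 = n1674 := ndS (p := 1168) (l := 6) rfl N1168 D1674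
theorem N1583 : nd 1583 = n1676 := ndS (p := 1169) (l := 6) rfl N1169 D1676
theorem N1584 : nd 1584 = n1589 := ndS (p := 1170) (l := 5) rfl N1170 (iv F13469)
theorem N1585 : nd 1585 = n2749 := ndS (p := 1171) (l := 3) rfl N1171 D2749
theorem N1586 : nd 1586 = n2877 := ndS (p := 1172) (l := 1) rfl N1172 D2877
theorem N1587 : nd 1587 = n2879 := ndS (p := 1172) (l := 4) rfl N1172 D2879
theorem N1588 : nd 1588 = n2880 := ndS (p := 1172) (l := 5) rfl N1172 D2880
theorem N1589 : nd 1589 = n5111 := ndS (p := 1176) (l := 2) rfl N1176 D5111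
theorem N1590 : nd 1590 = n3309 := ndS (p := 1177) (l := 2) rfl N1177 (iv F13988)
theorem N1591 : nd 1591 = n5123 := ndS (p := 1178) (l := 2) rfl N1178 D5123
theorem N1592 : nd 1592 = n5124 := ndS (p := 1178) (l := 6) rfl N1178 D5124
theorem N1593 : nd 1593 = n5125 := ndS (p := 1179) (l := 2) rfl N1179 D5125
theorem N1594 : nd 1594 = n5127 := ndS (p := 1179) (l := 5) rfl N1179 D5127
theorem N1595 : nd 1595 = n3161 := ndS (p := 1180) (l := 2) rfl N1180 (iv F5456)
theorem N1596 : nd 1596 = n3164 := ndS (p := 1180) (l := 4) rfl N1180 (iv F5459)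
theorem N1597 : nd 1597 = n3167 := ndS (p := 1180) (l := 5) rfl N1180 D3167
theorem N1598 : nd 1598 = n3174 := ndS (p := 1181) (l := 2) rfl N1181 D3174
theorem N1599 : nd 1599 = n3175 := ndS (p := 1181) (l := 4) rfl N1181 D3175
theorem N1600 : nd 1600 = n3176 := ndS (p := 1181) (l := 5) rfl N1181 D3176
theorem N1601 : nd 1601 = n3178 := ndS (p := 1182) (l := 3) rfl N1182 D3178
theorem N1602 : nd 1602 = n3179 := ndS (p := 1183) (l := 1) rfl N1183 D3179
theorem N1603 : nd 1603 = n3180 := ndS (p := 1183) (l := 4) rfl N1183 D3180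
theorem N1604 : nd 1604 = n3181 := ndS (p := 1183) (l := 5) rfl N1183 D3181
theorem N1605 : nd 1605 = n3184 := ndS (p := 1184) (l := 5) rfl N1184 D3184
theorem N1606 : nd 1606 = n3185 := ndS (p := 1184) (l := 6) rfl N1184 D3185
theorem N1607 : nd 1607 = n3186 := ndS (p := 1185) (l := 6) rfl N1185 D3186
theorem N1608 : nd 1608 = n3187 := ndS (p := 1186) (l := 3) rfl N1186 D3187
theorem N1609 : nd 1609 = n3188 := ndS (p := 1186) (l := 5) rfl N1186 D3188
theorem N1610 : nd 1610 = n3195 := ndS (p := 1188) (l := 2) rfl N1188 D3195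
theorem N1611 : nd 1611 = n3092 := ndS (p := 1188) (l := 6) rfl N1188 F13428
theorem N1612 : nd 1612 = n3200 := ndS (p := 1189) (l := 1) rfl N1189 D3200
theorem N1613 : nd 1613 = n3124 := ndS (p := 1189) (l := 4) rfl N1189 F13370
theorem N1614 : nd 1614 = n3202 := ndS (p := 1189) (l := 5) rfl N1189 D3202
theorem N1615 : nd 1615 = n3116 := ndS (p := 1189) (l := 6) rfl N1189 (iv F13273)
theorem N1616 : nd 1616 = n3129 := ndS (p := 1190) (l := 5) rfl N1190 D3129
theorem N1617 : nd 1617 = n3117 := ndS (p := 1192) (l := 5) rfl N1192 D3117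
theorem N1618 : nd 1618 = n5676 := ndS (p := 1193) (l := 5) rfl N1193 D5676
theorem N1619 : nd 1619 = n3049 := ndS (p := 1195) (l := 5) rfl N1195 (iv F14113)
theorem N1620 : nd 1620 = n5683 := ndS (p := 1196) (l := 3) rfl N1196 D5683
theorem N1621 : nd 1621 = n5684 := ndS (p := 1196) (l := 5) rfl N1196 D5684
theorem N1622 : nd 1622 = n5689 := ndS (p := 1198) (l := 2) rfl N1198 D5689
theorem N1623 : nd 1623 = n5690 := ndS (p := 1198) (l := 5) rfl N1198 D5690
theorem N1624 : nd 1624 = n5692 := ndS (p := 1199) (l := 3) rfl N1199 D5692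
theorem N1625 : nd 1625 = n3079 := ndS (p := 1201) (l := 3) rfl N1201 F13993
theorem N1626 : nd 1626 = n3081 := ndS (p := 1202) (l := 3) rfl N1202 F13998
theorem N1627 : nd 1627 = n5695 := ndS (p := 1203) (l := 2) rfl N1203 D5695
theorem N1628 : nd 1628 = n5696 := ndS (p := 1203) (l := 5) rfl N1203 D5696
theorem N1629 : nd 1629 = n5697 := ndS (p := 1203) (l := 6) rfl N1203 D5697
theorem N1630 : nd 1630 = n3050 := ndS (p := 1206) (l := 3) rfl N1206 D3050
theorem N1631 : nd 1631 = n5701 := ndS (p := 1208) (l := 1) rfl N1208 D5701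
theorem N1632 : nd 1632 = n5702 := ndS (p := 1208) (l := 3) rfl N1208 D5702
theorem N1633 : nd 1633 = n5703 := ndS (p := 1208) (l := 5) rfl N1208 D5703
theorem N1634 : nd 1634 = n5705 := ndS (p := 1209) (l := 6) rfl N1209 D5705
theorem N1635 : nd 1635 = n3290 := ndS (p := 1210) (l := 5) rfl N1210 (iv F13718)
theorem N1636 : nd 1636 = n5710 := ndS (p := 1211) (l := 5) rfl N1211 D5710
theorem N1637 : nd 1637 = n2989 := ndS (p := 1215) (l := 1) rfl N1215 (iv F5238)
theorem N1638 : nd 1638 = n3015 := ndS (p := 1215) (l := 3) rfl N1215 D3015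
theorem N1639 : nd 1639 = n3148 := ndS (p := 1218) (l := 3) rfl N1218 (iv F13912)
theorem N1640 : nd 1640 = n5749 := ndS (p := 1219) (l := 2) rfl N1219 D5749
theorem N1641 : nd 1641 = n3003 := ndS (p := 1219) (l := 6) rfl N1219 F14025
theorem N1642 : nd 1642 = n5389 := ndS (p := 1220) (l := 2) rfl N1220 D5389
theorem N1643 : nd 1643 = n3008 := ndS (p := 1220) (l := 4) rfl N1220 F13557
theorem N1644 : nd 1644 = n1595 := ndS (p := 1221) (l := 3) rfl N1221 (iv F2742)
theorem N1645 : nd 1645 = n5768 := ndS (p := 1223) (l := 2) rfl N1223 D5768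
theorem N1646 : nd 1646 = n1601 := ndS (p := 1224) (l := 2) rfl N1224 (iv F2748)
theorem N1647 : nd 1647 = n1607 := ndS (p := 1224) (l := 5) rfl N1224 D1607
theorem N1648 : nd 1648 = n5780 := ndS (p := 1227) (l := 1) rfl N1227 D5780
theorem N1649 : nd 1649 = n1599 := ndS (p := 1227) (l := 3) rfl N1227 F13439
theorem N1650 : nd 1650 = n3291 := ndS (p := 1227) (l := 5) rfl N1227 (iv F13568)
theorem N1651 : nd 1651 = n1603 := ndS (p := 1229) (l := 5) rfl N1229 D1603
theorem N1652 : nd 1652 = n5791 := ndS (p := 1230) (l := 1) rfl N1230 D5791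
theorem N1653 : nd 1653 = n5793 := ndS (p := 1230) (l := 4) rfl N1230 D5793
theorem N1654 : nd 1654 = n5796 := ndS (p := 1232) (l := 2) rfl N1232 D5796
theorem N1655 : nd 1655 = n5798 := ndS (p := 1232) (l := 5) rfl N1232 D5798
theorem N1656 : nd 1656 = n3075 := ndS (p := 1232) (l := 6) rfl N1232 (iv F5346)
theorem N1657 : nd 1657 = n3237 := ndS (p := 1233) (l := 2) rfl N1233 (iv F14024)
theorem N1658 : nd 1658 = n5800 := ndS (p := 1234) (l := 1) rfl N1234 D5800
theorem N1659 : nd 1659 = n5801 := ndS (p := 1234) (l := 3) rfl N1234 D5801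
theorem N1660 : nd 1660 = n5638 := ndS (p := 1235) (l := 4) rfl N1235 D5638
theorem N1661 : nd 1661 = n5639 := ndS (p := 1235) (l := 5) rfl N1235 D5639
theorem N1662 : nd 1662 = n3168 := ndS (p := 1236) (l := 3) rfl N1236 F14263
theorem N1663 : nd 1663 = n5808 := ndS (p := 1236) (l := 5) rfl N1236 D5808
theorem N1664 : nd 1664 = n5810 := ndS (p := 1237) (l := 6) rfl N1237 D5810
theorem N1665 : nd 1665 = n3347 := ndS (p := 1240) (l := 3) rfl N1240 (iv F5711)
theorem N1666 : nd 1666 = n6191 := ndS (p := 1243) (l := 0) rfl N1243 (iv F14387)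
theorem N1667 : nd 1667 = n1575 := ndS (p := 1243) (l := 3) rfl N1243 (iv D3230)
theorem N1668 : nd 1668 = n6311 := ndS (p := 1243) (l := 4) rfl N1243 D6311
theorem N1669 : nd 1669 = n6312 := ndS (p := 1243) (l := 5) rfl N1243 D6312
theorem N1670 : nd 1670 = n1577 := ndS (p := 1244) (l := 4) rfl N1244 D1577
theorem N1671 : nd 1671 = n1578 := ndS (p := 1244) (l := 5) rfl N1244 D1578
theorem N1672 : nd 1672 = n1579 := ndS (p := 1244) (l := 6) rfl N1244 D1579
theorem N1673 : nd 1673 = n5881 := ndS (p := 1245) (l := 3) rfl N1245 (iv F10452)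
theorem N1674 : nd 1674 = n6321 := ndS (p := 1245) (l := 5) rfl N1245 D6321
theorem N1675 : nd 1675 = n6322 := ndS (p := 1245) (l := 6) rfl N1245 D6322
theorem N1676 : nd 1676 = n6323 := ndS (p := 1246) (l := 3) rfl N1246 D6323
theorem N1677 : nd 1677 = n6325 := ndS (p := 1247) (l := 3) rfl N1247 D6325
theorem N1678 : nd 1678 = n6483 := ndS (p := 1248) (l := 2) rfl N1248 D6483
theorem N1679 : nd 1679 = n3303 := ndS (p := 1248) (l := 6) rfl N1248 (iv F14176)
theorem N1680 : nd 1680 = n6193 := ndS (p := 1252) (l := 1) rfl N1252 (iv F14366)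
theorem N1681 : nd 1681 = n6186 := ndS (p := 1252) (l := 5) rfl N1252 (iv F14335)
theorem N1682 : nd 1682 = n6492 := ndS (p := 1252) (l := 6) rfl N1252 D6492
theorem N1683 : nd 1683 = n6407 := ndS (p := 1256) (l := 1) rfl N1256 (iv F11141)
theorem N1684 : nd 1684 = n6496 := ndS (p := 1256) (l := 4) rfl N1256 D6496
theorem N1685 : nd 1685 = n6497 := ndS (p := 1256) (l := 5) rfl N1256 D6497
theorem N1686 : nd 1686 = n6498 := ndS (p := 1256) (l := 6) rfl N1256 D6498
theorem N1687 : nd 1687 = n6499 := ndS (p := 1257) (l := 5) rfl N1257 D6499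
theorem N1688 : nd 1688 = n6500 := ndS (p := 1257) (l := 6) rfl N1257 D6500
theorem N1689 : nd 1689 = n6502 := ndS (p := 1258) (l := 6) rfl N1258 D6502
theorem N1690 : nd 1690 = n6244 := ndS (p := 1259) (l := 5) rfl N1259 (iv F13585)
theorem N1691 : nd 1691 = n6404 := ndS (p := 1260) (l := 0) rfl N1260 (iv F11138)
theorem N1692 : nd 1692 = n1597 := ndS (p := 1260) (l := 3) rfl N1260 (iv D3280)
theorem N1693 : nd 1693 = n6409 := ndS (p := 1260) (l := 5) rfl N1260 D6409
theorem N1694 : nd 1694 = n6228 := ndS (p := 1260) (l := 6) rfl N1260 (iv F13649)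
theorem N1695 : nd 1695 = n1600 := ndS (p := 1261) (l := 5) rfl N1261 D1600
theorem N1696 : nd 1696 = n6509 := ndS (p := 1265) (l := 3) rfl N1265 D6509
theorem N1697 : nd 1697 = n6510 := ndS (p := 1266) (l := 3) rfl N1266 D6510
theorem N1698 : nd 1698 = n6511 := ndS (p := 1267) (l := 3) rfl N1267 D6511
theorem N1699 : nd 1699 = n3247 := ndS (p := 1272) (l := 2) rfl N1272 (iv F14020)
theorem N1700 : nd 1700 = n5958 := ndS (p := 1272) (l := 6) rfl N1272 D5958
theorem N1701 : nd 1701 = n3080 := ndS (p := 1273) (l := 2) rfl N1273 D3080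
theorem N1702 : nd 1702 = n5624 := ndS (p := 1274) (l := 4) rfl N1274 F14398
theorem N1703 : nd 1703 = n3158 := ndS (p := 1276) (l := 3) rfl N1276 F8280
theorem N1704 : nd 1704 = n5633 := ndS (p := 1276) (l := 4) rfl N1276 F13692
theorem N1705 : nd 1705 = n3159 := ndS (p := 1277) (l := 4) rfl N1277 D3159
theorem N1706 : nd 1706 = n3160 := ndS (p := 1277) (l := 5) rfl N1277 D3160
theorem N1707 : nd 1707 = n6000 := ndS (p := 1278) (l := 3) rfl N1278 F14276
theorem N1708 : nd 1708 = n5653 := ndS (p := 1279) (l := 3) rfl N1279 D5653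
theorem N1709 : nd 1709 = n5651 := ndS (p := 1280) (l := 3) rfl N1280 D5651
theorem N1710 : nd 1710 = n6364 := ndS (p := 1283) (l := 1) rfl N1283 (iv F11090)
theorem N1711 : nd 1711 = n7225 := ndS (p := 1286) (l := 2) rfl N1286 D7225
theorem N1712 : nd 1712 = n6532 := ndS (p := 1286) (l := 5) rfl N1286 F14591
theorem N1713 : nd 1713 = n5850 := ndS (p := 1287) (l := 1) rfl N1287 (iv F10390)
theorem N1714 : nd 1714 = n5897 := ndS (p := 1287) (l := 6) rfl N1287 D5897
theorem N1715 : nd 1715 = n7226 := ndS (p := 1289) (l := 3) rfl N1289 D7226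
theorem N1716 : nd 1716 = n7227 := ndS (p := 1289) (l := 4) rfl N1289 D7227
theorem N1717 : nd 1717 = n7228 := ndS (p := 1289) (l := 5) rfl N1289 D7228
theorem N1718 : nd 1718 = n7229 := ndS (p := 1290) (l := 5) rfl N1290 D7229
theorem N1719 : nd 1719 = n6023 := ndS (p := 1295) (l := 1) rfl N1295 F14578
theorem N1720 : nd 1720 = n6022 := ndS (p := 1295) (l := 3) rfl N1295 (iv F14507)
theorem N1721 : nd 1721 = n7232 := ndS (p := 1295) (l := 6) rfl N1295 D7232
theorem N1722 : nd 1722 = n7233 := ndS (p := 1296) (l := 6) rfl N1296 D7233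
theorem N1723 : nd 1723 = n5964 := ndS (p := 1299) (l := 2) rfl N1299 F14702
theorem N1724 : nd 1724 = n7240 := ndS (p := 1299) (l := 6) rfl N1299 D7240
theorem N1725 : nd 1725 = n3390 := ndS (p := 1300) (l := 1) rfl N1300 D3390
theorem N1726 : nd 1726 = n3380 := ndS (p := 1300) (l := 4) rfl N1300 (iv F5759)
theorem N1727 : nd 1727 = n3392 := ndS (p := 1300) (l := 5) rfl N1300 D3392
theorem N1728 : nd 1728 = n5617 := ndS (p := 1303) (l := 3) rfl N1303 D5617
theorem N1729 : nd 1729 = n6388 := ndS (p := 1306) (l := 2) rfl N1306 (iv F11114)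
theorem N1730 : nd 1730 = n3275 := ndS (p := 1306) (l := 4) rfl N1306 (iv F5607)
theorem N1731 : nd 1731 = n7534 := ndS (p := 1307) (l := 2) rfl N1307 F16299
theorem N1732 : nd 1732 = n7542 := ndS (p := 1309) (l := 1) rfl N1309 F16333
theorem N1733 : nd 1733 = n7515 := ndS (p := 1313) (l := 3) rfl N1313 F16329
theorem N1734 : nd 1734 = n7498 := ndS (p := 1316) (l := 3) rfl N1316 (iv F16004)
theorem N1735 : nd 1735 = n7592 := ndS (p := 1317) (l := 1) rfl N1317 (iv F16409)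
theorem N1736 : nd 1736 = n7370 := ndS (p := 1317) (l := 4) rfl N1317 (iv D7551)
theorem N1737 : nd 1737 = n7362 := ndS (p := 1323) (l := 0) rfl N1323 F16123
theorem N1738 : nd 1738 = n7288 := ndS (p := 1323) (l := 3) rfl N1323 (iv D7523)
theorem N1739 : nd 1739 = n7541 := ndS (p := 1323) (l := 4) rfl N1323 (iv F16195)
theorem N1740 : nd 1740 = n7361 := ndS (p := 1324) (l := 4) rfl N1324 F15688
theorem N1741 : nd 1741 = n7412 := ndS (p := 1324) (l := 5) rfl N1324 F15689
theorem N1742 : nd 1742 = n6176 := ndS (p := 1330) (l := 5) rfl N1330 D6176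
theorem N1743 : nd 1743 = n7256 := ndS (p := 1333) (l := 2) rfl N1333 F16066
theorem N1744 : nd 1744 = n7481 := ndS (p := 1336) (l := 3) rfl N1336 (iv F16201)
theorem N1745 : nd 1745 = n7482 := ndS (p := 1337) (l := 4) rfl N1337 D7482
theorem N1746 : nd 1746 = n7483 := ndS (p := 1337) (l := 5) rfl N1337 D7483
theorem N1747 : nd 1747 = n7484 := ndS (p := 1337) (l := 6) rfl N1337 D7484
theorem N1748 : nd 1748 = n7597 := ndS (p := 1338) (l := 3) rfl N1338 D7597
theorem N1749 : nd 1749 = n6387 := ndS (p := 1339) (l := 6) rfl N1339 F15087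
theorem N1750 : nd 1750 = n7301 := ndS (p := 1341) (l := 5) rfl N1341 F15332
theorem N1751 : nd 1751 = n7354 := ndS (p := 1344) (l := 2) rfl N1344 (iv F15504)
theorem N1752 : nd 1752 = n5373 := ndS (p := 1345) (l := 3) rfl N1345 (iv F14098)
theorem N1753 : nd 1753 = n7397 := ndS (p := 1346) (l := 2) rfl N1346 (iv F15637)
theorem N1754 : nd 1754 = n6381 := ndS (p := 1347) (l := 2) rfl N1347 F14645
theorem N1755 : nd 1755 = n7357 := ndS (p := 1348) (l := 2) rfl N1348 (iv F15514)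
theorem N1756 : nd 1756 = n7270 := ndS (p := 1349) (l := 2) rfl N1349 (iv F15156)
theorem N1757 : nd 1757 = n6728 := ndS (p := 1352) (l := 3) rfl N1352 F13761
theorem N1758 : nd 1758 = n1592 := ndS (p := 1354) (l := 2) rfl N1354 D1592
theorem N1759 : nd 1759 = n6378 := ndS (p := 1355) (l := 1) rfl N1355 (iv F11106)
theorem N1760 : nd 1760 = n6385 := ndS (p := 1355) (l := 4) rfl N1355 (iv F11111)
theorem N1761 : nd 1761 = n7417 := ndS (p := 1357) (l := 2) rfl N1357 (iv F15706)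
theorem N1762 : nd 1762 = n6153 := ndS (p := 1357) (l := 4) rfl N1357 F15319
theorem N1763 : nd 1763 = n3358 := ndS (p := 1359) (l := 4) rfl N1359 (iv F5729)
theorem N1764 : nd 1764 = n7562 := ndS (p := 1360) (l := 1) rfl N1360 (iv F16273)
theorem N1765 : nd 1765 = n7585 := ndS (p := 1362) (l := 0) rfl N1362 F16424
theorem N1766 : nd 1766 = n7561 := ndS (p := 1362) (l := 3) rfl N1362 (iv D7595)
theorem N1767 : nd 1767 = n7563 := ndS (p := 1362) (l := 4) rfl N1362 F16427
theorem N1768 : nd 1768 = n7401 := ndS (p := 1363) (l := 4) rfl N1363 (iv F15642)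
theorem N1769 : nd 1769 = n3226 := ndS (p := 1365) (l := 3) rfl N1365 (iv D6302)
theorem N1770 : nd 1770 = n2995 := ndS (p := 1366) (l := 2) rfl N1366 (iv D5862)
theorem N1771 : nd 1771 = n7313 := ndS (p := 1366) (l := 5) rfl N1366 D7313
theorem N1772 : nd 1772 = n6665 := ndS (p := 1366) (l := 6) rfl N1366 (iv F14492)
theorem N1773 : nd 1773 = n6686 := ndS (p := 1368) (l := 3) rfl N1368 D6686
theorem N1774 : nd 1774 = n6672 := ndS (p := 1369) (l := 6) rfl N1369 F13666
theorem N1775 : nd 1775 = n7588 := ndS (p := 1373) (l := 4) rfl N1373 F16431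
theorem N1776 : nd 1776 = n6001 := ndS (p := 1375) (l := 5) rfl N1375 D6001
theorem N1777 : nd 1777 = n7365 := ndS (p := 1379) (l := 1) rfl N1379 (iv F15537)
theorem N1778 : nd 1778 = n7346 := ndS (p := 1379) (l := 4) rfl N1379 (iv F15473)
theorem N1779 : nd 1779 = n7584 := ndS (p := 1382) (l := 1) rfl N1382 (iv F16371)
theorem N1780 : nd 1780 = n7593 := ndS (p := 1383) (l := 2) rfl N1383 (iv F16415)
theorem N1781 : nd 1781 = n7594 := ndS (p := 1383) (l := 4) rfl N1383 (iv F16422)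
theorem N1782 : nd 1782 = n7591 := ndS (p := 1383) (l := 6) rfl N1383 (iv F16406)
theorem N1783 : nd 1783 = n5966 := ndS (p := 1387) (l := 2) rfl N1387 F14228
theorem N1784 : nd 1784 = n7406 := ndS (p := 1388) (l := 1) rfl N1388 (iv F15656)
theorem N1785 : nd 1785 = n6383 := ndS (p := 1388) (l := 4) rfl N1388 (iv F15254)
theorem N1786 : nd 1786 = n7396 := ndS (p := 1388) (l := 5) rfl N1388 (iv F15631)
theorem N1787 : nd 1787 = n7590 := ndS (p := 1392) (l := 6) rfl N1392 (iv F16402)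
theorem N1788 : nd 1788 = n7545 := ndS (p := 1393) (l := 6) rfl N1393 F16211
theorem N1789 : nd 1789 = n7536 := ndS (p := 1394) (l := 6) rfl N1394 F16355
theorem N1790 : nd 1790 = n7364 := ndS (p := 1395) (l := 5) rfl N1395 (iv D7546)
theorem N1791 : nd 1791 = n7332 := ndS (p := 1403) (l := 2) rfl N1403 D7332
theorem N1792 : nd 1792 = n7284 := ndS (p := 1404) (l := 3) rfl N1404 (iv F15417)
theorem N1793 : nd 1793 = n7276 := ndS (p := 1404) (l := 5) rfl N1404 F15415
theorem N1794 : nd 1794 = n3249 := ndS (p := 1406) (l := 2) rfl N1406 F14169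
theorem N1795 : nd 1795 = n7374 := ndS (p := 1407) (l := 1) rfl N1407 (iv F15563)
theorem N1796 : nd 1796 = n6668 := ndS (p := 1407) (l := 3) rfl N1407 F15368
theorem N1797 : nd 1797 = n6662 := ndS (p := 1409) (l := 0) rfl N1409 D6662
theorem N1798 : nd 1798 = n6663 := ndS (p := 1409) (l := 3) rfl N1409 D6663
theorem N1799 : nd 1799 = n6304 := ndS (p := 1409) (l := 6) rfl N1409 (iv F13663)
theorem N1800 : nd 1800 = n6681 := ndS (p := 1413) (l := 3) rfl N1413 D6681
theorem N1801 : nd 1801 = n6682 := ndS (p := 1414) (l := 3) rfl N1414 D6682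
theorem N1802 : nd 1802 = n7278 := ndS (p := 1416) (l := 2) rfl N1416 D7278
theorem N1803 : nd 1803 = n7279 := ndS (p := 1416) (l := 5) rfl N1416 D7279
theorem N1804 : nd 1804 = n7373 := ndS (p := 1417) (l := 1) rfl N1417 (iv F15558)
theorem N1805 : nd 1805 = n6582 := ndS (p := 1418) (l := 1) rfl N1418 F15314
theorem N1806 : nd 1806 = n7527 := ndS (p := 1418) (l := 3) rfl N1418 D7527
theorem N1807 : nd 1807 = n6151 := ndS (p := 1418) (l := 4) rfl N1418 F15315
theorem N1808 : nd 1808 = n6389 := ndS (p := 1421) (l := 2) rfl N1421 F14611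
theorem N1809 : nd 1809 = n3154 := ndS (p := 1422) (l := 5) rfl N1422 D3154
theorem N1810 : nd 1810 = n6519 := ndS (p := 1424) (l := 6) rfl N1424 F14968
theorem N1811 : nd 1811 = n7491 := ndS (p := 1426) (l := 3) rfl N1426 D7491
theorem N1812 : nd 1812 = n7268 := ndS (p := 1426) (l := 6) rfl N1426 F15150
theorem N1813 : nd 1813 = n3379 := ndS (p := 1428) (l := 2) rfl N1428 (iv F5756)
theorem N1814 : nd 1814 = n7387 := ndS (p := 1436) (l := 1) rfl N1436 (iv F15603)
theorem N1815 : nd 1815 = n3267 := ndS (p := 1436) (l := 5) rfl N1436 (iv D6382)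
theorem N1816 : nd 1816 = n7517 := ndS (p := 1438) (l := 1) rfl N1438 D7517
theorem N1817 : nd 1817 = n7583 := ndS (p := 1441) (l := 0) rfl N1441 D7583
theorem N1818 : nd 1818 = n7544 := ndS (p := 1441) (l := 4) rfl N1441 F16207
theorem N1819 : nd 1819 = n7389 := ndS (p := 1441) (l := 6) rfl N1441 F15923
theorem N1820 : nd 1820 = n7394 := ndS (p := 1443) (l := 6) rfl N1443 F15691
theorem N1821 : nd 1821 = n3268 := ndS (p := 1444) (l := 3) rfl N1444 (iv D6384)
theorem N1822 : nd 1822 = n3140 := ndS (p := 1450) (l := 3) rfl N1450 F14511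
theorem N1823 : nd 1823 = n7275 := ndS (p := 1450) (l := 4) rfl N1450 D7275
theorem N1824 : nd 1824 = n6178 := ndS (p := 1452) (l := 5) rfl N1452 (iv F10837)
theorem N1825 : nd 1825 = n7302 := ndS (p := 1459) (l := 1) rfl N1459 (iv F15300)
theorem N1826 : nd 1826 = n7304 := ndS (p := 1459) (l := 6) rfl N1459 D7304
theorem N1827 : nd 1827 = n3142 := ndS (p := 1462) (l := 4) rfl N1462 D3142
theorem N1828 : nd 1828 = n7298 := ndS (p := 1463) (l := 3) rfl N1463 (iv F15289)
theorem N1829 : nd 1829 = n6574 := ndS (p := 1465) (l := 2) rfl N1465 (iv F14584)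
theorem N1830 : nd 1830 = n6015 := ndS (p := 1465) (l := 5) rfl N1465 (iv F10607)
theorem N1831 : nd 1831 = n6121 := ndS (p := 1466) (l := 2) rfl N1466 (iv F14687)
theorem N1832 : nd 1832 = n3072 := ndS (p := 1467) (l := 6) rfl N1467 (iv F14364)
theorem N1833 : nd 1833 = n3073 := ndS (p := 1469) (l := 5) rfl N1469 D3073
theorem N1834 : nd 1834 = n7309 := ndS (p := 1470) (l := 1) rfl N1470 (iv F15335)
theorem N1835 : nd 1835 = n3011 := ndS (p := 1470) (l := 3) rfl N1470 (iv D5895)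
theorem N1836 : nd 1836 = n7435 := ndS (p := 1474) (l := 1) rfl N1474 (iv F15783)
theorem N1837 : nd 1837 = n7311 := ndS (p := 1478) (l := 4) rfl N1478 F16149
theorem N1838 : nd 1838 = n7310 := ndS (p := 1478) (l := 5) rfl N1478 F16150
theorem N1839 : nd 1839 = n6068 := ndS (p := 1479) (l := 3) rfl N1479 F14610
theorem N1840 : nd 1840 = n3098 := ndS (p := 1480) (l := 3) rfl N1480 (iv D6066)
theorem N1841 : nd 1841 = n7441 := ndS (p := 1483) (l := 3) rfl N1483 (iv F15803)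
theorem N1842 : nd 1842 = n7356 := ndS (p := 1485) (l := 3) rfl N1485 F16115
theorem N1843 : nd 1843 = n7589 := ndS (p := 1488) (l := 6) rfl N1488 (iv F16396)
theorem N1844 : nd 1844 = n3145 := ndS (p := 1490) (l := 3) rfl N1490 (iv D6156)
theorem N1845 : nd 1845 = n6608 := ndS (p := 1490) (l := 4) rfl N1490 F14369
theorem N1846 : nd 1846 = n3242 := ndS (p := 1490) (l := 5) rfl N1490 F14235
theorem N1847 : nd 1847 = n6556 := ndS (p := 1491) (l := 5) rfl N1491 F15066
theorem N1848 : nd 1848 = n7297 := ndS (p := 1492) (l := 6) rfl N1492 (iv F15286)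
theorem N1849 : nd 1849 = n3377 := ndS (p := 1497) (l := 3) rfl N1497 (iv F14345)
theorem N1850 : nd 1850 = n7359 := ndS (p := 1497) (l := 6) rfl N1497 D7359
theorem N1851 : nd 1851 = n7421 := ndS (p := 1500) (l := 3) rfl N1500 (iv F15725)
theorem N1852 : nd 1852 = n3125 := ndS (p := 1501) (l := 2) rfl N1501 (iv F5413)
theorem N1853 : nd 1853 = n6609 := ndS (p := 1502) (l := 1) rfl N1502 (iv F11461)
theorem N1854 : nd 1854 = n6591 := ndS (p := 1502) (l := 4) rfl N1502 (iv F11435)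
theorem N1855 : nd 1855 = n5641 := ndS (p := 1505) (l := 4) rfl N1505 F14255
theorem N1856 : nd 1856 = n6155 := ndS (p := 1508) (l := 3) rfl N1508 (iv F14571)
theorem N1857 : nd 1857 = n7444 := ndS (p := 1509) (l := 3) rfl N1509 (iv F15812)
theorem N1858 : nd 1858 = n6330 := ndS (p := 1510) (l := 2) rfl N1510 (iv F14224)
theorem N1859 : nd 1859 = n3456 := ndS (p := 1510) (l := 4) rfl N1510 (iv D6734)
theorem N1860 : nd 1860 = n7434 := ndS (p := 1510) (l := 5) rfl N1510 (iv F15781)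
theorem N1861 : nd 1861 = n7344 := ndS (p := 1512) (l := 1) rfl N1512 (iv F15468)
theorem N1862 : nd 1862 = n7341 := ndS (p := 1512) (l := 4) rfl N1512 (iv F15459)
theorem N1863 : nd 1863 = n6163 := ndS (p := 1514) (l := 3) rfl N1514 (iv F10820)
theorem N1864 : nd 1864 = n7559 := ndS (p := 1518) (l := 1) rfl N1518 (iv F16257)
theorem N1865 : nd 1865 = n6174 := ndS (p := 1521) (l := 4) rfl N1521 (iv F14306)
theorem N1866 : nd 1866 = n7553 := ndS (p := 1527) (l := 6) rfl N1527 (iv F16236)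
theorem N1867 : nd 1867 = n7339 := ndS (p := 1528) (l := 3) rfl N1528 (iv D7532)
theorem N1868 : nd 1868 = n7572 := ndS (p := 1537) (l := 5) rfl N1537 D7572
theorem N1869 : nd 1869 = n7416 := ndS (p := 1538) (l := 2) rfl N1538 F16041
theorem N1870 : nd 1870 = n7587 := ndS (p := 1538) (l := 5) rfl N1538 D7587
theorem N1871 : nd 1871 = n1570 := ndS (p := 1539) (l := 2) rfl N1539 D1570
theorem N1872 : nd 1872 = n1571 := ndS (p := 1539) (l := 4) rfl N1539 D1571
theorem N1873 : nd 1873 = n1572 := ndS (p := 1539) (l := 5) rfl N1539 D1572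
theorem N1874 : nd 1874 = n1573 := ndS (p := 1539) (l := 6) rfl N1539 D1573
theorem N1875 : nd 1875 = n1574 := ndS (p := 1540) (l := 3) rfl N1540 D1574
theorem N1876 : nd 1876 = n1581 := ndS (p := 1541) (l := 5) rfl N1541 D1581
theorem N1877 : nd 1877 = n1582 := ndS (p := 1541) (l := 6) rfl N1541 D1582
theorem N1878 : nd 1878 = n1583 := ndS (p := 1542) (l := 6) rfl N1542 D1583
theorem N1879 : nd 1879 = n1584 := ndS (p := 1543) (l := 3) rfl N1543 D1584
theorem N1880 : nd 1880 = n1585 := ndS (p := 1543) (l := 5) rfl N1543 D1585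
theorem N1881 : nd 1881 = n2977 := ndS (p := 1545) (l := 4) rfl N1545 D2977
theorem N1882 : nd 1882 = n2978 := ndS (p := 1545) (l := 5) rfl N1545 D2978
theorem N1883 : nd 1883 = n2986 := ndS (p := 1547) (l := 3) rfl N1547 D2986
theorem N1884 : nd 1884 = n2987 := ndS (p := 1547) (l := 5) rfl N1547 D2987
theorem N1885 : nd 1885 = n2992 := ndS (p := 1549) (l := 2) rfl N1549 D2992
theorem N1886 : nd 1886 = n2993 := ndS (p := 1549) (l := 5) rfl N1549 D2993
theorem N1887 : nd 1887 = n2994 := ndS (p := 1549) (l := 6) rfl N1549 D2994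
theorem N1888 : nd 1888 = n3010 := ndS (p := 1551) (l := 2) rfl N1551 D3010
theorem N1889 : nd 1889 = n3012 := ndS (p := 1551) (l := 6) rfl N1551 D3012
theorem N1890 : nd 1890 = n3017 := ndS (p := 1555) (l := 1) rfl N1555 D3017
theorem N1891 : nd 1891 = n3018 := ndS (p := 1555) (l := 3) rfl N1555 D3018
theorem N1892 : nd 1892 = n3019 := ndS (p := 1555) (l := 5) rfl N1555 D3019
theorem N1893 : nd 1893 = n3020 := ndS (p := 1555) (l := 6) rfl N1555 D3020
theorem N1894 : nd 1894 = n3021 := ndS (p := 1556) (l := 6) rfl N1556 D3021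
theorem N1895 : nd 1895 = n3023 := ndS (p := 1557) (l := 5) rfl N1557 D3023
theorem N1896 : nd 1896 = n3026 := ndS (p := 1558) (l := 5) rfl N1558 D3026
theorem N1897 : nd 1897 = n3078 := ndS (p := 1561) (l := 2) rfl N1561 D3078
theorem N1898 : nd 1898 = n3123 := ndS (p := 1562) (l := 1) rfl N1562 D3123
theorem N1899 : nd 1899 = n3147 := ndS (p := 1564) (l := 5) rfl N1564 D3147
theorem N1900 : nd 1900 = n3149 := ndS (p := 1565) (l := 2) rfl N1565 D3149
theorem N1901 : nd 1901 = n3150 := ndS (p := 1566) (l := 1) rfl N1566 D3150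
theorem N1902 : nd 1902 = n3163 := ndS (p := 1567) (l := 5) rfl N1567 D3163
theorem N1903 : nd 1903 = n3165 := ndS (p := 1568) (l := 6) rfl N1568 D3165
theorem N1904 : nd 1904 = n3370 := ndS (p := 1570) (l := 4) rfl N1570 D3370
theorem N1905 : nd 1905 = n3372 := ndS (p := 1570) (l := 6) rfl N1570 D3372
theorem N1906 : nd 1906 = n3373 := ndS (p := 1571) (l := 3) rfl N1571 D3373
theorem N1907 : nd 1907 = n3374 := ndS (p := 1571) (l := 5) rfl N1571 D3374
theorem N1908 : nd 1908 = n3375 := ndS (p := 1571) (l := 6) rfl N1571 D3375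
theorem N1909 : nd 1909 = n3376 := ndS (p := 1572) (l := 3) rfl N1572 D3376
theorem N1910 : nd 1910 = n3437 := ndS (p := 1577) (l := 0) rfl N1577 D3437
theorem N1911 : nd 1911 = n3439 := ndS (p := 1577) (l := 5) rfl N1577 D3439
theorem N1912 : nd 1912 = n3228 := ndS (p := 1577) (l := 6) rfl N1577 (iv F13521)
theorem N1913 : nd 1913 = n3451 := ndS (p := 1581) (l := 3) rfl N1581 D3451
theorem N1914 : nd 1914 = n3452 := ndS (p := 1582) (l := 3) rfl N1582 D3452
theorem N1915 : nd 1915 = n5372 := ndS (p := 1585) (l := 2) rfl N1585 D5372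
theorem N1916 : nd 1916 = n7271 := ndS (p := 1591) (l := 1) rfl N1591 D7271
theorem N1917 : nd 1917 = n7272 := ndS (p := 1591) (l := 6) rfl N1591 D7272
theorem N1918 : nd 1918 = n7273 := ndS (p := 1593) (l := 3) rfl N1593 D7273
theorem N1919 : nd 1919 = n7274 := ndS (p := 1593) (l := 5) rfl N1593 D7274
theorem N1920 : nd 1920 = n6189 := ndS (p := 1595) (l := 4) rfl N1595 (iv F10850)
theorem N1921 : nd 1921 = n6217 := ndS (p := 1598) (l := 3) rfl N1598 D6217
theorem N1922 : nd 1922 = n6218 := ndS (p := 1598) (l := 4) rfl N1598 D6218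
theorem N1923 : nd 1923 = n6219 := ndS (p := 1598) (l := 5) rfl N1598 D6219
theorem N1924 : nd 1924 = n6221 := ndS (p := 1599) (l := 5) rfl N1599 D6221
theorem N1925 : nd 1925 = n6223 := ndS (p := 1600) (l := 6) rfl N1600 D6223
theorem N1926 : nd 1926 = n6226 := ndS (p := 1601) (l := 2) rfl N1601 D6226
theorem N1927 : nd 1927 = n5906 := ndS (p := 1602) (l := 4) rfl N1602 (iv F10473)
theorem N1928 : nd 1928 = n6229 := ndS (p := 1602) (l := 5) rfl N1602 D6229
theorem N1929 : nd 1929 = n5911 := ndS (p := 1603) (l := 5) rfl N1603 (iv F10479)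
theorem N1930 : nd 1930 = n6232 := ndS (p := 1604) (l := 3) rfl N1604 D6232
theorem N1931 : nd 1931 = n6233 := ndS (p := 1604) (l := 6) rfl N1604 D6233
theorem N1932 : nd 1932 = n3293 := ndS (p := 1609) (l := 3) rfl N1609 F14018
theorem N1933 : nd 1933 = n6247 := ndS (p := 1610) (l := 1) rfl N1610 D6247
theorem N1934 : nd 1934 = n6102 := ndS (p := 1612) (l := 0) rfl N1612 (iv F10746)
theorem N1935 : nd 1935 = n6116 := ndS (p := 1612) (l := 4) rfl N1612 (iv F10761)
theorem N1936 : nd 1936 = n6260 := ndS (p := 1612) (l := 5) rfl N1612 D6260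
theorem N1937 : nd 1937 = n6120 := ndS (p := 1613) (l := 5) rfl N1613 D6120
theorem N1938 : nd 1938 = n3253 := ndS (p := 1615) (l := 5) rfl N1615 (iv F13759)
theorem N1939 : nd 1939 = n5962 := ndS (p := 1619) (l := 3) rfl N1619 D5962
theorem N1940 : nd 1940 = n7285 := ndS (p := 1620) (l := 2) rfl N1620 D7285
theorem N1941 : nd 1941 = n7286 := ndS (p := 1620) (l := 5) rfl N1620 D7286
theorem N1942 : nd 1942 = n6414 := ndS (p := 1622) (l := 5) rfl N1622 (iv F14484)
theorem N1943 : nd 1943 = n7287 := ndS (p := 1623) (l := 6) rfl N1623 D7287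
theorem N1944 : nd 1944 = n7289 := ndS (p := 1624) (l := 5) rfl N1624 D7289
theorem N1945 : nd 1945 = n3229 := ndS (p := 1627) (l := 1) rfl N1627 (iv F10064)
theorem N1946 : nd 1946 = n7290 := ndS (p := 1627) (l := 5) rfl N1627 D7290
theorem N1947 : nd 1947 = n7291 := ndS (p := 1631) (l := 3) rfl N1631 D7291
theorem N1948 : nd 1948 = n6426 := ndS (p := 1631) (l := 5) rfl N1631 (iv F14478)
theorem N1949 : nd 1949 = n3238 := ndS (p := 1633) (l := 3) rfl N1633 F10082
theorem N1950 : nd 1950 = n6308 := ndS (p := 1633) (l := 6) rfl N1633 F14480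
theorem N1951 : nd 1951 = n5852 := ndS (p := 1637) (l := 3) rfl N1637 D5852
theorem N1952 : nd 1952 = n6159 := ndS (p := 1639) (l := 2) rfl N1639 (iv F10813)
theorem N1953 : nd 1953 = n7282 := ndS (p := 1642) (l := 1) rfl N1642 D7282
theorem N1954 : nd 1954 = n3270 := ndS (p := 1644) (l := 2) rfl N1644 (iv F5597)
theorem N1955 : nd 1955 = n7300 := ndS (p := 1645) (l := 1) rfl N1645 D7300
theorem N1956 : nd 1956 = n3279 := ndS (p := 1646) (l := 1) rfl N1646 (iv F13574)
theorem N1957 : nd 1957 = n3281 := ndS (p := 1648) (l := 0) rfl N1648 (iv F10254)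
theorem N1958 : nd 1958 = n6415 := ndS (p := 1648) (l := 5) rfl N1648 F13581
theorem N1959 : nd 1959 = n3288 := ndS (p := 1649) (l := 5) rfl N1649 D3288
theorem N1960 : nd 1960 = n6429 := ndS (p := 1650) (l := 3) rfl N1650 D6429
theorem N1961 : nd 1961 = n7303 := ndS (p := 1652) (l := 4) rfl N1652 D7303
theorem N1962 : nd 1962 = n7307 := ndS (p := 1654) (l := 5) rfl N1654 D7307
theorem N1963 : nd 1963 = n6017 := ndS (p := 1654) (l := 6) rfl N1654 (iv F10610)
theorem N1964 : nd 1964 = n6014 := ndS (p := 1656) (l := 5) rfl N1656 (iv F10606)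
theorem N1965 : nd 1965 = n5913 := ndS (p := 1657) (l := 1) rfl N1657 (iv F14457)
theorem N1966 : nd 1966 = n5907 := ndS (p := 1659) (l := 6) rfl N1659 (iv F14528)
theorem N1967 : nd 1967 = n3232 := ndS (p := 1667) (l := 5) rfl N1667 D3232
theorem N1968 : nd 1968 = n7314 := ndS (p := 1668) (l := 3) rfl N1668 (iv F15354)
theorem N1969 : nd 1969 = n3240 := ndS (p := 1671) (l := 3) rfl N1671 D3240
theorem N1970 : nd 1970 = n3241 := ndS (p := 1671) (l := 6) rfl N1671 D3241
theorem N1971 : nd 1971 = n3243 := ndS (p := 1672) (l := 5) rfl N1672 D3243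
theorem N1972 : nd 1972 = n6735 := ndS (p := 1676) (l := 2) rfl N1676 F14225
theorem N1973 : nd 1973 = n6584 := ndS (p := 1676) (l := 4) rfl N1676 (iv F14218)
theorem N1974 : nd 1974 = n6185 := ndS (p := 1678) (l := 6) rfl N1678 (iv F14331)
theorem N1975 : nd 1975 = n6188 := ndS (p := 1680) (l := 6) rfl N1680 F10855
theorem N1976 : nd 1976 = n7405 := ndS (p := 1683) (l := 0) rfl N1683 (iv F15652)
theorem N1977 : nd 1977 = n7407 := ndS (p := 1683) (l := 5) rfl N1683 D7407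
theorem N1978 : nd 1978 = n7363 := ndS (p := 1683) (l := 6) rfl N1683 F15535
theorem N1979 : nd 1979 = n7411 := ndS (p := 1684) (l := 5) rfl N1684 D7411
theorem N1980 : nd 1980 = n7415 := ndS (p := 1687) (l := 3) rfl N1687 D7415
theorem N1981 : nd 1981 = n3266 := ndS (p := 1692) (l := 2) rfl N1692 (iv F5594)
theorem N1982 : nd 1982 = n3282 := ndS (p := 1692) (l := 5) rfl N1692 D3282
theorem N1983 : nd 1983 = n7418 := ndS (p := 1696) (l := 2) rfl N1696 D7418
theorem N1984 : nd 1984 = n7419 := ndS (p := 1696) (l := 6) rfl N1696 D7419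
theorem N1985 : nd 1985 = n7420 := ndS (p := 1697) (l := 5) rfl N1697 D7420
theorem N1986 : nd 1986 = n6294 := ndS (p := 1699) (l := 1) rfl N1699 (iv F11006)
theorem N1987 : nd 1987 = n6341 := ndS (p := 1699) (l := 6) rfl N1699 D6341
theorem N1988 : nd 1988 = n6025 := ndS (p := 1701) (l := 1) rfl N1701 D6025
theorem N1989 : nd 1989 = n7283 := ndS (p := 1702) (l := 3) rfl N1702 (iv F15207)
theorem N1990 : nd 1990 = n7426 := ndS (p := 1711) (l := 5) rfl N1711 (iv F15750)
theorem N1991 : nd 1991 = n6290 := ndS (p := 1713) (l := 6) rfl N1713 (iv F14470)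
theorem N1992 : nd 1992 = n7504 := ndS (p := 1716) (l := 5) rfl N1716 D7504
theorem N1993 : nd 1993 = n6581 := ndS (p := 1719) (l := 6) rfl N1719 (iv F14707)
theorem N1994 : nd 1994 = n6573 := ndS (p := 1720) (l := 6) rfl N1720 F14527
theorem N1995 : nd 1995 = n6012 := ndS (p := 1721) (l := 3) rfl N1721 F15027
theorem N1996 : nd 1996 = n7320 := ndS (p := 1723) (l := 1) rfl N1723 (iv F15379)
theorem N1997 : nd 1997 = n7392 := ndS (p := 1729) (l := 1) rfl N1729 (iv F15614)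
theorem N1998 : nd 1998 = n6390 := ndS (p := 1729) (l := 4) rfl N1729 (iv F11117)
theorem N1999 : nd 1999 = n7554 := ndS (p := 1731) (l := 1) rfl N1731 (iv F16238)
theorem N2000 : nd 2000 = n7548 := ndS (p := 1735) (l := 4) rfl N1735 (iv D7592)
theorem N2001 : nd 2001 = n7524 := ndS (p := 1738) (l := 5) rfl N1738 D7524
theorem N2002 : nd 2002 = n7391 := ndS (p := 1745) (l := 6) rfl N1745 (iv F15946)
theorem N2003 : nd 2003 = n7526 := ndS (p := 1747) (l := 5) rfl N1747 F16141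
theorem N2004 : nd 2004 = n6425 := ndS (p := 1752) (l := 2) rfl N1752 F14706
theorem N2005 : nd 2005 = n7557 := ndS (p := 1753) (l := 1) rfl N1753 (iv F16248)
theorem N2006 : nd 2006 = n7319 := ndS (p := 1754) (l := 1) rfl N1754 (iv F15376)
theorem N2007 : nd 2007 = n7443 := ndS (p := 1755) (l := 3) rfl N1755 (iv F15808)
theorem N2008 : nd 2008 = n7445 := ndS (p := 1757) (l := 2) rfl N1757 (iv F15816)
theorem N2009 : nd 2009 = n7386 := ndS (p := 1759) (l := 0) rfl N1759 (iv F15599)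
theorem N2010 : nd 2010 = n7390 := ndS (p := 1759) (l := 4) rfl N1759 (iv F15610)
theorem N2011 : nd 2011 = n7558 := ndS (p := 1766) (l := 4) rfl N1766 F16271
theorem N2012 : nd 2012 = n6297 := ndS (p := 1769) (l := 6) rfl N1769 (iv F11011)
theorem N2013 : nd 2013 = n5864 := ndS (p := 1770) (l := 5) rfl N1770 D5864
theorem N2014 : nd 2014 = n7375 := ndS (p := 1777) (l := 0) rfl N1777 (iv F15567)
theorem N2015 : nd 2015 = n7535 := ndS (p := 1777) (l := 4) rfl N1777 (iv F16174)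
theorem N2016 : nd 2016 = n7321 := ndS (p := 1783) (l := 1) rfl N1783 (iv F15383)
theorem N2017 : nd 2017 = n7560 := ndS (p := 1784) (l := 0) rfl N1784 (iv F16262)
theorem N2018 : nd 2018 = n7388 := ndS (p := 1784) (l := 4) rfl N1784 F15659
theorem N2019 : nd 2019 = n6296 := ndS (p := 1794) (l := 1) rfl N1794 (iv F11009)
theorem N2020 : nd 2020 = n7371 := ndS (p := 1795) (l := 0) rfl N1795 F15562
theorem N2021 : nd 2021 = n7372 := ndS (p := 1798) (l := 2) rfl N1798 (iv F15554)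
theorem N2022 : nd 2022 = n7355 := ndS (p := 1805) (l := 4) rfl N1805 (iv F15509)
theorem N2023 : nd 2023 = n7385 := ndS (p := 1808) (l := 1) rfl N1808 (iv F15596)
theorem N2024 : nd 2024 = n6376 := ndS (p := 1814) (l := 5) rfl N1814 (iv D7387)
theorem N2025 : nd 2025 = n7531 := ndS (p := 1818) (l := 6) rfl N1818 F16205
theorem N2026 : nd 2026 = n6377 := ndS (p := 1819) (l := 3) rfl N1819 (iv D7389)
theorem N2027 : nd 2027 = n7352 := ndS (p := 1831) (l := 1) rfl N1831 (iv F15495)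
theorem N2028 : nd 2028 = n5848 := ndS (p := 1834) (l := 3) rfl N1834 (iv D7309)
theorem N2029 : nd 2029 = n5893 := ndS (p := 1835) (l := 2) rfl N1835 (iv F10461)
theorem N2030 : nd 2030 = n7343 := ndS (p := 1837) (l := 3) rfl N1837 (iv F15465)
theorem N2031 : nd 2031 = n6065 := ndS (p := 1838) (l := 3) rfl N1838 (iv F15339)
theorem N2032 : nd 2032 = n6158 := ndS (p := 1844) (l := 5) rfl N1844 D6158
theorem N2033 : nd 2033 = n7315 := ndS (p := 1851) (l := 2) rfl N1851 F15724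
theorem N2034 : nd 2034 = n6118 := ndS (p := 1852) (l := 1) rfl N1852 (iv F10763)
theorem N2035 : nd 2035 = n7333 := ndS (p := 1858) (l := 1) rfl N1858 F15429
theorem N2036 : nd 2036 = n6317 := ndS (p := 1863) (l := 2) rfl N1863 F14568
theorem N2037 : nd 2037 = n3219 := ndS (p := 1871) (l := 5) rfl N1871 D3219
theorem N2038 : nd 2038 = n3221 := ndS (p := 1872) (l := 5) rfl N1872 D3221
theorem N2039 : nd 2039 = n3223 := ndS (p := 1873) (l := 6) rfl N1873 D3223
theorem N2040 : nd 2040 = n3224 := ndS (p := 1874) (l := 3) rfl N1874 D3224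
theorem N2041 : nd 2041 = n3225 := ndS (p := 1874) (l := 5) rfl N1874 D3225
theorem N2042 : nd 2042 = n5861 := ndS (p := 1887) (l := 5) rfl N1887 D5861
theorem N2043 : nd 2043 = n5914 := ndS (p := 1893) (l := 5) rfl N1893 D5914
theorem N2044 : nd 2044 = n6164 := ndS (p := 1900) (l := 1) rfl N1900 D6164
theorem N2045 : nd 2045 = n6726 := ndS (p := 1913) (l := 2) rfl N1913 D6726
theorem N2046 : nd 2046 = n6729 := ndS (p := 1914) (l := 5) rfl N1914 D6729
theorem N2047 : nd 2047 = n7281 := ndS (p := 1915) (l := 1) rfl N1915 D7281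
theorem N2048 : nd 2048 = n7522 := ndS (p := 1916) (l := 6) rfl N1916 D7522
theorem N2049 : nd 2049 = n7360 := ndS (p := 1921) (l := 2) rfl N1921 D7360
theorem N2050 : nd 2050 = n6405 := ndS (p := 1923) (l := 3) rfl N1923 (iv F14483)
theorem N2051 : nd 2051 = n6300 := ndS (p := 1934) (l := 5) rfl N1934 F14771
theorem N2052 : nd 2052 = n7351 := ndS (p := 1935) (l := 5) rfl N1935 D7351
theorem N2053 : nd 2053 = n6375 := ndS (p := 1954) (l := 1) rfl N1954 (iv F13711)
theorem N2054 : nd 2054 = n6412 := ndS (p := 1957) (l := 5) rfl N1957 D6412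
theorem N2055 : nd 2055 = n7409 := ndS (p := 1958) (l := 3) rfl N1958 D7409
theorem N2056 : nd 2056 = n7567 := ndS (p := 1983) (l := 6) rfl N1983 D7567
theorem N2057 : nd 2057 = n7408 := ndS (p := 2004) (l := 1) rfl N2004 (iv F15666)

theorem Q1 : ∀ i, i < 1 → P i := stepQ 0 Q0 (allL N0 (tt N0 F1) (tt N1 D1) (tt N0 F2) (tt N0 F3) (tt N0 F4) (tt N0 F5) (tt N2 D21))
theorem Q2 : ∀ i, i < 2 → P i := stepQ 1 Q1 (allL N1 (tt N1 F6) (tt N0 (iv D1)) (tt N3 D2) (tt N1 F7) (tt N1 F8) (tt N1 F9) (tt N4 D22))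
theorem Q3 : ∀ i, i < 3 → P i := stepQ 2 Q2 (allL N2 (tt N2 F40) (tt N4 (iv F45)) (tt N2 F41) (tt N5 D54) (tt N2 F42) (tt N2 F43) (tt N0 (iv D21)))
theorem Q4 : ∀ i, i < 4 → P i := stepQ 3 Q3 (allL N3 (tt N3 F16) (tt N3 F11) (tt N1 (iv D2)) (tt N6 (iv F19)) (tt N3 F17) (tt N3 F39) (tt N7 D23))
theorem Q5 : ∀ i, i < 5 → P i := stepQ 4 Q4 (allL N4 (tt N4 F44) (tt N2 F45) (tt N7 (iv F50)) (tt N8 D55) (tt N4 F46) (tt N4 F47) (tt N1 (iv D22)))
theorem Q6 : ∀ i, i < 6 → P i := stepQ 5 Q5 (allL N5 (tt N5 F128) (tt N8 (iv F131)) (tt N9 D104) (tt N2 (iv D54)) (tt N10 D105) (tt N11 D106) (tt N5 F129))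
theorem Q7 : ∀ i, i < 7 → P i := stepQ 6 Q6 (allL N6 (tt N6 F32) (tt N6 F18) (tt N12 D6) (tt N3 F19) (tt N13 (iv F22)) (tt N14 D24) (tt N6 F12979))
theorem Q8 : ∀ i, i < 8 → P i := stepQ 7 Q7 (allL N7 (tt N7 F48) (tt N7 F49) (tt N4 F50) (tt N7 F12930) (tt N7 F51) (tt N7 F52) (tt N3 (iv D23)))
theorem Q9 : ∀ i, i < 9 → P i := stepQ 8 Q8 (allL N8 (tt N8 F130) (tt N5 F131) (tt N15 D107) (tt N4 (iv D55)) (tt N16 D108) (tt N17 D109) (tt N8 F132))
theorem Q10 : ∀ i, i < 10 → P i := stepQ 9 Q9 (allL N9 (tt N9 F244) (tt N18 D211) (tt N5 (iv D104)) (tt N19 D212) (tt N20 D213) (tt N21 D214) (tt N9 F245))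
theorem Q11 : ∀ i, i < 11 → P i := stepQ 10 Q10 (allL N10 (tt N10 F246) (tt N16 (iv F254)) (tt N20 (iv F432)) (tt N10 F247) (tt N5 (iv D105)) (tt N22 D215) (tt N10 F248))
theorem Q12 : ∀ i, i < 12 → P i := stepQ 11 Q11 (allL N11 (tt N11 F249) (tt N17 (iv F258)) (tt N21 (iv F435)) (tt N11 F250) (tt N22 (iv F437)) (tt N5 (iv D106)) (tt N22 (iv F438)))
theorem Q13 : ∀ i, i < 13 → P i := stepQ 12 Q12 (allL N12 (tt N12 F33) (tt N23 D7) (tt N6 (iv D6)) (tt N24 D26) (tt N25 (iv F23)) (tt N26 D27) (tt N12 F12915))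
theorem Q14 : ∀ i, i < 14 → P i := stepQ 13 Q13 (allL N13 (tt N13 F34) (tt N13 F21) (tt N25 (iv D18)) (tt N13 F24) (tt N6 F22) (tt N27 D52) (tt N13 F12897))
theorem Q15 : ∀ i, i < 15 → P i := stepQ 14 Q14 (allL N14 (tt N14 F53) (tt N14 F54) (tt N26 (iv F61)) (tt N14 F55) (tt N27 (iv F123)) (tt N6 (iv D24)) (tt N27 (iv F12980)))
theorem Q16 : ∀ i, i < 16 → P i := stepQ 15 Q15 (allL N15 (tt N15 F251) (tt N28 D216) (tt N8 (iv D107)) (tt N29 D217) (tt N30 D218) (tt N31 D219) (tt N15 F252))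
theorem Q17 : ∀ i, i < 17 → P i := stepQ 16 Q16 (allL N16 (tt N16 F253) (tt N10 F254) (tt N30 (iv F443)) (tt N16 F255) (tt N8 (iv D108)) (tt N32 D220) (tt N16 F256))
theorem Q18 : ∀ i, i < 18 → P i := stepQ 17 Q17 (allL N17 (tt N17 F257) (tt N11 F258) (tt N31 (iv F446)) (tt N17 F259) (tt N32 (iv F449)) (tt N8 (iv D109)) (tt N32 (iv F450)))
theorem Q19 : ∀ i, i < 19 → P i := stepQ 18 Q18 (allL N18 (tt N33 D436) (tt N9 (iv D211)) (tt N28 (iv F439)) (tt N34 D437) (tt N33 F843) (tt N35 D438) (tt N18 F429))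
theorem Q20 : ∀ i, i < 20 → P i := stepQ 19 Q19 (allL N19 (tt N19 F430) (tt N34 (iv F844)) (tt N36 D439) (tt N9 (iv D212)) (tt N37 D440) (tt N38 D441) (tt N36 (iv F864)))
theorem Q21 : ∀ i, i < 21 → P i := stepQ 20 Q20 (allL N20 (tt N20 F431) (tt N33 (iv F842)) (tt N10 F432) (tt N38 (iv F858)) (tt N9 (iv D213)) (tt N39 D444) (tt N20 F433))
theorem Q22 : ∀ i, i < 22 → P i := stepQ 21 Q21 (allL N21 (tt N21 F434) (tt N35 (iv F845)) (tt N11 F435) (tt N39 F857) (tt N39 (iv F855)) (tt N9 (iv D214)) (tt N39 (iv F856)))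
theorem Q23 : ∀ i, i < 23 → P i := stepQ 22 Q22 (allL N22 (tt N22 F436) (tt N32 (iv F448)) (tt N39 (iv F854)) (tt N40 D445) (tt N11 F437) (tt N10 (iv D215)) (tt N11 F438))
theorem Q24 : ∀ i, i < 24 → P i := stepQ 23 Q23 (allL N23 (tt N41 F35) (tt N12 (iv D7)) (tt N23 F31) (tt N42 D29) (tt N41 D8) (tt N43 D30) (tt N23 F12916))
theorem Q25 : ∀ i, i < 25 → P i := stepQ 24 Q24 (allL N24 (tt N24 F58) (tt N42 (iv F65)) (tt N24 F59) (tt N12 (iv D26)) (tt N44 (iv F100)) (tt N45 D60) (tt N46 D61))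
theorem Q26 : ∀ i, i < 26 → P i := stepQ 25 Q25 (allL N25 (tt N25 F36) (tt N41 (iv F25)) (tt N13 D18) (tt N47 (iv D17)) (tt N12 F23) (tt N48 D50) (tt N25 F12978))
theorem Q27 : ∀ i, i < 27 → P i := stepQ 26 Q26 (allL N26 (tt N26 F60) (tt N43 (iv F66)) (tt N14 F61) (tt N49 D62) (tt N48 (iv F116)) (tt N12 (iv D27)) (tt N48 F13020))
theorem Q28 : ∀ i, i < 28 → P i := stepQ 27 Q27 (allL N27 (tt N27 F120) (tt N27 F121) (tt N48 F122) (tt N50 D102) (tt N14 F123) (tt N13 (iv D52)) (tt N14 F12980))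
theorem Q29 : ∀ i, i < 29 → P i := stepQ 28 Q28 (allL N28 (tt N51 D446) (tt N15 (iv D216)) (tt N18 F439) (tt N52 D447) (tt N51 F868) (tt N53 D448) (tt N28 F440))
theorem Q30 : ∀ i, i < 30 → P i := stepQ 29 Q29 (allL N29 (tt N29 F441) (tt N52 (iv F869)) (tt N29 F13050) (tt N15 (iv D217)) (tt N54 D450) (tt N55 (iv F13198)) (tt N56 D452))
theorem Q31 : ∀ i, i < 31 → P i := stepQ 30 Q30 (allL N30 (tt N30 F442) (tt N51 (iv F867)) (tt N16 F443) (tt N57 D453) (tt N15 (iv D218)) (tt N58 D454) (tt N30 F444))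
theorem Q32 : ∀ i, i < 32 → P i := stepQ 31 Q31 (allL N31 (tt N31 F445) (tt N53 (iv F870)) (tt N17 F446) (tt N59 (iv F13346)) (tt N58 (iv F880)) (tt N15 (iv D219)) (tt N58 (iv F881)))
theorem Q33 : ∀ i, i < 33 → P i := stepQ 32 Q32 (allL N32 (tt N32 F447) (tt N22 F448) (tt N58 (iv F879)) (tt N60 D456) (tt N17 F449) (tt N16 (iv D220)) (tt N17 F450))
theorem Q34 : ∀ i, i < 34 → P i := stepQ 33 Q33 (allL N33 (tt N18 (iv D436)) (tt N20 F842) (tt N51 (iv F865)) (tt N61 D917) (tt N18 (iv F843)) (tt N62 D918) (tt N33 F841))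
theorem Q35 : ∀ i, i < 35 → P i := stepQ 34 Q34 (allL N34 (tt N61 (iv F1660)) (tt N19 F844) (tt N63 D919) (tt N18 (iv D437)) (tt N64 D920) (tt N61 F1662) (tt N65 D921))
theorem Q36 : ∀ i, i < 36 → P i := stepQ 35 Q35 (allL N35 (tt N62 (iv F1663)) (tt N21 F845) (tt N53 (iv F871)) (tt N62 (iv F1665)) (tt N62 (iv F1666)) (tt N18 (iv D438)) (tt N62 (iv F1667)))
theorem Q37 : ∀ i, i < 37 → P i := stepQ 36 Q36 (allL N36 (tt N36 F846) (tt N65 (iv F1669)) (tt N19 (iv D439)) (tt N36 F847) (tt N66 D922) (tt N67 D923) (tt N19 F864))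
theorem Q38 : ∀ i, i < 38 → P i := stepQ 37 Q37 (allL N37 (tt N37 F848) (tt N64 (iv F1668)) (tt N66 (iv F1672)) (tt N68 D924) (tt N19 (iv D440)) (tt N68 F1678) (tt N66 (iv F1673)))
theorem Q39 : ∀ i, i < 39 → P i := stepQ 38 Q38 (allL N38 (tt N38 F849) (tt N61 (iv F1661)) (tt N67 (iv F1675)) (tt N20 F858) (tt N68 (iv F1677)) (tt N19 (iv D441)) (tt N69 D925))
theorem Q40 : ∀ i, i < 40 → P i := stepQ 39 Q39 (allL N39 (tt N39 F853) (tt N62 (iv F1664)) (tt N22 F854) (tt N21 (iv F857)) (tt N21 F855) (tt N20 (iv D444)) (tt N21 F856))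
theorem Q41 : ∀ i, i < 41 → P i := stepQ 40 Q40 (allL N40 (tt N40 F859) (tt N60 (iv F884)) (tt N40 F863) (tt N22 (iv D445)) (tt N40 F860) (tt N40 F861) (tt N40 F862))
theorem Q42 : ∀ i, i < 42 → P i := stepQ 41 Q41 (allL N41 (tt N23 (iv F35)) (tt N25 F25) (tt N41 F26) (tt N70 D9) (tt N23 (iv D8)) (tt N71 D32) (tt N41 F12965))
theorem Q43 : ∀ i, i < 43 → P i := stepQ 42 Q42 (allL N42 (tt N70 F64) (tt N24 F65) (tt N72 (iv F76)) (tt N23 (iv D29)) (tt N73 (iv F92)) (tt N74 D66) (tt N75 D67))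
theorem Q44 : ∀ i, i < 44 → P i := stepQ 43 Q43 (allL N43 (tt N71 (iv F70)) (tt N26 F66) (tt N43 F67) (tt N76 D68) (tt N71 (iv F72)) (tt N23 (iv D30)) (tt N71 F13034))
theorem Q45 : ∀ i, i < 45 → P i := stepQ 44 Q44 (allL N44 (tt N44 F98) (tt N73 F99) (tt N44 F101) (tt N77 (iv D45)) (tt N24 F100) (tt N78 D92) (tt N79 D93))
theorem Q46 : ∀ i, i < 46 → P i := stepQ 45 Q45 (allL N45 (tt N45 F145) (tt N74 (iv F159)) (tt N45 F146) (tt N80 D118) (tt N78 (iv F210)) (tt N24 (iv D60)) (tt N81 D119))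
theorem Q47 : ∀ i, i < 47 → P i := stepQ 46 Q46 (allL N46 (tt N46 F147) (tt N75 (iv F161)) (tt N46 F148) (tt N46 F12847) (tt N79 (iv F214)) (tt N82 D121) (tt N24 (iv D61)))
theorem Q48 : ∀ i, i < 48 → P i := stepQ 47 Q47 (allL N47 (tt N47 F37) (tt N70 F27) (tt N77 (iv F80)) (tt N25 D17) (tt N77 (iv D16)) (tt N83 D48) (tt N84 D49))
theorem Q49 : ∀ i, i < 49 → P i := stepQ 48 Q48 (allL N48 (tt N48 F114) (tt N71 F115) (tt N27 (iv F122)) (tt N85 D100) (tt N26 F116) (tt N25 (iv D50)) (tt N26 (iv F13020)))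
theorem Q50 : ∀ i, i < 50 → P i := stepQ 49 Q49 (allL N49 (tt N49 F149) (tt N76 (iv F162)) (tt N86 D122) (tt N26 (iv D62)) (tt N87 D123) (tt N80 (iv F280)) (tt N88 D124))
theorem Q51 : ∀ i, i < 51 → P i := stepQ 50 Q50 (allL N50 (tt N50 F237) (tt N50 F238) (tt N89 D206) (tt N27 (iv D102)) (tt N50 F239) (tt N50 F240) (tt N50 F13018))
theorem Q52 : ∀ i, i < 52 → P i := stepQ 51 Q51 (allL N51 (tt N28 (iv D446)) (tt N30 F867) (tt N33 F865) (tt N90 D926) (tt N28 (iv F868)) (tt N91 D927) (tt N51 F866))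
theorem Q53 : ∀ i, i < 53 → P i := stepQ 52 Q52 (allL N52 (tt N90 (iv F1685)) (tt N29 F869) (tt N92 D928) (tt N28 (iv D447)) (tt N93 D929) (tt N94 F13285) (tt N95 D931))
theorem Q54 : ∀ i, i < 54 → P i := stepQ 53 Q53 (allL N53 (tt N91 (iv F1687)) (tt N31 F870) (tt N35 F871) (tt N96 F13382) (tt N91 (iv F1690)) (tt N28 (iv D448)) (tt N91 (iv F1691)))
theorem Q55 : ∀ i, i < 55 → P i := stepQ 54 Q54 (allL N54 (tt N54 F873) (tt N93 (iv F1692)) (tt N54 F12936) (tt N97 D937) (tt N29 (iv D450)) (tt N98 (iv F13216)) (tt N99 F13152))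
theorem Q56 : ∀ i, i < 56 → P i := stepQ 55 Q55 (allL N55 (tt N55 F503) (tt N94 (iv F994)) (tt N55 F504) (tt N86 (iv D247)) (tt N98 D511) (tt N29 F13198) (tt N100 D513))
theorem Q57 : ∀ i, i < 57 → P i := stepQ 56 Q56 (allL N56 (tt N56 F875) (tt N95 (iv F1694)) (tt N56 F12934) (tt N56 F876) (tt N99 F13051) (tt N101 D942) (tt N29 (iv D452)))
theorem Q58 : ∀ i, i < 58 → P i := stepQ 57 Q57 (allL N57 (tt N57 F877) (tt N90 (iv F1686)) (tt N97 F13193) (tt N30 (iv D453)) (tt N97 (iv F1704)) (tt N102 (iv F13446)) (tt N103 D945))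
theorem Q59 : ∀ i, i < 59 → P i := stepQ 58 Q58 (allL N58 (tt N58 F878) (tt N91 (iv F1688)) (tt N32 F879) (tt N104 F13209) (tt N31 F880) (tt N30 (iv D454)) (tt N31 F881))
theorem Q60 : ∀ i, i < 60 → P i := stepQ 59 Q59 (allL N59 (tt N59 F491) (tt N96 D491) (tt N80 (iv D238)) (tt N31 F13346) (tt N105 F2004) (tt N86 F492) (tt N106 F13312))
theorem Q61 : ∀ i, i < 61 → P i := stepQ 60 Q60 (allL N60 (tt N60 F883) (tt N40 F884) (tt N107 D948) (tt N32 (iv D456)) (tt N60 F885) (tt N60 F886) (tt N60 F887))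
theorem Q62 : ∀ i, i < 62 → P i := stepQ 61 Q61 (allL N61 (tt N34 F1660) (tt N38 F1661) (tt N108 D1899) (tt N33 (iv D917)) (tt N109 D1900) (tt N34 (iv F1662)) (tt N110 D1901))
theorem Q63 : ∀ i, i < 63 → P i := stepQ 62 Q62 (allL N62 (tt N35 F1663) (tt N39 F1664) (tt N91 (iv F1689)) (tt N35 F1665) (tt N35 F1666) (tt N33 (iv D918)) (tt N35 F1667))
theorem Q64 : ∀ i, i < 64 → P i := stepQ 63 Q63 (allL N63 (tt N108 (iv F3257)) (tt N111 D1902) (tt N34 (iv D919)) (tt N112 D1903) (tt N113 D1904) (tt N108 (iv F3258)) (tt N111 F3267))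
theorem Q65 : ∀ i, i < 65 → P i := stepQ 64 Q64 (allL N64 (tt N109 (iv F3259)) (tt N37 F1668) (tt N113 (iv F3268)) (tt N109 (iv F3261)) (tt N34 (iv D920)) (tt N109 (iv F3262)) (tt N114 D1905))
theorem Q66 : ∀ i, i < 66 → P i := stepQ 65 Q65 (allL N65 (tt N110 (iv F3263)) (tt N36 F1669) (tt N111 (iv F3266)) (tt N65 F1670) (tt N114 (iv F3270)) (tt N115 D1906) (tt N34 (iv D921)))
theorem Q67 : ∀ i, i < 67 → P i := stepQ 66 Q66 (allL N66 (tt N66 F1671) (tt N114 (iv F3269)) (tt N37 F1672) (tt N116 D1907) (tt N36 (iv D922)) (tt N69 (iv F1684)) (tt N37 F1673))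
theorem Q68 : ∀ i, i < 68 → P i := stepQ 67 Q67 (allL N67 (tt N67 F1674) (tt N115 (iv F3273)) (tt N38 F1675) (tt N117 D1908) (tt N69 (iv F1683)) (tt N36 (iv D923)) (tt N68 F1679))
theorem Q69 : ∀ i, i < 69 → P i := stepQ 68 Q68 (allL N68 (tt N68 F1676) (tt N109 (iv F3260)) (tt N69 (iv F1681)) (tt N37 (iv D924)) (tt N38 F1677) (tt N37 (iv F1678)) (tt N67 (iv F1679)))
theorem Q70 : ∀ i, i < 70 → P i := stepQ 69 Q69 (allL N69 (tt N69 F1680) (tt N110 (iv F3264)) (tt N68 F1681) (tt N69 F1682) (tt N67 F1683) (tt N66 F1684) (tt N38 (iv D925)))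
theorem Q71 : ∀ i, i < 71 → P i := stepQ 70 Q70 (allL N70 (tt N42 (iv F64)) (tt N47 (iv F27)) (tt N118 D10) (tt N41 (iv D9)) (tt N119 F28) (tt N120 D34) (tt N121 D35))
theorem Q72 : ∀ i, i < 72 → P i := stepQ 71 Q71 (allL N71 (tt N43 F70) (tt N48 (iv F115)) (tt N71 F71) (tt N122 D72) (tt N43 F72) (tt N41 (iv D32)) (tt N43 (iv F13034)))
theorem Q73 : ∀ i, i < 73 → P i := stepQ 72 Q72 (allL N72 (tt N118 (iv D36)) (tt N72 F81) (tt N42 F76) (tt N123 (iv F85)) (tt N123 (iv F86)) (tt N124 D78) (tt N125 D79))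
theorem Q74 : ∀ i, i < 74 → P i := stepQ 73 Q73 (allL N73 (tt N119 (iv D42)) (tt N44 (iv F99)) (tt N123 F91) (tt N119 F93) (tt N42 F92) (tt N126 D88) (tt N127 D89))
theorem Q75 : ∀ i, i < 75 → P i := stepQ 74 Q74 (allL N74 (tt N120 F158) (tt N45 F159) (tt N124 (iv F181)) (tt N128 D130) (tt N126 (iv F203)) (tt N42 (iv D66)) (tt N129 D131))
theorem Q76 : ∀ i, i < 76 → P i := stepQ 75 Q75 (allL N75 (tt N121 F160) (tt N46 F161) (tt N125 (iv F184)) (tt N75 F12889) (tt N127 (iv F206)) (tt N130 D133) (tt N42 (iv D67)))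
theorem Q77 : ∀ i, i < 77 → P i := stepQ 76 Q76 (allL N76 (tt N122 (iv F172)) (tt N49 F162) (tt N131 D134) (tt N43 (iv D68)) (tt N132 D135) (tt N128 (iv F300)) (tt N133 D136))
theorem Q78 : ∀ i, i < 78 → P i := stepQ 77 Q77 (allL N77 (tt N77 F38) (tt N119 (iv D15)) (tt N47 F80) (tt N44 D45) (tt N47 D16) (tt N134 D46) (tt N135 D47))
theorem Q79 : ∀ i, i < 79 → P i := stepQ 78 Q78 (allL N78 (tt N78 F207) (tt N126 F208) (tt N78 F209) (tt N136 D184) (tt N45 F210) (tt N44 (iv D92)) (tt N82 (iv F289)))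
theorem Q80 : ∀ i, i < 80 → P i := stepQ 79 Q79 (allL N79 (tt N79 F211) (tt N127 F212) (tt N79 F213) (tt N137 D185) (tt N46 F214) (tt N81 (iv F283)) (tt N44 (iv D93)))
theorem Q81 : ∀ i, i < 81 → P i := stepQ 80 Q80 (allL N80 (tt N80 F279) (tt N128 (iv F299)) (tt N59 D238) (tt N45 (iv D118)) (tt N138 D239) (tt N49 F280) (tt N139 F13179))
theorem Q82 : ∀ i, i < 82 → P i := stepQ 81 Q81 (allL N81 (tt N81 F281) (tt N129 (iv F302)) (tt N81 F282) (tt N140 F13027) (tt N82 (iv F288)) (tt N79 F283) (tt N45 (iv D119)))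
theorem Q83 : ∀ i, i < 83 → P i := stepQ 82 Q82 (allL N82 (tt N82 F286) (tt N130 (iv F308)) (tt N82 F287) (tt N141 D245) (tt N81 F288) (tt N46 (iv D121)) (tt N78 F289))
theorem Q84 : ∀ i, i < 84 → P i := stepQ 83 Q83 (allL N83 (tt N83 F106) (tt N120 F107) (tt N134 F108) (tt N139 D98) (tt N134 F109) (tt N47 (iv D48)) (tt N140 (iv F226)))
theorem Q85 : ∀ i, i < 85 → P i := stepQ 84 Q84 (allL N84 (tt N84 F110) (tt N121 F111) (tt N135 F112) (tt N84 F12908) (tt N135 F113) (tt N142 (iv F219)) (tt N47 (iv D49)))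
theorem Q86 : ∀ i, i < 86 → P i := stepQ 85 Q85 (allL N85 (tt N85 F231) (tt N122 F232) (tt N143 D200) (tt N48 (iv D100)) (tt N88 (iv F13175)) (tt N139 F233) (tt N87 (iv F13153)))
theorem Q87 : ∀ i, i < 87 → P i := stepQ 86 Q86 (allL N86 (tt N86 F290) (tt N144 D246) (tt N49 (iv D122)) (tt N55 D247) (tt N145 D248) (tt N59 (iv F492)) (tt N146 D249))
theorem Q88 : ∀ i, i < 88 → P i := stepQ 87 Q87 (allL N87 (tt N87 F291) (tt N132 (iv F311)) (tt N145 (iv F506)) (tt N88 (iv F13174)) (tt N49 (iv D123)) (tt N138 (iv F494)) (tt N85 F13153))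
theorem Q89 : ∀ i, i < 89 → P i := stepQ 88 Q88 (allL N88 (tt N88 F292) (tt N133 (iv F312)) (tt N146 (iv F508)) (tt N87 F13174) (tt N85 F13175) (tt N147 (iv F13180)) (tt N49 (iv D124)))
theorem Q90 : ∀ i, i < 90 → P i := stepQ 89 Q89 (allL N89 (tt N89 F414) (tt N148 D428) (tt N50 (iv D206)) (tt N149 D429) (tt N89 F415) (tt N89 F416) (tt N89 F13019))
theorem Q91 : ∀ i, i < 91 → P i := stepQ 90 Q90 (allL N90 (tt N52 F1685) (tt N57 F1686) (tt N150 D1909) (tt N51 (iv D926)) (tt N151 D1910) (tt N152 F13335) (tt N153 D1912))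
theorem Q92 : ∀ i, i < 92 → P i := stepQ 91 Q91 (allL N91 (tt N53 F1687) (tt N58 F1688) (tt N62 F1689) (tt N154 (iv F13323)) (tt N53 F1690) (tt N51 (iv D927)) (tt N53 F1691))
theorem Q93 : ∀ i, i < 93 → P i := stepQ 92 Q92 (allL N92 (tt N150 (iv F3285)) (tt N92 F13345) (tt N52 (iv D928)) (tt N155 D1915) (tt N156 D1916) (tt N157 F13443) (tt N158 D1918))
theorem Q94 : ∀ i, i < 94 → P i := stepQ 93 Q93 (allL N93 (tt N151 (iv F3286)) (tt N54 F1692) (tt N156 (iv F3299)) (tt N151 (iv F3288)) (tt N52 (iv D929)) (tt N159 F13219) (tt N160 F13220))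
theorem Q95 : ∀ i, i < 95 → P i := stepQ 94 Q94 (allL N94 (tt N152 (iv F1920)) (tt N55 F994) (tt N157 D1050) (tt N144 (iv D508)) (tt N159 D1051) (tt N52 (iv F13285)) (tt N161 D1053))
theorem Q96 : ∀ i, i < 96 → P i := stepQ 95 Q95 (allL N95 (tt N153 (iv F3292)) (tt N56 F1694) (tt N158 (iv F3301)) (tt N95 F1695) (tt N160 F13217) (tt N162 D1923) (tt N52 (iv D931)))
theorem Q97 : ∀ i, i < 97 → P i := stepQ 96 Q96 (allL N96 (tt N154 (iv F1544)) (tt N59 (iv D491)) (tt N163 (iv F1074)) (tt N53 (iv F13382)) (tt N164 F1542) (tt N144 F965) (tt N165 F13452))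
theorem Q98 : ∀ i, i < 98 → P i := stepQ 97 Q97 (allL N97 (tt N97 F1703) (tt N151 (iv F3287)) (tt N57 (iv F13193)) (tt N54 (iv D937)) (tt N57 F1704) (tt N166 F13290) (tt N167 (iv F13191)))
theorem Q99 : ∀ i, i < 99 → P i := stepQ 98 Q98 (allL N98 (tt N98 F998) (tt N159 (iv F1927)) (tt N98 F999) (tt N168 (iv F13302)) (tt N55 (iv D511)) (tt N54 F13216) (tt N101 (iv F13304)))
theorem Q100 : ∀ i, i < 100 → P i := stepQ 99 Q99 (allL N99 (tt N99 F753) (tt N160 (iv F1492)) (tt N99 F13045) (tt N169 (iv D399)) (tt N56 (iv F13051)) (tt N100 (iv F13052)) (tt N54 (iv F13152)))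
theorem Q101 : ∀ i, i < 101 → P i := stepQ 100 Q100 (allL N100 (tt N100 F1002) (tt N161 (iv F1929)) (tt N100 F1003) (tt N170 D1062) (tt N101 F13151) (tt N99 F13052) (tt N55 (iv D513)))
theorem Q102 : ∀ i, i < 102 → P i := stepQ 101 Q101 (allL N101 (tt N101 F1716) (tt N162 (iv F3313)) (tt N101 F13049) (tt N171 (iv F13444)) (tt N100 (iv F13151)) (tt N56 (iv D942)) (tt N98 F13304))
theorem Q103 : ∀ i, i < 103 → P i := stepQ 102 Q102 (allL N102 (tt N102 F1009) (tt N152 (iv F13324)) (tt N166 D1068) (tt N146 (iv D516)) (tt N166 F13445) (tt N57 F13446) (tt N170 (iv F1953)))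
theorem Q104 : ∀ i, i < 104 → P i := stepQ 103 Q103 (allL N103 (tt N103 F1721) (tt N153 (iv F3293)) (tt N167 F13053) (tt N103 F1722) (tt N167 F13295) (tt N172 D1949) (tt N57 (iv D945)))
theorem Q105 : ∀ i, i < 105 → P i := stepQ 104 Q104 (allL N104 (tt N104 F778) (tt N154 (iv F1545)) (tt N147 F779) (tt N58 (iv F13209)) (tt N106 (iv D410)) (tt N146 F13298) (tt N105 F13299))
theorem Q106 : ∀ i, i < 106 → P i := stepQ 105 Q105 (allL N105 (tt N105 F777) (tt N164 (iv F2002)) (tt N138 F2001) (tt N106 (iv D409)) (tt N59 (iv F2004)) (tt N145 (iv F2005)) (tt N104 (iv F13299)))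
theorem Q107 : ∀ i, i < 107 → P i := stepQ 106 Q106 (allL N106 (tt N106 F386) (tt N165 D408) (tt N139 (iv D194)) (tt N105 D409) (tt N104 D410) (tt N143 (iv F399)) (tt N59 (iv F13312)))
theorem Q108 : ∀ i, i < 108 → P i := stepQ 107 Q107 (allL N107 (tt N107 F1730) (tt N107 F1731) (tt N60 (iv D948)) (tt N173 F13609) (tt N107 F1732) (tt N107 F1733) (tt N107 F1734))
theorem Q109 : ∀ i, i < 109 → P i := stepQ 108 Q108 (allL N108 (tt N63 F3257) (tt N174 D3848) (tt N61 (iv D1899)) (tt N175 D3849) (tt N176 D3850) (tt N63 F3258) (tt N177 D3851))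
theorem Q110 : ∀ i, i < 110 → P i := stepQ 109 Q109 (allL N109 (tt N64 F3259) (tt N68 F3260) (tt N176 (iv F6724)) (tt N64 F3261) (tt N61 (iv D1900)) (tt N64 F3262) (tt N115 (iv F3275)))
theorem Q111 : ∀ i, i < 111 → P i := stepQ 110 Q110 (allL N110 (tt N65 F3263) (tt N69 F3264) (tt N177 (iv F6729)) (tt N110 F3265) (tt N115 (iv F3274)) (tt N114 (iv F3271)) (tt N61 (iv D1901)))
theorem Q112 : ∀ i, i < 112 → P i := stepQ 111 Q111 (allL N111 (tt N177 (iv F6727)) (tt N63 (iv D1902)) (tt N65 F3266) (tt N178 D3852) (tt N179 D3853) (tt N174 (iv F6721)) (tt N63 (iv F3267)))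
theorem Q113 : ∀ i, i < 113 → P i := stepQ 112 Q112 (allL N112 (tt N175 (iv F6722)) (tt N178 (iv F6731)) (tt N180 F14747) (tt N63 (iv D1903)) (tt N181 (iv F14748)) (tt N182 D3856) (tt N183 D3857))
theorem Q114 : ∀ i, i < 114 → P i := stepQ 113 Q113 (allL N113 (tt N176 (iv F6723)) (tt N179 (iv F6733)) (tt N64 F3268) (tt N184 D3858) (tt N63 (iv D1904)) (tt N176 (iv F6725)) (tt N179 (iv F6736)))
theorem Q115 : ∀ i, i < 115 → P i := stepQ 114 Q114 (allL N114 (tt N115 (iv F3272)) (tt N66 F3269) (tt N179 (iv F6734)) (tt N185 D3859) (tt N65 F3270) (tt N110 F3271) (tt N64 (iv D1905)))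
theorem Q116 : ∀ i, i < 116 → P i := stepQ 115 Q115 (allL N115 (tt N114 F3272) (tt N67 F3273) (tt N174 (iv F6720)) (tt N186 D3860) (tt N110 F3274) (tt N65 (iv D1906)) (tt N109 F3275))
theorem Q117 : ∀ i, i < 117 → P i := stepQ 116 Q116 (allL N116 (tt N116 F3276) (tt N185 (iv F6737)) (tt N116 F3279) (tt N66 (iv D1907)) (tt N116 F3277) (tt N116 F3278) (tt N117 (iv F3283)))
theorem Q118 : ∀ i, i < 118 → P i := stepQ 117 Q117 (allL N117 (tt N117 F3280) (tt N186 (iv F6741)) (tt N117 F3284) (tt N67 (iv D1908)) (tt N117 F3281) (tt N117 F3282) (tt N116 F3283))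
theorem Q119 : ∀ i, i < 119 → P i := stepQ 118 Q118 (allL N118 (tt N72 D36) (tt N187 D11) (tt N70 (iv D10)) (tt N187 (iv F78)) (tt N187 F79) (tt N188 D37) (tt N189 D38))
theorem Q120 : ∀ i, i < 120 → P i := stepQ 119 Q119 (allL N119 (tt N73 D42) (tt N77 D15) (tt N187 (iv F77)) (tt N73 (iv F93)) (tt N70 (iv F28)) (tt N190 D43) (tt N191 D44))
theorem Q121 : ∀ i, i < 121 → P i := stepQ 120 Q120 (allL N120 (tt N74 (iv F158)) (tt N83 (iv F107)) (tt N188 (iv F82)) (tt N192 D74) (tt N190 (iv F95)) (tt N70 (iv D34)) (tt N193 D75))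
theorem Q122 : ∀ i, i < 122 → P i := stepQ 121 Q121 (allL N121 (tt N75 (iv F160)) (tt N84 (iv F111)) (tt N189 (iv F83)) (tt N121 F12966) (tt N191 (iv F97)) (tt N194 D77) (tt N70 (iv D35)))
theorem Q123 : ∀ i, i < 123 → P i := stepQ 122 Q122 (allL N122 (tt N76 F172) (tt N85 (iv F232)) (tt N195 D142) (tt N71 (iv D72)) (tt N133 (iv F13197)) (tt N192 (iv F174)) (tt N132 (iv F13173)))
theorem Q124 : ∀ i, i < 124 → P i := stepQ 123 Q123 (allL N123 (tt N187 (iv D39)) (tt N123 F84) (tt N73 (iv F91)) (tt N72 F85) (tt N72 F86) (tt N196 D84) (tt N197 D85))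
theorem Q125 : ∀ i, i < 125 → P i := stepQ 124 Q124 (allL N124 (tt N188 F179) (tt N124 F180) (tt N74 F181) (tt N198 D156) (tt N196 (iv F193)) (tt N72 (iv D78)) (tt N199 D157))
theorem Q126 : ∀ i, i < 126 → P i := stepQ 125 Q125 (allL N125 (tt N189 F182) (tt N125 F183) (tt N75 F184) (tt N200 D158) (tt N197 (iv F196)) (tt N201 D159) (tt N72 (iv D79)))
theorem Q127 : ∀ i, i < 127 → P i := stepQ 126 Q126 (allL N126 (tt N190 F201) (tt N78 (iv F208)) (tt N196 F202) (tt N202 D176) (tt N74 F203) (tt N73 (iv D88)) (tt N130 (iv F310)))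
theorem Q128 : ∀ i, i < 128 → P i := stepQ 127 Q127 (allL N127 (tt N191 F204) (tt N79 (iv F212)) (tt N197 F205) (tt N203 D177) (tt N75 F206) (tt N129 (iv F303)) (tt N73 (iv D89)))
theorem Q129 : ∀ i, i < 129 → P i := stepQ 128 Q128 (allL N128 (tt N192 F298) (tt N80 F299) (tt N204 D266) (tt N74 (iv D130)) (tt N205 D267) (tt N76 F300) (tt N192 F13313))
theorem Q130 : ∀ i, i < 130 → P i := stepQ 129 Q129 (allL N129 (tt N193 F301) (tt N81 F302) (tt N199 (iv F334)) (tt N193 F13060) (tt N130 (iv F309)) (tt N127 F303) (tt N74 (iv D131)))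
theorem Q131 : ∀ i, i < 131 → P i := stepQ 130 Q130 (allL N130 (tt N194 F307) (tt N82 F308) (tt N201 (iv F340)) (tt N206 D273) (tt N129 F309) (tt N75 (iv D133)) (tt N126 F310))
theorem Q132 : ∀ i, i < 132 → P i := stepQ 131 Q131 (allL N131 (tt N195 (iv F318)) (tt N207 D274) (tt N76 (iv D134)) (tt N208 D275) (tt N209 D276) (tt N204 (iv F540)) (tt N210 D277))
theorem Q133 : ∀ i, i < 133 → P i := stepQ 132 Q132 (allL N132 (tt N133 (iv F13195)) (tt N87 F311) (tt N209 (iv F558)) (tt N133 (iv F13196)) (tt N76 (iv D135)) (tt N205 (iv F543)) (tt N122 F13173))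
theorem Q134 : ∀ i, i < 134 → P i := stepQ 133 Q133 (allL N133 (tt N132 F13195) (tt N88 F312) (tt N210 (iv F559)) (tt N132 F13196) (tt N122 F13197) (tt N211 (iv F13305)) (tt N76 (iv D136)))
theorem Q135 : ∀ i, i < 135 → P i := stepQ 134 Q134 (allL N134 (tt N134 F102) (tt N190 F103) (tt N83 (iv F108)) (tt N212 D94) (tt N83 (iv F109)) (tt N77 (iv D46)) (tt N142 D95))
theorem Q136 : ∀ i, i < 136 → P i := stepQ 135 Q135 (allL N135 (tt N135 F104) (tt N191 F105) (tt N84 (iv F112)) (tt N213 D96) (tt N84 (iv F113)) (tt N140 D97) (tt N77 (iv D47)))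
theorem Q137 : ∀ i, i < 137 → P i := stepQ 136 Q136 (allL N136 (tt N136 F366) (tt N202 F367) (tt N214 D382) (tt N78 (iv D184)) (tt N215 D383) (tt N212 F368) (tt N216 D384))
theorem Q138 : ∀ i, i < 138 → P i := stepQ 137 Q137 (allL N137 (tt N137 F369) (tt N203 F370) (tt N217 D385) (tt N79 (iv D185)) (tt N137 F12835) (tt N213 (iv F13004)) (tt N213 F371))
theorem Q139 : ∀ i, i < 139 → P i := stepQ 138 Q138 (allL N138 (tt N138 F493) (tt N205 (iv F542)) (tt N105 (iv F2001)) (tt N215 (iv F717)) (tt N80 (iv D239)) (tt N87 F494) (tt N147 (iv F13181)))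
theorem Q140 : ∀ i, i < 140 → P i := stepQ 139 Q139 (allL N139 (tt N139 F227) (tt N192 F228) (tt N106 D194) (tt N83 (iv D98)) (tt N147 D195) (tt N85 (iv F233)) (tt N80 (iv F13179)))
theorem Q141 : ∀ i, i < 141 → P i := stepQ 140 Q140 (allL N140 (tt N140 F222) (tt N193 F223) (tt N142 F224) (tt N81 (iv F13027)) (tt N142 F225) (tt N135 (iv D97)) (tt N83 F226))
theorem Q142 : ∀ i, i < 142 → P i := stepQ 141 Q141 (allL N141 (tt N141 F502) (tt N206 (iv F556)) (tt N218 D504) (tt N82 (iv D245)) (tt N219 (iv F13037)) (tt N141 F13006) (tt N220 D506))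
theorem Q143 : ∀ i, i < 143 → P i := stepQ 142 Q142 (allL N142 (tt N142 F217) (tt N194 F218) (tt N140 (iv F224)) (tt N219 D189) (tt N140 (iv F225)) (tt N84 F219) (tt N134 (iv D95)))
theorem Q144 : ∀ i, i < 144 → P i := stepQ 143 Q143 (allL N143 (tt N143 F398) (tt N221 D420) (tt N85 (iv D200)) (tt N222 (iv F13300)) (tt N146 (iv F13199)) (tt N106 F399) (tt N145 (iv F13306)))
theorem Q145 : ∀ i, i < 145 → P i := stepQ 144 Q144 (allL N144 (tt N223 D507) (tt N86 (iv D246)) (tt N207 (iv F557)) (tt N94 D508) (tt N224 D509) (tt N96 (iv F965)) (tt N223 F13311))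
theorem Q146 : ∀ i, i < 146 → P i := stepQ 145 Q145 (allL N145 (tt N145 F505) (tt N224 (iv F996)) (tt N87 F506) (tt N225 D514) (tt N86 (iv D248)) (tt N105 F2005) (tt N143 F13306))
theorem Q147 : ∀ i, i < 147 → P i := stepQ 146 Q146 (allL N146 (tt N146 F507) (tt N223 (iv F13297)) (tt N88 F508) (tt N102 D516) (tt N143 F13199) (tt N104 (iv F13298)) (tt N86 (iv D249)))
theorem Q148 : ∀ i, i < 148 → P i := stepQ 147 Q147 (allL N147 (tt N147 F387) (tt N211 F388) (tt N104 (iv F779)) (tt N226 F389) (tt N139 (iv D195)) (tt N88 F13180) (tt N138 F13181))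
theorem Q149 : ∀ i, i < 149 → P i := stepQ 148 Q148 (allL N148 (tt N148 F823) (tt N89 (iv D428)) (tt N148 F820) (tt N227 D899) (tt N148 F821) (tt N148 F822) (tt N148 F13160))
theorem Q150 : ∀ i, i < 150 → P i := stepQ 149 Q149 (allL N149 (tt N149 F824) (tt N227 (iv F1624)) (tt N228 (iv F13157)) (tt N89 (iv D429)) (tt N229 D902) (tt N229 F3782) (tt N230 (iv F13048)))
theorem Q151 : ∀ i, i < 151 → P i := stepQ 150 Q150 (allL N150 (tt N92 F3285) (tt N231 D3861) (tt N90 (iv D1909)) (tt N232 D3862) (tt N231 F13473) (tt N233 F13472) (tt N234 D3865))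
theorem Q152 : ∀ i, i < 152 → P i := stepQ 151 Q151 (allL N151 (tt N93 F3286) (tt N97 F3287) (tt N231 (iv F13349)) (tt N93 F3288) (tt N90 (iv D1910)) (tt N235 (iv F13337)) (tt N236 F13192))
theorem Q153 : ∀ i, i < 153 → P i := stepQ 152 Q152 (allL N152 (tt N94 F1920) (tt N102 F13324) (tt N233 D2133) (tt N223 (iv D1048)) (tt N235 D2134) (tt N90 (iv F13335)) (tt N237 D2136))
theorem Q154 : ∀ i, i < 154 → P i := stepQ 153 Q153 (allL N153 (tt N95 F3292) (tt N103 F3293) (tt N234 (iv F6752)) (tt N153 F3294) (tt N236 F13190) (tt N238 D3869) (tt N90 (iv D1912)))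
theorem Q155 : ∀ i, i < 155 → P i := stepQ 154 Q154 (allL N154 (tt N96 F1544) (tt N104 F1545) (tt N239 F1546) (tt N91 F13323) (tt N165 (iv D858)) (tt N223 F1547) (tt N164 F13451))
theorem Q156 : ∀ i, i < 156 → P i := stepQ 155 Q155 (allL N155 (tt N232 (iv F6746)) (tt N155 F13477) (tt N240 (iv F14736)) (tt N92 (iv D1915)) (tt N241 (iv F14737)) (tt N242 D3877) (tt N243 D3878))
theorem Q157 : ∀ i, i < 157 → P i := stepQ 156 Q156 (allL N156 (tt N231 (iv F13348)) (tt N156 F13215) (tt N93 F3299) (tt N244 D3879) (tt N92 (iv D1916)) (tt N245 F13352) (tt N246 F13353))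
theorem Q158 : ∀ i, i < 158 → P i := stepQ 157 Q157 (allL N157 (tt N233 (iv F3730)) (tt N157 F1926) (tt N94 (iv D1050)) (tt N247 D2138) (tt N245 D2139) (tt N92 (iv F13443)) (tt N248 D2141))
theorem Q159 : ∀ i, i < 159 → P i := stepQ 158 Q158 (allL N158 (tt N234 (iv F6751)) (tt N158 F13214) (tt N95 F3301) (tt N249 D3884) (tt N246 F13350) (tt N250 D3885) (tt N92 (iv D1918)))
theorem Q160 : ∀ i, i < 160 → P i := stepQ 159 Q159 (allL N159 (tt N235 (iv F3733)) (tt N98 F1927) (tt N245 (iv F3744)) (tt N251 F13381) (tt N94 (iv D1051)) (tt N93 (iv F13219)) (tt N162 (iv F13284)))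
theorem Q161 : ∀ i, i < 161 → P i := stepQ 160 Q160 (allL N160 (tt N236 F13188) (tt N99 F1492) (tt N246 D1739) (tt N252 (iv D834)) (tt N95 (iv F13217)) (tt N161 (iv F13218)) (tt N93 (iv F13220)))
theorem Q162 : ∀ i, i < 162 → P i := stepQ 161 Q161 (allL N161 (tt N237 (iv F3738)) (tt N100 F1929) (tt N248 (iv F3748)) (tt N237 F13294) (tt N162 F13296) (tt N160 F13218) (tt N94 (iv D1053)))
theorem Q163 : ∀ i, i < 163 → P i := stepQ 162 Q162 (allL N162 (tt N238 (iv F6763)) (tt N101 F3313) (tt N250 (iv F6784)) (tt N253 F13533) (tt N161 (iv F13296)) (tt N95 (iv D1923)) (tt N159 F13284))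
theorem Q164 : ∀ i, i < 164 → P i := stepQ 163 Q163 (allL N163 (tt N239 (iv F1221)) (tt N204 (iv D552)) (tt N96 F1074) (tt N254 D1138) (tt N255 F1219) (tt N207 F1075) (tt N256 (iv F13476)))
theorem Q165 : ∀ i, i < 165 → P i := stepQ 164 Q164 (allL N164 (tt N165 (iv D856)) (tt N105 F2002) (tt N255 F1539) (tt N165 F2003) (tt N96 (iv F1542)) (tt N224 F1540) (tt N154 (iv F13451)))
theorem Q166 : ∀ i, i < 166 → P i := stepQ 165 Q165 (allL N165 (tt N164 D856) (tt N106 (iv D408)) (tt N256 F776) (tt N164 (iv F2003)) (tt N154 D858) (tt N221 (iv F805)) (tt N96 (iv F13452)))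
theorem Q167 : ∀ i, i < 167 → P i := stepQ 166 Q166 (allL N166 (tt N166 F1962) (tt N235 (iv F13341)) (tt N102 (iv D1068)) (tt N257 F13325) (tt N102 (iv F13445)) (tt N97 (iv F13290)) (tt N172 (iv F13293)))
theorem Q168 : ∀ i, i < 168 → P i := stepQ 167 Q167 (allL N167 (tt N167 F1433) (tt N236 (iv F2852)) (tt N103 (iv F13053)) (tt N217 (iv D807)) (tt N103 (iv F13295)) (tt N170 (iv F13289)) (tt N97 F13191))
theorem Q169 : ∀ i, i < 169 → P i := stepQ 168 Q168 (allL N168 (tt N168 F1429) (tt N251 (iv F2845)) (tt N216 F1430) (tt N98 F13302) (tt N225 F13303) (tt N257 (iv F1457)) (tt N214 (iv D805)))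
theorem Q170 : ∀ i, i < 170 → P i := stepQ 169 Q169 (allL N169 (tt N169 F379) (tt N252 D398) (tt N213 (iv D190)) (tt N99 D399) (tt N169 F13003) (tt N217 F13150) (tt N217 (iv F722)))
theorem Q171 : ∀ i, i < 171 → P i := stepQ 170 Q170 (allL N170 (tt N170 F1952) (tt N237 (iv F13291)) (tt N172 (iv F13292)) (tt N100 (iv D1062)) (tt N172 F13148) (tt N167 F13289) (tt N102 F1953))
theorem Q172 : ∀ i, i < 172 → P i := stepQ 171 Q171 (allL N171 (tt N171 F2849) (tt N253 (iv F5906)) (tt N258 (iv F5911)) (tt N101 F13444) (tt N259 (iv F2884)) (tt N171 F2850) (tt N260 (iv D1693)))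
theorem Q173 : ∀ i, i < 173 → P i := stepQ 172 Q172 (allL N172 (tt N172 F3365) (tt N238 (iv F6764)) (tt N170 F13292) (tt N259 F13447) (tt N170 (iv F13148)) (tt N103 (iv D1949)) (tt N166 F13293))
theorem Q174 : ∀ i, i < 174 → P i := stepQ 173 Q173 (allL N173 (tt N173 F2880) (tt N173 F11859) (tt N261 (iv D1708)) (tt N107 (iv F13609)) (tt N262 F2881) (tt N262 F2882) (tt N263 D3517))
theorem Q175 : ∀ i, i < 175 → P i := stepQ 174 Q174 (allL N174 (tt N179 (iv F6732)) (tt N108 (iv D3848)) (tt N115 F6720) (tt N264 (iv F14762)) (tt N177 (iv F6730)) (tt N111 F6721) (tt N176 F6726))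
theorem Q176 : ∀ i, i < 176 → P i := stepQ 175 Q175 (allL N175 (tt N112 F6722) (tt N264 F14755) (tt N265 F14746) (tt N108 (iv D3849)) (tt N266 F14749) (tt N267 D7151) (tt N268 (iv F14759)))
theorem Q177 : ∀ i, i < 177 → P i := stepQ 176 Q176 (allL N176 (tt N113 F6723) (tt N177 (iv F6728)) (tt N109 F6724) (tt N269 D7152) (tt N108 (iv D3850)) (tt N113 F6725) (tt N174 (iv F6726)))
theorem Q178 : ∀ i, i < 178 → P i := stepQ 177 Q177 (allL N177 (tt N111 F6727) (tt N176 F6728) (tt N110 F6729) (tt N270 F14760) (tt N174 F6730) (tt N179 (iv F6735)) (tt N108 (iv D3851)))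
theorem Q179 : ∀ i, i < 179 → P i := stepQ 178 Q178 (allL N178 (tt N270 (iv F14761)) (tt N112 F6731) (tt N271 F14764) (tt N111 (iv D3852)) (tt N272 F14750) (tt N273 F14763) (tt N274 D7153))
theorem Q180 : ∀ i, i < 180 → P i := stepQ 179 Q179 (allL N179 (tt N174 F6732) (tt N113 F6733) (tt N114 F6734) (tt N275 D7154) (tt N111 (iv D3853)) (tt N177 F6735) (tt N113 F6736))
theorem Q181 : ∀ i, i < 181 → P i := stepQ 180 Q180 (allL N180 (tt N265 (iv F13965)) (tt N276 F5392) (tt N112 (iv F14747)) (tt N277 (iv F10706)) (tt N278 (iv D3103)) (tt N279 (iv F13914)) (tt N280 (iv F13956)))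
theorem Q182 : ∀ i, i < 182 → P i := stepQ 181 Q181 (allL N181 (tt N266 (iv F10649)) (tt N272 D6075) (tt N278 (iv D3102)) (tt N281 D6076) (tt N112 F14748) (tt N282 (iv F10684)) (tt N283 D6078))
theorem Q183 : ∀ i, i < 183 → P i := stepQ 182 Q182 (allL N182 (tt N267 (iv F14803)) (tt N273 (iv F14765)) (tt N279 F14766) (tt N267 (iv F14806)) (tt N282 F14752) (tt N112 (iv D3856)) (tt N284 F14754))
theorem Q184 : ∀ i, i < 184 → P i := stepQ 183 Q183 (allL N183 (tt N268 F14757) (tt N274 (iv F14815)) (tt N280 F14758) (tt N274 (iv F14817)) (tt N283 F14753) (tt N285 (iv F14756)) (tt N112 (iv D3857)))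
theorem Q185 : ∀ i, i < 185 → P i := stepQ 184 Q184 (allL N184 (tt N269 (iv F14809)) (tt N275 (iv F14821)) (tt N286 F14769) (tt N113 (iv D3858)) (tt N281 F14751) (tt N287 D7155) (tt N288 D7156))
theorem Q186 : ∀ i, i < 186 → P i := stepQ 185 Q185 (allL N185 (tt N186 (iv F6740)) (tt N116 F6737) (tt N289 D7157) (tt N114 (iv D3859)) (tt N185 F6738) (tt N185 F6739) (tt N186 (iv F6744)))
theorem Q187 : ∀ i, i < 187 → P i := stepQ 186 Q186 (allL N186 (tt N185 F6740) (tt N117 F6741) (tt N290 D7158) (tt N115 (iv D3860)) (tt N186 F6742) (tt N186 F6743) (tt N185 F6744))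
theorem Q188 : ∀ i, i < 188 → P i := stepQ 187 Q187 (allL N187 (tt N123 D39) (tt N118 (iv D11)) (tt N119 F77) (tt N118 F78) (tt N118 (iv F79)) (tt N291 D40) (tt N292 D41))
theorem Q189 : ∀ i, i < 189 → P i := stepQ 188 Q188 (allL N188 (tt N124 (iv F179)) (tt N291 (iv F87)) (tt N120 F82) (tt N293 D80) (tt N291 (iv F88)) (tt N118 (iv D37)) (tt N294 D81))
theorem Q190 : ∀ i, i < 190 → P i := stepQ 189 Q189 (allL N189 (tt N125 (iv F182)) (tt N292 (iv F89)) (tt N121 F83) (tt N295 D82) (tt N292 (iv F90)) (tt N296 D83) (tt N118 (iv D38)))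
theorem Q191 : ∀ i, i < 191 → P i := stepQ 190 Q190 (allL N190 (tt N126 (iv F201)) (tt N134 (iv F103)) (tt N291 F94) (tt N297 D90) (tt N120 F95) (tt N119 (iv D43)) (tt N194 (iv F178)))
theorem Q192 : ∀ i, i < 192 → P i := stepQ 191 Q191 (allL N191 (tt N127 (iv F204)) (tt N135 (iv F105)) (tt N292 F96) (tt N298 D91) (tt N121 F97) (tt N193 (iv F175)) (tt N119 (iv D44)))
theorem Q193 : ∀ i, i < 193 → P i := stepQ 192 Q192 (allL N192 (tt N128 (iv F298)) (tt N139 (iv F228)) (tt N299 D148) (tt N120 (iv D74)) (tt N211 D149) (tt N122 F174) (tt N128 (iv F13313)))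
theorem Q194 : ∀ i, i < 194 → P i := stepQ 193 Q193 (allL N193 (tt N129 (iv F301)) (tt N140 (iv F223)) (tt N294 (iv F185)) (tt N129 (iv F13060)) (tt N194 (iv F177)) (tt N191 F175) (tt N120 (iv D75)))
theorem Q195 : ∀ i, i < 195 → P i := stepQ 194 Q194 (allL N194 (tt N130 (iv F307)) (tt N142 (iv F218)) (tt N296 (iv F188)) (tt N300 D155) (tt N193 F177) (tt N121 (iv D77)) (tt N190 F178))
theorem Q196 : ∀ i, i < 196 → P i := stepQ 195 Q195 (allL N195 (tt N131 F318) (tt N301 D294) (tt N122 (iv D142)) (tt N302 D295) (tt N210 (iv F13343)) (tt N299 (iv F326)) (tt N209 (iv F13321)))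
theorem Q197 : ∀ i, i < 197 → P i := stepQ 196 Q196 (allL N196 (tt N291 F191) (tt N196 F192) (tt N126 (iv F202)) (tt N303 D168) (tt N124 F193) (tt N123 (iv D84)) (tt N201 (iv F342)))
theorem Q198 : ∀ i, i < 198 → P i := stepQ 197 Q197 (allL N197 (tt N292 F194) (tt N197 F195) (tt N127 (iv F205)) (tt N304 D169) (tt N125 F196) (tt N199 (iv F335)) (tt N123 (iv D85)))
theorem Q199 : ∀ i, i < 199 → P i := stepQ 198 Q198 (allL N198 (tt N293 F330) (tt N198 F331) (tt N305 D322) (tt N124 (iv D156)) (tt N306 D323) (tt N303 (iv F346)) (tt N307 D324))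
theorem Q200 : ∀ i, i < 200 → P i := stepQ 199 Q199 (allL N199 (tt N294 F332) (tt N199 F333) (tt N129 F334) (tt N308 D325) (tt N201 (iv F341)) (tt N197 F335) (tt N124 (iv D157)))
theorem Q201 : ∀ i, i < 201 → P i := stepQ 200 Q200 (allL N200 (tt N295 F336) (tt N200 F337) (tt N309 D326) (tt N125 (iv D158)) (tt N310 D327) (tt N311 D328) (tt N304 (iv F349)))
theorem Q202 : ∀ i, i < 202 → P i := stepQ 201 Q201 (allL N201 (tt N296 F338) (tt N201 F339) (tt N130 F340) (tt N312 D329) (tt N199 F341) (tt N125 (iv D159)) (tt N196 F342))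
theorem Q203 : ∀ i, i < 203 → P i := stepQ 202 Q202 (allL N202 (tt N297 F360) (tt N136 (iv F367)) (tt N313 D364) (tt N126 (iv D176)) (tt N314 D365) (tt N297 F361) (tt N315 D366))
theorem Q204 : ∀ i, i < 204 → P i := stepQ 203 Q203 (allL N203 (tt N298 F362) (tt N137 (iv F370)) (tt N316 D367) (tt N127 (iv D177)) (tt N203 F12846) (tt N298 (iv F13000)) (tt N298 F363))
theorem Q205 : ∀ i, i < 205 → P i := stepQ 204 Q204 (allL N204 (tt N299 F539) (tt N163 D552) (tt N128 (iv D266)) (tt N317 D553) (tt N318 D554) (tt N131 F540) (tt N299 (iv F13344)))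
theorem Q206 : ∀ i, i < 206 → P i := stepQ 205 Q205 (allL N205 (tt N211 F541) (tt N138 F542) (tt N318 (iv F1078)) (tt N314 (iv F690)) (tt N128 (iv D267)) (tt N132 F543) (tt N211 F13322))
theorem Q207 : ∀ i, i < 207 → P i := stepQ 206 Q206 (allL N206 (tt N300 F555) (tt N141 F556) (tt N319 D565) (tt N130 (iv D273)) (tt N300 F13095) (tt N206 F13089) (tt N320 D567))
theorem Q208 : ∀ i, i < 208 → P i := stepQ 207 Q207 (allL N207 (tt N321 D568) (tt N131 (iv D274)) (tt N144 F557) (tt N322 D569) (tt N323 D570) (tt N163 (iv F1075)) (tt N321 (iv F13450)))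
theorem Q209 : ∀ i, i < 209 → P i := stepQ 208 Q208 (allL N208 (tt N302 (iv F590)) (tt N322 (iv F1112)) (tt N324 D572) (tt N131 (iv D275)) (tt N325 D573) (tt N326 D574) (tt N327 D575))
theorem Q210 : ∀ i, i < 210 → P i := stepQ 209 Q209 (allL N209 (tt N210 (iv F13342)) (tt N323 (iv F1114)) (tt N132 F558) (tt N328 D576) (tt N131 (iv D276)) (tt N318 (iv F1079)) (tt N195 F13321))
theorem Q211 : ∀ i, i < 211 → P i := stepQ 210 Q210 (allL N210 (tt N209 F13342) (tt N321 (iv F13449)) (tt N133 F559) (tt N329 D578) (tt N195 F13343) (tt N330 (iv F13454)) (tt N131 (iv D277)))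
theorem Q212 : ∀ i, i < 212 → P i := stepQ 211 Q211 (allL N211 (tt N205 (iv F541)) (tt N147 (iv F388)) (tt N330 (iv F613)) (tt N331 (iv F364)) (tt N192 (iv D149)) (tt N133 F13305) (tt N205 (iv F13322)))
theorem Q213 : ∀ i, i < 213 → P i := stepQ 212 Q212 (allL N212 (tt N212 F215) (tt N297 F216) (tt N332 D186) (tt N134 (iv D94)) (tt N226 D187) (tt N136 (iv F368)) (tt N333 D188))
theorem Q214 : ∀ i, i < 214 → P i := stepQ 213 Q213 (allL N213 (tt N213 F220) (tt N298 F221) (tt N169 D190) (tt N135 (iv D96)) (tt N213 F12905) (tt N137 F13004) (tt N137 (iv F371)))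
theorem Q215 : ∀ i, i < 215 → P i := stepQ 214 Q214 (allL N214 (tt N214 F713) (tt N334 D802) (tt N136 (iv D382)) (tt N260 D803) (tt N335 F2010) (tt N332 F714) (tt N168 D805))
theorem Q216 : ∀ i, i < 216 → P i := stepQ 215 Q215 (allL N215 (tt N215 F715) (tt N314 F716) (tt N335 (iv F2007)) (tt N138 F717) (tt N136 (iv D383)) (tt N226 F718) (tt N336 (iv F745)))
theorem Q217 : ∀ i, i < 217 → P i := stepQ 216 Q216 (allL N216 (tt N216 F719) (tt N315 F720) (tt N168 (iv F1430)) (tt N220 (iv F991)) (tt N336 (iv F744)) (tt N337 (iv F738)) (tt N136 (iv D384)))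
theorem Q218 : ∀ i, i < 218 → P i := stepQ 217 Q217 (allL N217 (tt N217 F721) (tt N338 D806) (tt N137 (iv D385)) (tt N167 D807) (tt N217 F12904) (tt N169 (iv F13150)) (tt N169 F722))
theorem Q219 : ∀ i, i < 219 → P i := stepQ 218 Q218 (allL N218 (tt N218 F987) (tt N339 D1042) (tt N141 (iv D504)) (tt N340 D1043) (tt N230 F13094) (tt N218 F13156) (tt N229 F13212))
theorem Q220 : ∀ i, i < 220 → P i := stepQ 219 Q219 (allL N219 (tt N219 F377) (tt N300 F378) (tt N230 D395) (tt N142 (iv D189)) (tt N141 F13037) (tt N219 F13033) (tt N228 (iv F741)))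
theorem Q221 : ∀ i, i < 221 → P i := stepQ 220 Q220 (allL N220 (tt N220 F990) (tt N320 (iv F1107)) (tt N229 (iv F13161)) (tt N216 F991) (tt N228 F13096) (tt N228 F13057) (tt N141 (iv D506)))
theorem Q222 : ∀ i, i < 222 → P i := stepQ 221 Q221 (allL N221 (tt N224 (iv F995)) (tt N143 (iv D420)) (tt N301 F804) (tt N341 (iv F13328)) (tt N223 F993) (tt N165 F805) (tt N224 (iv F13453)))
theorem Q223 : ∀ i, i < 223 → P i := stepQ 222 Q222 (allL N222 (tt N222 F733) (tt N341 (iv F1447)) (tt N333 F734) (tt N143 F13300) (tt N257 (iv F1456)) (tt N225 F13301) (tt N332 (iv D391)))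
theorem Q224 : ∀ i, i < 224 → P i := stepQ 223 Q223 (allL N223 (tt N144 (iv D507)) (tt N146 F13297) (tt N321 (iv F1109)) (tt N152 D1048) (tt N221 (iv F993)) (tt N154 (iv F1547)) (tt N144 (iv F13311)))
theorem Q225 : ∀ i, i < 225 → P i := stepQ 224 Q224 (allL N224 (tt N221 F995) (tt N145 F996) (tt N323 (iv F1115)) (tt N342 D1054) (tt N144 (iv D509)) (tt N164 (iv F1540)) (tt N221 F13453))
theorem Q226 : ∀ i, i < 226 → P i := stepQ 225 Q225 (allL N225 (tt N225 F1004) (tt N342 (iv F1931)) (tt N336 (iv F13320)) (tt N145 (iv D514)) (tt N168 (iv F13303)) (tt N222 (iv F13301)) (tt N335 F13241))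
theorem Q227 : ∀ i, i < 227 → P i := stepQ 226 Q226 (allL N226 (tt N226 F373) (tt N331 F374) (tt N343 (iv F732)) (tt N147 (iv F389)) (tt N212 (iv D187)) (tt N215 (iv F718)) (tt N337 D392))
theorem Q228 : ∀ i, i < 228 → P i := stepQ 227 Q227 (allL N227 (tt N227 F1623) (tt N149 F1624) (tt N344 (iv F13163)) (tt N148 (iv D899)) (tt N345 D1858) (tt N345 (iv F3781)) (tt N346 F13213))
theorem Q229 : ∀ i, i < 229 → P i := stepQ 228 Q228 (allL N228 (tt N228 F739) (tt N347 F740) (tt N149 F13157) (tt N333 (iv D393)) (tt N220 (iv F13096)) (tt N220 (iv F13057)) (tt N219 F741))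
theorem Q230 : ∀ i, i < 230 → P i := stepQ 229 Q229 (allL N229 (tt N229 F1632) (tt N345 (iv F3183)) (tt N220 F13161) (tt N229 F1633) (tt N149 (iv D902)) (tt N149 (iv F3782)) (tt N218 (iv F13212)))
theorem Q231 : ∀ i, i < 231 → P i := stepQ 230 Q230 (allL N230 (tt N230 F746) (tt N346 D827) (tt N219 (iv D395)) (tt N230 F13092) (tt N218 (iv F13094)) (tt N230 F13097) (tt N149 F13048))
theorem Q232 : ∀ i, i < 232 → P i := stepQ 231 Q231 (allL N231 (tt N156 F13348) (tt N150 (iv D3861)) (tt N151 F13349) (tt N348 D7159) (tt N150 (iv F13473)) (tt N349 (iv F13474)) (tt N350 F13340))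
theorem Q233 : ∀ i, i < 233 → P i := stepQ 232 Q232 (allL N232 (tt N155 F6746) (tt N348 (iv F14844)) (tt N277 (iv F14745)) (tt N150 (iv D3862)) (tt N351 F14738) (tt N352 D7160) (tt N353 D7161))
theorem Q234 : ∀ i, i < 234 → P i := stepQ 233 Q233 (allL N233 (tt N157 F3730) (tt N349 D4227) (tt N152 (iv D2133)) (tt N354 D4228) (tt N349 (iv F7522)) (tt N150 (iv F13472)) (tt N355 D4230))
theorem Q235 : ∀ i, i < 235 → P i := stepQ 234 Q234 (allL N234 (tt N158 F6751) (tt N350 F13354) (tt N153 F6752) (tt N356 D7162) (tt N350 F13339) (tt N357 D7163) (tt N150 (iv D3865)))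
theorem Q236 : ∀ i, i < 236 → P i := stepQ 235 Q235 (allL N235 (tt N159 F3733) (tt N166 F13341) (tt N349 (iv F7520)) (tt N358 F13463) (tt N152 (iv D2134)) (tt N151 F13337) (tt N238 F13338))
theorem Q237 : ∀ i, i < 237 → P i := stepQ 236 Q236 (allL N236 (tt N160 (iv F13188)) (tt N167 F2852) (tt N350 D3489) (tt N338 (iv D1695)) (tt N153 (iv F13190)) (tt N237 (iv F13189)) (tt N151 (iv F13192)))
theorem Q238 : ∀ i, i < 238 → P i := stepQ 237 Q237 (allL N237 (tt N161 F3738) (tt N170 F13291) (tt N355 (iv F7527)) (tt N161 (iv F13294)) (tt N238 (iv F13334)) (tt N236 F13189) (tt N152 (iv D2136)))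
theorem Q239 : ∀ i, i < 239 → P i := stepQ 238 Q238 (allL N238 (tt N162 F6763) (tt N172 F6764) (tt N357 (iv F14855)) (tt N359 F13584) (tt N237 F13334) (tt N153 (iv D3869)) (tt N235 (iv F13338)))
theorem Q240 : ∀ i, i < 240 → P i := stepQ 239 Q239 (allL N239 (tt N163 F1221) (tt N330 F1222) (tt N154 (iv F1546)) (tt N360 D1335) (tt N256 (iv D640)) (tt N321 F1223) (tt N255 F13596))
theorem Q241 : ∀ i, i < 241 → P i := stepQ 240 Q240 (allL N240 (tt N277 (iv F10704)) (tt N361 F5609) (tt N155 F14736) (tt N265 (iv F13966)) (tt N362 (iv D3277)) (tt N363 (iv F11124)) (tt N364 D6402))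
theorem Q242 : ∀ i, i < 242 → P i := stepQ 241 Q241 (allL N241 (tt N351 (iv F10703)) (tt N241 F14149) (tt N362 (iv D3276)) (tt N365 D6399) (tt N155 F14737) (tt N366 (iv F11122)) (tt N367 D6401))
theorem Q243 : ∀ i, i < 243 → P i := stepQ 242 Q242 (allL N242 (tt N352 (iv F14846)) (tt N242 F14742) (tt N363 (iv F14743)) (tt N368 (iv F14800)) (tt N366 F14739) (tt N155 (iv D3877)) (tt N369 F14741))
theorem Q244 : ∀ i, i < 244 → P i := stepQ 243 Q243 (allL N243 (tt N353 (iv F14849)) (tt N243 F14672) (tt N364 (iv F14744)) (tt N370 (iv F14668)) (tt N367 F14740) (tt N371 D7164) (tt N155 (iv D3878)))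
theorem Q245 : ∀ i, i < 245 → P i := stepQ 244 Q244 (allL N244 (tt N348 (iv F14843)) (tt N244 F14718) (tt N372 F14713) (tt N156 (iv D3879)) (tt N365 F14735) (tt N373 D7165) (tt N374 F14714))
theorem Q246 : ∀ i, i < 246 → P i := stepQ 245 Q245 (allL N245 (tt N349 F7521) (tt N245 F3743) (tt N159 F3744) (tt N375 (iv F14793)) (tt N157 (iv D2139)) (tt N156 (iv F13352)) (tt N250 (iv F13442)))
theorem Q247 : ∀ i, i < 247 → P i := stepQ 246 Q246 (allL N246 (tt N350 F13333) (tt N246 F13347) (tt N160 (iv D1739)) (tt N376 D3567) (tt N158 (iv F13350)) (tt N248 (iv F13351)) (tt N156 (iv F13353)))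
theorem Q248 : ∀ i, i < 248 → P i := stepQ 247 Q247 (allL N247 (tt N354 (iv F7523)) (tt N247 F3742) (tt N377 D4239) (tt N157 (iv D2138)) (tt N378 D4240) (tt N368 D4241) (tt N375 D4242))
theorem Q249 : ∀ i, i < 249 → P i := stepQ 248 Q248 (allL N248 (tt N355 (iv F7526)) (tt N248 F3747) (tt N161 F3748) (tt N250 (iv F13595)) (tt N250 F13448) (tt N246 F13351) (tt N157 (iv D2141)))
theorem Q250 : ∀ i, i < 250 → P i := stepQ 249 Q249 (allL N249 (tt N356 (iv F14850)) (tt N249 F14669) (tt N379 F14664) (tt N158 (iv D3884)) (tt N380 F14665) (tt N376 F14666) (tt N370 F14667))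
theorem Q251 : ∀ i, i < 251 → P i := stepQ 250 Q250 (allL N250 (tt N357 (iv F14853)) (tt N250 F13441) (tt N162 F6784) (tt N248 F13595) (tt N248 (iv F13448)) (tt N158 (iv D3885)) (tt N245 F13442))
theorem Q252 : ∀ i, i < 252 → P i := stepQ 251 Q251 (allL N251 (tt N358 (iv F2872)) (tt N168 F2845) (tt N381 F2846) (tt N159 (iv F13381)) (tt N342 F13326) (tt N358 (iv F2876)) (tt N334 (iv D1691)))
theorem Q253 : ∀ i, i < 253 → P i := stepQ 252 Q252 (allL N252 (tt N338 F13146) (tt N169 (iv D398)) (tt N382 F752) (tt N160 D834) (tt N252 F13147) (tt N338 F13210) (tt N338 (iv F1432)))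
theorem Q254 : ∀ i, i < 254 → P i := stepQ 253 Q253 (allL N253 (tt N359 (iv F5962)) (tt N171 F5906) (tt N253 F11865) (tt N162 (iv F13533)) (tt N359 (iv F5964)) (tt N253 F5907) (tt N383 (iv D3481)))
theorem Q255 : ∀ i, i < 255 → P i := stepQ 254 Q254 (allL N254 (tt N360 (iv F2414)) (tt N317 F2112) (tt N254 F13676) (tt N163 (iv D1138)) (tt N384 D2296) (tt N385 D2297) (tt N386 D2298))
theorem Q256 : ∀ i, i < 256 → P i := stepQ 255 Q255 (allL N255 (tt N256 (iv D638)) (tt N318 F1218) (tt N164 (iv F1539)) (tt N387 D1330) (tt N163 (iv F1219)) (tt N323 F1217) (tt N239 (iv F13596)))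
theorem Q257 : ∀ i, i < 257 → P i := stepQ 256 Q256 (allL N256 (tt N255 D638) (tt N299 (iv D306)) (tt N165 (iv F776)) (tt N388 D639) (tt N239 D640) (tt N301 F612) (tt N163 F13476))
theorem Q258 : ∀ i, i < 258 → P i := stepQ 257 Q257 (allL N257 (tt N257 F1454) (tt N358 (iv F2873)) (tt N337 F1455) (tt N166 (iv F13325)) (tt N222 F1456) (tt N168 F1457) (tt N343 (iv D819)))
theorem Q259 : ∀ i, i < 259 → P i := stepQ 258 Q258 (allL N258 (tt N258 F5910) (tt N258 F11858) (tt N171 F5911) (tt N389 F13583) (tt N263 (iv F5978)) (tt N258 F5912) (tt N262 (iv D3484)))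
theorem Q260 : ∀ i, i < 260 → P i := stepQ 259 Q259 (allL N259 (tt N259 F2883) (tt N359 (iv F5963)) (tt N263 (iv F5977)) (tt N172 (iv F13447)) (tt N171 F2884) (tt N259 F2885) (tt N261 (iv D1709)))
theorem Q261 : ∀ i, i < 261 → P i := stepQ 260 Q260 (allL N260 (tt N260 F1425) (tt N383 (iv F2844)) (tt N262 D1692) (tt N214 (iv D803)) (tt N261 (iv F2020)) (tt N261 F2019) (tt N171 D1693))
theorem Q262 : ∀ i, i < 262 → P i := stepQ 261 Q261 (allL N261 (tt N261 F1453) (tt N390 (iv F2869)) (tt N173 D1708) (tt N343 (iv D818)) (tt N260 F2020) (tt N260 (iv F2019)) (tt N259 D1709))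
theorem Q263 : ∀ i, i < 263 → P i := stepQ 262 Q262 (allL N262 (tt N262 F2847) (tt N262 F11860) (tt N260 (iv D1692)) (tt N262 F2848) (tt N173 (iv F2881)) (tt N173 (iv F2882)) (tt N258 D3484))
theorem Q264 : ∀ i, i < 264 → P i := stepQ 263 Q263 (allL N263 (tt N263 F5976) (tt N263 F11857) (tt N259 F5977) (tt N263 F13749) (tt N258 F5978) (tt N263 F5979) (tt N173 (iv D3517)))
theorem Q265 : ∀ i, i < 265 → P i := stepQ 264 Q264 (allL N264 (tt N275 (iv F14820)) (tt N175 (iv F14755)) (tt N391 F8350) (tt N174 F14762) (tt N392 (iv F8353)) (tt N393 F8351) (tt N394 (iv D4633)))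
theorem Q266 : ∀ i, i < 266 → P i := stepQ 265 Q265 (allL N265 (tt N180 F13965) (tt N395 F8424) (tt N175 (iv F14746)) (tt N240 F13966) (tt N396 F13967) (tt N397 F8425) (tt N398 (iv D4672)))
theorem Q267 : ∀ i, i < 267 → P i := stepQ 266 Q266 (allL N266 (tt N181 F10649) (tt N392 F14653) (tt N396 (iv D6038)) (tt N399 (iv F15095)) (tt N175 (iv F14749)) (tt N400 F14654) (tt N401 (iv F14632)))
theorem Q268 : ∀ i, i < 268 → P i := stepQ 267 Q267 (allL N267 (tt N182 F14803) (tt N393 F14804) (tt N397 F14805) (tt N182 F14806) (tt N400 F14807) (tt N175 (iv D7151)) (tt N402 F14808))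
theorem Q269 : ∀ i, i < 269 → P i := stepQ 268 Q268 (allL N268 (tt N183 (iv F14757)) (tt N394 F8342) (tt N398 F8343) (tt N403 (iv F14624)) (tt N401 F14623) (tt N404 (iv D4623)) (tt N175 F14759))
theorem Q270 : ∀ i, i < 270 → P i := stepQ 269 Q269 (allL N269 (tt N184 F14809) (tt N270 F14810) (tt N405 F14812) (tt N176 (iv D7152)) (tt N399 (iv F15096)) (tt N406 (iv F14813)) (tt N407 F14811))
theorem Q271 : ∀ i, i < 271 → P i := stepQ 270 Q270 (allL N270 (tt N178 F14761) (tt N269 (iv F14810)) (tt N408 F9027) (tt N177 (iv F14760)) (tt N409 F9028) (tt N410 (iv D5083)) (tt N403 F9029))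
theorem Q272 : ∀ i, i < 272 → P i := stepQ 271 Q271 (allL N271 (tt N408 F8386) (tt N411 F8387) (tt N178 (iv F14764)) (tt N412 D7217) (tt N413 F13872) (tt N414 (iv D4652)) (tt N415 F8389))
theorem Q273 : ∀ i, i < 273 → P i := stepQ 272 Q272 (allL N272 (tt N409 F14767) (tt N181 (iv D6075)) (tt N413 F10710) (tt N416 (iv F14908)) (tt N178 (iv F14750)) (tt N417 (iv F14959)) (tt N418 (iv F13868)))
theorem Q274 : ∀ i, i < 274 → P i := stepQ 273 Q273 (allL N273 (tt N410 F8378) (tt N182 F14765) (tt N414 F8379) (tt N393 (iv F14719)) (tt N417 (iv F14958)) (tt N178 (iv F14763)) (tt N419 (iv D4649)))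
theorem Q275 : ∀ i, i < 275 → P i := stepQ 274 Q274 (allL N274 (tt N403 F14814) (tt N183 F14815) (tt N415 F14816) (tt N183 F14817) (tt N418 F14818) (tt N420 (iv F14819)) (tt N178 (iv D7153)))
theorem Q276 : ∀ i, i < 276 → P i := stepQ 275 Q275 (allL N275 (tt N264 F14820) (tt N184 F14821) (tt N421 F14823) (tt N179 (iv D7154)) (tt N416 (iv F14906)) (tt N422 F14822) (tt N423 (iv F14824)))
theorem Q277 : ∀ i, i < 277 → P i := stepQ 276 Q276 (allL N276 (tt N424 (iv F5178)) (tt N180 (iv F5392)) (tt N411 F13922) (tt N425 (iv F5419)) (tt N426 (iv D1533)) (tt N427 F13923) (tt N428 D3135))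
theorem Q278 : ∀ i, i < 278 → P i := stepQ 277 Q277 (allL N277 (tt N240 F10704) (tt N425 F10705) (tt N232 F14745) (tt N180 F10706) (tt N429 (iv D6073)) (tt N430 F14292) (tt N431 D7350))
theorem Q279 : ∀ i, i < 279 → P i := stepQ 278 Q278 (allL N278 (tt N396 (iv F5364)) (tt N426 F2664) (tt N181 D3102) (tt N432 (iv D1517)) (tt N180 D3103) (tt N433 (iv F5378)) (tt N434 D3104))
theorem Q280 : ∀ i, i < 280 → P i := stepQ 279 Q279 (allL N279 (tt N397 F8451) (tt N427 F8452) (tt N182 (iv F14766)) (tt N435 (iv F14205)) (tt N433 (iv F13958)) (tt N180 F13914) (tt N436 (iv D4707)))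
theorem Q281 : ∀ i, i < 281 → P i := stepQ 280 Q280 (allL N280 (tt N398 F8416) (tt N428 F13954) (tt N183 (iv F14758)) (tt N437 D7218) (tt N434 F13955) (tt N438 (iv D4666)) (tt N180 F13956))
theorem Q282 : ∀ i, i < 282 → P i := stepQ 281 Q281 (allL N281 (tt N399 (iv F15092)) (tt N416 (iv F14904)) (tt N439 (iv F14768)) (tt N181 (iv D6076)) (tt N184 (iv F14751)) (tt N440 F14899) (tt N441 (iv F15075)))
theorem Q283 : ∀ i, i < 283 → P i := stepQ 282 Q282 (allL N282 (tt N400 (iv F14655)) (tt N417 (iv F14956)) (tt N433 (iv D6062)) (tt N442 D7342) (tt N182 (iv F14752)) (tt N181 F10684) (tt N285 F14656))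
theorem Q284 : ∀ i, i < 284 → P i := stepQ 283 Q283 (allL N283 (tt N401 F14621) (tt N418 (iv F13867)) (tt N434 F10714) (tt N443 (iv F14633)) (tt N183 (iv F14753)) (tt N284 (iv F13866)) (tt N181 (iv D6078)))
theorem Q285 : ∀ i, i < 285 → P i := stepQ 284 Q284 (allL N284 (tt N402 (iv F8374)) (tt N419 (iv D4646)) (tt N436 F8372) (tt N444 D7214) (tt N285 F8373) (tt N283 F13866) (tt N182 (iv F14754)))
theorem Q286 : ∀ i, i < 286 → P i := stepQ 285 Q285 (allL N285 (tt N404 (iv D4620)) (tt N420 (iv F8356)) (tt N438 F8338) (tt N445 D7188) (tt N284 (iv F8373)) (tt N183 F14756) (tt N282 (iv F14656)))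
theorem Q287 : ∀ i, i < 287 → P i := stepQ 286 Q286 (allL N286 (tt N405 (iv F13990)) (tt N446 F5157) (tt N184 (iv F14769)) (tt N447 (iv D2947)) (tt N439 D5773) (tt N448 (iv F13983)) (tt N449 F8480))
theorem Q288 : ∀ i, i < 288 → P i := stepQ 287 Q287 (allL N287 (tt N406 F14825) (tt N422 F14826) (tt N448 F14827) (tt N406 F14828) (tt N440 (iv F14898)) (tt N184 (iv D7155)) (tt N450 (iv F14829)))
theorem Q289 : ∀ i, i < 289 → P i := stepQ 288 Q288 (allL N288 (tt N407 F14830) (tt N423 F14831) (tt N449 F14832) (tt N423 F14833) (tt N441 (iv F15074)) (tt N451 (iv F14834)) (tt N184 (iv D7156)))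
theorem Q290 : ∀ i, i < 290 → P i := stepQ 289 Q289 (allL N289 (tt N290 (iv F14838)) (tt N289 F14835) (tt N185 (iv D7157)) (tt N452 D7447) (tt N289 F14836) (tt N289 F14837) (tt N290 (iv F14842)))
theorem Q291 : ∀ i, i < 291 → P i := stepQ 290 Q290 (allL N290 (tt N289 F14838) (tt N290 F14839) (tt N186 (iv D7158)) (tt N453 D7448) (tt N290 F14840) (tt N290 F14841) (tt N289 F14842))
theorem Q292 : ∀ i, i < 292 → P i := stepQ 291 Q291 (allL N291 (tt N196 (iv F191)) (tt N188 F87) (tt N190 (iv F94)) (tt N454 D86) (tt N188 F88) (tt N187 (iv D40)) (tt N296 (iv F190)))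
theorem Q293 : ∀ i, i < 293 → P i := stepQ 292 Q292 (allL N292 (tt N197 (iv F194)) (tt N189 F89) (tt N191 (iv F96)) (tt N455 D87) (tt N189 F90) (tt N294 (iv F186)) (tt N187 (iv D41)))
theorem Q294 : ∀ i, i < 294 → P i := stepQ 293 Q293 (allL N293 (tt N198 (iv F330)) (tt N454 (iv F197)) (tt N456 D160) (tt N188 (iv D80)) (tt N457 D161) (tt N454 (iv F198)) (tt N458 D162))
theorem Q295 : ∀ i, i < 295 → P i := stepQ 294 Q294 (allL N294 (tt N199 (iv F332)) (tt N296 (iv F187)) (tt N193 F185) (tt N459 D163) (tt N296 (iv F189)) (tt N292 F186) (tt N188 (iv D81)))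
theorem Q296 : ∀ i, i < 296 → P i := stepQ 295 Q295 (allL N295 (tt N200 (iv F336)) (tt N455 (iv F199)) (tt N460 D164) (tt N189 (iv D82)) (tt N461 D165) (tt N462 D166) (tt N455 (iv F200)))
theorem Q297 : ∀ i, i < 297 → P i := stepQ 296 Q296 (allL N296 (tt N201 (iv F338)) (tt N294 F187) (tt N194 F188) (tt N463 D167) (tt N294 F189) (tt N189 (iv D83)) (tt N291 F190))
theorem Q298 : ∀ i, i < 298 → P i := stepQ 297 Q297 (allL N297 (tt N202 (iv F360)) (tt N212 (iv F216)) (tt N464 D178) (tt N190 (iv D90)) (tt N331 D179) (tt N202 (iv F361)) (tt N465 D180))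
theorem Q299 : ∀ i, i < 299 → P i := stepQ 298 Q298 (allL N298 (tt N203 (iv F362)) (tt N213 (iv F221)) (tt N466 D181) (tt N191 (iv D91)) (tt N298 F12888) (tt N203 F13000) (tt N203 (iv F363)))
theorem Q300 : ∀ i, i < 300 → P i := stepQ 299 Q299 (allL N299 (tt N204 (iv F539)) (tt N256 D306) (tt N192 (iv D148)) (tt N467 D307) (tt N330 D308) (tt N195 F326) (tt N204 F13344))
theorem Q301 : ∀ i, i < 301 → P i := stepQ 300 Q300 (allL N300 (tt N206 (iv F555)) (tt N219 (iv F378)) (tt N468 D319) (tt N194 (iv D155)) (tt N206 (iv F13095)) (tt N300 F13046) (tt N347 D321))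
theorem Q302 : ∀ i, i < 302 → P i := stepQ 301 Q301 (allL N301 (tt N323 (iv F1113)) (tt N195 (iv D294)) (tt N221 (iv F804)) (tt N469 D614) (tt N321 F1111) (tt N256 (iv F612)) (tt N323 (iv F13455)))
theorem Q303 : ∀ i, i < 303 → P i := stepQ 302 Q302 (allL N302 (tt N208 F590) (tt N469 (iv F1177)) (tt N470 D616) (tt N195 (iv D295)) (tt N471 D617) (tt N472 D618) (tt N473 D619))
theorem Q304 : ∀ i, i < 304 → P i := stepQ 303 Q303 (allL N303 (tt N454 F344) (tt N303 F345) (tt N474 D350) (tt N196 (iv D168)) (tt N475 D351) (tt N198 F346) (tt N476 D352))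
theorem Q305 : ∀ i, i < 305 → P i := stepQ 304 Q304 (allL N304 (tt N455 F347) (tt N304 F348) (tt N477 D353) (tt N197 (iv D169)) (tt N478 D354) (tt N479 D355) (tt N200 F349))
theorem Q306 : ∀ i, i < 306 → P i := stepQ 305 Q305 (allL N305 (tt N456 F625) (tt N480 D676) (tt N198 (iv D322)) (tt N481 D677) (tt N482 D678) (tt N474 (iv F662)) (tt N483 D679))
theorem Q307 : ∀ i, i < 307 → P i := stepQ 306 Q306 (allL N306 (tt N457 F626) (tt N306 F627) (tt N482 (iv F1254)) (tt N475 (iv F665)) (tt N198 (iv D323)) (tt N475 (iv F666)) (tt N484 D680))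
theorem Q308 : ∀ i, i < 308 → P i := stepQ 307 Q307 (allL N307 (tt N458 F628) (tt N307 F629) (tt N483 (iv F1256)) (tt N485 D681) (tt N484 (iv F1259)) (tt N486 D682) (tt N198 (iv D324)))
theorem Q309 : ∀ i, i < 309 → P i := stepQ 308 Q308 (allL N308 (tt N459 F630) (tt N308 F631) (tt N487 D683) (tt N199 (iv D325)) (tt N488 D684) (tt N489 D685) (tt N485 (iv F1263)))
theorem Q310 : ∀ i, i < 310 → P i := stepQ 309 Q309 (allL N309 (tt N460 F632) (tt N490 D686) (tt N200 (iv D326)) (tt N491 D687) (tt N492 D688) (tt N493 D689) (tt N477 (iv F670)))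
theorem Q311 : ∀ i, i < 311 → P i := stepQ 310 Q310 (allL N310 (tt N461 F633) (tt N310 F634) (tt N492 (iv F1277)) (tt N478 (iv F673)) (tt N200 (iv D327)) (tt N494 D690) (tt N478 (iv F674)))
theorem Q312 : ∀ i, i < 312 → P i := stepQ 311 Q311 (allL N311 (tt N462 F635) (tt N311 F636) (tt N493 (iv F1279)) (tt N495 D691) (tt N494 (iv F1282)) (tt N200 (iv D328)) (tt N496 D692))
theorem Q313 : ∀ i, i < 313 → P i := stepQ 312 Q312 (allL N312 (tt N463 F637) (tt N312 F638) (tt N497 D693) (tt N201 (iv D329)) (tt N498 D694) (tt N495 (iv F1286)) (tt N499 D695))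
theorem Q314 : ∀ i, i < 314 → P i := stepQ 313 Q313 (allL N313 (tt N464 F687) (tt N500 D766) (tt N202 (iv D364)) (tt N501 D767) (tt N502 D768) (tt N464 F688) (tt N503 D769))
theorem Q315 : ∀ i, i < 315 → P i := stepQ 314 Q314 (allL N314 (tt N331 F689) (tt N215 (iv F716)) (tt N502 (iv F1378)) (tt N205 F690) (tt N202 (iv D365)) (tt N331 F691) (tt N504 (iv F705)))
theorem Q316 : ∀ i, i < 316 → P i := stepQ 315 Q315 (allL N315 (tt N465 F692) (tt N216 (iv F720)) (tt N503 (iv F1381)) (tt N320 (iv F1108)) (tt N504 (iv F704)) (tt N505 (iv F702)) (tt N202 (iv D366)))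
theorem Q317 : ∀ i, i < 317 → P i := stepQ 316 Q316 (allL N316 (tt N466 F693) (tt N506 D770) (tt N203 (iv D367)) (tt N507 D771) (tt N316 F12917) (tt N466 F13071) (tt N466 F694))
theorem Q318 : ∀ i, i < 318 → P i := stepQ 317 Q317 (allL N317 (tt N467 F1076) (tt N254 (iv F2112)) (tt N508 D1140) (tt N204 (iv D553)) (tt N509 D1141) (tt N510 D1142) (tt N511 D1143))
theorem Q319 : ∀ i, i < 319 → P i := stepQ 318 Q318 (allL N318 (tt N330 F1077) (tt N255 (iv F1218)) (tt N205 F1078) (tt N512 D1144) (tt N204 (iv D554)) (tt N209 F1079) (tt N330 F13462))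
theorem Q320 : ∀ i, i < 320 → P i := stepQ 319 Q319 (allL N319 (tt N468 F1102) (tt N513 D1166) (tt N206 (iv D565)) (tt N514 D1167) (tt N468 (iv F13240)) (tt N319 F13236) (tt N515 D1169))
theorem Q321 : ∀ i, i < 321 → P i := stepQ 320 Q320 (allL N320 (tt N347 F1106) (tt N220 F1107) (tt N515 (iv F2167)) (tt N315 F1108) (tt N347 F13224) (tt N347 F13091) (tt N206 (iv D567)))
theorem Q322 : ∀ i, i < 322 → P i := stepQ 321 Q321 (allL N321 (tt N207 (iv D568)) (tt N210 F13449) (tt N223 F1109) (tt N516 D1172) (tt N301 (iv F1111)) (tt N239 (iv F1223)) (tt N207 F13450))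
theorem Q323 : ∀ i, i < 323 → P i := stepQ 322 Q322 (allL N322 (tt N516 (iv F2176)) (tt N208 F1112) (tt N517 D1174) (tt N207 (iv D569)) (tt N518 D1175) (tt N519 D1176) (tt N520 D1177))
theorem Q324 : ∀ i, i < 324 → P i := stepQ 323 Q323 (allL N323 (tt N301 F1113) (tt N209 F1114) (tt N224 F1115) (tt N521 D1178) (tt N207 (iv D570)) (tt N255 (iv F1217)) (tt N301 F13455))
theorem Q325 : ∀ i, i < 325 → P i := stepQ 324 Q324 (allL N324 (tt N470 (iv F1179)) (tt N522 D1182) (tt N208 (iv D572)) (tt N470 (iv F1180)) (tt N523 D1183) (tt N524 D1184) (tt N525 D1185))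
theorem Q326 : ∀ i, i < 326 → P i := stepQ 325 Q325 (allL N325 (tt N471 (iv F1181)) (tt N518 (iv F2183)) (tt N523 (iv F2199)) (tt N526 D1186) (tt N208 (iv D573)) (tt N527 D1187) (tt N528 D1188))
theorem Q327 : ∀ i, i < 327 → P i := stepQ 326 Q326 (allL N326 (tt N472 (iv F1182)) (tt N519 (iv F2184)) (tt N524 (iv F2200)) (tt N510 (iv F2119)) (tt N527 (iv F2203)) (tt N208 (iv D574)) (tt N529 D1189))
theorem Q328 : ∀ i, i < 328 → P i := stepQ 327 Q327 (allL N327 (tt N473 (iv F1183)) (tt N520 (iv F2185)) (tt N525 (iv F2201)) (tt N530 D1190) (tt N528 (iv F2204)) (tt N531 D1191) (tt N208 (iv D575)))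
theorem Q329 : ∀ i, i < 329 → P i := stepQ 328 Q328 (allL N328 (tt N329 (iv F13475)) (tt N521 (iv F2187)) (tt N532 D1192) (tt N209 (iv D576)) (tt N526 (iv F2202)) (tt N533 D1193) (tt N534 D1194))
theorem Q330 : ∀ i, i < 330 → P i := stepQ 329 Q329 (allL N329 (tt N328 F13475) (tt N516 (iv F13529)) (tt N535 D1196) (tt N210 (iv D578)) (tt N536 D1197) (tt N537 D1198) (tt N530 (iv F2206)))
theorem Q331 : ∀ i, i < 331 → P i := stepQ 330 Q330 (allL N330 (tt N318 (iv F1077)) (tt N239 (iv F1222)) (tt N211 F613) (tt N538 D646) (tt N299 (iv D308)) (tt N210 F13454) (tt N318 (iv F13462)))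
theorem Q332 : ∀ i, i < 332 → P i := stepQ 331 Q331 (allL N331 (tt N314 (iv F689)) (tt N226 (iv F374)) (tt N539 (iv F699)) (tt N211 F364) (tt N297 (iv D179)) (tt N314 (iv F691)) (tt N505 D374))
theorem Q333 : ∀ i, i < 333 → P i := stepQ 332 Q332 (allL N332 (tt N332 F372) (tt N540 D388) (tt N212 (iv D186)) (tt N335 D389) (tt N343 D390) (tt N214 (iv F714)) (tt N222 D391))
theorem Q334 : ∀ i, i < 334 → P i := stepQ 333 Q333 (allL N333 (tt N333 F375) (tt N465 F376) (tt N222 (iv F734)) (tt N228 D393) (tt N337 (iv F737)) (tt N336 D394) (tt N212 (iv D188)))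
theorem Q335 : ∀ i, i < 335 → P i := stepQ 334 Q334 (allL N334 (tt N541 (iv F1443)) (tt N214 (iv D802)) (tt N500 F1423) (tt N383 D1690) (tt N542 F1441) (tt N540 F1424) (tt N251 D1691))
theorem Q336 : ∀ i, i < 336 → P i := stepQ 335 Q335 (allL N335 (tt N335 F730) (tt N542 (iv F2008)) (tt N215 F2007) (tt N332 (iv D389)) (tt N214 (iv F2010)) (tt N343 (iv F2011)) (tt N225 (iv F13241)))
theorem Q337 : ∀ i, i < 337 → P i := stepQ 336 Q336 (allL N336 (tt N336 F742) (tt N504 F743) (tt N225 F13320) (tt N337 (iv F13186)) (tt N216 F744) (tt N333 (iv D394)) (tt N215 F745))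
theorem Q338 : ∀ i, i < 338 → P i := stepQ 337 Q337 (allL N337 (tt N337 F735) (tt N505 F736) (tt N257 (iv F1455)) (tt N336 F13186) (tt N333 F737) (tt N216 F738) (tt N226 (iv D392)))
theorem Q339 : ∀ i, i < 339 → P i := stepQ 338 Q338 (allL N338 (tt N252 (iv F13146)) (tt N217 (iv D806)) (tt N506 F1431) (tt N236 D1695) (tt N338 F13002) (tt N252 (iv F13210)) (tt N252 F1432))
theorem Q340 : ∀ i, i < 340 → P i := stepQ 339 Q339 (allL N339 (tt N339 F13169) (tt N218 (iv D1042)) (tt N513 (iv F2162)) (tt N543 D2126) (tt N346 F13170) (tt N339 F13171) (tt N345 (iv F13310)))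
theorem Q341 : ∀ i, i < 341 → P i := stepQ 340 Q340 (allL N340 (tt N340 F1909) (tt N543 (iv F3719)) (tt N544 D2128) (tt N218 (iv D1043)) (tt N340 F13155) (tt N545 D2130) (tt N340 F13223))
theorem Q342 : ∀ i, i < 342 → P i := stepQ 341 Q341 (allL N341 (tt N342 F13327) (tt N222 F1447) (tt N546 F1448) (tt N221 F13328) (tt N358 (iv F2875)) (tt N342 F13329) (tt N540 (iv D813)))
theorem Q343 : ∀ i, i < 343 → P i := stepQ 342 Q342 (allL N342 (tt N341 (iv F13327)) (tt N225 F1931) (tt N547 (iv F13456)) (tt N224 (iv D1054)) (tt N251 (iv F13326)) (tt N341 (iv F13329)) (tt N542 (iv F13331)))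
theorem Q344 : ∀ i, i < 344 → P i := stepQ 343 Q343 (allL N343 (tt N343 F731) (tt N541 (iv F1444)) (tt N226 F732) (tt N261 D818) (tt N332 (iv D390)) (tt N335 F2011) (tt N257 D819))
theorem Q345 : ∀ i, i < 345 → P i := stepQ 344 Q344 (allL N344 (tt N344 F13158) (tt N548 F2481) (tt N227 F13163) (tt N549 (iv F13380)) (tt N549 (iv F13166)) (tt N549 F13238) (tt N550 (iv D1403)))
theorem Q346 : ∀ i, i < 346 → P i := stepQ 345 Q345 (allL N345 (tt N345 F3182) (tt N229 F3183) (tt N549 (iv F13168)) (tt N345 F3184) (tt N227 (iv D1858)) (tt N227 F3781) (tt N339 F13310))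
theorem Q347 : ∀ i, i < 347 → P i := stepQ 346 Q346 (allL N346 (tt N346 F13159) (tt N230 (iv D827)) (tt N550 F1475) (tt N346 F13172) (tt N339 (iv F13170)) (tt N346 F13162) (tt N227 (iv F13213)))
theorem Q348 : ∀ i, i < 348 → P i := stepQ 347 Q347 (allL N347 (tt N320 (iv F1106)) (tt N228 (iv F740)) (tt N548 (iv F1246)) (tt N465 F624) (tt N320 (iv F13224)) (tt N320 (iv F13091)) (tt N300 (iv D321)))
theorem Q349 : ∀ i, i < 349 → P i := stepQ 348 Q348 (allL N348 (tt N244 F14843) (tt N232 F14844) (tt N551 F14845) (tt N231 (iv D7159)) (tt N552 (iv F15479)) (tt N553 (iv F15646)) (tt N554 (iv F15747)))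
theorem Q350 : ∀ i, i < 350 → P i := stepQ 349 Q349 (allL N349 (tt N245 (iv F7521)) (tt N233 (iv D4227)) (tt N235 F7520) (tt N555 D7166) (tt N233 F7522) (tt N231 F13474) (tt N357 (iv F14858)))
theorem Q351 : ∀ i, i < 351 → P i := stepQ 350 Q350 (allL N350 (tt N246 (iv F13333)) (tt N234 (iv F13354)) (tt N236 (iv D3489)) (tt N556 D6794) (tt N234 (iv F13339)) (tt N355 (iv F13336)) (tt N231 (iv F13340)))
theorem Q352 : ∀ i, i < 352 → P i := stepQ 351 Q351 (allL N351 (tt N241 F10703) (tt N552 D7348) (tt N429 (iv D6072)) (tt N552 (iv F15481)) (tt N232 (iv F14738)) (tt N557 (iv F15477)) (tt N558 D7349))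
theorem Q353 : ∀ i, i < 353 → P i := stepQ 352 Q352 (allL N352 (tt N242 F14846) (tt N553 (iv F15645)) (tt N430 F14847) (tt N559 (iv F14874)) (tt N557 (iv F15476)) (tt N232 (iv D7160)) (tt N560 (iv F14848)))
theorem Q354 : ∀ i, i < 354 → P i := stepQ 353 Q353 (allL N353 (tt N243 F14849) (tt N554 (iv F15744)) (tt N431 (iv F15488)) (tt N561 (iv F15393)) (tt N558 (iv F15484)) (tt N562 (iv F15738)) (tt N232 (iv D7161)))
theorem Q355 : ∀ i, i < 355 → P i := stepQ 354 Q354 (allL N354 (tt N247 F7523) (tt N555 (iv F14868)) (tt N563 D7167) (tt N233 (iv D4228)) (tt N564 D7168) (tt N559 D7169) (tt N555 (iv F14869)))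
theorem Q356 : ∀ i, i < 356 → P i := stepQ 355 Q355 (allL N355 (tt N248 F7526) (tt N357 (iv F14854)) (tt N237 F7527) (tt N357 (iv F14856)) (tt N357 (iv F14857)) (tt N350 F13336) (tt N233 (iv D4230)))
theorem Q357 : ∀ i, i < 357 → P i := stepQ 356 Q356 (allL N356 (tt N249 F14850) (tt N556 F14851) (tt N565 (iv F15399)) (tt N234 (iv D7162)) (tt N566 (iv F15396)) (tt N556 (iv F14852)) (tt N561 F15392))
theorem Q358 : ∀ i, i < 358 → P i := stepQ 357 Q357 (allL N357 (tt N250 F14853) (tt N355 F14854) (tt N238 F14855) (tt N355 F14856) (tt N355 F14857) (tt N234 (iv D7163)) (tt N349 F14858))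
theorem Q359 : ∀ i, i < 359 → P i := stepQ 358 Q358 (allL N358 (tt N251 F2872) (tt N257 F2873) (tt N567 F2874) (tt N235 (iv F13463)) (tt N341 F2875) (tt N251 F2876) (tt N541 (iv D1705)))
theorem Q360 : ∀ i, i < 360 → P i := stepQ 359 Q359 (allL N359 (tt N253 F5962) (tt N259 F5963) (tt N359 F11864) (tt N238 (iv F13584)) (tt N253 F5964) (tt N359 F5965) (tt N390 (iv D3510)))
theorem Q361 : ∀ i, i < 361 → P i := stepQ 360 Q360 (allL N360 (tt N254 F2414) (tt N538 F2415) (tt N360 F13724) (tt N239 (iv D1335)) (tt N568 (iv F4806)) (tt N569 D2726) (tt N570 D2727))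
theorem Q362 : ∀ i, i < 362 → P i := stepQ 361 Q361 (allL N361 (tt N571 (iv F5532)) (tt N240 (iv F5609)) (tt N361 F14045) (tt N395 F13968) (tt N572 (iv D1612)) (tt N573 (iv F5635)) (tt N574 D3314))
theorem Q363 : ∀ i, i < 363 → P i := stepQ 362 Q362 (allL N362 (tt N429 (iv F5390)) (tt N572 F2743) (tt N241 D3276) (tt N575 (iv D1596)) (tt N240 D3277) (tt N576 (iv F5603)) (tt N577 D3278))
theorem Q364 : ∀ i, i < 364 → P i := stepQ 363 Q363 (allL N363 (tt N430 F14036) (tt N573 F11123) (tt N242 F14743) (tt N578 F14037) (tt N576 (iv D6394)) (tt N240 F11124) (tt N579 F14038))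
theorem Q365 : ∀ i, i < 365 → P i := stepQ 364 Q364 (allL N364 (tt N431 (iv F15486)) (tt N574 F11132) (tt N243 F14744) (tt N580 (iv F14994)) (tt N577 F11133) (tt N581 F11134) (tt N240 (iv D6402)))
theorem Q366 : ∀ i, i < 366 → P i := stepQ 365 Q365 (allL N365 (tt N552 F15480) (tt N365 F14692) (tt N582 F14734) (tt N241 (iv D6399)) (tt N244 (iv F14735)) (tt N583 (iv F14732)) (tt N584 D7404))
theorem Q367 : ∀ i, i < 367 → P i := stepQ 366 Q366 (allL N366 (tt N557 (iv F15475)) (tt N366 F14694) (tt N576 (iv D6393)) (tt N585 D7402) (tt N242 (iv F14739)) (tt N241 F11122) (tt N371 (iv F14862)))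
theorem Q368 : ∀ i, i < 368 → P i := stepQ 367 Q367 (allL N367 (tt N558 (iv F15482)) (tt N367 F14695) (tt N577 F11131) (tt N586 (iv F15407)) (tt N243 (iv F14740)) (tt N369 (iv F14731)) (tt N241 (iv D6401)))
theorem Q369 : ∀ i, i < 369 → P i := stepQ 368 Q368 (allL N368 (tt N559 (iv F14873)) (tt N368 F7553) (tt N587 (iv F14879)) (tt N242 F14800) (tt N588 (iv F14886)) (tt N247 (iv D4241)) (tt N589 D7177))
theorem Q370 : ∀ i, i < 370 → P i := stepQ 369 Q369 (allL N369 (tt N560 (iv F11400)) (tt N369 F14730) (tt N579 (iv D6481)) (tt N590 D7410) (tt N371 (iv F14861)) (tt N367 F14731) (tt N242 (iv F14741)))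
theorem Q371 : ∀ i, i < 371 → P i := stepQ 370 Q370 (allL N370 (tt N561 (iv F15388)) (tt N370 F14671) (tt N591 F10558) (tt N243 F14668) (tt N592 (iv D5974)) (tt N593 (iv F15273)) (tt N249 (iv F14667)))
theorem Q372 : ∀ i, i < 372 → P i := stepQ 371 Q371 (allL N371 (tt N562 F15736) (tt N371 F14859) (tt N581 F14860) (tt N594 D7449) (tt N369 F14861) (tt N243 (iv D7164)) (tt N366 F14862))
theorem Q373 : ∀ i, i < 373 → P i := stepQ 372 Q372 (allL N372 (tt N551 (iv F10237)) (tt N595 F5505) (tt N244 (iv F14713)) (tt N596 (iv D3199)) (tt N582 D6258) (tt N597 (iv F10942)) (tt N598 F14083))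
theorem Q374 : ∀ i, i < 374 → P i := stepQ 373 Q373 (allL N373 (tt N553 (iv F15644)) (tt N373 F14863) (tt N597 F14864) (tt N599 (iv F14890)) (tt N583 F14865) (tt N244 (iv D7165)) (tt N600 F14866))
theorem Q375 : ∀ i, i < 375 → P i := stepQ 374 Q374 (allL N374 (tt N554 (iv F15743)) (tt N374 F14716) (tt N598 F11410) (tt N601 F14715) (tt N584 (iv F15650)) (tt N602 (iv D6569)) (tt N244 (iv F14714)))
theorem Q376 : ∀ i, i < 376 → P i := stepQ 375 Q375 (allL N375 (tt N555 (iv F14867)) (tt N375 F7554) (tt N603 (iv F14880)) (tt N245 F14793) (tt N604 (iv F14883)) (tt N599 D7178) (tt N247 (iv D4242)))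
theorem Q377 : ∀ i, i < 377 → P i := stepQ 376 Q376 (allL N376 (tt N556 F13471) (tt N376 F13478) (tt N605 (iv F14662)) (tt N246 (iv D3567)) (tt N606 D6919) (tt N249 (iv F14666)) (tt N601 (iv F14660)))
theorem Q378 : ∀ i, i < 378 → P i := stepQ 377 Q377 (allL N377 (tt N563 (iv F14870)) (tt N607 D7170) (tt N247 (iv D4239)) (tt N608 D7171) (tt N609 D7172) (tt N587 D7173) (tt N603 D7174))
theorem Q379 : ∀ i, i < 379 → P i := stepQ 378 Q378 (allL N378 (tt N564 (iv F14872)) (tt N378 F7552) (tt N609 (iv F14878)) (tt N604 D7175) (tt N247 (iv D4240)) (tt N588 D7176) (tt N604 F14884))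
theorem Q380 : ∀ i, i < 380 → P i := stepQ 379 Q379 (allL N379 (tt N565 (iv F15397)) (tt N610 F10566) (tt N249 (iv F14664)) (tt N611 D7329) (tt N612 F10567) (tt N605 (iv F14077)) (tt N591 (iv D5979)))
theorem Q381 : ∀ i, i < 381 → P i := stepQ 380 Q380 (allL N380 (tt N566 (iv F15394)) (tt N380 F14670) (tt N612 F10560) (tt N606 F14674) (tt N249 (iv F14665)) (tt N606 (iv F14663)) (tt N592 (iv D5976)))
theorem Q382 : ∀ i, i < 382 → P i := stepQ 381 Q381 (allL N381 (tt N567 (iv F2784)) (tt N503 F2758) (tt N251 (iv F2846)) (tt N579 D3320) (tt N547 (iv F2777)) (tt N567 (iv F2787)) (tt N500 (iv D1615)))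
theorem Q383 : ∀ i, i < 383 → P i := stepQ 382 Q382 (allL N382 (tt N506 F13087) (tt N466 (iv D376)) (tt N252 (iv F752)) (tt N613 D789) (tt N382 F13088) (tt N506 (iv F13231)) (tt N506 (iv F1382)))
theorem Q384 : ∀ i, i < 384 → P i := stepQ 383 Q383 (allL N383 (tt N390 (iv F2868)) (tt N260 F2844) (tt N383 F11863) (tt N334 (iv D1690)) (tt N390 (iv F2870)) (tt N390 (iv F2871)) (tt N253 D3481))
theorem Q385 : ∀ i, i < 385 → P i := stepQ 384 Q384 (allL N384 (tt N568 (iv F4804)) (tt N509 F4109) (tt N384 F13825) (tt N614 F13740) (tt N254 (iv D2296)) (tt N615 D4476) (tt N616 (iv F13828)))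
theorem Q386 : ∀ i, i < 386 → P i := stepQ 385 Q385 (allL N385 (tt N569 (iv F4819)) (tt N510 F4110) (tt N385 F13816) (tt N519 F4111) (tt N615 (iv F8064)) (tt N254 (iv D2297)) (tt N617 (iv F13817)))
theorem Q387 : ∀ i, i < 387 → P i := stepQ 386 Q386 (allL N386 (tt N570 (iv F4822)) (tt N511 F4112) (tt N386 F13826) (tt N618 (iv F13774)) (tt N616 (iv F13827)) (tt N619 (iv F13829)) (tt N254 (iv D2298)))
theorem Q388 : ∀ i, i < 388 → P i := stepQ 387 Q387 (allL N387 (tt N388 F2408) (tt N512 F2409) (tt N620 F13873) (tt N255 (iv D1330)) (tt N614 F13874) (tt N621 D2712) (tt N622 (iv F13720)))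
theorem Q389 : ∀ i, i < 389 → P i := stepQ 388 Q388 (allL N388 (tt N387 (iv F2408)) (tt N467 F1220) (tt N614 D1331) (tt N256 (iv D639)) (tt N620 D1332) (tt N623 D1333) (tt N618 D1334))
theorem Q390 : ∀ i, i < 390 → P i := stepQ 389 Q389 (allL N389 (tt N389 F7506) (tt N389 F13480) (tt N545 F7507) (tt N258 (iv F13583)) (tt N389 F14780) (tt N544 (iv D4221)) (tt N389 F13481))
theorem Q391 : ∀ i, i < 391 → P i := stepQ 390 Q390 (allL N390 (tt N383 F2868) (tt N261 F2869) (tt N390 F11862) (tt N541 (iv D1704)) (tt N383 F2870) (tt N383 F2871) (tt N359 D3510))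
theorem Q392 : ∀ i, i < 392 → P i := stepQ 391 Q391 (allL N391 (tt N421 (iv F8321)) (tt N529 F4254) (tt N264 (iv F8350)) (tt N624 D4641) (tt N625 (iv F4259)) (tt N626 F4255) (tt N519 (iv D2378)))
theorem Q393 : ∀ i, i < 393 → P i := stepQ 392 Q392 (allL N392 (tt N416 (iv F14903)) (tt N266 (iv F14653)) (tt N625 F8352) (tt N409 F14613) (tt N264 F8353) (tt N627 (iv D4635)) (tt N628 (iv F14614)))
theorem Q394 : ∀ i, i < 394 → P i := stepQ 393 Q393 (allL N393 (tt N422 (iv F14720)) (tt N267 (iv F14804)) (tt N626 F8348) (tt N273 F14719) (tt N627 F8349) (tt N264 (iv F8351)) (tt N629 (iv D4631)))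
theorem Q395 : ∀ i, i < 395 → P i := stepQ 394 Q394 (allL N394 (tt N423 (iv F8311)) (tt N268 (iv F8342)) (tt N519 F4245) (tt N407 D4632) (tt N628 F14616) (tt N517 (iv D2373)) (tt N264 D4633))
theorem Q396 : ∀ i, i < 396 → P i := stepQ 395 Q395 (allL N395 (tt N630 (iv F4600)) (tt N265 (iv F8424)) (tt N529 F4279) (tt N361 (iv F13968)) (tt N631 (iv F13765)) (tt N632 F4280) (tt N524 (iv D2397)))
theorem Q397 : ∀ i, i < 397 → P i := stepQ 396 Q396 (allL N396 (tt N278 F5364) (tt N631 F5365) (tt N266 D6038) (tt N633 (iv D3086)) (tt N265 (iv F13967)) (tt N634 F13963) (tt N635 F13964))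
theorem Q398 : ∀ i, i < 398 → P i := stepQ 397 Q397 (allL N397 (tt N279 (iv F8451)) (tt N632 F8421) (tt N267 (iv F14805)) (tt N636 (iv F14540)) (tt N634 F8422) (tt N265 (iv F8425)) (tt N637 (iv D4670)))
theorem Q399 : ∀ i, i < 399 → P i := stepQ 398 Q398 (allL N398 (tt N280 (iv F8416)) (tt N524 F4273) (tt N268 (iv F8343)) (tt N638 D4671) (tt N635 (iv F8420)) (tt N522 (iv D2391)) (tt N265 D4672))
theorem Q400 : ∀ i, i < 400 → P i := stepQ 399 Q399 (allL N399 (tt N281 F15092) (tt N409 F15093) (tt N639 F15094) (tt N266 F15095) (tt N269 F15096) (tt N640 F15097) (tt N641 (iv D7248)))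
theorem Q401 : ∀ i, i < 401 → P i := stepQ 400 Q400 (allL N400 (tt N282 F14655) (tt N627 F8344) (tt N634 F8345) (tt N642 D7193) (tt N267 (iv F14807)) (tt N266 (iv F14654)) (tt N404 (iv D4624)))
theorem Q402 : ∀ i, i < 402 → P i := stepQ 401 Q401 (allL N401 (tt N283 (iv F14621)) (tt N628 F13573) (tt N635 (iv F14622)) (tt N643 (iv D5758)) (tt N268 (iv F14623)) (tt N402 F14619) (tt N266 F14632))
theorem Q403 : ∀ i, i < 403 → P i := stepQ 402 Q402 (allL N402 (tt N284 F8374) (tt N629 F8340) (tt N637 F8341) (tt N644 D7192) (tt N404 (iv D4622)) (tt N401 (iv F14619)) (tt N267 (iv F14808)))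
theorem Q404 : ∀ i, i < 404 → P i := stepQ 403 Q403 (allL N403 (tt N274 (iv F14814)) (tt N407 (iv F14625)) (tt N645 F9021) (tt N268 F14624) (tt N646 F9022) (tt N647 (iv D5078)) (tt N270 (iv F9029)))
theorem Q405 : ∀ i, i < 405 → P i := stepQ 404 Q404 (allL N404 (tt N285 D4620) (tt N517 (iv D2370)) (tt N522 F4243) (tt N648 D4621) (tt N402 D4622) (tt N268 D4623) (tt N400 D4624))
theorem Q406 : ∀ i, i < 406 → P i := stepQ 405 Q405 (allL N405 (tt N286 F13990) (tt N649 F9070) (tt N269 (iv F14812)) (tt N650 F13991) (tt N639 F9071) (tt N651 (iv D5108)) (tt N652 F9072))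
theorem Q407 : ∀ i, i < 407 → P i := stepQ 406 Q406 (allL N406 (tt N287 (iv F14825)) (tt N410 F9019) (tt N651 F9020) (tt N287 (iv F14828)) (tt N640 (iv F15091)) (tt N269 F14813) (tt N653 (iv D5072)))
theorem Q408 : ∀ i, i < 408 → P i := stepQ 407 Q407 (allL N407 (tt N288 (iv F14830)) (tt N403 F14625) (tt N652 F14630) (tt N394 (iv D4632)) (tt N641 F14631) (tt N654 (iv F14629)) (tt N269 (iv F14811)))
theorem Q409 : ∀ i, i < 409 → P i := stepQ 408 Q408 (allL N408 (tt N271 (iv F8386)) (tt N655 F4579) (tt N270 (iv F9027)) (tt N656 D5090) (tt N657 F4580) (tt N658 (iv D2602)) (tt N645 F4581))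
theorem Q410 : ∀ i, i < 410 → P i := stepQ 409 Q409 (allL N409 (tt N272 (iv F14767)) (tt N399 (iv F15093)) (tt N657 F9025) (tt N392 (iv F14613)) (tt N270 (iv F9028)) (tt N659 F9026) (tt N646 (iv D5081)))
theorem Q411 : ∀ i, i < 411 → P i := stepQ 410 Q410 (allL N410 (tt N273 (iv F8378)) (tt N406 (iv F9019)) (tt N658 F4570) (tt N422 D5082) (tt N659 (iv F9024)) (tt N270 D5083) (tt N660 (iv D2597)))
theorem Q412 : ∀ i, i < 412 → P i := stepQ 411 Q411 (allL N411 (tt N661 (iv F13770)) (tt N271 (iv F8387)) (tt N276 (iv F13922)) (tt N662 D4718) (tt N663 F13738) (tt N534 (iv D2416)) (tt N664 F4298))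
theorem Q413 : ∀ i, i < 413 → P i := stepQ 412 Q412 (allL N412 (tt N656 F14982) (tt N662 F14983) (tt N656 F14985) (tt N271 (iv D7217)) (tt N665 (iv F15754)) (tt N656 F14984) (tt N666 D7501))
theorem Q414 : ∀ i, i < 414 → P i := stepQ 413 Q413 (allL N413 (tt N657 F13869) (tt N663 (iv D3133)) (tt N272 (iv F10710)) (tt N667 F14338) (tt N271 (iv F13872)) (tt N668 F13870) (tt N669 F13871))
theorem Q415 : ∀ i, i < 415 → P i := stepQ 414 Q414 (allL N414 (tt N658 F4264) (tt N534 F4265) (tt N273 (iv F8379)) (tt N658 F13721) (tt N668 (iv F8363)) (tt N271 D4652) (tt N521 (iv D2383)))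
theorem Q416 : ∀ i, i < 416 → P i := stepQ 415 Q415 (allL N415 (tt N645 F8358) (tt N664 F8359) (tt N274 (iv F14816)) (tt N670 F14649) (tt N669 F8360) (tt N671 (iv D4637)) (tt N271 (iv F8389)))
theorem Q417 : ∀ i, i < 417 → P i := stepQ 416 Q416 (allL N416 (tt N392 F14903) (tt N281 F14904) (tt N672 F14905) (tt N272 F14908) (tt N275 F14906) (tt N673 (iv D7184)) (tt N674 F14907))
theorem Q418 : ∀ i, i < 418 → P i := stepQ 417 Q417 (allL N417 (tt N659 F14955) (tt N282 F14956) (tt N668 F14957) (tt N675 (iv F14960)) (tt N273 F14958) (tt N272 F14959) (tt N420 (iv D7209)))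
theorem Q419 : ∀ i, i < 419 → P i := stepQ 418 Q418 (allL N418 (tt N646 F8376) (tt N283 F13867) (tt N669 F8377) (tt N676 F14607) (tt N274 (iv F14818)) (tt N419 (iv D4648)) (tt N272 F13868))
theorem Q420 : ∀ i, i < 420 → P i := stepQ 419 Q419 (allL N419 (tt N660 F4261) (tt N284 D4646) (tt N521 (iv D2381)) (tt N677 D4647) (tt N420 (iv F8357)) (tt N418 D4648) (tt N273 D4649))
theorem Q421 : ∀ i, i < 421 → P i := stepQ 420 Q420 (allL N420 (tt N647 F8355) (tt N285 F8356) (tt N671 (iv D4636)) (tt N678 D7208) (tt N419 F8357) (tt N274 F14819) (tt N417 D7209))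
theorem Q422 : ∀ i, i < 422 → P i := stepQ 421 Q421 (allL N421 (tt N391 F8321) (tt N679 F13848) (tt N275 (iv F14823)) (tt N680 D7186) (tt N672 (iv F8329)) (tt N681 F8323) (tt N682 (iv D4614)))
theorem Q423 : ∀ i, i < 423 → P i := stepQ 422 Q422 (allL N422 (tt N393 F14720) (tt N287 (iv F14826)) (tt N681 (iv F14722)) (tt N410 (iv D5082)) (tt N673 F14723) (tt N275 (iv F14822)) (tt N683 F14724))
theorem Q424 : ∀ i, i < 424 → P i := stepQ 423 Q423 (allL N423 (tt N394 F8311) (tt N288 (iv F14831)) (tt N682 F8312) (tt N288 (iv F14833)) (tt N674 F14634) (tt N684 (iv D4610)) (tt N275 F14824))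
theorem Q425 : ∀ i, i < 425 → P i := stepQ 424 Q424 (allL N424 (tt N276 F5178) (tt N439 (iv F10239)) (tt N661 F5179) (tt N685 F14159) (tt N446 (iv D2958)) (tt N686 F5180) (tt N687 (iv F8485)))
theorem Q426 : ∀ i, i < 426 → P i := stepQ 425 Q425 (allL N425 (tt N685 (iv F14133)) (tt N277 (iv F10705)) (tt N688 F14128) (tt N276 F5419) (tt N689 (iv D3131)) (tt N690 F14129) (tt N691 D6132))
theorem Q427 : ∀ i, i < 427 → P i := stepQ 426 Q426 (allL N426 (tt N446 (iv F2559)) (tt N278 (iv F2664)) (tt N663 D1532) (tt N692 (iv D729)) (tt N276 D1533) (tt N693 (iv F2671)) (tt N694 D1534))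
theorem Q428 : ∀ i, i < 428 → P i := stepQ 427 Q427 (allL N427 (tt N686 (iv F13768)) (tt N279 (iv F8452)) (tt N534 F4294) (tt N695 F14204) (tt N693 (iv F13919)) (tt N276 (iv F13923)) (tt N532 (iv D2413)))
theorem Q429 : ∀ i, i < 429 → P i := stepQ 428 Q428 (allL N428 (tt N687 (iv F8482)) (tt N280 (iv F13954)) (tt N664 F13916) (tt N696 (iv F14062)) (tt N694 F5423) (tt N697 F13917) (tt N276 (iv D3135)))
theorem Q430 : ∀ i, i < 430 → P i := stepQ 429 Q429 (allL N429 (tt N362 F5390) (tt N689 F5391) (tt N351 D6072) (tt N698 (iv D3101)) (tt N277 D6073) (tt N699 (iv F10695)) (tt N700 D6074))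
theorem Q431 : ∀ i, i < 431 → P i := stepQ 430 Q430 (allL N430 (tt N363 (iv F14036)) (tt N690 F11394) (tt N352 (iv F14847)) (tt N701 (iv D6561)) (tt N699 F14293) (tt N277 (iv F14292)) (tt N702 F11395))
theorem Q432 : ∀ i, i < 432 → P i := stepQ 431 Q431 (allL N431 (tt N364 F15486) (tt N691 F15487) (tt N353 F15488) (tt N703 (iv F16024)) (tt N700 F15489) (tt N704 F15490) (tt N277 (iv D7350)))
theorem Q433 : ∀ i, i < 433 → P i := stepQ 432 Q432 (allL N432 (tt N633 (iv F2650)) (tt N692 F1329) (tt N575 (iv F1373)) (tt N278 D1517) (tt N698 (iv F2662)) (tt N705 (iv D722)) (tt N633 (iv F2653)))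
theorem Q434 : ∀ i, i < 434 → P i := stepQ 433 Q433 (allL N433 (tt N634 F13957) (tt N693 F5377) (tt N282 D6062) (tt N706 (iv D3095)) (tt N279 F13958) (tt N278 F5378) (tt N438 F13959))
theorem Q435 : ∀ i, i < 435 → P i := stepQ 434 Q434 (allL N434 (tt N635 (iv F13960)) (tt N694 F5393) (tt N283 (iv F10714)) (tt N635 (iv F13961)) (tt N280 (iv F13955)) (tt N436 F13913) (tt N278 (iv D3104)))
theorem Q436 : ∀ i, i < 436 → P i := stepQ 435 Q435 (allL N435 (tt N636 (iv F14538)) (tt N695 F11397) (tt N707 F14537) (tt N279 F14205) (tt N708 (iv F14188)) (tt N701 (iv D6562)) (tt N709 F11399))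
theorem Q437 : ∀ i, i < 437 → P i := stepQ 436 Q436 (allL N436 (tt N637 (iv F4291)) (tt N532 (iv D2410)) (tt N284 (iv F8372)) (tt N710 D4705) (tt N438 F4290) (tt N434 (iv F13913)) (tt N279 D4707))
theorem Q438 : ∀ i, i < 438 → P i := stepQ 437 Q437 (allL N437 (tt N638 F14986) (tt N696 F14987) (tt N711 (iv F15959)) (tt N280 (iv D7218)) (tt N638 F14988) (tt N712 (iv F15131)) (tt N703 D7502))
theorem Q439 : ∀ i, i < 439 → P i := stepQ 438 Q438 (allL N438 (tt N522 (iv D2389)) (tt N697 F4285) (tt N285 (iv F8338)) (tt N713 (iv F4586)) (tt N436 (iv F4290)) (tt N280 D4666) (tt N433 (iv F13959)))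
theorem Q440 : ∀ i, i < 440 → P i := stepQ 439 Q439 (allL N439 (tt N639 (iv F14690)) (tt N424 F10239) (tt N281 F14768) (tt N714 F14682) (tt N286 (iv D5773)) (tt N715 F10240) (tt N716 F14691))
theorem Q441 : ∀ i, i < 441 → P i := stepQ 440 Q440 (allL N440 (tt N640 (iv F15088)) (tt N673 F14896) (tt N715 F14897) (tt N717 D7471) (tt N287 F14898) (tt N281 (iv F14899)) (tt N451 (iv D7180)))
theorem Q442 : ∀ i, i < 442 → P i := stepQ 441 Q441 (allL N441 (tt N641 F15071) (tt N674 F15072) (tt N716 F15073) (tt N718 F15076) (tt N288 F15074) (tt N450 (iv D7243)) (tt N281 F15075))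
theorem Q443 : ∀ i, i < 443 → P i := stepQ 442 Q442 (allL N442 (tt N642 F15460) (tt N675 F15461) (tt N719 (iv F16029)) (tt N282 (iv D7342)) (tt N642 F15462) (tt N717 (iv F15907)) (tt N720 (iv F16110)))
theorem Q444 : ∀ i, i < 444 → P i := stepQ 443 Q443 (allL N443 (tt N643 F10202) (tt N676 (iv F14650)) (tt N721 (iv D5753)) (tt N283 F14633) (tt N676 (iv F14652)) (tt N722 (iv F15144)) (tt N718 F14651))
theorem Q445 : ∀ i, i < 445 → P i := stepQ 444 Q444 (allL N444 (tt N644 F14974) (tt N677 F14975) (tt N444 F14977) (tt N284 (iv D7214)) (tt N723 D7499) (tt N724 D7500) (tt N644 F14976))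
theorem Q446 : ∀ i, i < 446 → P i := stepQ 445 Q445 (allL N445 (tt N648 F14928) (tt N678 (iv F14953)) (tt N725 (iv F15798)) (tt N285 (iv D7188)) (tt N726 F15796) (tt N678 (iv F14954)) (tt N727 D7474))
theorem Q447 : ∀ i, i < 447 → P i := stepQ 446 Q446 (allL N446 (tt N426 F2559) (tt N286 (iv F5157)) (tt N679 (iv F4309)) (tt N493 (iv D1445)) (tt N424 D2958) (tt N728 (iv F5165)) (tt N729 F4304))
theorem Q448 : ∀ i, i < 448 → P i := stepQ 447 Q447 (allL N447 (tt N650 (iv F5142)) (tt N493 F2549) (tt N447 F2550) (tt N286 D2947) (tt N730 (iv F5155)) (tt N490 (iv D1439)) (tt N650 (iv F5146)))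
theorem Q449 : ∀ i, i < 449 → P i := stepQ 448 Q448 (allL N448 (tt N651 F9057) (tt N728 F13980) (tt N287 (iv F14827)) (tt N731 F13981) (tt N715 F13982) (tt N286 F13983) (tt N713 (iv D5101)))
theorem Q450 : ∀ i, i < 450 → P i := stepQ 449 Q449 (allL N449 (tt N652 F13974) (tt N729 F8479) (tt N288 (iv F14832)) (tt N652 F13975) (tt N716 F13976) (tt N732 (iv D4728)) (tt N286 (iv F8480)))
theorem Q451 : ∀ i, i < 451 → P i := stepQ 450 Q450 (allL N450 (tt N653 (iv D5068)) (tt N683 F9010) (tt N713 F9011) (tt N733 D7242) (tt N451 (iv F9012)) (tt N441 D7243) (tt N287 F14829))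
theorem Q452 : ∀ i, i < 452 → P i := stepQ 451 Q451 (allL N451 (tt N654 (iv F9014)) (tt N684 (iv D4607)) (tt N732 F13846) (tt N734 D7179) (tt N450 F9012) (tt N288 F14834) (tt N440 D7180))
theorem Q453 : ∀ i, i < 453 → P i := stepQ 452 Q452 (allL N452 (tt N453 (iv F15827)) (tt N452 F15823) (tt N735 F15824) (tt N289 (iv D7447)) (tt N736 (iv F15825)) (tt N737 (iv F16049)) (tt N738 (iv F15826)))
theorem Q454 : ∀ i, i < 454 → P i := stepQ 453 Q453 (allL N453 (tt N452 F15827) (tt N453 F15828) (tt N739 F15829) (tt N290 (iv D7448)) (tt N737 (iv F16048)) (tt N736 (iv F15831)) (tt N740 F15830))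
theorem Q455 : ∀ i, i < 455 → P i := stepQ 454 Q454 (allL N454 (tt N303 (iv F344)) (tt N293 F197) (tt N741 D170) (tt N291 (iv D86)) (tt N742 D171) (tt N293 F198) (tt N743 D172))
theorem Q456 : ∀ i, i < 456 → P i := stepQ 455 Q455 (allL N455 (tt N304 (iv F347)) (tt N295 F199) (tt N744 D173) (tt N292 (iv D87)) (tt N745 D174) (tt N746 D175) (tt N295 F200))
theorem Q457 : ∀ i, i < 457 → P i := stepQ 456 Q456 (allL N456 (tt N305 (iv F625)) (tt N747 D330) (tt N293 (iv D160)) (tt N748 D331) (tt N749 D332) (tt N741 (iv F350)) (tt N750 D333))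
theorem Q458 : ∀ i, i < 458 → P i := stepQ 457 Q457 (allL N457 (tt N306 (iv F626)) (tt N742 (iv F351)) (tt N749 (iv F639)) (tt N742 (iv F352)) (tt N293 (iv D161)) (tt N742 (iv F353)) (tt N751 D334))
theorem Q459 : ∀ i, i < 459 → P i := stepQ 458 Q458 (allL N458 (tt N307 (iv F628)) (tt N743 (iv F354)) (tt N750 (iv F640)) (tt N752 D335) (tt N751 (iv F641)) (tt N753 D336) (tt N293 (iv D162)))
theorem Q460 : ∀ i, i < 460 → P i := stepQ 459 Q459 (allL N459 (tt N308 (iv F630)) (tt N463 (iv F343)) (tt N754 D337) (tt N294 (iv D163)) (tt N755 D338) (tt N756 D339) (tt N752 (iv F643)))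
theorem Q461 : ∀ i, i < 461 → P i := stepQ 460 Q460 (allL N460 (tt N309 (iv F632)) (tt N705 D340) (tt N295 (iv D164)) (tt N757 D341) (tt N758 D342) (tt N692 D343) (tt N744 (iv F355)))
theorem Q462 : ∀ i, i < 462 → P i := stepQ 461 Q461 (allL N461 (tt N310 (iv F633)) (tt N745 (iv F356)) (tt N758 (iv F648)) (tt N745 (iv F357)) (tt N295 (iv D165)) (tt N759 D344) (tt N745 (iv F358)))
theorem Q463 : ∀ i, i < 463 → P i := stepQ 462 Q462 (allL N462 (tt N311 (iv F635)) (tt N746 (iv F359)) (tt N692 (iv F649)) (tt N760 D345) (tt N759 (iv F650)) (tt N295 (iv D166)) (tt N761 D346))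
theorem Q464 : ∀ i, i < 464 → P i := stepQ 463 Q463 (allL N463 (tt N312 (iv F637)) (tt N459 F343) (tt N762 D347) (tt N296 (iv D167)) (tt N763 D348) (tt N760 (iv F653)) (tt N764 D349))
theorem Q465 : ∀ i, i < 465 → P i := stepQ 464 Q464 (allL N464 (tt N313 (iv F687)) (tt N765 D370) (tt N297 (iv D178)) (tt N766 D371) (tt N539 D372) (tt N313 (iv F688)) (tt N767 D373))
theorem Q466 : ∀ i, i < 466 → P i := stepQ 465 Q465 (allL N465 (tt N315 (iv F692)) (tt N333 (iv F376)) (tt N767 (iv F700)) (tt N347 (iv F624)) (tt N505 (iv F701)) (tt N504 D375) (tt N297 (iv D180)))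
theorem Q467 : ∀ i, i < 467 → P i := stepQ 466 Q466 (allL N466 (tt N316 (iv F693)) (tt N382 D376) (tt N298 (iv D181)) (tt N768 D377) (tt N466 F12970) (tt N316 (iv F13071)) (tt N316 (iv F694)))
theorem Q468 : ∀ i, i < 468 → P i := stepQ 467 Q467 (allL N467 (tt N317 (iv F1076)) (tt N388 (iv F1220)) (tt N769 D642) (tt N299 (iv D307)) (tt N770 D643) (tt N771 D644) (tt N772 D645))
theorem Q469 : ∀ i, i < 469 → P i := stepQ 468 Q468 (allL N468 (tt N319 (iv F1102)) (tt N550 D670) (tt N300 (iv D319)) (tt N773 D671) (tt N319 F13240) (tt N468 F13211) (tt N548 D673))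
theorem Q470 : ∀ i, i < 470 → P i := stepQ 469 Q469 (allL N469 (tt N521 (iv F2186)) (tt N302 F1177) (tt N660 D1274) (tt N301 (iv D614)) (tt N774 D1275) (tt N775 D1276) (tt N658 D1277))
theorem Q471 : ∀ i, i < 471 → P i := stepQ 470 Q470 (allL N470 (tt N324 F1179) (tt N776 D1280) (tt N302 (iv D616)) (tt N324 F1180) (tt N777 D1281) (tt N778 D1282) (tt N779 D1283))
theorem Q472 : ∀ i, i < 472 → P i := stepQ 471 Q471 (allL N471 (tt N325 F1181) (tt N774 (iv F2318)) (tt N777 (iv F2328)) (tt N536 (iv F13632)) (tt N302 (iv D617)) (tt N780 D1285) (tt N781 D1286))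
theorem Q473 : ∀ i, i < 473 → P i := stepQ 472 Q472 (allL N472 (tt N326 F1182) (tt N775 (iv F2319)) (tt N778 (iv F2330)) (tt N771 (iv F1225)) (tt N780 (iv F2336)) (tt N302 (iv D618)) (tt N782 D1287))
theorem Q474 : ∀ i, i < 474 → P i := stepQ 473 Q473 (allL N473 (tt N327 F1183) (tt N658 (iv F2320)) (tt N779 (iv F2332)) (tt N534 (iv F13608)) (tt N781 (iv F2338)) (tt N655 D1289) (tt N302 (iv D619)))
theorem Q475 : ∀ i, i < 475 → P i := stepQ 474 Q474 (allL N474 (tt N741 F661) (tt N783 D742) (tt N303 (iv D350)) (tt N784 D743) (tt N785 D744) (tt N305 F662) (tt N786 D745))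
theorem Q476 : ∀ i, i < 476 → P i := stepQ 475 Q475 (allL N475 (tt N742 F663) (tt N475 F664) (tt N785 (iv F1355)) (tt N306 F665) (tt N303 (iv D351)) (tt N306 F666) (tt N486 (iv F1267)))
theorem Q477 : ∀ i, i < 477 → P i := stepQ 476 Q476 (allL N476 (tt N743 F667) (tt N476 F668) (tt N786 (iv F1358)) (tt N499 (iv F1297)) (tt N486 (iv F1266)) (tt N484 (iv F1260)) (tt N303 (iv D352)))
theorem Q478 : ∀ i, i < 478 → P i := stepQ 477 Q477 (allL N477 (tt N744 F669) (tt N787 D746) (tt N304 (iv D353)) (tt N788 D747) (tt N789 D748) (tt N790 D749) (tt N309 F670))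
theorem Q479 : ∀ i, i < 479 → P i := stepQ 478 Q478 (allL N478 (tt N745 F671) (tt N478 F672) (tt N789 (iv F1363)) (tt N310 F673) (tt N304 (iv D354)) (tt N496 (iv F1290)) (tt N310 F674))
theorem Q480 : ∀ i, i < 480 → P i := stepQ 479 Q479 (allL N479 (tt N746 F675) (tt N479 F676) (tt N790 (iv F1366)) (tt N489 (iv F1273)) (tt N496 (iv F1289)) (tt N304 (iv D355)) (tt N494 (iv F1283)))
theorem Q481 : ∀ i, i < 481 → P i := stepQ 480 Q480 (allL N480 (tt N791 D1414) (tt N305 (iv D676)) (tt N480 F1251) (tt N792 D1415) (tt N793 D1416) (tt N783 (iv F1352)) (tt N794 D1417))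
theorem Q482 : ∀ i, i < 482 → P i := stepQ 481 Q481 (allL N481 (tt N748 F1252) (tt N792 (iv F2495)) (tt N795 (iv F2418)) (tt N305 (iv D677)) (tt N796 D1418) (tt N797 D1419) (tt N798 D1420))
theorem Q483 : ∀ i, i < 483 → P i := stepQ 482 Q482 (allL N482 (tt N749 F1253) (tt N793 (iv F2497)) (tt N306 F1254) (tt N799 D1421) (tt N305 (iv D678)) (tt N785 (iv F1356)) (tt N800 D1422))
theorem Q484 : ∀ i, i < 484 → P i := stepQ 483 Q483 (allL N483 (tt N750 F1255) (tt N794 (iv F2500)) (tt N307 F1256) (tt N801 D1423) (tt N800 (iv F2508)) (tt N801 F13242) (tt N305 (iv D679)))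
theorem Q485 : ∀ i, i < 485 → P i := stepQ 484 Q484 (allL N484 (tt N751 F1257) (tt N484 F1258) (tt N800 (iv F2507)) (tt N802 D1425) (tt N307 F1259) (tt N476 F1260) (tt N306 (iv D680)))
theorem Q486 : ∀ i, i < 486 → P i := stepQ 485 Q485 (allL N485 (tt N752 F1261) (tt N485 F1262) (tt N803 D1426) (tt N307 (iv D681)) (tt N804 D1427) (tt N805 D1428) (tt N308 F1263))
theorem Q487 : ∀ i, i < 487 → P i := stepQ 486 Q486 (allL N486 (tt N753 F1264) (tt N486 F1265) (tt N801 F13244) (tt N806 D1429) (tt N476 F1266) (tt N307 (iv D682)) (tt N475 F1267))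
theorem Q488 : ∀ i, i < 488 → P i := stepQ 487 Q487 (allL N487 (tt N754 F1268) (tt N807 D1430) (tt N308 (iv D683)) (tt N808 D1431) (tt N809 D1432) (tt N810 F13731) (tt N803 (iv F2518)))
theorem Q489 : ∀ i, i < 489 → P i := stepQ 488 Q488 (allL N488 (tt N755 F1269) (tt N488 F1270) (tt N809 (iv F2530)) (tt N498 (iv F1294)) (tt N308 (iv D684)) (tt N811 D1434) (tt N804 (iv F2521)))
theorem Q490 : ∀ i, i < 490 → P i := stepQ 489 Q489 (allL N489 (tt N756 F1271) (tt N489 F1272) (tt N810 F13728) (tt N479 F1273) (tt N811 (iv F2535)) (tt N308 (iv D685)) (tt N812 F13729))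
theorem Q491 : ∀ i, i < 491 → P i := stepQ 490 Q490 (allL N490 (tt N813 D1436) (tt N309 (iv D686)) (tt N490 F1274) (tt N814 D1437) (tt N815 D1438) (tt N447 D1439) (tt N787 (iv F1360)))
theorem Q492 : ∀ i, i < 492 → P i := stepQ 491 Q491 (allL N491 (tt N757 F1275) (tt N814 (iv F2544)) (tt N757 F13261) (tt N309 (iv D687)) (tt N816 (iv F13125)) (tt N817 D1441) (tt N818 (iv F13122)))
theorem Q493 : ∀ i, i < 493 → P i := stepQ 492 Q492 (allL N492 (tt N758 F1276) (tt N815 (iv F2546)) (tt N310 F1277) (tt N819 D1443) (tt N309 (iv D688)) (tt N820 D1444) (tt N789 (iv F1364)))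
theorem Q494 : ∀ i, i < 494 → P i := stepQ 493 Q493 (allL N493 (tt N692 F1278) (tt N447 (iv F2549)) (tt N311 F1279) (tt N446 D1445) (tt N820 (iv F2557)) (tt N309 (iv D689)) (tt N821 D1446))
theorem Q495 : ∀ i, i < 495 → P i := stepQ 494 Q494 (allL N494 (tt N759 F1280) (tt N494 F1281) (tt N820 (iv F2556)) (tt N822 D1447) (tt N311 F1282) (tt N310 (iv D690)) (tt N479 F1283))
theorem Q496 : ∀ i, i < 496 → P i := stepQ 495 Q495 (allL N495 (tt N760 F1284) (tt N495 F1285) (tt N823 D1448) (tt N311 (iv D691)) (tt N824 D1449) (tt N312 F1286) (tt N825 D1450))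
theorem Q497 : ∀ i, i < 497 → P i := stepQ 496 Q496 (allL N496 (tt N761 F1287) (tt N496 F1288) (tt N821 (iv F2561)) (tt N826 D1451) (tt N479 F1289) (tt N478 F1290) (tt N311 (iv D692)))
theorem Q498 : ∀ i, i < 498 → P i := stepQ 497 Q497 (allL N497 (tt N762 F1291) (tt N617 D1452) (tt N312 (iv D693)) (tt N827 D1453) (tt N828 D1454) (tt N823 (iv F2567)) (tt N510 F13670))
theorem Q499 : ∀ i, i < 499 → P i := stepQ 498 Q498 (allL N498 (tt N763 F1292) (tt N498 F1293) (tt N828 (iv F2579)) (tt N488 F1294) (tt N312 (iv D694)) (tt N824 (iv F2570)) (tt N829 D1456))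
theorem Q500 : ∀ i, i < 500 → P i := stepQ 499 Q499 (allL N499 (tt N764 F1295) (tt N499 F1296) (tt N510 F13668) (tt N476 F1297) (tt N829 (iv F2584)) (tt N508 F13669) (tt N312 (iv D695)))
theorem Q501 : ∀ i, i < 501 → P i := stepQ 500 Q500 (allL N500 (tt N830 (iv F1392)) (tt N313 (iv D766)) (tt N334 (iv F1423)) (tt N831 D1614) (tt N832 F1390) (tt N765 F1375) (tt N381 D1615))
theorem Q502 : ∀ i, i < 502 → P i := stepQ 501 Q501 (allL N501 (tt N766 F1376) (tt N831 (iv F2757)) (tt N833 (iv F2727)) (tt N313 (iv D767)) (tt N834 D1616) (tt N835 D1617) (tt N836 D1618))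
theorem Q503 : ∀ i, i < 503 → P i := stepQ 502 Q502 (allL N502 (tt N539 F1377) (tt N832 (iv F1389)) (tt N314 F1378) (tt N837 D1619) (tt N313 (iv D768)) (tt N539 F1379) (tt N838 (iv F1402)))
theorem Q504 : ∀ i, i < 504 → P i := stepQ 503 Q503 (allL N503 (tt N767 F1380) (tt N381 (iv F2758)) (tt N315 F1381) (tt N839 D1620) (tt N838 (iv F1401)) (tt N840 (iv F1398)) (tt N313 (iv D769)))
theorem Q505 : ∀ i, i < 505 → P i := stepQ 504 Q504 (allL N504 (tt N505 F703) (tt N336 (iv F743)) (tt N838 (iv F1400)) (tt N505 F13330) (tt N315 F704) (tt N465 (iv D375)) (tt N314 F705))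
theorem Q506 : ∀ i, i < 506 → P i := stepQ 505 Q505 (allL N505 (tt N504 (iv F703)) (tt N337 (iv F736)) (tt N840 (iv F1396)) (tt N504 (iv F13330)) (tt N465 F701) (tt N315 F702) (tt N331 (iv D374)))
theorem Q507 : ∀ i, i < 507 → P i := stepQ 506 Q506 (allL N506 (tt N382 (iv F13087)) (tt N316 (iv D770)) (tt N338 (iv F1431)) (tt N841 D1621) (tt N506 F13035) (tt N382 F13231) (tt N382 F1382))
theorem Q508 : ∀ i, i < 508 → P i := stepQ 507 Q507 (allL N507 (tt N768 F1383) (tt N841 (iv F2765)) (tt N842 (iv F2745)) (tt N316 (iv D771)) (tt N843 D1623) (tt N844 D1624) (tt N845 D1625))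
theorem Q509 : ∀ i, i < 509 → P i := stepQ 508 Q508 (allL N508 (tt N769 F2115) (tt N508 F13671) (tt N317 (iv D1140)) (tt N846 F2116) (tt N825 (iv F13673)) (tt N499 (iv F13669)) (tt N824 (iv F13675)))
theorem Q510 : ∀ i, i < 510 → P i := stepQ 509 Q509 (allL N509 (tt N770 F2117) (tt N384 (iv F4109)) (tt N825 (iv F13672)) (tt N847 (iv F13613)) (tt N317 (iv D1141)) (tt N848 D2305) (tt N823 (iv F13680)))
theorem Q511 : ∀ i, i < 511 → P i := stepQ 510 Q510 (allL N510 (tt N771 F2118) (tt N385 (iv F4110)) (tt N499 (iv F13668)) (tt N326 F2119) (tt N848 (iv F4124)) (tt N317 (iv D1142)) (tt N497 (iv F13670)))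
theorem Q512 : ∀ i, i < 512 → P i := stepQ 511 Q511 (allL N511 (tt N772 F2120) (tt N386 (iv F4112)) (tt N824 (iv F13674)) (tt N772 (iv F13634)) (tt N823 (iv F13679)) (tt N828 (iv F13681)) (tt N317 (iv D1143)))
theorem Q513 : ∀ i, i < 513 → P i := stepQ 512 Q512 (allL N512 (tt N538 F2121) (tt N387 (iv F2409)) (tt N849 (iv F13611)) (tt N318 (iv D1144)) (tt N847 (iv F13614)) (tt N850 (iv F13617)) (tt N851 (iv F13619)))
theorem Q514 : ∀ i, i < 514 → P i := stepQ 513 Q513 (allL N513 (tt N513 F13315) (tt N319 (iv D1166)) (tt N339 F2162) (tt N852 D2355) (tt N550 F13316) (tt N513 F13317) (tt N549 D2356))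
theorem Q515 : ∀ i, i < 515 → P i := stepQ 514 Q514 (allL N514 (tt N773 F2163) (tt N852 (iv F4214)) (tt N853 D2357) (tt N319 (iv D1167)) (tt N854 D2358) (tt N855 D2359) (tt N773 (iv F13530)))
theorem Q516 : ∀ i, i < 516 → P i := stepQ 515 Q515 (allL N515 (tt N548 F2166) (tt N549 (iv F4215)) (tt N320 F2167) (tt N548 (iv F13378)) (tt N548 F13531) (tt N548 F13237) (tt N319 (iv D1169)))
theorem Q517 : ∀ i, i < 517 → P i := stepQ 516 Q516 (allL N516 (tt N322 F2176) (tt N329 F13529) (tt N684 D2365) (tt N321 (iv D1172)) (tt N856 D2366) (tt N682 D2367) (tt N857 D2368))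
theorem Q518 : ∀ i, i < 518 → P i := stepQ 517 Q517 (allL N517 (tt N684 (iv F4233)) (tt N404 D2370) (tt N322 (iv D1174)) (tt N858 D2371) (tt N629 D2372) (tt N394 D2373) (tt N627 D2374))
theorem Q519 : ∀ i, i < 519 → P i := stepQ 518 Q518 (allL N518 (tt N856 (iv F4234)) (tt N325 F2183) (tt N629 (iv F4244)) (tt N671 D2375) (tt N322 (iv D1175)) (tt N859 D2376) (tt N626 D2377))
theorem Q520 : ∀ i, i < 520 → P i := stepQ 519 Q519 (allL N519 (tt N682 (iv F4237)) (tt N326 F2184) (tt N394 (iv F4245)) (tt N385 (iv F4111)) (tt N859 (iv F4251)) (tt N322 (iv D1176)) (tt N391 D2378))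
theorem Q521 : ∀ i, i < 521 → P i := stepQ 520 Q520 (allL N520 (tt N857 (iv F4239)) (tt N327 F2185) (tt N627 (iv F4246)) (tt N857 (iv F13678)) (tt N626 (iv F4253)) (tt N625 D2380) (tt N322 (iv D1177)))
theorem Q522 : ∀ i, i < 522 → P i := stepQ 521 Q521 (allL N521 (tt N469 F2186) (tt N328 F2187) (tt N419 D2381) (tt N323 (iv D1178)) (tt N671 (iv F4249)) (tt N669 D2382) (tt N414 D2383))
theorem Q523 : ∀ i, i < 523 → P i := stepQ 522 Q522 (allL N522 (tt N438 D2389) (tt N324 (iv D1182)) (tt N404 (iv F4243)) (tt N776 (iv F2326)) (tt N637 D2390) (tt N398 D2391) (tt N634 D2392))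
theorem Q524 : ∀ i, i < 524 → P i := stepQ 523 Q523 (allL N523 (tt N777 (iv F2327)) (tt N637 (iv F4272)) (tt N325 F2199) (tt N860 D2393) (tt N324 (iv D1183)) (tt N861 D2394) (tt N632 D2395))
theorem Q525 : ∀ i, i < 525 → P i := stepQ 524 Q524 (allL N524 (tt N778 (iv F2329)) (tt N398 (iv F4273)) (tt N326 F2200) (tt N862 D2396) (tt N861 (iv F4276)) (tt N324 (iv D1184)) (tt N395 D2397))
theorem Q526 : ∀ i, i < 526 → P i := stepQ 525 Q525 (allL N525 (tt N779 (iv F2331)) (tt N634 (iv F4274)) (tt N327 F2201) (tt N863 (iv F13763)) (tt N632 (iv F4278)) (tt N631 (iv F13766)) (tt N324 (iv D1185)))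
theorem Q527 : ∀ i, i < 527 → P i := stepQ 526 Q526 (allL N526 (tt N536 (iv F13631)) (tt N671 (iv F4248)) (tt N697 D2400) (tt N325 (iv D1186)) (tt N328 F2202) (tt N664 D2401) (tt N864 D2402))
theorem Q528 : ∀ i, i < 528 → P i := stepQ 527 Q527 (allL N527 (tt N780 (iv F2335)) (tt N859 (iv F4250)) (tt N861 (iv F4275)) (tt N865 D2403) (tt N326 F2203) (tt N325 (iv D1187)) (tt N531 (iv F2208)))
theorem Q529 : ∀ i, i < 529 → P i := stepQ 528 Q528 (allL N528 (tt N781 (iv F2337)) (tt N626 (iv F4252)) (tt N632 (iv F4277)) (tt N866 D2404) (tt N327 F2204) (tt N529 (iv F2205)) (tt N325 (iv D1188)))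
theorem Q530 : ∀ i, i < 530 → P i := stepQ 529 Q529 (allL N529 (tt N782 (iv F2339)) (tt N391 (iv F4254)) (tt N395 (iv F4279)) (tt N867 D2405) (tt N531 (iv F2207)) (tt N528 F2205) (tt N326 (iv D1189)))
theorem Q531 : ∀ i, i < 531 → P i := stepQ 530 Q530 (allL N530 (tt N534 F13629) (tt N857 (iv F13677)) (tt N686 D2406) (tt N327 (iv D1190)) (tt N868 D2407) (tt N661 D2408) (tt N329 F2206))
theorem Q532 : ∀ i, i < 532 → P i := stepQ 531 Q531 (allL N531 (tt N655 (iv F2343)) (tt N625 (iv F4258)) (tt N631 (iv F13764)) (tt N869 D2409) (tt N529 F2207) (tt N327 (iv D1191)) (tt N527 F2208))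
theorem Q533 : ∀ i, i < 533 → P i := stepQ 532 Q532 (allL N532 (tt N535 (iv F13630)) (tt N436 D2410) (tt N328 (iv D1192)) (tt N870 D2411) (tt N697 (iv F4284)) (tt N694 (iv F13735)) (tt N427 D2413))
theorem Q534 : ∀ i, i < 534 → P i := stepQ 533 Q533 (allL N533 (tt N537 (iv F13633)) (tt N669 (iv F4263)) (tt N694 (iv F13734)) (tt N850 (iv F13616)) (tt N664 (iv F4286)) (tt N328 (iv D1193)) (tt N663 (iv F13737)))
theorem Q535 : ∀ i, i < 535 → P i := stepQ 534 Q534 (allL N534 (tt N530 (iv F13629)) (tt N414 (iv F4265)) (tt N427 (iv F4294)) (tt N473 F13608) (tt N864 (iv F4287)) (tt N411 D2416) (tt N328 (iv D1194)))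
theorem Q536 : ∀ i, i < 536 → P i := stepQ 535 Q535 (allL N535 (tt N532 F13630) (tt N732 D2420) (tt N329 (iv D1196)) (tt N871 D2421) (tt N872 D2422) (tt N729 D2423) (tt N686 (iv F4288)))
theorem Q537 : ∀ i, i < 537 → P i := stepQ 536 Q536 (allL N536 (tt N526 F13631) (tt N856 (iv F13683)) (tt N872 (iv F4301)) (tt N471 F13632) (tt N329 (iv D1197)) (tt N873 D2424) (tt N868 (iv F4289)))
theorem Q538 : ∀ i, i < 538 → P i := stepQ 537 Q537 (allL N537 (tt N533 F13633) (tt N682 (iv F13684)) (tt N729 (iv F4303)) (tt N874 (iv F13686)) (tt N873 (iv F4305)) (tt N329 (iv D1198)) (tt N679 D2426))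
theorem Q539 : ∀ i, i < 539 → P i := stepQ 538 Q538 (allL N538 (tt N512 (iv F2121)) (tt N360 (iv F2415)) (tt N812 D1348) (tt N330 (iv D646)) (tt N875 (iv F2422)) (tt N874 D1349) (tt N810 D1350))
theorem Q540 : ∀ i, i < 540 → P i := stepQ 539 Q539 (allL N539 (tt N502 (iv F1377)) (tt N830 (iv F1393)) (tt N331 F699) (tt N876 D782) (tt N464 (iv D372)) (tt N502 (iv F1379)) (tt N840 D783))
theorem Q541 : ∀ i, i < 541 → P i := stepQ 540 Q540 (allL N540 (tt N542 D810) (tt N332 (iv D388)) (tt N765 F729) (tt N542 (iv F2009)) (tt N541 D812) (tt N334 (iv F1424)) (tt N341 D813))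
theorem Q542 : ∀ i, i < 542 → P i := stepQ 541 Q541 (allL N541 (tt N334 F1443) (tt N343 F1444) (tt N830 F1445) (tt N390 D1704) (tt N540 (iv D812)) (tt N542 F1446) (tt N358 D1705))
theorem Q543 : ∀ i, i < 543 → P i := stepQ 542 Q542 (allL N542 (tt N540 (iv D810)) (tt N335 F2008) (tt N832 F1439) (tt N540 F2009) (tt N334 (iv F1441)) (tt N541 (iv F1446)) (tt N342 F13331))
theorem Q544 : ∀ i, i < 544 → P i := stepQ 543 Q543 (allL N543 (tt N543 F13319) (tt N340 F3719) (tt N543 F13356) (tt N339 (iv D2126)) (tt N543 F13307) (tt N877 D4217) (tt N543 F13357))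
theorem Q545 : ∀ i, i < 545 → P i := stepQ 544 Q544 (allL N544 (tt N544 F3721) (tt N544 F13358) (tt N340 (iv D2128)) (tt N544 F3722) (tt N544 F13308) (tt N389 D4221) (tt N544 F13359))
theorem Q546 : ∀ i, i < 546 → P i := stepQ 545 Q545 (allL N545 (tt N545 F3724) (tt N877 (iv F7501)) (tt N389 (iv F7507)) (tt N545 F13222) (tt N545 F13309) (tt N340 (iv D2130)) (tt N545 F13355))
theorem Q547 : ∀ i, i < 547 → P i := stepQ 546 Q546 (allL N546 (tt N547 (iv F2775)) (tt N767 F1395) (tt N341 (iv F1448)) (tt N878 D1636) (tt N567 (iv F2786)) (tt N547 (iv F2778)) (tt N765 (iv D777)))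
theorem Q548 : ∀ i, i < 548 → P i := stepQ 547 Q547 (allL N547 (tt N546 F2775) (tt N838 F2776) (tt N342 F13456) (tt N879 D3350) (tt N381 F2777) (tt N546 F2778) (tt N832 (iv D1629)))
theorem Q549 : ∀ i, i < 549 → P i := stepQ 548 Q548 (allL N548 (tt N515 (iv F2166)) (tt N344 (iv F2481)) (tt N347 F1246) (tt N515 F13378) (tt N515 (iv F13531)) (tt N515 (iv F13237)) (tt N468 (iv D673)))
theorem Q550 : ∀ i, i < 550 → P i := stepQ 549 Q549 (allL N549 (tt N549 F13165) (tt N515 F4215) (tt N345 F13168) (tt N344 F13380) (tt N344 F13166) (tt N344 (iv F13238)) (tt N513 (iv D2356)))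
theorem Q551 : ∀ i, i < 551 → P i := stepQ 550 Q550 (allL N550 (tt N550 F13167) (tt N468 (iv D670)) (tt N346 (iv F1475)) (tt N880 D1401) (tt N513 (iv F13316)) (tt N550 F13314) (tt N344 D1403))
theorem Q552 : ∀ i, i < 552 → P i := stepQ 551 Q551 (allL N551 (tt N372 F10237) (tt N688 F10238) (tt N348 (iv F14845)) (tt N730 (iv D5771)) (tt N714 (iv F14680)) (tt N881 F14679) (tt N882 (iv F14681)))
theorem Q553 : ∀ i, i < 553 → P i := stepQ 552 Q552 (allL N552 (tt N365 (iv F15480)) (tt N351 (iv D7348)) (tt N714 F15478) (tt N351 F15481) (tt N348 F15479) (tt N883 (iv F15731)) (tt N884 D7539))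
theorem Q554 : ∀ i, i < 554 → P i := stepQ 553 Q553 (allL N553 (tt N373 F15644) (tt N352 F15645) (tt N881 (iv D7403)) (tt N885 (iv F15846)) (tt N883 (iv F15730)) (tt N348 F15646) (tt N886 (iv F15742)))
theorem Q555 : ∀ i, i < 555 → P i := stepQ 554 Q554 (allL N554 (tt N374 F15743) (tt N353 F15744) (tt N882 F15745) (tt N887 F15746) (tt N884 (iv F16189)) (tt N888 (iv D7425)) (tt N348 F15747))
theorem Q556 : ∀ i, i < 556 → P i := stepQ 555 Q555 (allL N555 (tt N375 F14867) (tt N354 F14868) (tt N889 D7450) (tt N349 (iv D7166)) (tt N890 D7451) (tt N885 D7452) (tt N354 F14869))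
theorem Q557 : ∀ i, i < 557 → P i := stepQ 556 Q556 (allL N556 (tt N376 (iv F13471)) (tt N356 (iv F14851)) (tt N891 (iv F15269)) (tt N350 (iv D6794)) (tt N892 D7446) (tt N356 F14852) (tt N887 (iv F15266)))
theorem Q558 : ∀ i, i < 558 → P i := stepQ 557 Q557 (allL N557 (tt N366 F15475) (tt N883 (iv F15729)) (tt N699 (iv D7347)) (tt N893 D7538) (tt N352 F15476) (tt N351 F15477) (tt N562 (iv F15735)))
theorem Q559 : ∀ i, i < 559 → P i := stepQ 558 Q558 (allL N558 (tt N367 F15482) (tt N884 (iv F16186)) (tt N700 F15483) (tt N894 (iv F16073)) (tt N353 F15484) (tt N560 F15485) (tt N351 (iv D7349)))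
theorem Q560 : ∀ i, i < 560 → P i := stepQ 559 Q559 (allL N559 (tt N368 F14873) (tt N885 (iv F15845)) (tt N895 (iv F15851)) (tt N352 F14874) (tt N896 (iv F15854)) (tt N354 (iv D7169)) (tt N897 D7457))
theorem Q561 : ∀ i, i < 561 → P i := stepQ 560 Q560 (allL N560 (tt N369 F11400) (tt N886 (iv F15740)) (tt N702 (iv D6563)) (tt N898 D7431) (tt N562 (iv F15737)) (tt N558 (iv F15485)) (tt N352 F14848))
theorem Q562 : ∀ i, i < 562 → P i := stepQ 561 Q561 (allL N561 (tt N370 F15388) (tt N887 F15389) (tt N899 F15390) (tt N353 F15393) (tt N900 (iv D7323)) (tt N901 F15391) (tt N356 (iv F15392)))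
theorem Q563 : ∀ i, i < 563 → P i := stepQ 562 Q562 (allL N562 (tt N371 (iv F15736)) (tt N888 (iv D7423)) (tt N704 F15733) (tt N902 F15734) (tt N560 F15737) (tt N353 F15738) (tt N557 F15735))
theorem Q564 : ∀ i, i < 564 → P i := stepQ 563 Q563 (allL N563 (tt N377 F14870) (tt N903 D7453) (tt N354 (iv D7167)) (tt N904 F14871) (tt N905 D7454) (tt N895 D7455) (tt N889 (iv F15839)))
theorem Q565 : ∀ i, i < 565 → P i := stepQ 564 Q564 (allL N564 (tt N378 F14872) (tt N890 (iv F15841)) (tt N905 (iv F15849)) (tt N890 (iv F15842)) (tt N354 (iv D7168)) (tt N896 D7456) (tt N890 (iv F15843)))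
theorem Q566 : ∀ i, i < 566 → P i := stepQ 565 Q565 (allL N565 (tt N379 F15397) (tt N906 F15398) (tt N356 F15399) (tt N907 (iv F16103)) (tt N908 F15400) (tt N891 F15401) (tt N899 (iv D7325)))
theorem Q567 : ∀ i, i < 567 → P i := stepQ 566 Q566 (allL N566 (tt N380 F15394) (tt N892 (iv F15818)) (tt N908 F15395) (tt N892 (iv F15820)) (tt N356 F15396) (tt N892 (iv F15821)) (tt N900 (iv D7324)))
theorem Q568 : ∀ i, i < 568 → P i := stepQ 567 Q567 (allL N567 (tt N381 F2784) (tt N840 F2785) (tt N358 (iv F2874)) (tt N702 D3365) (tt N546 F2786) (tt N381 F2787) (tt N830 (iv D1635)))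
theorem Q569 : ∀ i, i < 569 → P i := stepQ 568 Q568 (allL N568 (tt N384 F4804) (tt N875 F4805) (tt N568 F13882) (tt N620 (iv D2719)) (tt N360 F4806) (tt N909 (iv F13880)) (tt N910 D5315))
theorem Q570 : ∀ i, i < 570 → P i := stepQ 569 Q569 (allL N569 (tt N385 F4819) (tt N874 F4820) (tt N569 F13877) (tt N682 F4821) (tt N909 (iv F13879)) (tt N360 (iv D2726)) (tt N911 (iv F13881)))
theorem Q571 : ∀ i, i < 571 → P i := stepQ 570 Q570 (allL N570 (tt N386 F4822) (tt N810 F4823) (tt N570 F13883) (tt N622 (iv F13697)) (tt N910 (iv F9471)) (tt N807 (iv F13888)) (tt N360 (iv D2727)))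
theorem Q572 : ∀ i, i < 572 → P i := stepQ 571 Q571 (allL N571 (tt N361 F5532) (tt N582 (iv F10948)) (tt N571 F13946) (tt N630 (iv F14092)) (tt N595 (iv D3214)) (tt N912 F13948) (tt N913 F13949))
theorem Q573 : ∀ i, i < 573 → P i := stepQ 572 Q572 (allL N572 (tt N595 (iv F2720)) (tt N362 (iv F2743)) (tt N572 F14043) (tt N914 (iv D765)) (tt N361 D1612) (tt N915 (iv F2752)) (tt N916 D1613))
theorem Q574 : ∀ i, i < 574 → P i := stepQ 573 Q573 (allL N573 (tt N912 F13857) (tt N363 (iv F11123)) (tt N573 F13858) (tt N836 (iv F14044)) (tt N915 (iv D3300)) (tt N361 F5635) (tt N839 F13859))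
theorem Q575 : ∀ i, i < 575 → P i := stepQ 574 Q574 (allL N574 (tt N913 F14039) (tt N364 (iv F11132)) (tt N574 F14040) (tt N917 (iv F14710)) (tt N916 F5646) (tt N918 F5647) (tt N361 (iv D3314)))
theorem Q576 : ∀ i, i < 576 → P i := stepQ 575 Q575 (allL N575 (tt N698 (iv F2659)) (tt N914 F1372) (tt N432 F1373) (tt N362 D1596) (tt N633 (iv F2652)) (tt N919 (iv D759)) (tt N698 (iv F2663)))
theorem Q577 : ∀ i, i < 577 → P i := stepQ 576 Q576 (allL N576 (tt N699 (iv F10693)) (tt N915 F5602) (tt N366 D6393) (tt N920 (iv D3273)) (tt N363 D6394) (tt N362 F5603) (tt N581 D6395))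
theorem Q578 : ∀ i, i < 578 → P i := stepQ 577 Q577 (allL N577 (tt N700 (iv F10707)) (tt N916 F5610) (tt N367 (iv F11131)) (tt N700 (iv F10709)) (tt N364 (iv F11133)) (tt N579 F14035) (tt N362 (iv D3278)))
theorem Q579 : ∀ i, i < 579 → P i := stepQ 578 Q578 (allL N578 (tt N701 (iv F5741)) (tt N836 F5655) (tt N921 (iv F14546)) (tt N363 (iv F14037)) (tt N922 (iv F14151)) (tt N636 (iv F14542)) (tt N831 (iv D3319)))
theorem Q580 : ∀ i, i < 580 → P i := stepQ 579 Q579 (allL N579 (tt N702 (iv F5743)) (tt N839 F5656) (tt N369 D6481) (tt N381 (iv D3320)) (tt N581 (iv F14034)) (tt N577 (iv F14035)) (tt N363 (iv F14038)))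
theorem Q581 : ∀ i, i < 581 → P i := stepQ 580 Q580 (allL N580 (tt N703 (iv F16021)) (tt N917 F14993) (tt N717 (iv F15909)) (tt N364 F14994) (tt N703 (iv F16025)) (tt N719 D7503) (tt N638 (iv D7222)))
theorem Q582 : ∀ i, i < 582 → P i := stepQ 581 Q581 (allL N581 (tt N704 (iv F14050)) (tt N918 F11125) (tt N371 (iv F14860)) (tt N923 F14033) (tt N579 F14034) (tt N364 (iv F11134)) (tt N576 (iv D6395)))
theorem Q583 : ∀ i, i < 583 → P i := stepQ 582 Q582 (allL N582 (tt N714 F14084) (tt N571 F10948) (tt N365 (iv F14734)) (tt N639 F14689) (tt N372 (iv D6258)) (tt N924 F14085) (tt N925 F14086))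
theorem Q584 : ∀ i, i < 584 → P i := stepQ 583 Q583 (allL N583 (tt N883 (iv F15728)) (tt N583 F14733) (tt N924 (iv D6552)) (tt N926 D7429) (tt N373 (iv F14865)) (tt N365 F14732) (tt N602 F11374))
theorem Q585 : ∀ i, i < 585 → P i := stepQ 584 Q584 (allL N584 (tt N884 (iv F16185)) (tt N584 F15647) (tt N925 F15648) (tt N927 F15649) (tt N374 F15650) (tt N600 F15651) (tt N365 (iv D7404)))
theorem Q586 : ∀ i, i < 586 → P i := stepQ 585 Q585 (allL N585 (tt N893 (iv F16183)) (tt N585 F15643) (tt N928 (iv F16279)) (tt N366 (iv D7402)) (tt N929 (iv F15888)) (tt N926 (iv F15762)) (tt N930 D7565))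
theorem Q587 : ∀ i, i < 587 → P i := stepQ 586 Q586 (allL N586 (tt N894 (iv F16071)) (tt N586 F15406) (tt N931 (iv F15449)) (tt N367 F15407) (tt N932 (iv D7327)) (tt N933 (iv F15774)) (tt N927 (iv F15443)))
theorem Q588 : ∀ i, i < 588 → P i := stepQ 587 Q587 (allL N587 (tt N895 (iv F15850)) (tt N934 (iv F15343)) (tt N368 F14879) (tt N935 F14881) (tt N936 (iv F15874)) (tt N377 (iv D7173)) (tt N937 (iv F15572)))
theorem Q589 : ∀ i, i < 589 → P i := stepQ 588 Q588 (allL N588 (tt N896 (iv F15853)) (tt N588 F14885) (tt N936 (iv F15873)) (tt N929 D7467) (tt N368 F14886) (tt N378 (iv D7176)) (tt N599 (iv F14892)))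
theorem Q590 : ∀ i, i < 590 → P i := stepQ 589 Q589 (allL N589 (tt N897 (iv F15856)) (tt N589 F14887) (tt N937 (iv F15573)) (tt N938 D7468) (tt N599 (iv F14891)) (tt N604 F14888) (tt N368 (iv D7177)))
theorem Q591 : ∀ i, i < 591 → P i := stepQ 590 Q590 (allL N590 (tt N898 (iv F15770)) (tt N590 F15674) (tt N939 D7566) (tt N369 (iv D7410)) (tt N940 (iv F15964)) (tt N930 (iv F16286)) (tt N938 (iv F15894)))
theorem Q592 : ∀ i, i < 592 → P i := stepQ 591 Q591 (allL N591 (tt N899 (iv F10550)) (tt N941 F5321) (tt N370 (iv F10558)) (tt N942 D5977) (tt N943 (iv D3055)) (tt N944 (iv F14073)) (tt N379 D5979))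
theorem Q593 : ∀ i, i < 593 → P i := stepQ 592 Q592 (allL N592 (tt N900 (iv F10549)) (tt N592 F13807) (tt N943 (iv D3054)) (tt N932 D5973) (tt N370 D5974) (tt N601 (iv F14072)) (tt N380 D5976))
theorem Q594 : ∀ i, i < 594 → P i := stepQ 593 Q593 (allL N593 (tt N901 F15386) (tt N593 F15271) (tt N944 F15272) (tt N945 (iv F15409)) (tt N601 (iv D7295)) (tt N370 F15273) (tt N606 F15274))
theorem Q595 : ∀ i, i < 595 → P i := stepQ 594 Q594 (allL N594 (tt N902 F15832) (tt N594 F15833) (tt N946 (iv F15835)) (tt N371 (iv D7449)) (tt N947 (iv F15836)) (tt N945 F15834) (tt N933 (iv F15837)))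
theorem Q596 : ∀ i, i < 596 → P i := stepQ 595 Q595 (allL N595 (tt N572 F2720) (tt N372 (iv F5505)) (tt N595 F13944) (tt N790 (iv D1569)) (tt N571 D3214) (tt N948 (iv F5520)) (tt N949 F13945))
theorem Q597 : ∀ i, i < 597 → P i := stepQ 596 Q596 (allL N596 (tt N730 (iv F5152)) (tt N790 F2711) (tt N596 F2712) (tt N372 D3199) (tt N650 (iv F5145)) (tt N787 (iv D1563)) (tt N730 (iv F5156)))
theorem Q598 : ∀ i, i < 598 → P i := stepQ 597 Q597 (allL N597 (tt N881 (iv F14677)) (tt N948 F10941) (tt N373 (iv F14864)) (tt N950 (iv D6254)) (tt N924 F14081) (tt N372 F10942) (tt N951 F14082))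
theorem Q599 : ∀ i, i < 599 → P i := stepQ 598 Q598 (allL N598 (tt N882 (iv F11339)) (tt N949 F5746) (tt N374 (iv F11410)) (tt N882 (iv F11341)) (tt N925 (iv F11412)) (tt N878 (iv D3368)) (tt N372 (iv F14083)))
theorem Q600 : ∀ i, i < 600 → P i := stepQ 599 Q599 (allL N599 (tt N885 (iv F15844)) (tt N599 F14889) (tt N952 (iv F15882)) (tt N373 F14890) (tt N589 F14891) (tt N375 (iv D7178)) (tt N588 F14892))
theorem Q601 : ∀ i, i < 601 → P i := stepQ 600 Q600 (allL N600 (tt N886 (iv F15739)) (tt N600 F14776) (tt N951 F11409) (tt N953 D7433) (tt N602 (iv D6568)) (tt N584 (iv F15651)) (tt N373 (iv F14866)))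
theorem Q602 : ∀ i, i < 602 → P i := stepQ 601 Q601 (allL N601 (tt N887 (iv F15264)) (tt N601 F14661) (tt N954 (iv D5731)) (tt N374 (iv F14715)) (tt N593 D7295) (tt N592 F14072) (tt N376 F14660))
theorem Q603 : ∀ i, i < 603 → P i := stepQ 602 Q602 (allL N602 (tt N888 (iv F11335)) (tt N602 F13939) (tt N878 (iv D3366)) (tt N955 D6567) (tt N600 D6568) (tt N374 D6569) (tt N583 (iv F11374)))
theorem Q604 : ∀ i, i < 604 → P i := stepQ 603 Q603 (allL N603 (tt N889 (iv F15838)) (tt N956 (iv F15865)) (tt N375 F14880) (tt N957 D7465) (tt N958 (iv F15877)) (tt N952 D7466) (tt N377 (iv D7174)))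
theorem Q605 : ∀ i, i < 605 → P i := stepQ 604 Q604 (allL N604 (tt N890 (iv F15840)) (tt N604 F14882) (tt N958 (iv F15876)) (tt N378 (iv D7175)) (tt N375 F14883) (tt N589 (iv F14888)) (tt N378 (iv F14884)))
theorem Q606 : ∀ i, i < 606 → P i := stepQ 605 Q605 (allL N605 (tt N891 (iv F15267)) (tt N959 F10156) (tt N376 F14662) (tt N960 (iv F15248)) (tt N961 F14076) (tt N379 F14077) (tt N954 (iv D5734)))
theorem Q607 : ∀ i, i < 607 → P i := stepQ 606 Q606 (allL N606 (tt N892 (iv F15817)) (tt N606 F14673) (tt N961 (iv F14675)) (tt N380 (iv F14674)) (tt N376 (iv D6919)) (tt N380 F14663) (tt N593 (iv F15274)))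
theorem Q608 : ∀ i, i < 608 → P i := stepQ 607 Q607 (allL N607 (tt N962 (iv F15575)) (tt N377 (iv D7170)) (tt N607 F14875) (tt N963 D7458) (tt N964 D7459) (tt N934 F15346) (tt N956 D7460))
theorem Q609 : ∀ i, i < 609 → P i := stepQ 608 Q608 (allL N608 (tt N904 F14876) (tt N963 (iv F15860)) (tt N965 F14877) (tt N377 (iv D7171)) (tt N966 D7461) (tt N967 (iv F15791)) (tt N968 F15548))
theorem Q610 : ∀ i, i < 610 → P i := stepQ 609 Q609 (allL N609 (tt N905 (iv F15848)) (tt N964 (iv F15861)) (tt N378 F14878) (tt N969 D7462) (tt N377 (iv D7172)) (tt N936 D7463) (tt N958 D7464))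
theorem Q611 : ∀ i, i < 611 → P i := stepQ 610 Q610 (allL N610 (tt N970 F14147) (tt N379 (iv F10566)) (tt N610 F13809) (tt N971 D6004) (tt N972 F5341) (tt N959 F14148) (tt N941 (iv D3068)))
theorem Q612 : ∀ i, i < 612 → P i := stepQ 611 Q611 (allL N611 (tt N907 (iv F16100)) (tt N971 F15410) (tt N907 (iv F16102)) (tt N379 (iv D7329)) (tt N666 (iv F16020)) (tt N973 F15411) (tt N665 (iv F15756)))
theorem Q613 : ∀ i, i < 613 → P i := stepQ 612 Q612 (allL N612 (tt N908 (iv F10555)) (tt N972 F5323) (tt N380 (iv F10560)) (tt N974 (iv F10532)) (tt N379 (iv F10567)) (tt N961 D5982) (tt N943 (iv D3057)))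
theorem Q614 : ∀ i, i < 614 → P i := stepQ 613 Q613 (allL N613 (tt N841 F13234) (tt N768 F1408) (tt N975 D1661) (tt N382 (iv D789)) (tt N976 D1662) (tt N977 D1663) (tt N978 D1664))
theorem Q615 : ∀ i, i < 615 → P i := stepQ 614 Q614 (allL N614 (tt N620 F13722) (tt N847 (iv F13739)) (tt N388 (iv D1331)) (tt N384 (iv F13740)) (tt N387 (iv F13874)) (tt N979 (iv F13743)) (tt N980 D2718))
theorem Q616 : ∀ i, i < 616 → P i := stepQ 615 Q615 (allL N615 (tt N909 (iv F13878)) (tt N848 F8063) (tt N615 F13814) (tt N981 F13815) (tt N385 F8064) (tt N384 (iv D4476)) (tt N619 (iv F13830)))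
theorem Q617 : ∀ i, i < 617 → P i := stepQ 616 Q616 (allL N616 (tt N910 (iv F13884)) (tt N823 (iv D2962)) (tt N616 F5187) (tt N982 D5794) (tt N386 F13827) (tt N617 F5188) (tt N384 F13828))
theorem Q618 : ∀ i, i < 618 → P i := stepQ 617 Q617 (allL N617 (tt N911 (iv F5119)) (tt N497 (iv D1452)) (tt N617 F2576) (tt N983 D2968) (tt N619 F5117) (tt N616 (iv F5188)) (tt N385 F13817))
theorem Q619 : ∀ i, i < 619 → P i := stepQ 618 Q618 (allL N618 (tt N622 (iv F13719)) (tt N772 F2413) (tt N980 (iv F4803)) (tt N386 F13774) (tt N984 (iv F13744)) (tt N985 (iv F13747)) (tt N388 (iv D1334)))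
theorem Q620 : ∀ i, i < 620 → P i := stepQ 619 Q619 (allL N619 (tt N807 (iv D2927)) (tt N828 F5115) (tt N619 F5116) (tt N986 D5729) (tt N617 (iv F5117)) (tt N386 F13829) (tt N615 F13830))
theorem Q621 : ∀ i, i < 621 → P i := stepQ 620 Q620 (allL N620 (tt N614 (iv F13722)) (tt N770 F2410) (tt N387 (iv F13873)) (tt N568 D2719) (tt N388 (iv D1332)) (tt N987 D2720) (tt N984 (iv F13745)))
theorem Q622 : ∀ i, i < 622 → P i := stepQ 621 Q621 (allL N621 (tt N623 F4794) (tt N850 F13723) (tt N987 F14057) (tt N669 F4796) (tt N979 F14058) (tt N387 (iv D2712)) (tt N988 (iv F13876)))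
theorem Q623 : ∀ i, i < 623 → P i := stepQ 622 Q622 (allL N622 (tt N618 F13719) (tt N851 F2638) (tt N984 (iv F2681)) (tt N570 F13697) (tt N980 F13933) (tt N989 (iv D1498)) (tt N387 F13720))
theorem Q624 : ∀ i, i < 624 → P i := stepQ 623 Q623 (allL N623 (tt N621 (iv F4794)) (tt N771 F2411) (tt N979 (iv F13741)) (tt N775 F2412) (tt N987 (iv F4808)) (tt N388 (iv D1333)) (tt N990 (iv F13746)))
theorem Q625 : ∀ i, i < 625 → P i := stepQ 624 Q624 (allL N624 (tt N680 (iv F14919)) (tt N867 F8366) (tt N991 (iv F14552)) (tt N391 (iv D4641)) (tt N992 F14550) (tt N993 (iv F14549)) (tt N983 F13836))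
theorem Q626 : ∀ i, i < 626 → P i := stepQ 625 Q625 (allL N625 (tt N672 (iv F8327)) (tt N531 F4258) (tt N392 (iv F8352)) (tt N994 D4645) (tt N391 F4259) (tt N520 (iv D2380)) (tt N859 F4260))
theorem Q627 : ∀ i, i < 627 → P i := stepQ 626 Q626 (allL N626 (tt N681 (iv F8318)) (tt N528 F4252) (tt N393 (iv F8348)) (tt N995 D4640) (tt N520 F4253) (tt N391 (iv F4255)) (tt N518 (iv D2377)))
theorem Q628 : ∀ i, i < 628 → P i := stepQ 627 Q627 (allL N627 (tt N673 (iv F8313)) (tt N400 (iv F8344)) (tt N520 F4246) (tt N996 D4634) (tt N393 (iv F8349)) (tt N392 D4635) (tt N517 (iv D2374)))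
theorem Q629 : ∀ i, i < 629 → P i := stepQ 628 Q628 (allL N628 (tt N674 (iv F10625)) (tt N401 (iv F13573)) (tt N859 (iv F14615)) (tt N997 (iv D3088)) (tt N394 (iv F14616)) (tt N629 (iv F14617)) (tt N392 F14614))
theorem Q630 : ∀ i, i < 630 → P i := stepQ 629 Q629 (allL N629 (tt N683 (iv F8309)) (tt N402 (iv F8340)) (tt N518 F4244) (tt N998 D4629) (tt N517 (iv D2372)) (tt N628 F14617) (tt N393 D4631))
theorem Q631 : ∀ i, i < 631 → P i := stepQ 630 Q630 (allL N630 (tt N395 F4600) (tt N639 (iv F9066)) (tt N782 F4601) (tt N571 F14092) (tt N649 (iv F4607)) (tt N999 F4602) (tt N778 (iv D2615)))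
theorem Q632 : ∀ i, i < 632 → P i := stepQ 631 Q631 (allL N631 (tt N649 (iv F13783)) (tt N396 (iv F5365)) (tt N531 F13764) (tt N1000 (iv D1535)) (tt N395 F13765) (tt N525 F13766) (tt N861 F13767))
theorem Q633 : ∀ i, i < 633 → P i := stepQ 632 Q632 (allL N632 (tt N999 (iv F4595)) (tt N397 (iv F8421)) (tt N528 F4277) (tt N1001 (iv F14171)) (tt N525 F4278) (tt N395 (iv F4280)) (tt N523 (iv D2395)))
theorem Q634 : ∀ i, i < 634 → P i := stepQ 633 Q633 (allL N633 (tt N432 F2650) (tt N1000 F2651) (tt N698 (iv F2661)) (tt N396 D3086) (tt N575 F2652) (tt N1002 (iv D1510)) (tt N432 F2653))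
theorem Q635 : ∀ i, i < 635 → P i := stepQ 634 Q634 (allL N634 (tt N433 (iv F13957)) (tt N525 F4274) (tt N400 (iv F8345)) (tt N1003 (iv F13962)) (tt N397 (iv F8422)) (tt N396 (iv F13963)) (tt N522 (iv D2392)))
theorem Q636 : ∀ i, i < 636 → P i := stepQ 635 Q635 (allL N635 (tt N434 F13960) (tt N861 F8419) (tt N401 F14622) (tt N434 F13961) (tt N398 F8420) (tt N637 (iv D4669)) (tt N396 (iv F13964)))
theorem Q637 : ∀ i, i < 637 → P i := stepQ 636 Q636 (allL N636 (tt N435 F14538) (tt N1001 F14539) (tt N983 (iv D5802)) (tt N397 F14540) (tt N1004 F14541) (tt N578 F14542) (tt N991 F14543))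
theorem Q638 : ∀ i, i < 638 → P i := stepQ 637 Q637 (allL N637 (tt N436 F4291) (tt N523 F4272) (tt N402 (iv F8341)) (tt N1005 D4668) (tt N522 (iv D2390)) (tt N635 D4669) (tt N397 D4670))
theorem Q639 : ∀ i, i < 639 → P i := stepQ 638 Q638 (allL N638 (tt N437 (iv F14986)) (tt N862 F8423) (tt N1006 D7221) (tt N398 (iv D4671)) (tt N437 (iv F14988)) (tt N1007 (iv F9065)) (tt N580 D7222))
theorem Q640 : ∀ i, i < 640 → P i := stepQ 639 Q639 (allL N639 (tt N439 F14690) (tt N630 F9066) (tt N399 (iv F15094)) (tt N582 (iv F14689)) (tt N405 (iv F9071)) (tt N1008 F9067) (tt N1009 (iv D5106)))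
theorem Q641 : ∀ i, i < 641 → P i := stepQ 640 Q640 (allL N640 (tt N440 F15088) (tt N659 F15089) (tt N1008 F15090) (tt N1010 (iv F15943)) (tt N406 F15091) (tt N399 (iv F15097)) (tt N654 (iv D7247)))
theorem Q642 : ∀ i, i < 642 → P i := stepQ 641 Q641 (allL N641 (tt N441 (iv F15071)) (tt N646 F9017) (tt N1009 F9018) (tt N1011 F14605) (tt N407 (iv F14631)) (tt N653 (iv D5071)) (tt N399 D7248))
theorem Q643 : ∀ i, i < 643 → P i := stepQ 642 Q642 (allL N642 (tt N442 (iv F15460)) (tt N996 F14934) (tt N1012 (iv F15141)) (tt N400 (iv D7193)) (tt N442 (iv F15462)) (tt N1010 D7480) (tt N1013 F15139))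
theorem Q644 : ∀ i, i < 644 → P i := stepQ 643 Q643 (allL N643 (tt N443 (iv F10202)) (tt N997 F13409) (tt N814 (iv D2941)) (tt N401 D5758) (tt N1014 (iv F13404)) (tt N1015 D5760) (tt N1011 (iv F13403)))
theorem Q645 : ∀ i, i < 645 → P i := stepQ 644 Q644 (allL N644 (tt N444 (iv F14974)) (tt N998 F14933) (tt N644 F14947) (tt N402 (iv D7192)) (tt N1016 (iv F15930)) (tt N1017 (iv F15292)) (tt N444 (iv F14976)))
theorem Q646 : ∀ i, i < 646 → P i := stepQ 645 Q645 (allL N645 (tt N415 (iv F8358)) (tt N780 F4571) (tt N403 (iv F9021)) (tt N1018 D5084) (tt N775 F4572) (tt N774 (iv D2598)) (tt N408 (iv F4581)))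
theorem Q647 : ∀ i, i < 647 → P i := stepQ 646 Q646 (allL N646 (tt N418 (iv F8376)) (tt N641 (iv F9017)) (tt N775 F4569) (tt N1014 (iv F14606)) (tt N403 (iv F9022)) (tt N660 (iv D2596)) (tt N409 D5081))
theorem Q648 : ∀ i, i < 648 → P i := stepQ 647 Q647 (allL N647 (tt N420 (iv F8355)) (tt N654 (iv F9015)) (tt N774 F4568) (tt N1019 D5077) (tt N660 (iv D2595)) (tt N403 D5078) (tt N659 D5079))
theorem Q649 : ∀ i, i < 649 → P i := stepQ 648 Q648 (allL N648 (tt N445 (iv F14928)) (tt N858 F8339) (tt N1020 D7189) (tt N404 (iv D4621)) (tt N1021 D7190) (tt N1019 F14626) (tt N1022 D7191))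
theorem Q650 : ∀ i, i < 650 → P i := stepQ 649 Q649 (allL N649 (tt N631 F13783) (tt N405 (iv F9070)) (tt N655 F4606) (tt N821 F13784) (tt N630 F4607) (tt N779 (iv D2617)) (tt N1023 F4608))
theorem Q651 : ∀ i, i < 651 → P i := stepQ 650 Q650 (allL N650 (tt N447 F5142) (tt N821 F5143) (tt N650 F5144) (tt N405 (iv F13991)) (tt N596 F5145) (tt N813 (iv D2940)) (tt N447 F5146))
theorem Q652 : ∀ i, i < 652 → P i := stepQ 651 Q651 (allL N651 (tt N448 (iv F9057)) (tt N779 F4589) (tt N406 (iv F9020)) (tt N1024 D5107) (tt N1008 (iv F9063)) (tt N405 D5108) (tt N776 (iv D2610)))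
theorem Q653 : ∀ i, i < 653 → P i := stepQ 652 Q652 (allL N652 (tt N449 (iv F13974)) (tt N1023 F9060) (tt N407 (iv F14630)) (tt N449 (iv F13975)) (tt N1009 F9061) (tt N1025 (iv D5103)) (tt N405 (iv F9072)))
theorem Q654 : ∀ i, i < 654 → P i := stepQ 653 Q653 (allL N653 (tt N450 D5068) (tt N660 (iv D2593)) (tt N776 F4567) (tt N1026 D5069) (tt N654 D5070) (tt N641 D5071) (tt N406 D5072))
theorem Q655 : ∀ i, i < 655 → P i := stepQ 654 Q654 (allL N654 (tt N451 F9014) (tt N647 F9015) (tt N1025 F9016) (tt N1027 (iv F14628)) (tt N653 (iv D5070)) (tt N407 F14629) (tt N640 D7247))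
theorem Q656 : ∀ i, i < 656 → P i := stepQ 655 Q655 (allL N655 (tt N531 F2343) (tt N408 (iv F4579)) (tt N649 (iv F4606)) (tt N1028 D2627) (tt N782 F2344) (tt N473 (iv D1289)) (tt N780 F2345))
theorem Q657 : ∀ i, i < 657 → P i := stepQ 656 Q656 (allL N656 (tt N412 (iv F14982)) (tt N1028 F9039) (tt N412 (iv F14985)) (tt N408 (iv D5090)) (tt N1029 D7261) (tt N412 (iv F14984)) (tt N973 D7262))
theorem Q658 : ∀ i, i < 658 → P i := stepQ 657 Q657 (allL N657 (tt N413 (iv F13869)) (tt N782 F4575) (tt N409 (iv F9025)) (tt N1030 (iv F13865)) (tt N408 (iv F4580)) (tt N1031 F4576) (tt N775 (iv D2600)))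
theorem Q659 : ∀ i, i < 659 → P i := stepQ 658 Q658 (allL N658 (tt N414 (iv F4264)) (tt N473 F2320) (tt N410 (iv F4570)) (tt N414 (iv F13721)) (tt N1031 (iv F4574)) (tt N408 D2602) (tt N469 (iv D1277)))
theorem Q660 : ∀ i, i < 660 → P i := stepQ 659 Q659 (allL N659 (tt N417 (iv F14955)) (tt N640 (iv F15089)) (tt N1031 F9023) (tt N1032 (iv F14948)) (tt N410 F9024) (tt N409 (iv F9026)) (tt N647 (iv D5079)))
theorem Q661 : ∀ i, i < 661 → P i := stepQ 660 Q660 (allL N660 (tt N419 (iv F4261)) (tt N653 D2593) (tt N469 (iv D1274)) (tt N1033 D2594) (tt N647 D2595) (tt N646 D2596) (tt N410 D2597))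
theorem Q662 : ∀ i, i < 662 → P i := stepQ 661 Q661 (allL N661 (tt N411 F13770) (tt N672 (iv F13843)) (tt N424 (iv F5179)) (tt N1034 D4701) (tt N679 (iv F4310)) (tt N530 (iv D2408)) (tt N873 (iv F4306)))
theorem Q663 : ∀ i, i < 663 → P i := stepQ 662 Q662 (allL N662 (tt N1034 (iv F13973)) (tt N412 (iv F14983)) (tt N1035 F14514) (tt N411 (iv D4718)) (tt N1036 D7236) (tt N1028 F13926) (tt N1037 D7237))
theorem Q664 : ∀ i, i < 664 → P i := stepQ 663 Q663 (allL N663 (tt N679 (iv F4308)) (tt N413 D3133) (tt N426 (iv D1532)) (tt N1038 (iv F13845)) (tt N411 (iv F13738)) (tt N864 F13736) (tt N533 F13737))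
theorem Q665 : ∀ i, i < 665 → P i := stepQ 664 Q664 (allL N664 (tt N873 (iv F13773)) (tt N415 (iv F8359)) (tt N428 (iv F13916)) (tt N1039 (iv F13832)) (tt N533 F4286) (tt N526 (iv D2401)) (tt N411 (iv F4298)))
theorem Q666 : ∀ i, i < 666 → P i := stepQ 665 Q665 (allL N665 (tt N1029 F15752) (tt N1036 F15753) (tt N1029 (iv F15757)) (tt N1040 (iv D7427)) (tt N412 F15754) (tt N1029 F15755) (tt N611 F15756))
theorem Q667 : ∀ i, i < 667 → P i := stepQ 666 Q666 (allL N666 (tt N973 F16016) (tt N1037 F16017) (tt N973 F16018) (tt N1041 F16019) (tt N611 F16020) (tt N907 (iv F16105)) (tt N412 (iv D7501)))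
theorem Q668 : ∀ i, i < 668 → P i := stepQ 667 Q667 (allL N667 (tt N1030 F14318) (tt N1038 (iv F14337)) (tt N1042 F5721) (tt N413 (iv F14338)) (tt N1040 (iv F11354)) (tt N1043 (iv D3354)) (tt N1044 F14319))
theorem Q669 : ∀ i, i < 669 → P i := stepQ 668 Q668 (allL N668 (tt N1031 F8361) (tt N864 F8362) (tt N417 (iv F14957)) (tt N1045 F14593) (tt N414 F8363) (tt N413 (iv F13870)) (tt N671 (iv D4638)))
theorem Q670 : ∀ i, i < 670 → P i := stepQ 669 Q669 (allL N669 (tt N775 F4262) (tt N533 F4263) (tt N418 (iv F8377)) (tt N621 (iv F4796)) (tt N415 (iv F8360)) (tt N521 (iv D2382)) (tt N413 (iv F13871)))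
theorem Q671 : ∀ i, i < 671 → P i := stepQ 670 Q670 (allL N670 (tt N1018 (iv F14648)) (tt N1039 F10527) (tt N1046 (iv F15364)) (tt N415 (iv F14649)) (tt N1047 (iv D5948)) (tt N1048 F14647) (tt N1041 D7318))
theorem Q672 : ∀ i, i < 672 → P i := stepQ 671 Q671 (allL N671 (tt N774 F4247) (tt N526 F4248) (tt N420 D4636) (tt N518 (iv D2375)) (tt N521 F4249) (tt N415 D4637) (tt N668 D4638))
theorem Q673 : ∀ i, i < 673 → P i := stepQ 672 Q672 (allL N672 (tt N625 F8327) (tt N661 F13843) (tt N416 (iv F14905)) (tt N1049 D7187) (tt N421 F8329) (tt N857 (iv D4616)) (tt N1050 F8330))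
theorem Q674 : ∀ i, i < 674 → P i := stepQ 673 Q673 (allL N673 (tt N627 F8313) (tt N440 (iv F14896)) (tt N857 F8314) (tt N1051 D7183) (tt N422 (iv F14723)) (tt N416 D7184) (tt N684 (iv D4611)))
theorem Q675 : ∀ i, i < 675 → P i := stepQ 674 Q674 (allL N674 (tt N628 F10625) (tt N441 (iv F15072)) (tt N1050 (iv F14635)) (tt N1052 (iv D6029)) (tt N423 (iv F14634)) (tt N683 F14618) (tt N416 (iv F14907)))
theorem Q676 : ∀ i, i < 676 → P i := stepQ 675 Q675 (allL N675 (tt N1032 (iv F14950)) (tt N442 (iv F15461)) (tt N1053 (iv F15974)) (tt N417 F14960) (tt N996 (iv D7206)) (tt N1051 F14951) (tt N1054 (iv F15962)))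
theorem Q677 : ∀ i, i < 677 → P i := stepQ 676 Q676 (allL N676 (tt N1014 F10630) (tt N443 F14650) (tt N1055 F10631) (tt N418 (iv F14607)) (tt N443 F14652) (tt N1056 D7335) (tt N1052 (iv D6032)))
theorem Q678 : ∀ i, i < 678 → P i := stepQ 677 Q677 (allL N677 (tt N1033 F8375) (tt N444 (iv F14975)) (tt N955 (iv F14727)) (tt N419 (iv D4647)) (tt N1057 D7215) (tt N1058 D7216) (tt N998 F14721))
theorem Q679 : ∀ i, i < 679 → P i := stepQ 678 Q678 (allL N678 (tt N1019 F14952) (tt N445 F14953) (tt N1059 D7495) (tt N420 (iv D7208)) (tt N1060 D7496) (tt N445 F14954) (tt N1061 D7497))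
theorem Q680 : ∀ i, i < 680 → P i := stepQ 679 Q679 (allL N679 (tt N663 F4308) (tt N421 (iv F13848)) (tt N446 F4309) (tt N1062 D4740) (tt N661 F4310) (tt N868 F4311) (tt N537 (iv D2426)))
theorem Q681 : ∀ i, i < 681 → P i := stepQ 680 Q680 (allL N680 (tt N624 F14919) (tt N1062 F14920) (tt N709 (iv F14923)) (tt N421 (iv D7186)) (tt N1063 F14924) (tt N1064 F14921) (tt N707 F14922))
theorem Q682 : ∀ i, i < 682 → P i := stepQ 681 Q681 (allL N681 (tt N626 F8318) (tt N868 F13842) (tt N422 F14722) (tt N1065 D7185) (tt N857 F8320) (tt N421 (iv F8323)) (tt N856 (iv D4613)))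
theorem Q683 : ∀ i, i < 683 → P i := stepQ 682 Q682 (allL N682 (tt N519 F4237) (tt N537 F13684) (tt N423 (iv F8312)) (tt N569 (iv F4821)) (tt N1050 (iv F8317)) (tt N516 (iv D2367)) (tt N421 D4614))
theorem Q684 : ∀ i, i < 684 → P i := stepQ 683 Q683 (allL N683 (tt N629 F8309) (tt N450 (iv F9010)) (tt N856 F8310) (tt N1066 F14725) (tt N684 (iv D4609)) (tt N674 (iv F14618)) (tt N422 (iv F14724)))
theorem Q685 : ∀ i, i < 685 → P i := stepQ 684 Q684 (allL N684 (tt N517 F4233) (tt N451 D4607) (tt N516 (iv D2365)) (tt N965 D4608) (tt N683 D4609) (tt N423 D4610) (tt N673 D4611))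
theorem Q686 : ∀ i, i < 686 → P i := stepQ 685 Q685 (allL N685 (tt N425 F14133) (tt N714 D6128) (tt N689 (iv D3130)) (tt N424 (iv F14159)) (tt N688 F14134) (tt N1067 F5798) (tt N1068 D6131))
theorem Q687 : ∀ i, i < 687 → P i := stepQ 686 Q686 (allL N686 (tt N427 F13768) (tt N715 D4699) (tt N530 (iv D2406)) (tt N1069 D4700) (tt N728 F5167) (tt N424 (iv F5180)) (tt N535 F4288))
theorem Q688 : ∀ i, i < 688 → P i := stepQ 687 Q687 (allL N687 (tt N428 F8482) (tt N716 F13977) (tt N873 F8483) (tt N1070 F13978) (tt N729 F8484) (tt N872 (iv D4734)) (tt N424 F8485))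
theorem Q689 : ∀ i, i < 689 → P i := stepQ 688 Q688 (allL N688 (tt N689 F5177) (tt N551 (iv F10238)) (tt N425 (iv F14128)) (tt N820 (iv D2957)) (tt N685 (iv F14134)) (tt N1071 F13667) (tt N1072 F14089))
theorem Q690 : ∀ i, i < 690 → P i := stepQ 689 Q689 (allL N689 (tt N688 (iv F5177)) (tt N429 (iv F5391)) (tt N685 D3130) (tt N1073 (iv D1531)) (tt N425 D3131) (tt N1074 (iv F5415)) (tt N1075 D3132))
theorem Q691 : ∀ i, i < 691 → P i := stepQ 690 Q690 (allL N690 (tt N1067 (iv F5795)) (tt N430 (iv F11394)) (tt N1071 F13716) (tt N1076 (iv D3395)) (tt N1074 F14127) (tt N425 (iv F14129)) (tt N1077 F5779))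
theorem Q692 : ∀ i, i < 692 → P i := stepQ 691 Q691 (allL N691 (tt N1068 (iv F14087)) (tt N431 (iv F15487)) (tt N1072 F10780) (tt N1078 (iv F14995)) (tt N1075 F10781) (tt N1079 F14055) (tt N425 (iv D6132)))
theorem Q693 : ∀ i, i < 693 → P i := stepQ 692 Q692 (allL N692 (tt N493 (iv F1278)) (tt N432 (iv F1329)) (tt N462 F649) (tt N426 D729) (tt N1073 (iv F1331)) (tt N460 (iv D343)) (tt N1000 D730))
theorem Q694 : ∀ i, i < 694 → P i := stepQ 693 Q693 (allL N693 (tt N728 (iv F5164)) (tt N433 (iv F5377)) (tt N864 F13918) (tt N1080 (iv D1525)) (tt N427 F13919) (tt N426 F2671) (tt N697 F13920))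
theorem Q695 : ∀ i, i < 695 → P i := stepQ 694 Q694 (allL N694 (tt N729 (iv F4302)) (tt N434 (iv F5393)) (tt N533 F13734) (tt N861 (iv F13762)) (tt N428 (iv F5423)) (tt N532 F13735) (tt N426 (iv D1534)))
theorem Q696 : ∀ i, i < 696 → P i := stepQ 695 Q695 (allL N695 (tt N1069 F14185) (tt N435 (iv F11397)) (tt N1081 (iv F11466)) (tt N427 (iv F14204)) (tt N1082 F14186) (tt N1076 (iv D3396)) (tt N1083 F5781))
theorem Q697 : ∀ i, i < 697 → P i := stepQ 696 Q696 (allL N696 (tt N1070 (iv F9080)) (tt N437 (iv F14987)) (tt N1084 F14779) (tt N428 F14062) (tt N862 (iv D4680)) (tt N1070 (iv F9081)) (tt N1078 D7223))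
theorem Q698 : ∀ i, i < 698 → P i := stepQ 697 Q697 (allL N697 (tt N872 (iv F13771)) (tt N438 (iv F4285)) (tt N526 (iv D2400)) (tt N872 (iv F13772)) (tt N532 F4284) (tt N428 (iv F13917)) (tt N693 (iv F13920)))
theorem Q699 : ∀ i, i < 699 → P i := stepQ 698 Q698 (allL N698 (tt N575 F2659) (tt N1073 F2660) (tt N633 F2661) (tt N429 D3101) (tt N432 F2662) (tt N1085 (iv D1516)) (tt N575 F2663))
theorem Q700 : ∀ i, i < 700 → P i := stepQ 699 Q699 (allL N699 (tt N576 F10693) (tt N1074 F10694) (tt N557 D7347) (tt N1086 (iv D6069)) (tt N430 (iv F14293)) (tt N429 F10695) (tt N704 (iv F14051)))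
theorem Q701 : ∀ i, i < 701 → P i := stepQ 700 Q700 (allL N700 (tt N577 F10707) (tt N1075 F10708) (tt N558 (iv F15483)) (tt N577 F10709) (tt N431 (iv F15489)) (tt N702 F14124) (tt N429 (iv D6074)))
theorem Q702 : ∀ i, i < 702 → P i := stepQ 701 Q701 (allL N701 (tt N578 F5741) (tt N1076 F5742) (tt N1087 (iv F11389)) (tt N430 D6561) (tt N1088 (iv F11370)) (tt N435 D6562) (tt N1089 (iv D3364)))
theorem Q703 : ∀ i, i < 703 → P i := stepQ 702 Q702 (allL N702 (tt N579 F5743) (tt N1077 F5744) (tt N560 D6563) (tt N567 (iv D3365)) (tt N704 D6564) (tt N700 (iv F14124)) (tt N430 (iv F11395)))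
theorem Q704 : ∀ i, i < 704 → P i := stepQ 703 Q703 (allL N703 (tt N580 F16021) (tt N1078 F16022) (tt N1010 F16023) (tt N431 F16024) (tt N580 F16025) (tt N1012 F16026) (tt N437 (iv D7502)))
theorem Q705 : ∀ i, i < 705 → P i := stepQ 704 Q704 (allL N704 (tt N581 F14050) (tt N1079 F11402) (tt N562 (iv F15733)) (tt N951 F11403) (tt N702 (iv D6564)) (tt N431 (iv F15490)) (tt N699 F14051))
theorem Q706 : ∀ i, i < 706 → P i := stepQ 705 Q705 (allL N705 (tt N1002 D719) (tt N460 (iv D340)) (tt N919 (iv F682)) (tt N1090 D720) (tt N1085 D721) (tt N432 D722) (tt N919 (iv F683)))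
theorem Q707 : ∀ i, i < 707 → P i := stepQ 706 Q706 (allL N706 (tt N1003 (iv F5360)) (tt N1080 F2655) (tt N1091 (iv F5368)) (tt N433 D3095) (tt N1092 (iv F5374)) (tt N1090 (iv D1513)) (tt N731 F13267))
theorem Q708 : ∀ i, i < 708 → P i := stepQ 707 Q707 (allL N707 (tt N983 F10157) (tt N1093 F10158) (tt N435 (iv F14537)) (tt N911 (iv D5735)) (tt N1094 (iv F15277)) (tt N1087 F14544) (tt N680 (iv F14922)))
theorem Q709 : ∀ i, i < 709 → P i := stepQ 708 Q708 (allL N708 (tt N1004 F14187) (tt N1082 F10682) (tt N1094 (iv F15279)) (tt N1092 (iv D6060)) (tt N435 F14188) (tt N1088 F14189) (tt N1095 F14190))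
theorem Q710 : ∀ i, i < 710 → P i := stepQ 709 Q709 (allL N709 (tt N991 F11365) (tt N1083 F11366) (tt N680 F14923) (tt N739 (iv F15039)) (tt N1095 F11367) (tt N1096 (iv D6547)) (tt N435 (iv F11399)))
theorem Q711 : ∀ i, i < 711 → P i := stepQ 710 Q710 (allL N710 (tt N1005 F8446) (tt N870 F8447) (tt N740 D7234) (tt N436 (iv D4705)) (tt N1097 (iv F13890)) (tt N1005 F8498) (tt N739 D7235))
theorem Q712 : ∀ i, i < 712 → P i := stepQ 711 Q711 (allL N711 (tt N1006 F15958) (tt N1098 (iv F15983)) (tt N437 F15959) (tt N1099 (iv D7488)) (tt N1006 F15960) (tt N720 (iv F16109)) (tt N1010 F15961))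
theorem Q713 : ∀ i, i < 713 → P i := stepQ 712 Q712 (allL N712 (tt N1007 F15128) (tt N1070 F15129) (tt N720 D7520) (tt N716 (iv D7263)) (tt N1007 F15130) (tt N437 F15131) (tt N719 (iv F16032)))
theorem Q714 : ∀ i, i < 714 → P i := stepQ 713 Q713 (allL N713 (tt N776 (iv D2607)) (tt N872 F13775) (tt N450 (iv F9011)) (tt N438 F4586) (tt N732 F13776) (tt N716 D5100) (tt N448 D5101))
theorem Q715 : ∀ i, i < 715 → P i := stepQ 714 Q714 (allL N714 (tt N582 (iv F14084)) (tt N685 (iv D6128)) (tt N552 (iv F15478)) (tt N439 (iv F14682)) (tt N551 F14680) (tt N1100 F11330) (tt N1101 D7353))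
theorem Q716 : ∀ i, i < 716 → P i := stepQ 715 Q715 (allL N715 (tt N1008 F13969) (tt N686 (iv D4699)) (tt N440 (iv F14897)) (tt N1102 (iv F14683)) (tt N448 (iv F13982)) (tt N439 (iv F10240)) (tt N732 F8442))
theorem Q717 : ∀ i, i < 717 → P i := stepQ 716 Q716 (allL N716 (tt N1009 F9056) (tt N687 (iv F13977)) (tt N441 (iv F15073)) (tt N712 D7263) (tt N449 (iv F13976)) (tt N713 (iv D5100)) (tt N439 (iv F14691)))
theorem Q718 : ∀ i, i < 718 → P i := stepQ 717 Q717 (allL N717 (tt N1010 (iv F15941)) (tt N1051 F15906) (tt N580 F15909) (tt N440 (iv D7471)) (tt N1010 (iv F15944)) (tt N442 F15907) (tt N1006 F15908))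
theorem Q719 : ∀ i, i < 719 → P i := stepQ 718 Q718 (allL N718 (tt N1011 F13405) (tt N1052 (iv D6028)) (tt N1103 F13406) (tt N441 (iv F15076)) (tt N1052 F13407) (tt N1104 D7334) (tt N443 (iv F14651)))
theorem Q720 : ∀ i, i < 720 → P i := stepQ 719 Q719 (allL N719 (tt N1012 F16027) (tt N1105 F16028) (tt N442 F16029) (tt N1101 F16030) (tt N1012 F16031) (tt N580 (iv D7503)) (tt N712 F16032))
theorem Q721 : ∀ i, i < 721 → P i := stepQ 720 Q720 (allL N720 (tt N1013 F16106) (tt N1054 (iv F16111)) (tt N712 (iv D7520)) (tt N727 F16107) (tt N1013 F16108) (tt N711 F16109) (tt N442 F16110))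
theorem Q722 : ∀ i, i < 722 → P i := stepQ 721 Q721 (allL N721 (tt N814 F5140) (tt N1106 F5141) (tt N443 D5753) (tt N813 (iv D2939)) (tt N1055 F13563) (tt N1024 (iv F13986)) (tt N1103 F13564))
theorem Q723 : ∀ i, i < 723 → P i := stepQ 722 Q722 (allL N722 (tt N1015 F15143) (tt N1056 (iv F15435)) (tt N1024 (iv D7267)) (tt N724 (iv F16015)) (tt N1056 (iv F15438)) (tt N443 F15144) (tt N1107 F15145))
theorem Q724 : ∀ i, i < 724 → P i := stepQ 723 Q723 (allL N723 (tt N1016 F16007) (tt N1057 F16008) (tt N723 F16009) (tt N726 F16010) (tt N444 (iv D7499)) (tt N1108 (iv F16138)) (tt N1016 F16011))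
theorem Q725 : ∀ i, i < 725 → P i := stepQ 724 Q724 (allL N724 (tt N1017 F16012) (tt N1058 F16013) (tt N724 F16014) (tt N722 F16015) (tt N1108 (iv F16137)) (tt N444 (iv D7500)) (tt N1109 (iv F16091)))
theorem Q726 : ∀ i, i < 726 → P i := stepQ 725 Q725 (allL N725 (tt N1020 F15797) (tt N1110 (iv F16244)) (tt N445 F15798) (tt N1111 F15799) (tt N1112 (iv D7439)) (tt N1059 (iv F15989)) (tt N1113 F15800))
theorem Q727 : ∀ i, i < 727 → P i := stepQ 726 Q726 (allL N726 (tt N1021 F15795) (tt N1060 (iv F15992)) (tt N1112 (iv D7438)) (tt N723 (iv F16010)) (tt N445 (iv F15796)) (tt N1060 (iv F15995)) (tt N1114 (iv F16317)))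
theorem Q728 : ∀ i, i < 728 → P i := stepQ 727 Q727 (allL N727 (tt N1022 F15920) (tt N1061 (iv F15998)) (tt N1113 F15921) (tt N720 (iv F16107)) (tt N1114 (iv F16315)) (tt N1115 F15957) (tt N445 (iv D7474)))
theorem Q729 : ∀ i, i < 729 → P i := stepQ 728 Q728 (allL N728 (tt N693 F5164) (tt N448 (iv F13980)) (tt N868 (iv F5166)) (tt N817 (iv D2951)) (tt N686 (iv F5167)) (tt N446 F5165) (tt N872 F5168))
theorem Q730 : ∀ i, i < 730 → P i := stepQ 729 Q729 (allL N729 (tt N694 F4302) (tt N449 (iv F8479)) (tt N537 F4303) (tt N1023 (iv F13779)) (tt N687 (iv F8484)) (tt N535 (iv D2423)) (tt N446 (iv F4304)))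
theorem Q731 : ∀ i, i < 731 → P i := stepQ 730 Q730 (allL N730 (tt N596 F5152) (tt N820 F5153) (tt N730 F5154) (tt N551 D5771) (tt N447 F5155) (tt N815 (iv D2946)) (tt N596 F5156))
theorem Q732 : ∀ i, i < 732 → P i := stepQ 731 Q731 (allL N731 (tt N1024 (iv F13984)) (tt N817 F5148) (tt N1015 (iv F10213)) (tt N448 (iv F13981)) (tt N1116 (iv F13393)) (tt N814 (iv D2943)) (tt N706 (iv F13267)))
theorem Q733 : ∀ i, i < 733 → P i := stepQ 732 Q732 (allL N732 (tt N1025 (iv F13777)) (tt N535 (iv D2420)) (tt N451 (iv F13846)) (tt N1097 D4726) (tt N713 (iv F13776)) (tt N449 D4728) (tt N715 (iv F8442)))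
theorem Q734 : ∀ i, i < 734 → P i := stepQ 733 Q733 (allL N733 (tt N1026 F15068) (tt N1066 F15069) (tt N1117 (iv F15080)) (tt N450 (iv D7242)) (tt N1118 (iv F15077)) (tt N1119 D7507) (tt N1026 F15070))
theorem Q735 : ∀ i, i < 735 → P i := stepQ 734 Q734 (allL N734 (tt N1027 F14893) (tt N965 F14894) (tt N967 F15794) (tt N451 (iv D7179)) (tt N1120 D7469) (tt N965 F14895) (tt N1121 D7470))
theorem Q736 : ∀ i, i < 736 → P i := stepQ 735 Q735 (allL N735 (tt N739 (iv F15037)) (tt N1122 F14990) (tt N452 (iv F15824)) (tt N991 F14991) (tt N1123 F14992) (tt N1124 (iv F15056)) (tt N1005 (iv D7220)))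
theorem Q737 : ∀ i, i < 737 → P i := stepQ 736 Q736 (allL N736 (tt N737 (iv F16044)) (tt N736 F15758) (tt N1123 (iv D7428)) (tt N736 F15760) (tt N452 F15825) (tt N453 F15831) (tt N1125 F15759))
theorem Q738 : ∀ i, i < 738 → P i := stepQ 737 Q737 (allL N737 (tt N736 F16044) (tt N737 F16045) (tt N1124 F16046) (tt N737 F16047) (tt N453 F16048) (tt N452 F16049) (tt N1126 (iv D7506)))
theorem Q739 : ∀ i, i < 739 → P i := stepQ 738 Q738 (allL N738 (tt N740 (iv F15033)) (tt N738 F14989) (tt N1005 (iv D7219)) (tt N740 (iv F15036)) (tt N1125 (iv F15134)) (tt N740 (iv F15035)) (tt N452 F15826))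
theorem Q740 : ∀ i, i < 740 → P i := stepQ 739 Q739 (allL N739 (tt N735 F15037) (tt N1127 F15038) (tt N453 (iv F15829)) (tt N709 F15039) (tt N1124 (iv F15055)) (tt N1123 F15040) (tt N710 (iv D7235)))
theorem Q741 : ∀ i, i < 741 → P i := stepQ 740 Q740 (allL N740 (tt N738 F15033) (tt N740 F15034) (tt N710 (iv D7234)) (tt N738 F15036) (tt N1126 (iv F15051)) (tt N738 F15035) (tt N453 (iv F15830)))
theorem Q742 : ∀ i, i < 742 → P i := stepQ 741 Q741 (allL N741 (tt N474 (iv F661)) (tt N1128 D356) (tt N454 (iv D170)) (tt N1129 D357) (tt N1130 D358) (tt N456 F350) (tt N1131 D359))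
theorem Q743 : ∀ i, i < 743 → P i := stepQ 742 Q742 (allL N742 (tt N475 (iv F663)) (tt N457 F351) (tt N1130 (iv F679)) (tt N457 F352) (tt N454 (iv D171)) (tt N457 F353) (tt N753 (iv F646)))
theorem Q744 : ∀ i, i < 744 → P i := stepQ 743 Q743 (allL N743 (tt N476 (iv F667)) (tt N458 F354) (tt N1131 (iv F681)) (tt N764 (iv F660)) (tt N753 (iv F645)) (tt N751 (iv F642)) (tt N454 (iv D172)))
theorem Q745 : ∀ i, i < 745 → P i := stepQ 744 Q744 (allL N744 (tt N477 (iv F669)) (tt N919 D360) (tt N455 (iv D173)) (tt N1132 D361) (tt N1133 D362) (tt N914 D363) (tt N460 F355))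
theorem Q746 : ∀ i, i < 746 → P i := stepQ 745 Q745 (allL N745 (tt N478 (iv F671)) (tt N461 F356) (tt N1133 (iv F684)) (tt N461 F357) (tt N455 (iv D174)) (tt N761 (iv F656)) (tt N461 F358))
theorem Q747 : ∀ i, i < 747 → P i := stepQ 746 Q746 (allL N746 (tt N479 (iv F675)) (tt N462 F359) (tt N914 (iv F686)) (tt N756 (iv F647)) (tt N761 (iv F655)) (tt N455 (iv D175)) (tt N759 (iv F651)))
theorem Q748 : ∀ i, i < 748 → P i := stepQ 747 Q747 (allL N747 (tt N1134 D696) (tt N456 (iv D330)) (tt N1128 (iv F677)) (tt N1135 D697) (tt N1136 D698) (tt N1128 (iv F678)) (tt N1137 D699))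
theorem Q749 : ∀ i, i < 749 → P i := stepQ 748 Q748 (allL N748 (tt N481 (iv F1252)) (tt N1135 (iv F1300)) (tt N846 D700) (tt N456 (iv D331)) (tt N1138 D701) (tt N1139 D702) (tt N1140 D703))
theorem Q750 : ∀ i, i < 750 → P i := stepQ 749 Q749 (allL N749 (tt N482 (iv F1253)) (tt N1136 (iv F1302)) (tt N457 F639) (tt N1141 D704) (tt N456 (iv D332)) (tt N1130 (iv F680)) (tt N1142 D705))
theorem Q751 : ∀ i, i < 751 → P i := stepQ 750 Q750 (allL N750 (tt N483 (iv F1255)) (tt N1137 (iv F1305)) (tt N458 F640) (tt N1143 D706) (tt N1142 (iv F1307)) (tt N1143 F13255) (tt N456 (iv D333)))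
theorem Q752 : ∀ i, i < 752 → P i := stepQ 751 Q751 (allL N751 (tt N484 (iv F1257)) (tt N753 (iv F644)) (tt N1142 (iv F1306)) (tt N1144 D708) (tt N458 F641) (tt N743 F642) (tt N457 (iv D334)))
theorem Q753 : ∀ i, i < 753 → P i := stepQ 752 Q752 (allL N752 (tt N485 (iv F1261)) (tt N764 (iv F659)) (tt N1145 D709) (tt N458 (iv D335)) (tt N1146 D710) (tt N1147 D711) (tt N459 F643))
theorem Q754 : ∀ i, i < 754 → P i := stepQ 753 Q753 (allL N753 (tt N486 (iv F1264)) (tt N751 F644) (tt N1143 F13256) (tt N1148 D712) (tt N743 F645) (tt N458 (iv D336)) (tt N742 F646))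
theorem Q755 : ∀ i, i < 755 → P i := stepQ 754 Q754 (allL N754 (tt N487 (iv F1268)) (tt N989 D713) (tt N459 (iv D337)) (tt N1149 D714) (tt N1150 D715) (tt N851 D716) (tt N1145 (iv F1312)))
theorem Q756 : ∀ i, i < 756 → P i := stepQ 755 Q755 (allL N755 (tt N488 (iv F1269)) (tt N763 (iv F657)) (tt N1150 (iv F1316)) (tt N763 (iv F658)) (tt N459 (iv D338)) (tt N1151 D717) (tt N1146 (iv F1313)))
theorem Q757 : ∀ i, i < 757 → P i := stepQ 756 Q756 (allL N756 (tt N489 (iv F1271)) (tt N760 (iv F652)) (tt N851 (iv F1317)) (tt N746 F647) (tt N1151 (iv F1318)) (tt N459 (iv D339)) (tt N849 D718))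
theorem Q758 : ∀ i, i < 758 → P i := stepQ 757 Q757 (allL N757 (tt N491 (iv F1275)) (tt N1090 (iv F1324)) (tt N491 (iv F13261)) (tt N460 (iv D341)) (tt N818 D724) (tt N1080 D725) (tt N816 D726))
theorem Q759 : ∀ i, i < 759 → P i := stepQ 758 Q758 (allL N758 (tt N492 (iv F1276)) (tt N1085 (iv F1326)) (tt N461 F648) (tt N1152 D727) (tt N460 (iv D342)) (tt N1073 D728) (tt N1133 (iv F685)))
theorem Q760 : ∀ i, i < 760 → P i := stepQ 759 Q759 (allL N759 (tt N494 (iv F1280)) (tt N761 (iv F654)) (tt N1073 (iv F1330)) (tt N1153 D731) (tt N462 F650) (tt N461 (iv D344)) (tt N746 F651))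
theorem Q761 : ∀ i, i < 761 → P i := stepQ 760 Q760 (allL N760 (tt N495 (iv F1284)) (tt N756 F652) (tt N1154 D732) (tt N462 (iv D345)) (tt N1155 D733) (tt N463 F653) (tt N1156 D734))
theorem Q762 : ∀ i, i < 762 → P i := stepQ 761 Q761 (allL N761 (tt N496 (iv F1287)) (tt N759 F654) (tt N1000 (iv F1333)) (tt N1157 D735) (tt N746 F655) (tt N745 F656) (tt N462 (iv D346)))
theorem Q763 : ∀ i, i < 763 → P i := stepQ 762 Q762 (allL N762 (tt N497 (iv F1291)) (tt N990 D736) (tt N463 (iv D347)) (tt N1158 D737) (tt N1159 D738) (tt N1154 (iv F1336)) (tt N771 F13795))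
theorem Q764 : ∀ i, i < 764 → P i := stepQ 763 Q763 (allL N763 (tt N498 (iv F1292)) (tt N755 F657) (tt N1159 (iv F1343)) (tt N755 F658) (tt N463 (iv D348)) (tt N1155 (iv F1338)) (tt N1160 D740))
theorem Q765 : ∀ i, i < 765 → P i := stepQ 764 Q764 (allL N764 (tt N499 (iv F1295)) (tt N752 F659) (tt N771 F13792) (tt N743 F660) (tt N1160 (iv F1346)) (tt N769 F13793) (tt N463 (iv D349)))
theorem Q766 : ∀ i, i < 766 → P i := stepQ 765 Q765 (allL N765 (tt N832 D774) (tt N464 (iv D370)) (tt N540 (iv F729)) (tt N1161 D775) (tt N830 D776) (tt N500 (iv F1375)) (tt N546 D777))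
theorem Q767 : ∀ i, i < 767 → P i := stepQ 766 Q766 (allL N766 (tt N501 (iv F1376)) (tt N1161 (iv F1391)) (tt N1162 D778) (tt N464 (iv D371)) (tt N1163 D779) (tt N1164 D780) (tt N1165 D781))
theorem Q768 : ∀ i, i < 768 → P i := stepQ 767 Q767 (allL N767 (tt N503 (iv F1380)) (tt N546 (iv F1395)) (tt N465 F700) (tt N1166 D784) (tt N840 (iv F1397)) (tt N838 D785) (tt N464 (iv D373)))
theorem Q769 : ∀ i, i < 769 → P i := stepQ 768 Q768 (allL N768 (tt N507 (iv F1383)) (tt N613 (iv F1408)) (tt N1167 D792) (tt N466 (iv D377)) (tt N1168 D793) (tt N1169 D794) (tt N1170 D795))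
theorem Q770 : ∀ i, i < 770 → P i := stepQ 769 Q769 (allL N769 (tt N508 (iv F2115)) (tt N1147 (iv F13798)) (tt N467 (iv D642)) (tt N795 D1338) (tt N1156 (iv F13786)) (tt N764 (iv F13793)) (tt N1155 (iv F13788)))
theorem Q771 : ∀ i, i < 771 → P i := stepQ 770 Q770 (allL N770 (tt N509 (iv F2117)) (tt N620 (iv F2410)) (tt N1156 (iv F13785)) (tt N875 D1342) (tt N467 (iv D643)) (tt N1171 D1343) (tt N1154 (iv F13790)))
theorem Q772 : ∀ i, i < 772 → P i := stepQ 771 Q771 (allL N771 (tt N510 (iv F2118)) (tt N623 (iv F2411)) (tt N764 (iv F13792)) (tt N472 F1225) (tt N1171 (iv F2423)) (tt N467 (iv D644)) (tt N762 (iv F13795)))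
theorem Q773 : ∀ i, i < 773 → P i := stepQ 772 Q772 (allL N772 (tt N511 (iv F2120)) (tt N618 (iv F2413)) (tt N1155 (iv F13787)) (tt N511 F13634) (tt N1154 (iv F13789)) (tt N1159 (iv F13791)) (tt N467 (iv D645)))
theorem Q774 : ∀ i, i < 774 → P i := stepQ 773 Q773 (allL N773 (tt N514 (iv F2163)) (tt N880 (iv F2478)) (tt N1172 D1404) (tt N468 (iv D671)) (tt N1173 D1405) (tt N1174 D1406) (tt N514 F13530))
theorem Q775 : ∀ i, i < 775 → P i := stepQ 774 Q774 (allL N774 (tt N671 (iv F4247)) (tt N471 F2318) (tt N647 (iv F4568)) (tt N856 (iv F4236)) (tt N469 (iv D1275)) (tt N645 D2598) (tt N1031 D2599))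
theorem Q776 : ∀ i, i < 776 → P i := stepQ 775 Q775 (allL N775 (tt N669 (iv F4262)) (tt N472 F2319) (tt N646 (iv F4569)) (tt N623 (iv F2412)) (tt N645 (iv F4572)) (tt N469 (iv D1276)) (tt N657 D2600))
theorem Q777 : ∀ i, i < 777 → P i := stepQ 776 Q776 (allL N776 (tt N713 D2607) (tt N470 (iv D1280)) (tt N653 (iv F4567)) (tt N522 F2326) (tt N1025 D2608) (tt N1009 D2609) (tt N651 D2610))
theorem Q778 : ∀ i, i < 778 → P i := stepQ 777 Q777 (allL N777 (tt N523 F2327) (tt N1025 (iv F4587)) (tt N471 F2328) (tt N1175 D2611) (tt N470 (iv D1281)) (tt N1023 D2612) (tt N999 D2613))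
theorem Q779 : ∀ i, i < 779 → P i := stepQ 778 Q778 (allL N778 (tt N524 F2329) (tt N1009 (iv F4588)) (tt N472 F2330) (tt N1176 D2614) (tt N1023 (iv F4594)) (tt N470 (iv D1282)) (tt N630 D2615))
theorem Q780 : ∀ i, i < 780 → P i := stepQ 779 Q779 (allL N779 (tt N525 F2331) (tt N651 (iv F4589)) (tt N473 F2332) (tt N1177 D2616) (tt N999 (iv F4597)) (tt N649 D2617) (tt N470 (iv D1283)))
theorem Q781 : ∀ i, i < 781 → P i := stepQ 780 Q780 (allL N780 (tt N527 F2335) (tt N645 (iv F4571)) (tt N1023 (iv F4593)) (tt N1178 D2621) (tt N472 F2336) (tt N471 (iv D1285)) (tt N655 (iv F2345)))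
theorem Q782 : ∀ i, i < 782 → P i := stepQ 781 Q781 (allL N781 (tt N528 F2337) (tt N1031 (iv F4573)) (tt N999 (iv F4596)) (tt N1179 D2622) (tt N473 F2338) (tt N782 (iv F2340)) (tt N471 (iv D1286)))
theorem Q783 : ∀ i, i < 783 → P i := stepQ 782 Q782 (allL N782 (tt N529 F2339) (tt N657 (iv F4575)) (tt N630 (iv F4601)) (tt N1180 (iv F13797)) (tt N655 (iv F2344)) (tt N781 F2340) (tt N472 (iv D1287)))
theorem Q784 : ∀ i, i < 784 → P i := stepQ 783 Q783 (allL N783 (tt N793 (iv F2496)) (tt N474 (iv D742)) (tt N783 F1351) (tt N1181 D1554) (tt N791 F2494) (tt N480 F1352) (tt N1182 D1555))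
theorem Q785 : ∀ i, i < 785 → P i := stepQ 784 Q784 (allL N784 (tt N1129 F1353) (tt N1181 (iv F2699)) (tt N1183 D1556) (tt N474 (iv D743)) (tt N1184 D1557) (tt N1185 D1558) (tt N1186 D1559))
theorem Q786 : ∀ i, i < 786 → P i := stepQ 785 Q785 (allL N785 (tt N1130 F1354) (tt N791 (iv F2492)) (tt N475 F1355) (tt N798 F13246) (tt N474 (iv D744)) (tt N482 F1356) (tt N801 F13247))
theorem Q787 : ∀ i, i < 787 → P i := stepQ 786 Q786 (allL N786 (tt N1131 F1357) (tt N1182 (iv F2700)) (tt N476 F1358) (tt N1187 D1561) (tt N801 F13245) (tt N800 (iv F2509)) (tt N474 (iv D745)))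
theorem Q788 : ∀ i, i < 788 → P i := stepQ 787 Q787 (allL N787 (tt N815 (iv F2545)) (tt N477 (iv D746)) (tt N787 F1359) (tt N1188 D1562) (tt N813 F2543) (tt N596 D1563) (tt N490 F1360))
theorem Q789 : ∀ i, i < 789 → P i := stepQ 788 Q788 (allL N788 (tt N1132 F1361) (tt N1188 (iv F2710)) (tt N1189 D1564) (tt N477 (iv D747)) (tt N1190 F13275) (tt N1191 D1566) (tt N1192 F13276))
theorem Q790 : ∀ i, i < 790 → P i := stepQ 789 Q789 (allL N789 (tt N1133 F1362) (tt N813 (iv F2541)) (tt N478 F1363) (tt N1106 D1568) (tt N477 (iv D748)) (tt N821 (iv F2563)) (tt N492 F1364))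
theorem Q791 : ∀ i, i < 791 → P i := stepQ 790 Q790 (allL N790 (tt N914 F1365) (tt N596 (iv F2711)) (tt N479 F1366) (tt N595 D1569) (tt N821 (iv F2562)) (tt N477 (iv D749)) (tt N820 (iv F2558)))
theorem Q792 : ∀ i, i < 792 → P i := stepQ 791 Q791 (allL N791 (tt N480 (iv D1414)) (tt N785 F2492) (tt N791 F2493) (tt N1193 D2896) (tt N783 (iv F2494)) (tt N793 (iv F2499)) (tt N1194 D2897))
theorem Q793 : ∀ i, i < 793 → P i := stepQ 792 Q792 (allL N792 (tt N1193 (iv F5045)) (tt N481 F2495) (tt N1195 D2898) (tt N480 (iv D1415)) (tt N1196 D2899) (tt N1197 D2900) (tt N1193 F13383))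
theorem Q794 : ∀ i, i < 794 → P i := stepQ 793 Q793 (allL N793 (tt N783 F2496) (tt N482 F2497) (tt N793 F2498) (tt N1198 D2902) (tt N480 (iv D1416)) (tt N791 F2499) (tt N1199 D2903))
theorem Q795 : ∀ i, i < 795 → P i := stepQ 794 Q794 (allL N794 (tt N1194 (iv F5047)) (tt N483 F2500) (tt N794 F2501) (tt N1194 F13384) (tt N1199 (iv F5060)) (tt N1194 (iv F5051)) (tt N480 (iv D1417)))
theorem Q796 : ∀ i, i < 796 → P i := stepQ 795 Q795 (allL N795 (tt N846 F2417) (tt N1200 (iv F13992)) (tt N481 F2418) (tt N769 (iv D1338)) (tt N1201 D2736) (tt N1144 (iv F13997)) (tt N1202 D2738))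
theorem Q797 : ∀ i, i < 797 → P i := stepQ 796 Q796 (allL N796 (tt N1138 F2502) (tt N1196 (iv F5052)) (tt N1201 (iv F4831)) (tt N1203 D2905) (tt N481 (iv D1418)) (tt N1204 D2906) (tt N1205 D2907))
theorem Q798 : ∀ i, i < 798 → P i := stepQ 797 Q797 (allL N797 (tt N1139 F2503) (tt N1197 (iv F5053)) (tt N1144 (iv F13996)) (tt N1185 (iv F2706)) (tt N1204 (iv F5066)) (tt N481 (iv D1419)) (tt N1206 (iv F14016)))
theorem Q799 : ∀ i, i < 799 → P i := stepQ 798 Q798 (allL N798 (tt N1140 F2504) (tt N1193 (iv F13360)) (tt N1202 (iv F4835)) (tt N785 (iv F13246)) (tt N1205 (iv F5068)) (tt N1207 D2910) (tt N481 (iv D1420)))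
theorem Q800 : ∀ i, i < 800 → P i := stepQ 799 Q799 (allL N799 (tt N1141 F2505) (tt N1198 (iv F5056)) (tt N1208 D2911) (tt N482 (iv D1421)) (tt N1203 (iv F5064)) (tt N1209 D2912) (tt N1210 D2913))
theorem Q801 : ∀ i, i < 801 → P i := stepQ 800 Q800 (allL N800 (tt N1142 F2506) (tt N1199 (iv F5058)) (tt N484 F2507) (tt N1211 D2914) (tt N483 F2508) (tt N786 F2509) (tt N482 (iv D1422)))
theorem Q802 : ∀ i, i < 802 → P i := stepQ 801 Q801 (allL N801 (tt N1143 F2510) (tt N1194 (iv F13243)) (tt N486 (iv F13244)) (tt N483 (iv D1423)) (tt N786 (iv F13245)) (tt N483 (iv F13242)) (tt N785 (iv F13247)))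
theorem Q803 : ∀ i, i < 803 → P i := stepQ 802 Q802 (allL N802 (tt N1144 F2515) (tt N802 F2516) (tt N1139 F13823) (tt N484 (iv D1425)) (tt N1212 D2918) (tt N846 F13824) (tt N806 (iv F2526)))
theorem Q804 : ∀ i, i < 804 → P i := stepQ 803 Q803 (allL N803 (tt N1145 F2517) (tt N909 D2920) (tt N485 (iv D1426)) (tt N1213 D2921) (tt N874 (iv F13897)) (tt N875 (iv F13901)) (tt N487 F2518))
theorem Q805 : ∀ i, i < 805 → P i := stepQ 804 Q804 (allL N804 (tt N1146 F2519) (tt N804 F2520) (tt N874 (iv F13896)) (tt N1212 (iv F5090)) (tt N485 (iv D1427)) (tt N812 F13725) (tt N488 F2521))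
theorem Q806 : ∀ i, i < 806 → P i := stepQ 805 Q805 (allL N805 (tt N1147 F2522) (tt N805 F2523) (tt N875 (iv F13900)) (tt N1214 D2924) (tt N812 F13727) (tt N485 (iv D1428)) (tt N811 (iv F2536)))
theorem Q807 : ∀ i, i < 807 → P i := stepQ 806 Q806 (allL N806 (tt N1148 F2524) (tt N806 F2525) (tt N1215 F14023) (tt N486 (iv D1429)) (tt N1216 D2926) (tt N1214 (iv F5108)) (tt N802 F2526))
theorem Q808 : ∀ i, i < 808 → P i := stepQ 807 Q807 (allL N807 (tt N619 D2927) (tt N487 (iv D1430)) (tt N807 F2527) (tt N954 D2928) (tt N911 D2929) (tt N570 F13888) (tt N909 (iv F5095)))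
theorem Q809 : ∀ i, i < 809 → P i := stepQ 808 Q808 (allL N808 (tt N1149 F2528) (tt N954 (iv F5118)) (tt N808 F13635) (tt N487 (iv D1431)) (tt N1217 D2931) (tt N1149 (iv F14032)) (tt N959 D2933))
theorem Q810 : ∀ i, i < 810 → P i := stepQ 809 Q809 (allL N809 (tt N1150 F2529) (tt N911 (iv F5120)) (tt N488 F2530) (tt N1093 D2934) (tt N487 (iv D1432)) (tt N1218 (iv F13730)) (tt N874 (iv F13898)))
theorem Q811 : ∀ i, i < 811 → P i := stepQ 810 Q810 (allL N810 (tt N851 (iv F13618)) (tt N570 (iv F4823)) (tt N489 (iv F13728)) (tt N851 (iv F13849)) (tt N1218 (iv F4848)) (tt N487 (iv F13731)) (tt N538 (iv D1350)))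
theorem Q812 : ∀ i, i < 812 → P i := stepQ 811 Q811 (allL N811 (tt N1151 F2533) (tt N811 F2534) (tt N1218 F13911) (tt N1219 D2937) (tt N489 F2535) (tt N488 (iv D1434)) (tt N805 F2536))
theorem Q813 : ∀ i, i < 813 → P i := stepQ 812 Q812 (allL N812 (tt N849 (iv F13610)) (tt N812 F13726) (tt N538 (iv D1348)) (tt N1220 D2757) (tt N805 (iv F13727)) (tt N804 (iv F13725)) (tt N489 (iv F13729)))
theorem Q814 : ∀ i, i < 814 → P i := stepQ 813 Q813 (allL N813 (tt N490 (iv D1436)) (tt N789 F2541) (tt N813 F2542) (tt N721 D2939) (tt N787 (iv F2543)) (tt N650 D2940) (tt N815 (iv F2548)))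
theorem Q815 : ∀ i, i < 815 → P i := stepQ 814 Q814 (allL N814 (tt N721 (iv F5140)) (tt N491 F2544) (tt N643 D2941) (tt N490 (iv D1437)) (tt N1221 F13391) (tt N731 D2943) (tt N1222 F13392))
theorem Q816 : ∀ i, i < 816 → P i := stepQ 815 Q815 (allL N815 (tt N787 F2545) (tt N492 F2546) (tt N815 F2547) (tt N1223 D2945) (tt N490 (iv D1438)) (tt N730 D2946) (tt N813 F2548))
theorem Q817 : ∀ i, i < 817 → P i := stepQ 816 Q816 (allL N816 (tt N818 F13124) (tt N1221 (iv F2656)) (tt N818 (iv F13120)) (tt N1224 (iv F1374)) (tt N491 F13125) (tt N1225 D1527) (tt N757 (iv D726)))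
theorem Q818 : ∀ i, i < 818 → P i := stepQ 817 Q817 (allL N817 (tt N1080 F2552) (tt N731 (iv F5148)) (tt N1080 (iv F13262)) (tt N728 D2951) (tt N1225 (iv F13263)) (tt N491 (iv D1441)) (tt N1080 (iv F13123)))
theorem Q819 : ∀ i, i < 819 → P i := stepQ 818 Q818 (allL N818 (tt N816 (iv F13124)) (tt N1222 (iv F2654)) (tt N816 F13120) (tt N1192 D1522) (tt N757 (iv D724)) (tt N1226 D1523) (tt N491 F13122))
theorem Q820 : ∀ i, i < 820 → P i := stepQ 819 Q819 (allL N819 (tt N1152 F2554) (tt N1223 (iv F5151)) (tt N1227 D2954) (tt N492 (iv D1443)) (tt N1224 F13414) (tt N1228 (iv F13433)) (tt N1229 F13415))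
theorem Q821 : ∀ i, i < 821 → P i := stepQ 820 Q820 (allL N820 (tt N1073 F2555) (tt N730 (iv F5153)) (tt N494 F2556) (tt N688 D2957) (tt N493 F2557) (tt N492 (iv D1444)) (tt N790 F2558))
theorem Q822 : ∀ i, i < 822 → P i := stepQ 821 Q821 (allL N821 (tt N1000 F2560) (tt N650 (iv F5143)) (tt N496 F2561) (tt N649 (iv F13784)) (tt N790 F2562) (tt N789 F2563) (tt N493 (iv D1446)))
theorem Q823 : ∀ i, i < 823 → P i := stepQ 822 Q822 (allL N822 (tt N1153 F2564) (tt N822 F2565) (tt N1230 D2960) (tt N494 (iv D1447)) (tt N1231 D2961) (tt N826 (iv F2575)) (tt N1220 F13908))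
theorem Q824 : ∀ i, i < 824 → P i := stepQ 823 Q823 (allL N823 (tt N1154 F2566) (tt N616 D2962) (tt N495 (iv D1448)) (tt N1232 D2963) (tt N511 F13679) (tt N497 F2567) (tt N509 F13680))
theorem Q825 : ∀ i, i < 825 → P i := stepQ 824 Q824 (allL N824 (tt N1155 F2568) (tt N824 F2569) (tt N511 F13674) (tt N1231 (iv F5185)) (tt N495 (iv D1449)) (tt N498 F2570) (tt N508 F13675))
theorem Q826 : ∀ i, i < 826 → P i := stepQ 825 Q825 (allL N825 (tt N1156 F2571) (tt N825 F2572) (tt N509 F13672) (tt N1233 D2966) (tt N508 F13673) (tt N829 (iv F2585)) (tt N495 (iv D1450)))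
theorem Q827 : ∀ i, i < 827 → P i := stepQ 826 Q826 (allL N826 (tt N1157 F2573) (tt N826 F2574) (tt N1234 D2967) (tt N496 (iv D1451)) (tt N1219 (iv F5136)) (tt N822 F2575) (tt N1233 (iv F5201)))
theorem Q828 : ∀ i, i < 828 → P i := stepQ 827 Q827 (allL N827 (tt N1158 F2577) (tt N983 (iv F5204)) (tt N1235 (iv F5030)) (tt N497 (iv D1453)) (tt N1236 D2970) (tt N1237 D2971) (tt N867 F13821))
theorem Q829 : ∀ i, i < 829 → P i := stepQ 828 Q828 (allL N828 (tt N1159 F2578) (tt N619 (iv F5115)) (tt N498 F2579) (tt N1238 D2973) (tt N497 (iv D1454)) (tt N511 F13681) (tt N848 F13682))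
theorem Q830 : ∀ i, i < 830 → P i := stepQ 829 Q829 (allL N829 (tt N1160 F2582) (tt N829 F2583) (tt N848 F13818) (tt N1216 (iv F5113)) (tt N499 F2584) (tt N825 F2585) (tt N498 (iv D1456)))
theorem Q831 : ∀ i, i < 831 → P i := stepQ 830 Q830 (allL N830 (tt N500 F1392) (tt N539 F1393) (tt N541 (iv F1445)) (tt N1089 D1634) (tt N765 (iv D776)) (tt N832 F1394) (tt N567 D1635))
theorem Q832 : ∀ i, i < 832 → P i := stepQ 831 Q831 (allL N831 (tt N1089 (iv F2782)) (tt N501 F2757) (tt N1239 D3316) (tt N500 (iv D1614)) (tt N1240 D3317) (tt N1241 D3318) (tt N578 D3319))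
theorem Q833 : ∀ i, i < 833 → P i := stepQ 832 Q832 (allL N832 (tt N765 (iv D774)) (tt N502 F1389) (tt N542 (iv F1439)) (tt N1242 D1628) (tt N500 (iv F1390)) (tt N830 (iv F1394)) (tt N547 D1629))
theorem Q834 : ∀ i, i < 834 → P i := stepQ 833 Q833 (allL N833 (tt N1162 F2726) (tt N1243 (iv F5553)) (tt N501 F2727) (tt N1244 (iv D1576)) (tt N1245 D3234) (tt N1246 D3235) (tt N1247 D3236))
theorem Q835 : ∀ i, i < 835 → P i := stepQ 834 Q834 (allL N834 (tt N1163 F2759) (tt N1240 (iv F5652)) (tt N1245 (iv F5558)) (tt N1248 D3321) (tt N501 (iv D1616)) (tt N1249 D3322) (tt N1250 F14156))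
theorem Q836 : ∀ i, i < 836 → P i := stepQ 835 Q835 (allL N835 (tt N1164 F2760) (tt N1241 (iv F5653)) (tt N1246 (iv F5560)) (tt N1164 F2761) (tt N1249 (iv F5660)) (tt N501 (iv D1617)) (tt N1251 D3324))
theorem Q837 : ∀ i, i < 837 → P i := stepQ 836 Q836 (allL N836 (tt N1165 F2762) (tt N578 (iv F5655)) (tt N1247 (iv F5562)) (tt N573 F14044) (tt N1250 (iv F14126)) (tt N1001 D3326) (tt N501 (iv D1618)))
theorem Q838 : ∀ i, i < 838 → P i := stepQ 837 Q837 (allL N837 (tt N876 F2763) (tt N1242 (iv F2774)) (tt N1252 D3327) (tt N502 (iv D1619)) (tt N1248 (iv F5658)) (tt N1253 D3328) (tt N1254 D3329))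
theorem Q839 : ∀ i, i < 839 → P i := stepQ 838 Q838 (allL N838 (tt N840 F1399) (tt N547 (iv F2776)) (tt N504 F1400) (tt N1255 D1654) (tt N503 F1401) (tt N767 (iv D785)) (tt N502 F1402))
theorem Q840 : ∀ i, i < 840 → P i := stepQ 839 Q839 (allL N839 (tt N1166 F2764) (tt N579 (iv F5656)) (tt N839 F13696) (tt N503 (iv D1620)) (tt N918 (iv F13853)) (tt N916 (iv F13856)) (tt N573 (iv F13859)))
theorem Q841 : ∀ i, i < 841 → P i := stepQ 840 Q840 (allL N840 (tt N838 (iv F1399)) (tt N567 (iv F2785)) (tt N505 F1396) (tt N1077 D1650) (tt N767 F1397) (tt N503 F1398) (tt N539 (iv D783)))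
theorem Q842 : ∀ i, i < 842 → P i := stepQ 841 Q841 (allL N841 (tt N613 (iv F13234)) (tt N507 F2765) (tt N1256 D3331) (tt N506 (iv D1621)) (tt N1257 D3332) (tt N1258 D3333) (tt N1259 D3334))
theorem Q843 : ∀ i, i < 843 → P i := stepQ 842 Q842 (allL N842 (tt N1167 F2744) (tt N1260 (iv F5611)) (tt N507 F2745) (tt N1261 (iv D1598)) (tt N1262 D3284) (tt N1263 D3285) (tt N1264 (iv F13502)))
theorem Q844 : ∀ i, i < 844 → P i := stepQ 843 Q843 (allL N843 (tt N1168 F2767) (tt N1257 (iv F5680)) (tt N1262 (iv F5616)) (tt N843 F13187) (tt N507 (iv D1623)) (tt N1265 D3337) (tt N1266 D3338))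
theorem Q845 : ∀ i, i < 845 → P i := stepQ 844 Q844 (allL N844 (tt N1169 F2768) (tt N1258 (iv F5681)) (tt N1263 (iv F5618)) (tt N1169 F13369) (tt N1265 (iv F5688)) (tt N507 (iv D1624)) (tt N1267 D3340))
theorem Q846 : ∀ i, i < 846 → P i := stepQ 845 Q845 (allL N845 (tt N1170 F2769) (tt N1259 (iv F5682)) (tt N1264 (iv F13501)) (tt N1170 F2770) (tt N1266 (iv F5690)) (tt N1268 (iv F13504)) (tt N507 (iv D1625)))
theorem Q847 : ∀ i, i < 847 → P i := stepQ 846 Q846 (allL N846 (tt N795 (iv F2417)) (tt N846 F13822) (tt N748 (iv D700)) (tt N508 (iv F2116)) (tt N1269 D1468) (tt N802 (iv F13824)) (tt N1270 D1470))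
theorem Q848 : ∀ i, i < 848 → P i := stepQ 847 Q847 (allL N847 (tt N875 F13612) (tt N614 F13739) (tt N1147 F2625) (tt N509 F13613) (tt N512 F13614) (tt N1145 (iv D1491)) (tt N1271 (iv F2641)))
theorem Q849 : ∀ i, i < 849 → P i := stepQ 848 Q848 (allL N848 (tt N1171 F4123) (tt N615 (iv F8063)) (tt N829 (iv F13818)) (tt N1272 (iv F13819)) (tt N510 F4124) (tt N509 (iv D2305)) (tt N828 (iv F13682)))
theorem Q850 : ∀ i, i < 850 → P i := stepQ 849 Q849 (allL N849 (tt N812 F13610) (tt N1156 (iv F1339)) (tt N512 F13611) (tt N1273 D1508) (tt N1147 F1320) (tt N1146 F1321) (tt N756 (iv D718)))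
theorem Q851 : ∀ i, i < 851 → P i := stepQ 850 Q850 (allL N850 (tt N874 F13615) (tt N621 (iv F13723)) (tt N1146 F2623) (tt N533 F13616) (tt N1145 (iv D1490)) (tt N512 F13617) (tt N1150 F2624))
theorem Q852 : ∀ i, i < 852 → P i := stepQ 851 Q851 (allL N851 (tt N810 F13618) (tt N622 (iv F2638)) (tt N756 F1317) (tt N810 F13849) (tt N1271 (iv F2640)) (tt N754 (iv D716)) (tt N512 F13619))
theorem Q853 : ∀ i, i < 853 → P i := stepQ 852 Q852 (allL N852 (tt N852 F13457) (tt N514 F4214) (tt N1274 D4585) (tt N513 (iv D2355)) (tt N1275 D4586) (tt N1274 (iv F14399)) (tt N880 (iv F13607)))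
theorem Q854 : ∀ i, i < 854 → P i := stepQ 853 Q853 (allL N853 (tt N1172 F4217) (tt N1276 D4591) (tt N514 (iv D2357)) (tt N1277 F4218) (tt N1278 D4592) (tt N1276 (iv F14323)) (tt N1172 (iv F13694)))
theorem Q855 : ∀ i, i < 855 → P i := stepQ 854 Q854 (allL N854 (tt N1173 F4219) (tt N1275 (iv F8270)) (tt N1278 (iv F8282)) (tt N1173 (iv F13532)) (tt N514 (iv D2358)) (tt N1279 (iv F13688)) (tt N1173 (iv F13695)))
theorem Q856 : ∀ i, i < 856 → P i := stepQ 855 Q855 (allL N855 (tt N1174 F4220) (tt N1274 (iv F14397)) (tt N1276 (iv F14322)) (tt N855 F13528) (tt N1279 (iv F13687)) (tt N514 (iv D2359)) (tt N1280 (iv F13690)))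
theorem Q857 : ∀ i, i < 857 → P i := stepQ 856 Q856 (allL N856 (tt N518 F4234) (tt N536 F13683) (tt N683 (iv F8310)) (tt N774 F4236) (tt N516 (iv D2366)) (tt N1050 D4612) (tt N681 D4613))
theorem Q858 : ∀ i, i < 858 → P i := stepQ 857 Q857 (allL N857 (tt N520 F4239) (tt N530 F13677) (tt N673 (iv F8314)) (tt N520 F13678) (tt N681 (iv F8320)) (tt N672 D4616) (tt N516 (iv D2368)))
theorem Q859 : ∀ i, i < 859 → P i := stepQ 858 Q858 (allL N858 (tt N965 (iv F8308)) (tt N648 (iv F8339)) (tt N904 D4625) (tt N517 (iv D2371)) (tt N1281 D4626) (tt N1027 D4627) (tt N1282 D4628))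
theorem Q860 : ∀ i, i < 860 → P i := stepQ 859 Q859 (allL N859 (tt N1050 (iv F8315)) (tt N527 F4250) (tt N628 F14615) (tt N1048 D4639) (tt N519 F4251) (tt N518 (iv D2376)) (tt N625 (iv F4260)))
theorem Q861 : ∀ i, i < 861 → P i := stepQ 860 Q860 (allL N860 (tt N1175 (iv F4590)) (tt N1005 (iv F8418)) (tt N860 F4613) (tt N523 (iv D2393)) (tt N1175 (iv F4591)) (tt N870 F8496) (tt N1122 D4676))
theorem Q862 : ∀ i, i < 862 → P i := stepQ 861 Q861 (allL N861 (tt N1023 (iv F4592)) (tt N635 (iv F8419)) (tt N527 F4275) (tt N694 F13762) (tt N524 F4276) (tt N523 (iv D2394)) (tt N631 (iv F13767)))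
theorem Q863 : ∀ i, i < 863 → P i := stepQ 862 Q862 (allL N862 (tt N1176 (iv F4598)) (tt N638 (iv F8423)) (tt N1283 (iv F13831)) (tt N524 (iv D2396)) (tt N696 D4680) (tt N1176 (iv F4599)) (tt N917 D4681))
theorem Q864 : ∀ i, i < 864 → P i := stepQ 863 Q863 (allL N863 (tt N1177 (iv F13780)) (tt N1003 (iv F5361)) (tt N1284 (iv F13511)) (tt N525 F13763) (tt N1284 (iv F5631)) (tt N1285 (iv D1609)) (tt N1177 (iv F13782)))
theorem Q865 : ∀ i, i < 865 → P i := stepQ 864 Q864 (allL N864 (tt N868 (iv F13769)) (tt N668 (iv F8362)) (tt N693 (iv F13918)) (tt N1286 D4690) (tt N534 F4287) (tt N663 (iv F13736)) (tt N526 (iv D2402)))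
theorem Q866 : ∀ i, i < 866 → P i := stepQ 865 Q865 (allL N865 (tt N1178 (iv F4619)) (tt N1048 (iv F8364)) (tt N1287 (iv F9192)) (tt N527 (iv D2403)) (tt N1272 (iv F13820)) (tt N1039 (iv F13833)) (tt N1288 D4692))
theorem Q867 : ∀ i, i < 867 → P i := stepQ 866 Q866 (allL N866 (tt N1179 (iv F4620)) (tt N995 (iv F8365)) (tt N1289 D4693) (tt N528 (iv D2404)) (tt N1290 D4694) (tt N1291 D4695) (tt N1286 (iv F8439)))
theorem Q868 : ∀ i, i < 868 → P i := stepQ 867 Q867 (allL N867 (tt N1180 (iv F13796)) (tt N624 (iv F8366)) (tt N1292 D4696) (tt N529 (iv D2405)) (tt N1293 D4697) (tt N1294 D4698) (tt N827 (iv F13821)))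
theorem Q869 : ∀ i, i < 869 → P i := stepQ 868 Q868 (allL N868 (tt N864 F13769) (tt N681 (iv F13842)) (tt N728 F5166) (tt N1290 (iv F8440)) (tt N530 (iv D2407)) (tt N679 (iv F4311)) (tt N536 F4289))
theorem Q870 : ∀ i, i < 870 → P i := stepQ 869 Q869 (allL N869 (tt N1028 (iv F4633)) (tt N994 (iv F8371)) (tt N1295 D4702) (tt N531 (iv D2409)) (tt N1296 D4703) (tt N1034 (iv F8443)) (tt N1297 D4704))
theorem Q871 : ∀ i, i < 871 → P i := stepQ 870 Q870 (allL N870 (tt N871 F13732) (tt N710 (iv F8447)) (tt N870 F4292) (tt N532 (iv D2411)) (tt N871 (iv F14030)) (tt N860 (iv F8496)) (tt N1127 D4709))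
theorem Q872 : ∀ i, i < 872 → P i := stepQ 871 Q871 (allL N871 (tt N870 (iv F13732)) (tt N1097 (iv F8476)) (tt N871 F13685) (tt N535 (iv D2421)) (tt N870 F14030) (tt N1175 (iv F13778)) (tt N1298 D4732))
theorem Q873 : ∀ i, i < 873 → P i := stepQ 872 Q872 (allL N872 (tt N697 F13771) (tt N713 (iv F13775)) (tt N536 F4301) (tt N697 F13772) (tt N535 (iv D2422)) (tt N687 D4734) (tt N728 (iv F5168)))
theorem Q874 : ∀ i, i < 874 → P i := stepQ 873 Q873 (allL N873 (tt N664 F13773) (tt N1050 (iv F13847)) (tt N687 (iv F8483)) (tt N1299 D4736) (tt N537 F4305) (tt N536 (iv D2424)) (tt N661 F4306))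
theorem Q875 : ∀ i, i < 875 → P i := stepQ 874 Q874 (allL N874 (tt N850 (iv F13615)) (tt N569 (iv F4820)) (tt N804 F13896) (tt N537 F13686) (tt N803 F13897) (tt N538 (iv D1349)) (tt N809 F13898))
theorem Q876 : ∀ i, i < 876 → P i := stepQ 875 Q875 (allL N875 (tt N847 (iv F13612)) (tt N568 (iv F4805)) (tt N805 F13900) (tt N770 (iv D1342)) (tt N538 F2422) (tt N803 F13901) (tt N1218 D2748))
theorem Q877 : ∀ i, i < 877 → P i := stepQ 876 Q876 (allL N876 (tt N837 (iv F2763)) (tt N1089 (iv F2783)) (tt N1300 D1647) (tt N539 (iv D782)) (tt N1301 (iv F2792)) (tt N1302 D1648) (tt N1076 D1649))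
theorem Q878 : ∀ i, i < 878 → P i := stepQ 877 Q877 (allL N877 (tt N877 F13461) (tt N545 F7501) (tt N877 F14781) (tt N877 F14784) (tt N877 F14782) (tt N543 (iv D4217)) (tt N877 F14783))
theorem Q879 : ∀ i, i < 879 → P i := stepQ 878 Q878 (allL N878 (tt N879 (iv F5716)) (tt N1166 F2788) (tt N602 D3366) (tt N546 (iv D1636)) (tt N951 D3367) (tt N598 D3368) (tt N924 (iv F5733)))
theorem Q880 : ∀ i, i < 880 → P i := stepQ 879 Q879 (allL N879 (tt N878 F5716) (tt N1255 F5717) (tt N888 D6528) (tt N547 (iv D3350)) (tt N923 D6529) (tt N882 D6530) (tt N1100 (iv F11329)))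
theorem Q881 : ∀ i, i < 881 → P i := stepQ 880 Q880 (allL N880 (tt N880 F13318) (tt N773 F2478) (tt N1303 D2869) (tt N550 (iv D1401)) (tt N1304 D2870) (tt N1305 D2871) (tt N852 F13607))
theorem Q882 : ∀ i, i < 882 → P i := stepQ 881 Q881 (allL N881 (tt N597 F14677) (tt N1071 F11126) (tt N553 D7403) (tt N1306 (iv D6396)) (tt N1100 (iv F14676)) (tt N551 (iv F14679)) (tt N923 F14678))
theorem Q883 : ∀ i, i < 883 → P i := stepQ 882 Q882 (allL N882 (tt N598 F11339) (tt N1072 F11340) (tt N554 (iv F15745)) (tt N598 F11341) (tt N1101 (iv F15500)) (tt N879 (iv D6530)) (tt N551 F14681))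
theorem Q884 : ∀ i, i < 884 → P i := stepQ 883 Q883 (allL N883 (tt N583 F15728) (tt N557 F15729) (tt N1100 (iv D7422)) (tt N1307 D7568) (tt N553 F15730) (tt N552 F15731) (tt N888 F15732))
theorem Q885 : ∀ i, i < 885 → P i := stepQ 884 Q884 (allL N884 (tt N584 F16185) (tt N558 F16186) (tt N1101 F16187) (tt N1308 F16188) (tt N554 F16189) (tt N886 F16190) (tt N552 (iv D7539)))
theorem Q886 : ∀ i, i < 886 → P i := stepQ 885 Q885 (allL N885 (tt N599 F15844) (tt N559 F15845) (tt N1309 (iv F16334)) (tt N553 F15846) (tt N897 (iv F15858)) (tt N555 (iv D7452)) (tt N896 (iv F15855)))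
theorem Q887 : ∀ i, i < 887 → P i := stepQ 886 Q886 (allL N886 (tt N600 F15739) (tt N560 F15740) (tt N923 F15741) (tt N1310 D7569) (tt N888 (iv D7424)) (tt N884 (iv F16190)) (tt N553 F15742))
theorem Q888 : ∀ i, i < 888 → P i := stepQ 887 Q887 (allL N887 (tt N601 F15264) (tt N561 (iv F15389)) (tt N986 (iv D7293)) (tt N554 (iv F15746)) (tt N901 (iv F15387)) (tt N900 F15265) (tt N556 F15266))
theorem Q889 : ∀ i, i < 889 → P i := stepQ 888 Q888 (allL N888 (tt N602 F11335) (tt N562 D7423) (tt N879 (iv D6528)) (tt N1311 F14729) (tt N886 D7424) (tt N554 D7425) (tt N883 (iv F15732)))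
theorem Q890 : ∀ i, i < 890 → P i := stepQ 889 Q889 (allL N889 (tt N603 F15838) (tt N1312 D7573) (tt N555 (iv D7450)) (tt N939 (iv F16288)) (tt N1313 D7574) (tt N1309 D7575) (tt N563 F15839))
theorem Q891 : ∀ i, i < 891 → P i := stepQ 890 Q890 (allL N890 (tt N604 F15840) (tt N564 F15841) (tt N1313 (iv F16328)) (tt N564 F15842) (tt N555 (iv D7451)) (tt N897 (iv F15859)) (tt N564 F15843))
theorem Q892 : ∀ i, i < 892 → P i := stepQ 891 Q891 (allL N891 (tt N605 F15267) (tt N1314 F15268) (tt N556 F15269) (tt N1315 F15270) (tt N1316 (iv F15404)) (tt N565 (iv F15401)) (tt N986 (iv D7294)))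
theorem Q893 : ∀ i, i < 893 → P i := stepQ 892 Q892 (allL N892 (tt N606 F15817) (tt N566 F15818) (tt N1316 F15819) (tt N566 F15820) (tt N556 (iv D7446)) (tt N566 F15821) (tt N901 F15822))
theorem Q894 : ∀ i, i < 894 → P i := stepQ 893 Q893 (allL N893 (tt N585 F16183) (tt N1307 (iv F16298)) (tt N1317 (iv F16226)) (tt N557 (iv D7538)) (tt N1318 F16225) (tt N1307 (iv F16300)) (tt N1319 F16184))
theorem Q895 : ∀ i, i < 895 → P i := stepQ 894 Q894 (allL N894 (tt N586 F16071) (tt N1308 (iv F16079)) (tt N1320 F16072) (tt N558 F16073) (tt N1321 F16074) (tt N1322 (iv D7512)) (tt N1308 (iv F16082)))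
theorem Q896 : ∀ i, i < 896 → P i := stepQ 895 Q895 (allL N895 (tt N587 F15850) (tt N1323 (iv F16124)) (tt N559 F15851) (tt N1324 F15852) (tt N1325 (iv F16350)) (tt N563 (iv D7455)) (tt N1326 (iv F16193)))
theorem Q897 : ∀ i, i < 897 → P i := stepQ 896 Q896 (allL N896 (tt N588 F15853) (tt N897 (iv F15857)) (tt N1325 (iv F16348)) (tt N1318 (iv F16224)) (tt N559 F15854) (tt N564 (iv D7456)) (tt N885 F15855))
theorem Q898 : ∀ i, i < 898 → P i := stepQ 897 Q897 (allL N897 (tt N589 F15856) (tt N896 F15857) (tt N1326 (iv F16194)) (tt N1327 (iv F16311)) (tt N885 F15858) (tt N890 F15859) (tt N559 (iv D7457)))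
theorem Q899 : ∀ i, i < 899 → P i := stepQ 898 Q898 (allL N898 (tt N590 F15770) (tt N1310 (iv F16303)) (tt N957 (iv F15880)) (tt N560 (iv D7431)) (tt N1328 (iv F16077)) (tt N1319 F16070) (tt N1327 D7570))
theorem Q900 : ∀ i, i < 900 → P i := stepQ 899 Q899 (allL N899 (tt N591 F10550) (tt N1329 F10551) (tt N561 (iv F15390)) (tt N1330 F10552) (tt N1331 (iv D5969)) (tt N1332 (iv F14273)) (tt N565 D7325))
theorem Q901 : ∀ i, i < 901 → P i := stepQ 900 Q900 (allL N900 (tt N592 F10549) (tt N901 D7322) (tt N1331 (iv D5968)) (tt N1321 F15101) (tt N561 D7323) (tt N887 (iv F15265)) (tt N566 D7324))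
theorem Q902 : ∀ i, i < 902 → P i := stepQ 901 Q901 (allL N901 (tt N593 (iv F15386)) (tt N900 (iv D7322)) (tt N1332 F15385) (tt N1333 (iv F16067)) (tt N887 F15387) (tt N561 (iv F15391)) (tt N892 (iv F15822)))
theorem Q903 : ∀ i, i < 903 → P i := stepQ 902 Q902 (allL N902 (tt N594 (iv F15832)) (tt N1311 (iv D7249)) (tt N1334 (iv F15113)) (tt N562 (iv F15734)) (tt N1335 (iv F15105)) (tt N1333 D7510) (tt N1322 F15106))
theorem Q904 : ∀ i, i < 904 → P i := stepQ 903 Q903 (allL N903 (tt N1336 (iv F16200)) (tt N563 (iv D7453)) (tt N1312 (iv F16322)) (tt N1337 F15847) (tt N1338 D7576) (tt N1323 F16126) (tt N1312 (iv F16323)))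
theorem Q905 : ∀ i, i < 905 → P i := stepQ 904 Q904 (allL N904 (tt N608 (iv F14876)) (tt N1337 D7194) (tt N858 (iv D4625)) (tt N563 (iv F14871)) (tt N1339 D7195) (tt N1340 D7196) (tt N1341 D7197))
theorem Q906 : ∀ i, i < 906 → P i := stepQ 905 Q905 (allL N905 (tt N609 F15848) (tt N1338 (iv F16337)) (tt N564 F15849) (tt N1342 D7577) (tt N563 (iv D7454)) (tt N1325 D7578) (tt N1313 (iv F16330)))
theorem Q907 : ∀ i, i < 907 → P i := stepQ 906 Q906 (allL N906 (tt N1343 F14266) (tt N565 (iv F15398)) (tt N1314 (iv F14267)) (tt N1344 (iv F15185)) (tt N1345 F10858) (tt N1314 (iv F14105)) (tt N1329 (iv D6196)))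
theorem Q908 : ∀ i, i < 908 → P i := stepQ 907 Q907 (allL N907 (tt N611 F16100) (tt N1344 F16101) (tt N611 F16102) (tt N565 F16103) (tt N973 F16104) (tt N666 F16105) (tt N1029 (iv D7519)))
theorem Q909 : ∀ i, i < 909 → P i := stepQ 908 Q908 (allL N908 (tt N612 F10555) (tt N1345 F10556) (tt N566 (iv F15395)) (tt N1346 (iv F15196)) (tt N565 (iv F15400)) (tt N1316 D7326) (tt N1331 (iv D5971)))
theorem Q910 : ∀ i, i < 910 → P i := stepQ 909 Q909 (allL N909 (tt N615 F13878) (tt N803 (iv D2920)) (tt N909 F5094) (tt N1347 D5719) (tt N569 F13879) (tt N568 F13880) (tt N807 F5095))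
theorem Q911 : ∀ i, i < 911 → P i := stepQ 910 Q910 (allL N910 (tt N616 F13884) (tt N1218 F9470) (tt N910 F13885) (tt N1348 F13886) (tt N570 F9471) (tt N911 F13887) (tt N568 (iv D5315)))
theorem Q912 : ∀ i, i < 912 → P i := stepQ 911 Q911 (allL N911 (tt N617 F5119) (tt N809 F5120) (tt N911 F5121) (tt N707 D5735) (tt N807 (iv D2929)) (tt N910 (iv F13887)) (tt N569 F13881))
theorem Q913 : ∀ i, i < 913 → P i := stepQ 912 Q912 (allL N912 (tt N573 (iv F13857)) (tt N924 (iv F5732)) (tt N912 F13754) (tt N1165 (iv D1645)) (tt N948 (iv F13942)) (tt N571 (iv F13948)) (tt N1166 F2796))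
theorem Q914 : ∀ i, i < 914 → P i := stepQ 913 Q913 (allL N913 (tt N574 (iv F14039)) (tt N925 (iv F11411)) (tt N913 F13940) (tt N1349 (iv F14709)) (tt N949 F5787) (tt N1350 (iv D3403)) (tt N571 (iv F13949)))
theorem Q915 : ∀ i, i < 915 → P i := stepQ 914 Q914 (allL N914 (tt N790 (iv F1365)) (tt N575 (iv F1372)) (tt N746 F686) (tt N572 D765) (tt N1000 (iv F1334)) (tt N744 (iv D363)) (tt N1073 (iv F1332)))
theorem Q916 : ∀ i, i < 916 → P i := stepQ 915 Q915 (allL N915 (tt N948 (iv F5519)) (tt N576 (iv F5602)) (tt N915 F14041) (tt N1351 (iv D1605)) (tt N573 D3300) (tt N572 F2752) (tt N918 D3301))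
theorem Q917 : ∀ i, i < 917 → P i := stepQ 916 Q916 (allL N916 (tt N949 F13854) (tt N577 (iv F5610)) (tt N916 F13855) (tt N1075 (iv F5420)) (tt N574 (iv F5646)) (tt N839 F13856) (tt N572 (iv D1613)))
theorem Q918 : ∀ i, i < 918 → P i := stepQ 917 Q917 (allL N917 (tt N1349 (iv F9082)) (tt N580 (iv F14993)) (tt N1352 F14711) (tt N574 F14710) (tt N1078 (iv F14996)) (tt N1105 D7224) (tt N862 (iv D4681)))
theorem Q919 : ∀ i, i < 919 → P i := stepQ 918 Q918 (allL N918 (tt N1350 F13850) (tt N581 (iv F11125)) (tt N918 F13851) (tt N1353 (iv F14049)) (tt N839 F13853) (tt N574 (iv F5647)) (tt N915 (iv D3301)))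
theorem Q920 : ∀ i, i < 920 → P i := stepQ 919 Q919 (allL N919 (tt N1085 (iv F1325)) (tt N744 (iv D360)) (tt N705 F682) (tt N1354 D758) (tt N1002 F1323) (tt N575 D759) (tt N705 F683))
theorem Q921 : ∀ i, i < 921 → P i := stepQ 920 Q920 (allL N920 (tt N1086 (iv F5385)) (tt N1351 F2740) (tt N1355 (iv F5596)) (tt N576 D3273) (tt N1356 (iv F5599)) (tt N1354 (iv D1594)) (tt N1306 D3274))
theorem Q922 : ∀ i, i < 922 → P i := stepQ 921 Q921 (allL N921 (tt N1087 F14545) (tt N1237 F10306) (tt N578 F14546) (tt N1357 (iv F15318)) (tt N1358 (iv F15330)) (tt N983 (iv D5804)) (tt N1239 F14547))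
theorem Q923 : ∀ i, i < 923 → P i := stepQ 922 Q922 (allL N922 (tt N1088 F14150) (tt N1250 F11119) (tt N1358 (iv F15328)) (tt N1356 (iv D6391)) (tt N578 F14151) (tt N1004 F14152) (tt N1240 F14153))
theorem Q924 : ∀ i, i < 924 → P i := stepQ 923 Q923 (allL N923 (tt N951 F11336) (tt N1353 F14080) (tt N886 (iv F15741)) (tt N581 (iv F14033)) (tt N879 (iv D6529)) (tt N1101 (iv F15501)) (tt N881 (iv F14678)))
theorem Q925 : ∀ i, i < 925 → P i := stepQ 924 Q924 (allL N924 (tt N1100 (iv F11327)) (tt N912 F5732) (tt N583 D6552) (tt N1359 (iv D3360)) (tt N597 (iv F14081)) (tt N582 (iv F14085)) (tt N878 F5733))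
theorem Q926 : ∀ i, i < 926 → P i := stepQ 925 Q925 (allL N925 (tt N1101 (iv F15498)) (tt N913 F11411) (tt N584 (iv F15648)) (tt N1012 (iv F15142)) (tt N598 F11412) (tt N951 (iv D6570)) (tt N582 (iv F14086)))
theorem Q927 : ∀ i, i < 927 → P i := stepQ 926 Q926 (allL N926 (tt N1307 (iv F16297)) (tt N926 F15761) (tt N1360 F15763) (tt N583 (iv D7429)) (tt N938 (iv F15892)) (tt N585 F15762) (tt N940 (iv F15966)))
theorem Q928 : ∀ i, i < 928 → P i := stepQ 927 Q927 (allL N927 (tt N1308 (iv F16078)) (tt N927 F15440) (tt N1361 (iv D7336)) (tt N584 (iv F15649)) (tt N945 (iv F15442)) (tt N947 F15441) (tt N586 F15443))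
theorem Q929 : ∀ i, i < 929 → P i := stepQ 928 Q928 (allL N928 (tt N1317 F16278) (tt N1362 (iv F16425)) (tt N585 F16279) (tt N1363 (iv D7564)) (tt N1364 F16280) (tt N1360 F16281) (tt N1342 (iv F16344)))
theorem Q930 : ∀ i, i < 930 → P i := stepQ 929 Q929 (allL N929 (tt N1318 (iv F16223)) (tt N929 F15887) (tt N1364 F15890) (tt N588 (iv D7467)) (tt N585 F15888) (tt N938 (iv F15893)) (tt N953 F15889))
theorem Q931 : ∀ i, i < 931 → P i := stepQ 930 Q930 (allL N930 (tt N1319 F16282) (tt N930 F16283) (tt N1342 (iv F16342)) (tt N933 F16284) (tt N953 F16285) (tt N590 F16286) (tt N585 (iv D7565)))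
theorem Q932 : ∀ i, i < 932 → P i := stepQ 931 Q931 (allL N931 (tt N1320 F15448) (tt N1108 (iv F16134)) (tt N586 F15449) (tt N1108 (iv F16136)) (tt N1058 F15450) (tt N1057 F15451) (tt N1361 (iv D7338)))
theorem Q933 : ∀ i, i < 933 → P i := stepQ 932 Q932 (allL N932 (tt N1321 (iv F15099)) (tt N932 F14777) (tt N1058 (iv F14981)) (tt N592 (iv D5973)) (tt N586 D7327) (tt N955 F14717) (tt N945 D7328))
theorem Q934 : ∀ i, i < 934 → P i := stepQ 933 Q933 (allL N933 (tt N1322 F15771) (tt N933 F15772) (tt N1057 F15773) (tt N930 (iv F16284)) (tt N955 (iv D7432)) (tt N586 F15774) (tt N594 F15837))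
theorem Q935 : ∀ i, i < 935 → P i := stepQ 934 Q934 (allL N934 (tt N1365 F15342) (tt N587 F15343) (tt N934 F15344) (tt N1366 (iv D7312)) (tt N1367 D7529) (tt N607 (iv F15346)) (tt N1365 F15345))
theorem Q936 : ∀ i, i < 936 → P i := stepQ 935 Q935 (allL N935 (tt N1324 (iv F15685)) (tt N1366 (iv F14499)) (tt N1368 F11565) (tt N587 (iv F14881)) (tt N1369 (iv F13664)) (tt N1370 F11566) (tt N1371 (iv D6675)))
theorem Q937 : ∀ i, i < 937 → P i := stepQ 936 Q936 (allL N936 (tt N1325 (iv F16346)) (tt N1367 (iv F16153)) (tt N588 F15873) (tt N952 (iv F15885)) (tt N587 F15874) (tt N609 (iv D7463)) (tt N952 (iv F15884)))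
theorem Q938 : ∀ i, i < 938 → P i := stepQ 937 Q937 (allL N937 (tt N1326 (iv F16191)) (tt N1365 F15571) (tt N589 F15573) (tt N1369 (iv D7376)) (tt N952 (iv F15883)) (tt N958 (iv F15878)) (tt N587 F15572))
theorem Q939 : ∀ i, i < 939 → P i := stepQ 938 Q938 (allL N938 (tt N1327 (iv F16308)) (tt N938 F15891) (tt N1372 (iv F15955)) (tt N589 (iv D7468)) (tt N926 F15892) (tt N929 F15893) (tt N590 F15894))
theorem Q940 : ∀ i, i < 940 → P i := stepQ 939 Q939 (allL N939 (tt N957 F16287) (tt N1373 D7596) (tt N590 (iv D7566)) (tt N889 F16288) (tt N1374 F16289) (tt N1342 F16345) (tt N1372 F16290))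
theorem Q941 : ∀ i, i < 941 → P i := stepQ 940 Q940 (allL N940 (tt N1328 (iv F16075)) (tt N940 F15963) (tt N1374 (iv F16099)) (tt N947 (iv D7490)) (tt N590 F15964) (tt N953 F15965) (tt N926 F15966))
theorem Q942 : ∀ i, i < 942 → P i := stepQ 941 Q941 (allL N941 (tt N1217 (iv F5124)) (tt N591 (iv F5321)) (tt N941 F13642) (tt N1375 D3066) (tt N1149 (iv D1500)) (tt N1217 F14123) (tt N610 D3068))
theorem Q943 : ∀ i, i < 943 → P i := stepQ 942 Q942 (allL N942 (tt N1330 F10561) (tt N1375 F10562) (tt N1376 F14312) (tt N591 (iv D5977)) (tt N1044 F10563) (tt N1377 F14313) (tt N1040 F14314))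
theorem Q944 : ∀ i, i < 944 → P i := stepQ 943 Q943 (allL N943 (tt N1331 (iv F5316)) (tt N1149 F2634) (tt N592 D3054) (tt N989 (iv D1496)) (tt N591 D3055) (tt N954 F14075) (tt N612 D3057))
theorem Q945 : ∀ i, i < 945 → P i := stepQ 944 Q944 (allL N944 (tt N1332 (iv F14272)) (tt N1217 F10154) (tt N593 (iv F15272)) (tt N1094 D7296) (tt N954 (iv D5732)) (tt N591 F14073) (tt N961 F14074))
theorem Q946 : ∀ i, i < 946 → P i := stepQ 945 Q945 (allL N945 (tt N1333 (iv F16064)) (tt N945 F15408) (tt N1378 (iv F15445)) (tt N593 F15409) (tt N927 F15442) (tt N594 (iv F15834)) (tt N932 (iv D7328)))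
theorem Q947 : ∀ i, i < 947 → P i := stepQ 946 Q946 (allL N946 (tt N1334 (iv F15111)) (tt N1016 (iv F15929)) (tt N594 F15835) (tt N1281 (iv D7198)) (tt N998 F14938) (tt N1378 (iv F15446)) (tt N1057 (iv F14979)))
theorem Q948 : ∀ i, i < 948 → P i := stepQ 947 Q947 (allL N947 (tt N1335 (iv F15102)) (tt N947 F14946) (tt N998 (iv D7204)) (tt N940 D7490) (tt N594 F15836) (tt N927 (iv F15441)) (tt N955 F14945))
theorem Q949 : ∀ i, i < 949 → P i := stepQ 948 Q948 (allL N948 (tt N915 F5519) (tt N597 (iv F10941)) (tt N948 F13941) (tt N1191 (iv D3207)) (tt N912 F13942) (tt N595 F5520) (tt N1350 F13943))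
theorem Q950 : ∀ i, i < 950 → P i := stepQ 949 Q949 (allL N949 (tt N916 (iv F13854)) (tt N598 (iv F5746)) (tt N949 F13753) (tt N1072 D3404) (tt N913 (iv F5787)) (tt N1166 (iv D1653)) (tt N595 (iv F13945)))
theorem Q951 : ∀ i, i < 951 → P i := stepQ 950 Q950 (allL N950 (tt N1306 (iv F13577)) (tt N1191 F5502) (tt N1379 (iv F10935)) (tt N597 D6254) (tt N1380 F13575) (tt N1188 (iv D3197)) (tt N1086 F13576))
theorem Q952 : ∀ i, i < 952 → P i := stepQ 951 Q951 (allL N951 (tt N923 (iv F11336)) (tt N1350 F5745) (tt N600 (iv F11409)) (tt N704 (iv F11403)) (tt N878 (iv D3367)) (tt N925 D6570) (tt N597 (iv F14082)))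
theorem Q953 : ∀ i, i < 953 → P i := stepQ 952 Q952 (allL N952 (tt N1309 (iv F16332)) (tt N1381 F15881) (tt N599 F15882) (tt N936 F15885) (tt N937 F15883) (tt N603 (iv D7466)) (tt N936 F15884))
theorem Q954 : ∀ i, i < 954 → P i := stepQ 953 Q953 (allL N953 (tt N1310 (iv F16302)) (tt N953 F15775) (tt N1382 (iv F15952)) (tt N600 (iv D7433)) (tt N930 (iv F16285)) (tt N940 (iv F15965)) (tt N929 (iv F15889)))
theorem Q955 : ∀ i, i < 955 → P i := stepQ 954 Q954 (allL N954 (tt N986 (iv F10146)) (tt N808 F5118) (tt N601 D5731) (tt N807 (iv D2928)) (tt N944 D5732) (tt N943 (iv F14075)) (tt N605 D5734))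
theorem Q956 : ∀ i, i < 956 → P i := stepQ 955 Q955 (allL N955 (tt N1311 (iv F14728)) (tt N955 F14775) (tt N677 F14727) (tt N602 (iv D6567)) (tt N933 D7432) (tt N932 (iv F14717)) (tt N947 (iv F14945)))
theorem Q957 : ∀ i, i < 957 → P i := stepQ 956 Q956 (allL N956 (tt N964 F15864) (tt N603 F15865) (tt N956 F15866) (tt N1383 D7581) (tt N962 F15867) (tt N1381 (iv F15868)) (tt N607 (iv D7460)))
theorem Q958 : ∀ i, i < 958 → P i := stepQ 957 Q957 (allL N957 (tt N939 (iv F16287)) (tt N1383 (iv F16358)) (tt N898 F15880) (tt N603 (iv D7465)) (tt N1384 D7582) (tt N969 F15886) (tt N1385 (iv F16222)))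
theorem Q959 : ∀ i, i < 959 → P i := stepQ 958 Q958 (allL N958 (tt N1313 (iv F16326)) (tt N962 F15875) (tt N604 F15876) (tt N1386 (iv F15879)) (tt N603 F15877) (tt N937 F15878) (tt N609 (iv D7464)))
theorem Q960 : ∀ i, i < 960 → P i := stepQ 959 Q959 (allL N959 (tt N972 F5126) (tt N605 (iv F10156)) (tt N959 F13806) (tt N1387 (iv F10137)) (tt N970 (iv F14145)) (tt N610 (iv F14148)) (tt N808 (iv D2933)))
theorem Q961 : ∀ i, i < 961 → P i := stepQ 960 Q960 (allL N960 (tt N1315 F15251) (tt N1387 F15247) (tt N1388 (iv F15250)) (tt N605 F15248) (tt N1389 (iv F15621)) (tt N1390 F15249) (tt N1347 (iv D7292)))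
theorem Q962 : ∀ i, i < 962 → P i := stepQ 961 Q961 (allL N961 (tt N1316 (iv F15402)) (tt N970 F10572) (tt N606 F14675) (tt N1391 D7330) (tt N605 (iv F14076)) (tt N612 (iv D5982)) (tt N944 (iv F14074)))
theorem Q963 : ∀ i, i < 963 → P i := stepQ 962 Q962 (allL N962 (tt N607 F15575) (tt N958 (iv F15875)) (tt N962 F15576) (tt N1392 D7555) (tt N956 (iv F15867)) (tt N1365 (iv D7378)) (tt N964 F15863))
theorem Q964 : ∀ i, i < 964 → P i := stepQ 963 Q963 (allL N963 (tt N1392 (iv F16239)) (tt N608 F15860) (tt N1393 F16161) (tt N607 (iv D7458)) (tt N1394 D7579) (tt N1393 (iv F16160)) (tt N1395 (iv F16215)))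
theorem Q965 : ∀ i, i < 965 → P i := stepQ 964 Q964 (allL N964 (tt N956 (iv F15864)) (tt N609 F15861) (tt N964 F15862) (tt N1396 D7580) (tt N607 (iv D7459)) (tt N1367 (iv F16156)) (tt N962 (iv F15863)))
theorem Q966 : ∀ i, i < 966 → P i := stepQ 965 Q965 (allL N965 (tt N858 F8308) (tt N734 (iv F14894)) (tt N608 (iv F14877)) (tt N684 (iv D4608)) (tt N1397 D7181) (tt N734 (iv F14895)) (tt N1398 D7182))
theorem Q967 : ∀ i, i < 967 → P i := stepQ 966 Q966 (allL N966 (tt N1339 F15869) (tt N1394 (iv F16352)) (tt N1397 F15870) (tt N1399 (iv F16231)) (tt N608 (iv D7461)) (tt N1111 F15871) (tt N1400 F15872))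
theorem Q968 : ∀ i, i < 968 → P i := stepQ 967 Q967 (allL N967 (tt N1340 F15790) (tt N1393 (iv F16159)) (tt N734 (iv F15794)) (tt N1370 (iv D7437)) (tt N1111 (iv F15793)) (tt N608 F15791) (tt N1401 F15792))
theorem Q969 : ∀ i, i < 969 → P i := stepQ 968 Q968 (allL N968 (tt N1341 F15545) (tt N1395 (iv F16212)) (tt N1398 F15546) (tt N1385 D7549) (tt N1400 F15547) (tt N1402 (iv D7368)) (tt N608 (iv F15548)))
theorem Q970 : ∀ i, i < 970 → P i := stepQ 969 Q969 (allL N969 (tt N1342 (iv F16341)) (tt N1396 (iv F16356)) (tt N1319 (iv F16069)) (tt N609 (iv D7462)) (tt N1399 (iv F16232)) (tt N957 (iv F15886)) (tt N1317 F16229))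
theorem Q971 : ∀ i, i < 971 → P i := stepQ 970 Q970 (allL N970 (tt N610 (iv F14147)) (tt N961 (iv F10572)) (tt N970 F13811) (tt N1403 D6009) (tt N959 F14145) (tt N972 (iv D3071)) (tt N1217 F14146))
theorem Q972 : ∀ i, i < 972 → P i := stepQ 971 Q971 (allL N971 (tt N1403 F14534) (tt N611 (iv F15410)) (tt N1404 D7331) (tt N610 (iv D6004)) (tt N1037 (iv F15049)) (tt N1405 (iv F14533)) (tt N1036 F15045))
theorem Q973 : ∀ i, i < 973 → P i := stepQ 972 Q972 (allL N972 (tt N959 (iv F5126)) (tt N612 (iv F5323)) (tt N972 F13644) (tt N1406 (iv F5310)) (tt N610 (iv F5341)) (tt N970 D3071) (tt N1149 (iv D1502)))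
theorem Q974 : ∀ i, i < 974 → P i := stepQ 973 Q973 (allL N973 (tt N666 (iv F16016)) (tt N1405 F15126) (tt N666 (iv F16018)) (tt N1390 F15127) (tt N907 (iv F16104)) (tt N611 (iv F15411)) (tt N656 (iv D7262)))
theorem Q975 : ∀ i, i < 975 → P i := stepQ 974 Q974 (allL N974 (tt N1346 (iv F15194)) (tt N1406 F10531) (tt N1407 (iv F15367)) (tt N612 F10532) (tt N1041 (iv F15374)) (tt N1408 (iv F14962)) (tt N1047 (iv D5950)))
theorem Q976 : ∀ i, i < 976 → P i := stepQ 975 Q975 (allL N975 (tt N1256 F13372) (tt N1409 D3419) (tt N613 (iv D1661)) (tt N1410 D3420) (tt N1411 D3421) (tt N1371 D3422) (tt N1412 D3423))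
theorem Q977 : ∀ i, i < 977 → P i := stepQ 976 Q976 (allL N976 (tt N1257 F13373) (tt N1168 F2814) (tt N1411 (iv F5818)) (tt N976 F13374) (tt N613 (iv D1662)) (tt N1413 D3425) (tt N1414 D3426))
theorem Q978 : ∀ i, i < 978 → P i := stepQ 977 Q977 (allL N977 (tt N1258 F13375) (tt N1169 F2815) (tt N1371 (iv F5819)) (tt N1258 (iv F13500)) (tt N1413 (iv F5825)) (tt N613 (iv D1663)) (tt N1368 D3428))
theorem Q979 : ∀ i, i < 979 → P i := stepQ 978 Q978 (allL N978 (tt N1259 F13376) (tt N1170 F2816) (tt N1412 (iv F5820)) (tt N1259 (iv F5683)) (tt N1414 (iv F5827)) (tt N1415 (iv F13527)) (tt N613 (iv D1664)))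
theorem Q980 : ∀ i, i < 980 → P i := stepQ 979 Q979 (allL N979 (tt N987 F13875) (tt N1145 (iv D1488)) (tt N623 F13741) (tt N1047 D3041) (tt N621 (iv F14058)) (tt N614 F13743) (tt N989 F2622))
theorem Q981 : ∀ i, i < 981 → P i := stepQ 980 Q980 (allL N980 (tt N984 (iv F13864)) (tt N1271 (iv F13929)) (tt N618 F4803) (tt N1416 D5311) (tt N622 (iv F13933)) (tt N988 (iv F13934)) (tt N614 (iv D2718)))
theorem Q982 : ∀ i, i < 982 → P i := stepQ 981 Q981 (allL N981 (tt N1347 F10528) (tt N1272 F10529) (tt N1417 F15259) (tt N615 (iv F13815)) (tt N1048 (iv F14646)) (tt N1047 (iv D5949)) (tt N1315 (iv F15261)))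
theorem Q983 : ∀ i, i < 983 → P i := stepQ 982 Q982 (allL N982 (tt N1348 (iv F10805)) (tt N1232 F10288) (tt N1418 D7305) (tt N616 (iv D5794)) (tt N1419 F14106) (tt N1357 D7306) (tt N1416 (iv F13932)))
theorem Q984 : ∀ i, i < 984 → P i := stepQ 983 Q983 (allL N983 (tt N707 (iv F10157)) (tt N827 F5204) (tt N636 D5802) (tt N617 (iv D2968)) (tt N1420 D5803) (tt N921 D5804) (tt N624 (iv F13836)))
theorem Q985 : ∀ i, i < 985 → P i := stepQ 984 Q984 (allL N984 (tt N980 F13864) (tt N1154 (iv D1538)) (tt N622 F2681) (tt N1419 D3143) (tt N618 F13744) (tt N990 F2682) (tt N620 F13745))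
theorem Q986 : ∀ i, i < 986 → P i := stepQ 985 Q985 (allL N985 (tt N989 (iv D1495)) (tt N1159 F2632) (tt N988 (iv F2637)) (tt N1331 D3052) (tt N990 (iv F2633)) (tt N618 F13747) (tt N987 F13748))
theorem Q987 : ∀ i, i < 987 → P i := stepQ 986 Q986 (allL N986 (tt N954 F10146) (tt N1238 F10147) (tt N887 D7293) (tt N619 (iv D5729)) (tt N1332 F14271) (tt N1331 F14071) (tt N891 D7294))
theorem Q988 : ∀ i, i < 988 → P i := stepQ 987 Q987 (allL N987 (tt N979 (iv F13875)) (tt N1171 F4807) (tt N621 (iv F14057)) (tt N1421 D5316) (tt N623 F4808) (tt N620 (iv D2720)) (tt N985 (iv F13748)))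
theorem Q989 : ∀ i, i < 989 → P i := stepQ 988 Q988 (allL N988 (tt N990 F2635) (tt N1150 F2636) (tt N985 F2637) (tt N1044 D3058) (tt N989 (iv D1497)) (tt N980 F13934) (tt N621 F13876))
theorem Q990 : ∀ i, i < 990 → P i := stepQ 989 Q989 (allL N989 (tt N985 D1495) (tt N754 (iv D713)) (tt N990 (iv F1342)) (tt N943 D1496) (tt N988 D1497) (tt N622 D1498) (tt N979 (iv F2622)))
theorem Q991 : ∀ i, i < 991 → P i := stepQ 990 Q990 (allL N990 (tt N988 (iv F2635)) (tt N762 (iv D736)) (tt N989 F1342) (tt N1422 D1544) (tt N985 F2633) (tt N984 (iv F2682)) (tt N623 F13746))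
theorem Q992 : ∀ i, i < 992 → P i := stepQ 991 Q991 (allL N991 (tt N709 (iv F11365)) (tt N1249 F11218) (tt N624 F14552) (tt N735 (iv F14991)) (tt N1241 F11219) (tt N1240 (iv D6476)) (tt N636 (iv F14543)))
theorem Q993 : ∀ i, i < 993 → P i := stepQ 992 Q992 (allL N992 (tt N1063 (iv F11386)) (tt N1293 F14551) (tt N1241 F11216) (tt N1423 (iv F14971)) (tt N624 (iv F14550)) (tt N1239 (iv D6474)) (tt N1420 F14548))
theorem Q994 : ∀ i, i < 994 → P i := stepQ 993 Q993 (allL N993 (tt N1064 (iv F11362)) (tt N1294 F14575) (tt N1240 F11215) (tt N1424 (iv F14966)) (tt N1239 (iv D6473)) (tt N624 F14549) (tt N1358 (iv F15331)))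
theorem Q995 : ∀ i, i < 995 → P i := stepQ 994 Q994 (allL N994 (tt N1049 (iv F14925)) (tt N869 F8371) (tt N1423 D7212) (tt N625 (iv D4645)) (tt N1423 (iv F14970)) (tt N1049 (iv F14927)) (tt N1425 D7213))
theorem Q996 : ∀ i, i < 996 → P i := stepQ 995 Q995 (allL N995 (tt N1065 (iv F14909)) (tt N866 F8365) (tt N995 F14596) (tt N626 (iv D4640)) (tt N1065 (iv F14912)) (tt N1424 D7211) (tt N1045 F14595))
theorem Q997 : ∀ i, i < 997 → P i := stepQ 996 Q996 (allL N996 (tt N1051 (iv F14902)) (tt N642 (iv F14934)) (tt N1426 D7205) (tt N627 (iv D4634)) (tt N675 D7206) (tt N1032 D7207) (tt N1427 (iv F14942)))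
theorem Q998 : ∀ i, i < 998 → P i := stepQ 997 Q997 (allL N997 (tt N1052 (iv F5356)) (tt N643 (iv F13409)) (tt N1090 (iv D1511)) (tt N628 D3088) (tt N1011 D3089) (tt N1091 D3090) (tt N1014 D3091))
theorem Q999 : ∀ i, i < 999 → P i := stepQ 998 Q998 (allL N998 (tt N1066 (iv F14726)) (tt N644 (iv F14933)) (tt N947 D7204) (tt N629 (iv D4629)) (tt N946 (iv F14938)) (tt N1361 (iv F14620)) (tt N677 (iv F14721)))
theorem Q1000 : ∀ i, i < 1000 → P i := stepQ 999 Q999 (allL N999 (tt N632 F4595) (tt N1008 (iv F9062)) (tt N781 F4596) (tt N1428 (iv F14162)) (tt N779 F4597) (tt N630 (iv F4602)) (tt N777 (iv D2613)))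
theorem Q1001 : ∀ i, i < 1001 → P i := stepQ 1000 Q1000 (allL N1000 (tt N821 (iv F2560)) (tt N633 (iv F2651)) (tt N761 F1333) (tt N631 D1535) (tt N914 F1334) (tt N1133 F1335) (tt N692 (iv D730)))
theorem Q1002 : ∀ i, i < 1002 → P i := stepQ 1001 Q1001 (allL N1001 (tt N1428 F5670) (tt N636 (iv F14539)) (tt N1429 (iv F14359)) (tt N632 F14171) (tt N1251 F5671) (tt N836 (iv D3326)) (tt N1249 F5672))
theorem Q1003 : ∀ i, i < 1003 → P i := stepQ 1002 Q1002 (allL N1002 (tt N705 (iv D719)) (tt N1133 F1322) (tt N1085 (iv F1327)) (tt N1430 D1509) (tt N919 (iv F1323)) (tt N633 D1510) (tt N1085 (iv F1328)))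
theorem Q1004 : ∀ i, i < 1004 → P i := stepQ 1003 Q1003 (allL N1003 (tt N706 F5360) (tt N863 F5361) (tt N1107 (iv F10629)) (tt N634 F13962) (tt N1431 (iv F10634)) (tt N1430 (iv D3084)) (tt N1024 (iv F13987)))
theorem Q1005 : ∀ i, i < 1005 → P i := stepQ 1004 Q1004 (allL N1004 (tt N708 (iv F14187)) (tt N1251 F11222) (tt N1420 (iv F14576)) (tt N1431 F14295) (tt N636 (iv F14541)) (tt N922 (iv F14152)) (tt N1241 (iv D6478)))
theorem Q1006 : ∀ i, i < 1006 → P i := stepQ 1005 Q1005 (allL N1005 (tt N710 (iv F8446)) (tt N860 F8418) (tt N738 D7219) (tt N637 (iv D4668)) (tt N1432 (iv F9059)) (tt N710 (iv F8498)) (tt N735 D7220))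
theorem Q1007 : ∀ i, i < 1007 → P i := stepQ 1006 Q1006 (allL N1006 (tt N711 (iv F15958)) (tt N1433 (iv F15579)) (tt N638 (iv D7221)) (tt N1121 F15905) (tt N711 (iv F15960)) (tt N1013 (iv F15136)) (tt N717 (iv F15908)))
theorem Q1008 : ∀ i, i < 1008 → P i := stepQ 1007 Q1007 (allL N1007 (tt N712 (iv F15128)) (tt N1176 F9064) (tt N1013 D7265) (tt N1009 (iv D5105)) (tt N712 (iv F15130)) (tt N638 F9065) (tt N1012 D7266))
theorem Q1009 : ∀ i, i < 1009 → P i := stepQ 1008 Q1008 (allL N1008 (tt N715 (iv F13969)) (tt N999 F9062) (tt N640 (iv F15090)) (tt N1376 F14161) (tt N651 F9063) (tt N639 (iv F9067)) (tt N1025 (iv D5104)))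
theorem Q1010 : ∀ i, i < 1010 → P i := stepQ 1009 Q1009 (allL N1009 (tt N716 (iv F9056)) (tt N778 F4588) (tt N641 (iv F9018)) (tt N1007 D5105) (tt N652 (iv F9061)) (tt N776 (iv D2609)) (tt N639 D5106))
theorem Q1011 : ∀ i, i < 1011 → P i := stepQ 1010 Q1010 (allL N1010 (tt N717 F15941) (tt N1032 F15942) (tt N703 (iv F16023)) (tt N640 F15943) (tt N717 F15944) (tt N642 (iv D7480)) (tt N711 (iv F15961)))
theorem Q1012 : ∀ i, i < 1012 → P i := stepQ 1011 Q1011 (allL N1011 (tt N718 (iv F13405)) (tt N1014 (iv F13272)) (tt N1222 F5367) (tt N641 (iv F14605)) (tt N997 (iv D3089)) (tt N1434 D6051) (tt N643 F13403))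
theorem Q1013 : ∀ i, i < 1013 → P i := stepQ 1012 Q1012 (allL N1012 (tt N719 (iv F16027)) (tt N1349 F15140) (tt N642 F15141) (tt N925 F15142) (tt N719 (iv F16031)) (tt N703 (iv F16026)) (tt N1007 (iv D7266)))
theorem Q1014 : ∀ i, i < 1014 → P i := stepQ 1013 Q1013 (allL N1013 (tt N720 (iv F16106)) (tt N1427 (iv F15138)) (tt N1007 (iv D7265)) (tt N1022 F15137) (tt N720 (iv F16108)) (tt N1006 F15136) (tt N642 (iv F15139)))
theorem Q1015 : ∀ i, i < 1015 → P i := stepQ 1014 Q1014 (allL N1014 (tt N676 (iv F10630)) (tt N1011 F13272) (tt N1221 F5369) (tt N646 F14606) (tt N643 F13404) (tt N1435 D6056) (tt N997 (iv D3091)))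
theorem Q1016 : ∀ i, i < 1016 → P i := stepQ 1015 Q1015 (allL N1015 (tt N722 (iv F15143)) (tt N1091 F13402) (tt N731 F10213) (tt N1017 D7299) (tt N1435 F13398) (tt N643 (iv D5760)) (tt N1091 F13399))
theorem Q1017 : ∀ i, i < 1017 → P i := stepQ 1016 Q1016 (allL N1016 (tt N723 (iv F16007)) (tt N946 F15929) (tt N1016 F15931) (tt N1021 (iv D7477)) (tt N644 F15930) (tt N1109 (iv F16090)) (tt N723 (iv F16011)))
theorem Q1018 : ∀ i, i < 1018 → P i := stepQ 1017 Q1017 (allL N1017 (tt N724 (iv F16012)) (tt N1361 F15291) (tt N1017 F15293) (tt N1015 (iv D7299)) (tt N1109 (iv F16089)) (tt N644 F15292) (tt N1108 D7525))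
theorem Q1019 : ∀ i, i < 1019 → P i := stepQ 1018 Q1018 (allL N1018 (tt N670 F14648) (tt N1178 F9030) (tt N1436 (iv F14642)) (tt N645 (iv D5084)) (tt N1421 (iv F9473)) (tt N1437 F14641) (tt N1390 D7260))
theorem Q1020 : ∀ i, i < 1020 → P i := stepQ 1019 Q1019 (allL N1019 (tt N678 (iv F14952)) (tt N1027 F14627) (tt N1438 D7258) (tt N647 (iv D5077)) (tt N1439 (iv F15108)) (tt N648 (iv F14626)) (tt N1440 D7259))
theorem Q1021 : ∀ i, i < 1021 → P i := stepQ 1020 Q1020 (allL N1020 (tt N725 (iv F15797)) (tt N1441 D7475) (tt N648 (iv D7189)) (tt N1442 D7476) (tt N1443 F15692) (tt N1438 (iv F15121)) (tt N1444 F14932))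
theorem Q1022 : ∀ i, i < 1022 → P i := stepQ 1021 Q1021 (allL N1021 (tt N726 (iv F15795)) (tt N1281 F14929) (tt N1443 (iv F15693)) (tt N1016 D7477) (tt N648 (iv D7190)) (tt N1439 F15109) (tt N1445 D7478))
theorem Q1023 : ∀ i, i < 1023 → P i := stepQ 1022 Q1022 (allL N1022 (tt N727 (iv F15920)) (tt N1282 F14930) (tt N1444 (iv F14931)) (tt N1013 (iv F15137)) (tt N1445 (iv F15934)) (tt N1446 D7479) (tt N648 (iv D7191)))
theorem Q1024 : ∀ i, i < 1024 → P i := stepQ 1023 Q1023 (allL N1023 (tt N861 F4592) (tt N652 (iv F9060)) (tt N780 F4593) (tt N729 F13779) (tt N778 F4594) (tt N777 (iv D2612)) (tt N649 (iv F4608)))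
theorem Q1025 : ∀ i, i < 1025 → P i := stepQ 1024 Q1024 (allL N1024 (tt N731 F13984) (tt N1177 F9068) (tt N722 D7267) (tt N651 (iv D5107)) (tt N1447 F13985) (tt N721 F13986) (tt N1003 F13987))
theorem Q1026 : ∀ i, i < 1026 → P i := stepQ 1025 Q1025 (allL N1025 (tt N732 F13777) (tt N777 F4587) (tt N654 (iv F9016)) (tt N1432 D5102) (tt N776 (iv D2608)) (tt N652 D5103) (tt N1008 D5104))
theorem Q1027 : ∀ i, i < 1027 → P i := stepQ 1026 Q1026 (allL N1026 (tt N733 (iv F15068)) (tt N1033 F9013) (tt N1118 D7244) (tt N653 (iv D5069)) (tt N1117 D7245) (tt N1448 D7246) (tt N733 (iv F15070)))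
theorem Q1028 : ∀ i, i < 1028 → P i := stepQ 1027 Q1027 (allL N1027 (tt N734 (iv F14893)) (tt N1019 (iv F14627)) (tt N1340 (iv F14936)) (tt N654 F14628) (tt N1449 (iv F14939)) (tt N858 (iv D4627)) (tt N1099 D7201))
theorem Q1029 : ∀ i, i < 1029 → P i := stepQ 1028 Q1028 (allL N1028 (tt N869 F4633) (tt N656 (iv F9039)) (tt N1450 D5134) (tt N655 (iv D2627)) (tt N1451 D5135) (tt N662 (iv F13926)) (tt N1405 D5136))
theorem Q1030 : ∀ i, i < 1030 → P i := stepQ 1029 Q1029 (allL N1029 (tt N665 (iv F15752)) (tt N1451 F15124) (tt N665 F15757) (tt N1452 F15125) (tt N656 (iv D7261)) (tt N665 (iv F15755)) (tt N907 D7519))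
theorem Q1031 : ∀ i, i < 1031 → P i := stepQ 1030 Q1030 (allL N1030 (tt N667 (iv F14318)) (tt N1180 F5446) (tt N1453 F14311) (tt N657 F13865) (tt N1452 (iv F10835)) (tt N1454 (iv F14336)) (tt N1422 (iv D3155)))
theorem Q1032 : ∀ i, i < 1032 → P i := stepQ 1031 Q1031 (allL N1031 (tt N668 (iv F8361)) (tt N781 F4573) (tt N659 (iv F9023)) (tt N1455 D5085) (tt N658 F4574) (tt N657 (iv F4576)) (tt N774 (iv D2599)))
theorem Q1033 : ∀ i, i < 1033 → P i := stepQ 1032 Q1032 (allL N1032 (tt N675 F14950) (tt N1010 (iv F15942)) (tt N1456 (iv F15978)) (tt N659 F14948) (tt N1051 (iv F14949)) (tt N996 (iv D7207)) (tt N1098 D7494))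
theorem Q1034 : ∀ i, i < 1034 → P i := stepQ 1033 Q1033 (allL N1033 (tt N677 (iv F8375)) (tt N1026 (iv F9013)) (tt N1311 D5073) (tt N660 (iv D2594)) (tt N1457 D5074) (tt N1458 D5075) (tt N1066 D5076))
theorem Q1035 : ∀ i, i < 1035 → P i := stepQ 1034 Q1034 (allL N1034 (tt N662 F13973) (tt N1049 (iv F14926)) (tt N1459 (iv F14515)) (tt N661 (iv D4701)) (tt N1460 D7230) (tt N869 F8443) (tt N1461 D7231))
theorem Q1036 : ∀ i, i < 1036 → P i := stepQ 1035 Q1035 (allL N1035 (tt N1459 (iv F10284)) (tt N1450 (iv F14510)) (tt N662 (iv F14514)) (tt N1462 (iv D3141)) (tt N1463 D6147) (tt N1450 (iv F14512)) (tt N1464 D6149))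
theorem Q1037 : ∀ i, i < 1037 → P i := stepQ 1036 Q1036 (allL N1036 (tt N1460 F15041) (tt N665 (iv F15753)) (tt N1463 F15042) (tt N1465 F15043) (tt N662 (iv D7236)) (tt N1451 F15044) (tt N971 (iv F15045)))
theorem Q1038 : ∀ i, i < 1038 → P i := stepQ 1037 Q1037 (allL N1037 (tt N1461 F15046) (tt N666 (iv F16017)) (tt N1464 F15047) (tt N1466 F15048) (tt N971 F15049) (tt N1344 (iv F15187)) (tt N662 (iv D7237)))
theorem Q1039 : ∀ i, i < 1039 → P i := stepQ 1038 Q1038 (allL N1038 (tt N1062 F13844) (tt N667 F14337) (tt N1467 (iv F14353)) (tt N663 F13845) (tt N1465 (iv F10598)) (tt N1468 (iv F14354)) (tt N1469 (iv D3074)))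
theorem Q1040 : ∀ i, i < 1040 → P i := stepQ 1039 Q1039 (allL N1039 (tt N1299 F13924) (tt N670 (iv F10527)) (tt N1470 (iv F14026)) (tt N664 F13832) (tt N1471 (iv D3045)) (tt N865 F13833) (tt N1466 D5957))
theorem Q1041 : ∀ i, i < 1041 → P i := stepQ 1040 Q1040 (allL N1040 (tt N1452 F14557) (tt N1465 (iv F14585)) (tt N1472 F11353) (tt N665 D7427) (tt N667 F11354) (tt N1473 (iv D6540)) (tt N942 (iv F14314)))
theorem Q1042 : ∀ i, i < 1042 → P i := stepQ 1041 Q1041 (allL N1041 (tt N1390 F15371) (tt N1466 F15372) (tt N1474 F15373) (tt N666 (iv F16019)) (tt N974 F15374) (tt N1315 F15375) (tt N670 (iv D7318)))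
theorem Q1043 : ∀ i, i < 1043 → P i := stepQ 1042 Q1042 (allL N1042 (tt N1453 (iv F5712)) (tt N1164 F2780) (tt N667 (iv F5721)) (tt N1241 (iv F5654)) (tt N1472 (iv F5727)) (tt N1161 (iv D1632)) (tt N1475 D3359))
theorem Q1044 : ∀ i, i < 1044 → P i := stepQ 1043 Q1043 (allL N1043 (tt N1454 (iv F5708)) (tt N1468 D3351) (tt N1161 (iv D1630)) (tt N1476 D3352) (tt N1473 D3353) (tt N667 D3354) (tt N1377 D3355))
theorem Q1045 : ∀ i, i < 1045 → P i := stepQ 1044 Q1044 (allL N1044 (tt N1422 F5324) (tt N1469 F5325) (tt N1475 F14309) (tt N988 (iv D3058)) (tt N942 (iv F10563)) (tt N1477 D5984) (tt N667 (iv F14319)))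
theorem Q1046 : ∀ i, i < 1046 → P i := stepQ 1045 Q1045 (allL N1045 (tt N1455 F14598) (tt N1286 F14592) (tt N1045 F11351) (tt N668 (iv F14593)) (tt N1455 (iv F14594)) (tt N1476 (iv D6537)) (tt N995 (iv F14595)))
theorem Q1047 : ∀ i, i < 1047 → P i := stepQ 1046 Q1046 (allL N1046 (tt N1436 F15363) (tt N1478 (iv F16148)) (tt N670 F15364) (tt N1401 (iv F15543)) (tt N1479 (iv D7316)) (tt N1480 F15365) (tt N1474 (iv F15366)))
theorem Q1048 : ∀ i, i < 1048 → P i := stepQ 1047 Q1047 (allL N1047 (tt N1421 (iv F13935)) (tt N1471 F5303) (tt N1479 D5947) (tt N979 (iv D3041)) (tt N670 D5948) (tt N981 D5949) (tt N974 D5950))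
theorem Q1049 : ∀ i, i < 1049 → P i := stepQ 1048 Q1048 (allL N1048 (tt N1437 (iv F14638)) (tt N865 F8364) (tt N1480 (iv F14636)) (tt N859 (iv D4639)) (tt N981 F14646) (tt N670 (iv F14647)) (tt N1408 D7210))
theorem Q1050 : ∀ i, i < 1050 → P i := stepQ 1049 Q1049 (allL N1049 (tt N994 F14925) (tt N1034 F14926) (tt N1481 (iv F15766)) (tt N672 (iv D7187)) (tt N1481 (iv F15767)) (tt N994 F14927) (tt N1482 D7473))
theorem Q1051 : ∀ i, i < 1051 → P i := stepQ 1050 Q1050 (allL N1050 (tt N859 F8315) (tt N873 F13847) (tt N674 F14635) (tt N1437 (iv F14637)) (tt N682 F8317) (tt N856 (iv D4612)) (tt N672 (iv F8330)))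
theorem Q1052 : ∀ i, i < 1052 → P i := stepQ 1051 Q1051 (allL N1051 (tt N996 F14902) (tt N717 (iv F15906)) (tt N1483 (iv F15586)) (tt N673 (iv D7183)) (tt N1032 F14949) (tt N675 (iv F14951)) (tt N1433 (iv F15581)))
theorem Q1053 : ∀ i, i < 1053 → P i := stepQ 1052 Q1052 (allL N1052 (tt N997 F5356) (tt N718 D6028) (tt N1430 (iv D3082)) (tt N674 D6029) (tt N718 (iv F13407)) (tt N1107 D6031) (tt N676 D6032))
theorem Q1054 : ∀ i, i < 1054 → P i := stepQ 1053 Q1053 (allL N1053 (tt N1456 (iv F15976)) (tt N1484 F15973) (tt N675 F15974) (tt N1456 (iv F15979)) (tt N1426 (iv D7492)) (tt N1483 F15975) (tt N1485 (iv F16117)))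
theorem Q1055 : ∀ i, i < 1055 → P i := stepQ 1054 Q1054 (allL N1054 (tt N1098 (iv F15982)) (tt N720 F16111) (tt N1485 (iv F16114)) (tt N1061 (iv F15999)) (tt N1427 (iv D7489)) (tt N1098 (iv F15987)) (tt N675 F15962))
theorem Q1056 : ∀ i, i < 1056 → P i := stepQ 1055 Q1055 (allL N1055 (tt N1221 F5362) (tt N1486 F5363) (tt N676 (iv F10631)) (tt N1487 (iv F5389)) (tt N721 (iv F13563)) (tt N1447 D6037) (tt N1430 (iv D3085)))
theorem Q1057 : ∀ i, i < 1057 → P i := stepQ 1056 Q1056 (allL N1056 (tt N1435 F15434) (tt N722 F15435) (tt N1447 F15436) (tt N1058 F15437) (tt N722 F15438) (tt N676 (iv D7335)) (tt N1104 F15439))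
theorem Q1058 : ∀ i, i < 1058 → P i := stepQ 1057 Q1057 (allL N1057 (tt N1457 F14978) (tt N723 (iv F16008)) (tt N933 (iv F15773)) (tt N1060 (iv F15994)) (tt N677 (iv D7215)) (tt N931 (iv F15451)) (tt N946 F14979))
theorem Q1059 : ∀ i, i < 1059 → P i := stepQ 1058 Q1058 (allL N1058 (tt N1458 F14980) (tt N724 (iv F16013)) (tt N932 F14981) (tt N1056 (iv F15437)) (tt N931 (iv F15450)) (tt N677 (iv D7216)) (tt N1378 F15447))
theorem Q1060 : ∀ i, i < 1060 → P i := stepQ 1059 Q1059 (allL N1059 (tt N1438 F15988) (tt N1488 D7586) (tt N678 (iv D7495)) (tt N1384 (iv F16362)) (tt N1386 (iv F15990)) (tt N725 F15989) (tt N1489 F16182))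
theorem Q1061 : ∀ i, i < 1061 → P i := stepQ 1060 Q1060 (allL N1060 (tt N1439 F15991) (tt N726 F15992) (tt N1386 F15993) (tt N1057 F15994) (tt N678 (iv D7496)) (tt N726 F15995) (tt N1115 (iv F15996)))
theorem Q1062 : ∀ i, i < 1062 → P i := stepQ 1061 Q1061 (allL N1061 (tt N1440 F15997) (tt N727 F15998) (tt N1489 (iv F16179)) (tt N1054 F15999) (tt N1115 F16000) (tt N1114 (iv F16316)) (tt N678 (iv D7497)))
theorem Q1063 : ∀ i, i < 1063 → P i := stepQ 1062 Q1062 (allL N1062 (tt N1038 (iv F13844)) (tt N680 (iv F14920)) (tt N1490 (iv F10809)) (tt N679 (iv D4740)) (tt N1491 D7241) (tt N1492 (iv F14236)) (tt N1093 (iv F13902)))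
theorem Q1064 : ∀ i, i < 1064 → P i := stepQ 1063 Q1063 (allL N1063 (tt N992 F11386) (tt N1491 (iv F15063)) (tt N1095 F11387) (tt N1481 D7430) (tt N680 (iv F14924)) (tt N1493 (iv D6558)) (tt N1094 F15280))
theorem Q1065 : ∀ i, i < 1065 → P i := stepQ 1064 Q1064 (allL N1064 (tt N993 F11362) (tt N1492 (iv F14373)) (tt N1096 (iv D6546)) (tt N1494 (iv F14915)) (tt N1493 F11364) (tt N680 (iv F14921)) (tt N1495 F14916))
theorem Q1066 : ∀ i, i < 1066 → P i := stepQ 1065 Q1065 (allL N1065 (tt N995 F14909) (tt N1290 F14910) (tt N1065 F14911) (tt N681 (iv D7185)) (tt N995 F14912) (tt N1494 (iv F14914)) (tt N1455 F14913))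
theorem Q1067 : ∀ i, i < 1067 → P i := stepQ 1066 Q1066 (allL N1066 (tt N998 F14726) (tt N733 (iv F15069)) (tt N1335 (iv F15103)) (tt N683 (iv F14725)) (tt N1334 (iv F15114)) (tt N1496 D7257) (tt N1033 (iv D5076)))
theorem Q1068 : ∀ i, i < 1068 → P i := stepQ 1067 Q1067 (allL N1067 (tt N690 F5795) (tt N1100 (iv F11328)) (tt N1074 F5796) (tt N1254 F5797) (tt N1071 F14157) (tt N685 (iv F5798)) (tt N1255 (iv D3407)))
theorem Q1069 : ∀ i, i < 1069 → P i := stepQ 1068 Q1068 (allL N1068 (tt N691 F14087) (tt N1101 (iv F15499)) (tt N1075 F10777) (tt N1105 (iv F14999)) (tt N1072 F10778) (tt N1353 F14088) (tt N685 (iv D6131)))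
theorem Q1070 : ∀ i, i < 1070 → P i := stepQ 1069 Q1069 (allL N1069 (tt N695 (iv F14185)) (tt N1102 (iv F14300)) (tt N1497 (iv F14325)) (tt N686 (iv D4700)) (tt N1498 F13565) (tt N1254 F14178) (tt N1499 F14179))
theorem Q1071 : ∀ i, i < 1071 → P i := stepQ 1070 Q1070 (allL N1070 (tt N696 F9080) (tt N712 (iv F15129)) (tt N1500 (iv F15152)) (tt N687 (iv F13978)) (tt N1176 (iv D5112)) (tt N696 F9081) (tt N1105 (iv F15001)))
theorem Q1072 : ∀ i, i < 1072 → P i := stepQ 1071 Q1071 (allL N1071 (tt N1074 F13579) (tt N881 (iv F11126)) (tt N690 (iv F13716)) (tt N1228 (iv D3302)) (tt N1067 (iv F14157)) (tt N688 (iv F13667)) (tt N1353 (iv F13717)))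
theorem Q1073 : ∀ i, i < 1073 → P i := stepQ 1072 Q1072 (allL N1072 (tt N1075 (iv F14042)) (tt N882 (iv F11340)) (tt N691 (iv F10780)) (tt N949 (iv D3404)) (tt N1068 (iv F10778)) (tt N1255 F5790) (tt N688 (iv F14089)))
theorem Q1074 : ∀ i, i < 1074 → P i := stepQ 1073 Q1073 (allL N1073 (tt N820 (iv F2555)) (tt N698 (iv F2660)) (tt N759 F1330) (tt N689 D1531) (tt N692 F1331) (tt N758 (iv D728)) (tt N914 F1332))
theorem Q1075 : ∀ i, i < 1075 → P i := stepQ 1074 Q1074 (allL N1074 (tt N1071 (iv F13579)) (tt N699 (iv F10694)) (tt N1067 (iv F5796)) (tt N1501 (iv D3127)) (tt N690 (iv F14127)) (tt N689 F5415) (tt N1079 F14056))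
theorem Q1076 : ∀ i, i < 1076 → P i := stepQ 1075 Q1075 (allL N1075 (tt N1072 F14042) (tt N700 (iv F10708)) (tt N1068 (iv F10777)) (tt N916 F5420) (tt N691 (iv F10781)) (tt N1077 (iv F14054)) (tt N689 (iv D3132)))
theorem Q1077 : ∀ i, i < 1077 → P i := stepQ 1076 Q1076 (allL N1076 (tt N1254 (iv F5676)) (tt N701 (iv F5742)) (tt N1502 (iv F5777)) (tt N690 D3395) (tt N1503 (iv F5762)) (tt N695 D3396) (tt N876 (iv D1649)))
theorem Q1078 : ∀ i, i < 1078 → P i := stepQ 1077 Q1077 (allL N1077 (tt N1255 (iv F2799)) (tt N702 (iv F5744)) (tt N1353 D3397) (tt N840 (iv D1650)) (tt N1079 D3398) (tt N1075 F14054) (tt N690 (iv F5779)))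
theorem Q1079 : ∀ i, i < 1079 → P i := stepQ 1078 Q1078 (allL N1078 (tt N1105 (iv F14998)) (tt N703 (iv F16022)) (tt N1504 (iv F15587)) (tt N691 F14995) (tt N917 F14996) (tt N1349 F14997) (tt N696 (iv D7223)))
theorem Q1080 : ∀ i, i < 1080 → P i := stepQ 1079 Q1079 (allL N1079 (tt N1353 (iv F14048)) (tt N704 (iv F11402)) (tt N1255 (iv F14052)) (tt N1350 F5782) (tt N1077 (iv D3398)) (tt N691 (iv F14055)) (tt N1074 (iv F14056)))
theorem Q1081 : ∀ i, i < 1081 → P i := stepQ 1080 Q1080 (allL N1080 (tt N817 (iv F2552)) (tt N706 (iv F2655)) (tt N817 F13262) (tt N693 D1525) (tt N1226 (iv F2669)) (tt N757 (iv D725)) (tt N817 F13123))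
theorem Q1082 : ∀ i, i < 1082 → P i := stepQ 1081 Q1081 (allL N1081 (tt N1497 (iv F14324)) (tt N1505 (iv F14531)) (tt N695 F11466) (tt N1506 F14206) (tt N1507 (iv F14250)) (tt N1502 (iv D6613)) (tt N1508 F11468))
theorem Q1083 : ∀ i, i < 1083 → P i := stepQ 1082 Q1082 (allL N1082 (tt N1498 F13410) (tt N708 (iv F10682)) (tt N1507 (iv F14249)) (tt N1226 (iv D3119)) (tt N695 (iv F14186)) (tt N1503 F14180) (tt N1302 (iv F14194)))
theorem Q1084 : ∀ i, i < 1084 → P i := stepQ 1083 Q1083 (allL N1083 (tt N1499 (iv F11237)) (tt N709 (iv F11366)) (tt N1508 (iv F11430)) (tt N1127 (iv F14198)) (tt N1302 F5761) (tt N1301 (iv D3381)) (tt N695 (iv F5781)))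
theorem Q1085 : ∀ i, i < 1085 → P i := stepQ 1084 Q1084 (allL N1084 (tt N1500 (iv F15151)) (tt N1509 (iv F15583)) (tt N696 (iv F14779)) (tt N1510 F13760) (tt N1283 (iv D6368)) (tt N1500 (iv F15153)) (tt N1504 D7383))
theorem Q1086 : ∀ i, i < 1086 → P i := stepQ 1085 Q1085 (allL N1085 (tt N919 F1325) (tt N758 F1326) (tt N1002 F1327) (tt N1511 D1515) (tt N705 (iv D721)) (tt N698 D1516) (tt N1002 F1328))
theorem Q1087 : ∀ i, i < 1087 → P i := stepQ 1086 Q1086 (allL N1086 (tt N920 F5385) (tt N1501 F5386) (tt N1512 (iv F10690)) (tt N699 D6069) (tt N1513 (iv F10678)) (tt N1511 (iv D3099)) (tt N950 (iv F13576)))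
theorem Q1088 : ∀ i, i < 1088 → P i := stepQ 1087 Q1087 (allL N1087 (tt N921 (iv F14545)) (tt N1514 (iv F14525)) (tt N701 F11389) (tt N1515 (iv F15520)) (tt N1495 (iv F14918)) (tt N707 (iv F14544)) (tt N1493 (iv D6559)))
theorem Q1089 : ∀ i, i < 1089 → P i := stepQ 1088 Q1088 (allL N1088 (tt N922 (iv F14150)) (tt N1503 F11369) (tt N1495 (iv F14917)) (tt N1513 (iv F14294)) (tt N701 F11370) (tt N708 (iv F14189)) (tt N1096 (iv D6548)))
theorem Q1090 : ∀ i, i < 1090 → P i := stepQ 1089 Q1089 (allL N1089 (tt N831 F2782) (tt N876 F2783) (tt N1493 D3362) (tt N830 (iv D1634)) (tt N1096 (iv F5725)) (tt N1095 D3363) (tt N701 D3364))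
theorem Q1091 : ∀ i, i < 1091 → P i := stepQ 1090 Q1090 (allL N1090 (tt N1430 (iv F2648)) (tt N757 F1324) (tt N997 D1511) (tt N705 (iv D720)) (tt N1222 D1512) (tt N706 D1513) (tt N1221 D1514))
theorem Q1092 : ∀ i, i < 1092 → P i := stepQ 1091 Q1091 (allL N1091 (tt N1107 (iv F10628)) (tt N1015 (iv F13402)) (tt N706 F5368) (tt N1361 D6053) (tt N1434 (iv F10666)) (tt N997 (iv D3090)) (tt N1015 (iv F13399)))
theorem Q1093 : ∀ i, i < 1093 → P i := stepQ 1092 Q1092 (allL N1092 (tt N1431 (iv F10632)) (tt N1226 F5373) (tt N1434 (iv F10665)) (tt N708 D6060) (tt N706 F5374) (tt N1222 (iv D3093)) (tt N1116 (iv F5383)))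
theorem Q1094 : ∀ i, i < 1094 → P i := stepQ 1093 Q1093 (allL N1093 (tt N1469 F5127) (tt N707 (iv F10158)) (tt N1505 D5744) (tt N809 (iv D2934)) (tt N1516 (iv F10168)) (tt N1514 D5745) (tt N1062 F13902))
theorem Q1095 : ∀ i, i < 1095 → P i := stepQ 1094 Q1094 (allL N1094 (tt N1420 F15275) (tt N1516 F15276) (tt N708 F15279) (tt N944 (iv D7296)) (tt N707 F15277) (tt N1495 F15278) (tt N1063 (iv F15280)))
theorem Q1096 : ∀ i, i < 1096 → P i := stepQ 1095 Q1095 (allL N1095 (tt N1241 F5738) (tt N1302 F5739) (tt N1063 (iv F11387)) (tt N1453 F5740) (tt N709 (iv F11367)) (tt N1089 (iv D3363)) (tt N708 (iv F14190)))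
theorem Q1097 : ∀ i, i < 1097 → P i := stepQ 1096 Q1096 (allL N1096 (tt N1240 F5723) (tt N1301 F5724) (tt N1064 D6546) (tt N1517 (iv D3356)) (tt N1089 F5725) (tt N709 D6547) (tt N1088 D6548))
theorem Q1098 : ∀ i, i < 1098 → P i := stepQ 1097 Q1097 (allL N1097 (tt N1432 F13889) (tt N871 F8476) (tt N1126 D7238) (tt N732 (iv D4726)) (tt N710 F13890) (tt N1432 F13891) (tt N1124 D7239))
theorem Q1099 : ∀ i, i < 1099 → P i := stepQ 1098 Q1098 (allL N1098 (tt N1054 F15982) (tt N711 F15983) (tt N1509 F15984) (tt N1440 F15985) (tt N1433 F15986) (tt N1054 F15987) (tt N1032 (iv D7494)))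
theorem Q1100 : ∀ i, i < 1100 → P i := stepQ 1099 Q1099 (allL N1099 (tt N1121 (iv F15901)) (tt N1440 (iv F15122)) (tt N1518 F15627) (tt N711 D7488) (tt N1519 (iv F14943)) (tt N1520 F14941) (tt N1027 (iv D7201)))
theorem Q1101 : ∀ i, i < 1101 → P i := stepQ 1100 Q1100 (allL N1100 (tt N924 F11327) (tt N1067 F11328) (tt N883 D7422) (tt N1521 (iv D6526)) (tt N881 F14676) (tt N714 (iv F11330)) (tt N879 F11329))
theorem Q1102 : ∀ i, i < 1102 → P i := stepQ 1101 Q1101 (allL N1101 (tt N925 F15498) (tt N1068 F15499) (tt N884 (iv F16187)) (tt N719 (iv F16030)) (tt N882 F15500) (tt N923 F15501) (tt N714 (iv D7353)))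
theorem Q1103 : ∀ i, i < 1103 → P i := stepQ 1102 Q1102 (allL N1102 (tt N1376 F14299) (tt N1069 F14300) (tt N1330 F10829) (tt N715 F14683) (tt N1522 (iv D6173)) (tt N1521 F14301) (tt N1523 F14302))
theorem Q1104 : ∀ i, i < 1104 → P i := stepQ 1103 Q1103 (allL N1103 (tt N1222 F5357) (tt N1524 F5358) (tt N718 (iv F13406)) (tt N1525 F5359) (tt N1430 (iv D3083)) (tt N1431 D6033) (tt N721 (iv F13564)))
theorem Q1105 : ∀ i, i < 1105 → P i := stepQ 1104 Q1104 (allL N1104 (tt N1434 F15430) (tt N1107 F15431) (tt N1431 F15432) (tt N1119 (iv F16052)) (tt N1107 F15433) (tt N718 (iv D7334)) (tt N1056 (iv F15439)))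
theorem Q1106 : ∀ i, i < 1106 → P i := stepQ 1105 Q1105 (allL N1105 (tt N1078 F14998) (tt N719 (iv F16028)) (tt N1484 (iv F15591)) (tt N1068 F14999) (tt N1349 F15000) (tt N917 (iv D7224)) (tt N1070 F15001))
theorem Q1107 : ∀ i, i < 1107 → P i := stepQ 1106 Q1106 (allL N1106 (tt N1285 F2719) (tt N721 (iv F5141)) (tt N1486 (iv F13278)) (tt N789 (iv D1568)) (tt N1486 F13437) (tt N1177 (iv F13781)) (tt N1524 F13438))
theorem Q1108 : ∀ i, i < 1108 → P i := stepQ 1107 Q1107 (allL N1107 (tt N1091 F10628) (tt N1104 (iv F15431)) (tt N1003 F10629) (tt N1496 (iv F15118)) (tt N1104 (iv F15433)) (tt N1052 (iv D6031)) (tt N722 (iv F15145)))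
theorem Q1109 : ∀ i, i < 1109 → P i := stepQ 1108 Q1108 (allL N1108 (tt N1109 F16133) (tt N931 F16134) (tt N1108 F16135) (tt N931 F16136) (tt N724 F16137) (tt N723 F16138) (tt N1017 (iv D7525)))
theorem Q1110 : ∀ i, i < 1110 → P i := stepQ 1109 Q1109 (allL N1109 (tt N1108 (iv F16133)) (tt N1378 F16088) (tt N1109 F16092) (tt N1320 (iv D7516)) (tt N1017 F16089) (tt N1016 F16090) (tt N724 F16091))
theorem Q1111 : ∀ i, i < 1111 → P i := stepQ 1110 Q1110 (allL N1110 (tt N1526 F16243) (tt N725 F16244) (tt N1488 (iv F16379)) (tt N1526 F16245) (tt N1527 (iv D7556)) (tt N1488 (iv F16381)) (tt N1528 F16246))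
theorem Q1112 : ∀ i, i < 1112 → P i := stepQ 1111 Q1111 (allL N1111 (tt N1442 (iv F15924)) (tt N1526 (iv F16216)) (tt N1120 (iv F15897)) (tt N725 (iv F15799)) (tt N967 F15793) (tt N966 (iv F15871)) (tt N1402 (iv D7369)))
theorem Q1113 : ∀ i, i < 1113 → P i := stepQ 1112 Q1112 (allL N1112 (tt N1443 (iv F15690)) (tt N1527 (iv F15577)) (tt N726 D7438) (tt N1412 (iv D6676)) (tt N725 D7439) (tt N1386 D7440) (tt N1529 (iv F15789)))
theorem Q1114 : ∀ i, i < 1114 → P i := stepQ 1113 Q1113 (allL N1113 (tt N1444 F15456) (tt N1528 (iv F16166)) (tt N727 (iv F15921)) (tt N1530 (iv D7340)) (tt N1529 (iv F15788)) (tt N1531 D7533) (tt N725 (iv F15800)))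
theorem Q1115 : ∀ i, i < 1115 → P i := stepQ 1114 Q1114 (allL N1114 (tt N1445 F16314) (tt N1115 (iv F16319)) (tt N1529 (iv D7571)) (tt N1445 F16318) (tt N727 F16315) (tt N1061 F16316) (tt N726 F16317))
theorem Q1116 : ∀ i, i < 1116 → P i := stepQ 1115 Q1115 (allL N1115 (tt N1446 F15956) (tt N1114 F16319) (tt N1531 (iv F16168)) (tt N1520 (iv D7487)) (tt N1061 (iv F16000)) (tt N727 (iv F15957)) (tt N1060 F15996))
theorem Q1117 : ∀ i, i < 1117 → P i := stepQ 1116 Q1116 (allL N1116 (tt N1447 (iv F10645)) (tt N1225 F5381) (tt N1435 (iv F10671)) (tt N1522 F14298) (tt N731 F13393) (tt N1221 (iv D3097)) (tt N1092 F5383))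
theorem Q1118 : ∀ i, i < 1118 → P i := stepQ 1117 Q1117 (allL N1117 (tt N1118 F15078) (tt N1457 F15079) (tt N733 F15080) (tt N1449 F15081) (tt N1026 (iv D7245)) (tt N1532 D7509) (tt N1118 F15082))
theorem Q1119 : ∀ i, i < 1119 → P i := stepQ 1118 Q1118 (allL N1118 (tt N1117 (iv F15078)) (tt N1334 (iv F15112)) (tt N1026 (iv D7244)) (tt N1120 (iv F15898)) (tt N733 F15077) (tt N1533 D7508) (tt N1117 (iv F15082)))
theorem Q1120 : ∀ i, i < 1120 → P i := stepQ 1119 Q1119 (allL N1119 (tt N1448 F16050) (tt N1496 F16051) (tt N1532 (iv F16060)) (tt N1104 F16052) (tt N1533 (iv F16056)) (tt N733 (iv D7507)) (tt N1532 (iv F16063)))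
theorem Q1121 : ∀ i, i < 1121 → P i := stepQ 1120 Q1120 (allL N1120 (tt N1449 F15895) (tt N1397 F15896) (tt N1111 F15897) (tt N1118 F15898) (tt N734 (iv D7469)) (tt N1397 F15899) (tt N1534 (iv F15900)))
theorem Q1122 : ∀ i, i < 1122 → P i := stepQ 1121 Q1121 (allL N1121 (tt N1099 F15901) (tt N1398 F15902) (tt N1401 F15903) (tt N1006 (iv F15905)) (tt N1534 F15904) (tt N1535 (iv F15914)) (tt N734 (iv D7470)))
theorem Q1123 : ∀ i, i < 1123 → P i := stepQ 1122 Q1122 (allL N1122 (tt N1536 F14195) (tt N735 (iv F14990)) (tt N1122 F8431) (tt N1249 F14196) (tt N1536 F14197) (tt N1298 (iv F13894)) (tt N860 (iv D4676)))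
theorem Q1124 : ∀ i, i < 1124 → P i := stepQ 1123 Q1123 (allL N1123 (tt N1124 (iv F15052)) (tt N1536 F11371) (tt N736 D7428) (tt N1472 (iv D6549)) (tt N735 (iv F14992)) (tt N739 (iv F15040)) (tt N1432 (iv F14684)))
theorem Q1125 : ∀ i, i < 1125 → P i := stepQ 1124 Q1124 (allL N1124 (tt N1123 F15052) (tt N1298 F15053) (tt N737 (iv F16046)) (tt N1523 F15054) (tt N739 F15055) (tt N735 F15056) (tt N1097 (iv D7239)))
theorem Q1126 : ∀ i, i < 1126 → P i := stepQ 1125 Q1125 (allL N1125 (tt N1126 F15132) (tt N1125 F15133) (tt N1432 (iv D7264)) (tt N1537 (iv F15806)) (tt N738 F15134) (tt N1126 F15135) (tt N736 (iv F15759)))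
theorem Q1127 : ∀ i, i < 1127 → P i := stepQ 1126 Q1126 (allL N1126 (tt N1125 (iv F15132)) (tt N1126 F15050) (tt N1097 (iv D7238)) (tt N1538 D7505) (tt N740 F15051) (tt N1125 (iv F15135)) (tt N737 D7506))
theorem Q1128 : ∀ i, i < 1128 → P i := stepQ 1127 Q1127 (allL N1127 (tt N1298 F13915) (tt N739 (iv F15038)) (tt N1127 F8455) (tt N1083 F14198) (tt N1298 (iv F13893)) (tt N1536 F14199) (tt N870 (iv D4709)))
theorem Q1129 : ∀ i, i < 1129 → P i := stepQ 1128 Q1128 (allL N1128 (tt N1136 (iv F1301)) (tt N741 (iv D356)) (tt N747 F677) (tt N1539 D750) (tt N1134 F1299) (tt N747 F678) (tt N1540 D751))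
theorem Q1130 : ∀ i, i < 1130 → P i := stepQ 1129 Q1129 (allL N1129 (tt N784 (iv F1353)) (tt N1539 (iv F1367)) (tt N1244 D752) (tt N741 (iv D357)) (tt N1541 D753) (tt N1542 D754) (tt N1543 D755))
theorem Q1131 : ∀ i, i < 1131 → P i := stepQ 1130 Q1130 (allL N1130 (tt N785 (iv F1354)) (tt N1134 (iv F1298)) (tt N742 F679) (tt N1140 F13258) (tt N741 (iv D358)) (tt N749 F680) (tt N1143 F13259))
theorem Q1132 : ∀ i, i < 1132 → P i := stepQ 1131 Q1131 (allL N1131 (tt N786 (iv F1357)) (tt N1540 (iv F1368)) (tt N743 F681) (tt N1544 D757) (tt N1143 F13257) (tt N1142 (iv F1308)) (tt N741 (iv D359)))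
theorem Q1133 : ∀ i, i < 1133 → P i := stepQ 1132 Q1132 (allL N1132 (tt N788 (iv F1361)) (tt N1354 (iv F1371)) (tt N1261 D760) (tt N744 (iv D361)) (tt N1229 D761) (tt N1351 D762) (tt N1224 D763))
theorem Q1134 : ∀ i, i < 1134 → P i := stepQ 1133 Q1133 (allL N1133 (tt N789 (iv F1362)) (tt N1002 (iv F1322)) (tt N745 F684) (tt N1285 D764) (tt N744 (iv D362)) (tt N1000 (iv F1335)) (tt N758 F685))
theorem Q1135 : ∀ i, i < 1135 → P i := stepQ 1134 Q1134 (allL N1134 (tt N747 (iv D696)) (tt N1130 F1298) (tt N1136 (iv F1303)) (tt N1545 D1458) (tt N1128 (iv F1299)) (tt N1136 (iv F1304)) (tt N1546 D1459))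
theorem Q1136 : ∀ i, i < 1136 → P i := stepQ 1135 Q1135 (allL N1135 (tt N1545 (iv F2590)) (tt N748 F1300) (tt N1135 F14119) (tt N747 (iv D697)) (tt N1547 D1461) (tt N1548 D1462) (tt N1545 F13386))
theorem Q1137 : ∀ i, i < 1137 → P i := stepQ 1136 Q1136 (allL N1136 (tt N1128 F1301) (tt N749 F1302) (tt N1134 F1303) (tt N1549 D1464) (tt N747 (iv D698)) (tt N1134 F1304) (tt N1550 D1465))
theorem Q1138 : ∀ i, i < 1138 → P i := stepQ 1137 Q1137 (allL N1137 (tt N1546 (iv F2592)) (tt N750 F1305) (tt N1540 (iv F1369)) (tt N1546 F13385) (tt N1550 (iv F2604)) (tt N1546 (iv F2595)) (tt N747 (iv D699)))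
theorem Q1139 : ∀ i, i < 1139 → P i := stepQ 1138 Q1138 (allL N1138 (tt N796 (iv F2502)) (tt N1547 (iv F2596)) (tt N1269 (iv F2607)) (tt N1551 D1471) (tt N748 (iv D701)) (tt N1552 D1472) (tt N1553 D1473))
theorem Q1140 : ∀ i, i < 1140 → P i := stepQ 1139 Q1139 (allL N1139 (tt N797 (iv F2503)) (tt N1548 (iv F2597)) (tt N802 (iv F13823)) (tt N1542 (iv F1370)) (tt N1552 (iv F2611)) (tt N748 (iv D702)) (tt N1215 D1474))
theorem Q1141 : ∀ i, i < 1141 → P i := stepQ 1140 Q1140 (allL N1140 (tt N798 (iv F2504)) (tt N1545 (iv F13260)) (tt N1270 (iv F2609)) (tt N1130 (iv F13258)) (tt N1553 (iv F2612)) (tt N1554 D1476) (tt N748 (iv D703)))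
theorem Q1142 : ∀ i, i < 1142 → P i := stepQ 1141 Q1141 (allL N1141 (tt N799 (iv F2505)) (tt N1549 (iv F2600)) (tt N1555 D1477) (tt N749 (iv D704)) (tt N1551 (iv F2610)) (tt N1556 D1478) (tt N1557 D1479))
theorem Q1143 : ∀ i, i < 1143 → P i := stepQ 1142 Q1142 (allL N1142 (tt N800 (iv F2506)) (tt N1550 (iv F2602)) (tt N751 F1306) (tt N1558 D1480) (tt N750 F1307) (tt N1131 F1308) (tt N749 (iv D705)))
theorem Q1144 : ∀ i, i < 1144 → P i := stepQ 1143 Q1143 (allL N1143 (tt N801 (iv F2510)) (tt N1546 (iv F13251)) (tt N753 (iv F13256)) (tt N750 (iv D706)) (tt N1131 (iv F13257)) (tt N750 (iv F13255)) (tt N1130 (iv F13259)))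
theorem Q1145 : ∀ i, i < 1145 → P i := stepQ 1144 Q1144 (allL N1144 (tt N802 (iv F2515)) (tt N1148 (iv F1314)) (tt N797 F13996) (tt N751 (iv D708)) (tt N1559 D1486) (tt N795 F13997) (tt N1148 (iv F1315)))
theorem Q1146 : ∀ i, i < 1146 → P i := stepQ 1145 Q1145 (allL N1145 (tt N803 (iv F2517)) (tt N979 D1488) (tt N752 (iv D709)) (tt N1471 D1489) (tt N850 D1490) (tt N847 D1491) (tt N754 F1312))
theorem Q1147 : ∀ i, i < 1147 → P i := stepQ 1146 Q1146 (allL N1146 (tt N804 (iv F2519)) (tt N1160 (iv F1345)) (tt N850 (iv F2623)) (tt N1559 (iv F2620)) (tt N752 (iv D710)) (tt N849 (iv F1321)) (tt N755 F1313))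
theorem Q1148 : ∀ i, i < 1148 → P i := stepQ 1147 Q1147 (allL N1147 (tt N805 (iv F2522)) (tt N769 F13798) (tt N847 (iv F2625)) (tt N1200 D1492) (tt N849 (iv F1320)) (tt N752 (iv D711)) (tt N1151 (iv F1319)))
theorem Q1149 : ∀ i, i < 1149 → P i := stepQ 1148 Q1148 (allL N1148 (tt N806 (iv F2524)) (tt N1144 F1314) (tt N1206 D1493) (tt N753 (iv D712)) (tt N1560 D1494) (tt N1200 (iv F2627)) (tt N1144 F1315))
theorem Q1150 : ∀ i, i < 1150 → P i := stepQ 1149 Q1149 (allL N1149 (tt N808 (iv F2528)) (tt N943 (iv F2634)) (tt N1149 F13499) (tt N754 (iv D714)) (tt N941 D1500) (tt N808 F14032) (tt N972 D1502))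
theorem Q1151 : ∀ i, i < 1151 → P i := stepQ 1150 Q1150 (allL N1150 (tt N809 (iv F2529)) (tt N988 (iv F2636)) (tt N755 F1316) (tt N1469 D1503) (tt N754 (iv D715)) (tt N1271 D1504) (tt N850 (iv F2624)))
theorem Q1152 : ∀ i, i < 1152 → P i := stepQ 1151 Q1151 (allL N1151 (tt N811 (iv F2533)) (tt N1155 (iv F1337)) (tt N1271 (iv F2639)) (tt N1561 D1507) (tt N756 F1318) (tt N755 (iv D717)) (tt N1147 F1319))
theorem Q1153 : ∀ i, i < 1153 → P i := stepQ 1152 Q1152 (allL N1152 (tt N819 (iv F2554)) (tt N1511 (iv F2658)) (tt N1562 D1528) (tt N758 (iv D727)) (tt N1192 (iv F2668)) (tt N1501 D1529) (tt N1190 D1530))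
theorem Q1154 : ∀ i, i < 1154 → P i := stepQ 1153 Q1153 (allL N1153 (tt N822 (iv F2564)) (tt N1157 (iv F1340)) (tt N1462 D1536) (tt N759 (iv D731)) (tt N1563 D1537) (tt N1157 (iv F1341)) (tt N1273 (iv F2647)))
theorem Q1155 : ∀ i, i < 1155 → P i := stepQ 1154 Q1154 (allL N1154 (tt N823 (iv F2566)) (tt N984 D1538) (tt N760 (iv D732)) (tt N1564 D1539) (tt N772 F13789) (tt N762 F1336) (tt N770 F13790))
theorem Q1156 : ∀ i, i < 1156 → P i := stepQ 1155 Q1155 (allL N1155 (tt N824 (iv F2568)) (tt N1151 F1337) (tt N772 F13787) (tt N1563 (iv F2679)) (tt N760 (iv D733)) (tt N763 F1338) (tt N769 F13788))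
theorem Q1157 : ∀ i, i < 1157 → P i := stepQ 1156 Q1156 (allL N1156 (tt N825 (iv F2571)) (tt N849 F1339) (tt N770 F13785) (tt N1565 D1542) (tt N769 F13786) (tt N1160 (iv F1347)) (tt N760 (iv D734)))
theorem Q1158 : ∀ i, i < 1158 → P i := stepQ 1157 Q1157 (allL N1157 (tt N826 (iv F2573)) (tt N1153 F1340) (tt N1566 D1543) (tt N761 (iv D735)) (tt N1561 (iv F2646)) (tt N1153 F1341) (tt N1565 (iv F2687)))
theorem Q1159 : ∀ i, i < 1159 → P i := stepQ 1158 Q1158 (allL N1158 (tt N827 (iv F2577)) (tt N1422 (iv F2689)) (tt N1277 D1546) (tt N762 (iv D737)) (tt N1567 D1547) (tt N1568 D1548) (tt N1180 D1549))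
theorem Q1160 : ∀ i, i < 1160 → P i := stepQ 1159 Q1159 (allL N1159 (tt N828 (iv F2578)) (tt N985 (iv F2632)) (tt N763 F1343) (tt N1569 D1550) (tt N762 (iv D738)) (tt N772 F13791) (tt N1171 (iv F13794)))
theorem Q1161 : ∀ i, i < 1161 → P i := stepQ 1160 Q1160 (allL N1160 (tt N829 (iv F2582)) (tt N1146 F1345) (tt N1171 F14000) (tt N1560 (iv F2630)) (tt N764 F1346) (tt N1156 F1347) (tt N763 (iv D740)))
theorem Q1162 : ∀ i, i < 1162 → P i := stepQ 1161 Q1161 (allL N1161 (tt N1242 (iv F2773)) (tt N766 F1391) (tt N1043 D1630) (tt N765 (iv D775)) (tt N1517 D1631) (tt N1042 D1632) (tt N1359 D1633))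
theorem Q1163 : ∀ i, i < 1163 → P i := stepQ 1162 Q1162 (allL N1162 (tt N833 (iv F2726)) (tt N1570 D1637) (tt N766 (iv D778)) (tt N1183 (iv F2703)) (tt N1571 D1638) (tt N1572 D1639) (tt N1573 D1640))
theorem Q1164 : ∀ i, i < 1164 → P i := stepQ 1163 Q1163 (allL N1163 (tt N834 (iv F2759)) (tt N1517 (iv F2779)) (tt N1571 (iv F2789)) (tt N1301 D1641) (tt N766 (iv D779)) (tt N1574 D1642) (tt N1575 D1643))
theorem Q1165 : ∀ i, i < 1165 → P i := stepQ 1164 Q1164 (allL N1164 (tt N835 (iv F2760)) (tt N1042 (iv F2780)) (tt N1572 (iv F2790)) (tt N835 (iv F2761)) (tt N1574 (iv F2793)) (tt N766 (iv D780)) (tt N1576 D1644))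
theorem Q1166 : ∀ i, i < 1166 → P i := stepQ 1165 Q1165 (allL N1165 (tt N836 (iv F2762)) (tt N1359 (iv F2781)) (tt N1573 (iv F2791)) (tt N912 D1645) (tt N1575 (iv F2794)) (tt N1428 D1646) (tt N766 (iv D781)))
theorem Q1167 : ∀ i, i < 1167 → P i := stepQ 1166 Q1166 (allL N1166 (tt N839 (iv F2764)) (tt N878 (iv F2788)) (tt N1166 F13620) (tt N767 (iv D784)) (tt N1350 D1652) (tt N949 D1653) (tt N912 (iv F2796)))
theorem Q1168 : ∀ i, i < 1168 → P i := stepQ 1167 Q1167 (allL N1167 (tt N842 (iv F2744)) (tt N1577 D1668) (tt N768 (iv D792)) (tt N1189 (iv F2714)) (tt N1578 D1669) (tt N1579 D1670) (tt N1580 (iv F13467)))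
theorem Q1169 : ∀ i, i < 1169 → P i := stepQ 1168 Q1168 (allL N1168 (tt N843 (iv F2767)) (tt N976 (iv F2814)) (tt N1578 (iv F2824)) (tt N1168 F13235) (tt N768 (iv D793)) (tt N1581 D1673) (tt N1582 D1674))
theorem Q1170 : ∀ i, i < 1170 → P i := stepQ 1169 Q1169 (allL N1169 (tt N844 (iv F2768)) (tt N977 (iv F2815)) (tt N1579 (iv F2825)) (tt N844 (iv F13369)) (tt N1581 (iv F2828)) (tt N768 (iv D794)) (tt N1583 D1676))
theorem Q1171 : ∀ i, i < 1171 → P i := stepQ 1170 Q1170 (allL N1170 (tt N845 (iv F2769)) (tt N978 (iv F2816)) (tt N1580 (iv F13466)) (tt N845 (iv F2770)) (tt N1582 (iv F2829)) (tt N1584 (iv F13469)) (tt N768 (iv D795)))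
theorem Q1172 : ∀ i, i < 1172 → P i := stepQ 1171 Q1171 (allL N1171 (tt N848 (iv F4123)) (tt N987 (iv F4807)) (tt N1160 (iv F14000)) (tt N1585 D2749) (tt N771 F2423) (tt N770 (iv D1343)) (tt N1159 F13794))
theorem Q1173 : ∀ i, i < 1173 → P i := stepQ 1172 Q1172 (allL N1172 (tt N853 (iv F4217)) (tt N1586 D2877) (tt N773 (iv D1404)) (tt N1235 D2878) (tt N1587 D2879) (tt N1588 D2880) (tt N853 F13694))
theorem Q1174 : ∀ i, i < 1174 → P i := stepQ 1173 Q1173 (allL N1173 (tt N854 (iv F4219)) (tt N1304 (iv F5015)) (tt N1587 (iv F5031)) (tt N854 F13532) (tt N773 (iv D1405)) (tt N1280 D2883) (tt N854 F13695))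
theorem Q1175 : ∀ i, i < 1175 → P i := stepQ 1174 Q1174 (allL N1174 (tt N855 (iv F4220)) (tt N1305 (iv F5016)) (tt N1588 (iv F5032)) (tt N1174 F13479) (tt N1280 (iv F5035)) (tt N773 (iv D1406)) (tt N1279 D2885))
theorem Q1176 : ∀ i, i < 1176 → P i := stepQ 1175 Q1175 (allL N1175 (tt N860 F4590) (tt N1432 (iv F9058)) (tt N1175 F4614) (tt N777 (iv D2611)) (tt N860 F4591) (tt N871 F13778) (tt N1536 (iv F14181)))
theorem Q1177 : ∀ i, i < 1177 → P i := stepQ 1176 Q1176 (allL N1176 (tt N862 F4598) (tt N1007 (iv F9064)) (tt N1589 D5111) (tt N778 (iv D2614)) (tt N1070 D5112) (tt N862 F4599) (tt N1349 D5113))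
theorem Q1178 : ∀ i, i < 1178 → P i := stepQ 1177 Q1177 (allL N1177 (tt N863 F13780) (tt N1024 (iv F9068)) (tt N1590 (iv F13988)) (tt N779 (iv D2616)) (tt N1590 (iv F13989)) (tt N1106 F13781) (tt N863 F13782))
theorem Q1179 : ∀ i, i < 1179 → P i := stepQ 1178 Q1178 (allL N1178 (tt N865 F4619) (tt N1018 (iv F9030)) (tt N1591 D5123) (tt N780 (iv D2621)) (tt N1585 (iv F4849)) (tt N1299 (iv F13979)) (tt N1592 D5124))
theorem Q1180 : ∀ i, i < 1180 → P i := stepQ 1179 Q1179 (allL N1179 (tt N866 F4620) (tt N1455 (iv F9031)) (tt N1593 D5125) (tt N781 (iv D2622)) (tt N1286 (iv F13925)) (tt N1594 D5127) (tt N1290 (iv F13972)))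
theorem Q1181 : ∀ i, i < 1181 → P i := stepQ 1180 Q1180 (allL N1180 (tt N867 F13796) (tt N1030 (iv F5446)) (tt N1595 (iv F5456)) (tt N782 F13797) (tt N1596 (iv F5459)) (tt N1597 D3167) (tt N1158 (iv D1549)))
theorem Q1182 : ∀ i, i < 1182 → P i := stepQ 1181 Q1181 (allL N1181 (tt N1198 (iv F5055)) (tt N784 F2699) (tt N1598 D3174) (tt N783 (iv D1554)) (tt N1599 D3175) (tt N1600 D3176) (tt N1598 F14427))
theorem Q1183 : ∀ i, i < 1183 → P i := stepQ 1182 Q1182 (allL N1182 (tt N1199 (iv F5057)) (tt N786 F2700) (tt N1182 F2701) (tt N1601 D3178) (tt N1194 (iv F5050)) (tt N1199 (iv F5061)) (tt N783 (iv D1555)))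
theorem Q1184 : ∀ i, i < 1184 → P i := stepQ 1183 Q1183 (allL N1183 (tt N1244 F2702) (tt N1602 D3179) (tt N784 (iv D1556)) (tt N1162 F2703) (tt N1603 D3180) (tt N1604 D3181) (tt N1602 F14406))
theorem Q1185 : ∀ i, i < 1185 → P i := stepQ 1184 Q1184 (allL N1184 (tt N1541 F2704) (tt N1599 (iv F5466)) (tt N1603 (iv F5473)) (tt N1205 F13497) (tt N784 (iv D1557)) (tt N1605 D3184) (tt N1606 D3185))
theorem Q1186 : ∀ i, i < 1186 → P i := stepQ 1185 Q1185 (allL N1185 (tt N1542 F2705) (tt N1600 (iv F5467)) (tt N1604 (iv F5475)) (tt N797 F2706) (tt N1605 (iv F5481)) (tt N784 (iv D1558)) (tt N1607 D3186))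
theorem Q1187 : ∀ i, i < 1187 → P i := stepQ 1186 Q1186 (allL N1186 (tt N1543 F2707) (tt N1598 (iv F14418)) (tt N1602 F14407) (tt N1608 D3187) (tt N1606 (iv F5483)) (tt N1609 D3188) (tt N784 (iv D1559)))
theorem Q1188 : ∀ i, i < 1188 → P i := stepQ 1187 Q1187 (allL N1187 (tt N1544 F2709) (tt N1601 (iv F5470)) (tt N1268 D3192) (tt N786 (iv D1561)) (tt N1211 (iv F13534)) (tt N1264 D3194) (tt N1608 (iv F5487)))
theorem Q1189 : ∀ i, i < 1189 → P i := stepQ 1188 Q1188 (allL N1188 (tt N1223 (iv F5150)) (tt N788 F2710) (tt N1610 D3195) (tt N787 (iv D1562)) (tt N1487 F13427) (tt N950 D3197) (tt N1611 F13428))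
theorem Q1190 : ∀ i, i < 1190 → P i := stepQ 1189 Q1189 (allL N1189 (tt N1261 F2713) (tt N1612 D3200) (tt N788 (iv D1564)) (tt N1167 F2714) (tt N1613 F13370) (tt N1614 D3202) (tt N1615 (iv F13273)))
theorem Q1191 : ∀ i, i < 1191 → P i := stepQ 1190 Q1190 (allL N1190 (tt N1229 (iv F13277)) (tt N1487 (iv F5388)) (tt N1613 (iv F13274)) (tt N1486 (iv F2756)) (tt N788 (iv F13275)) (tt N1616 D3129) (tt N1152 (iv D1530)))
theorem Q1192 : ∀ i, i < 1192 → P i := stepQ 1191 Q1191 (allL N1191 (tt N1351 F2716) (tt N950 (iv F5502)) (tt N1614 (iv F5510)) (tt N948 D3207) (tt N1616 F13430) (tt N788 (iv D1566)) (tt N1501 F13431))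
theorem Q1193 : ∀ i, i < 1193 → P i := stepQ 1192 Q1192 (allL N1192 (tt N1224 (iv F13269)) (tt N1611 (iv F5371)) (tt N1615 D3116) (tt N818 (iv D1522)) (tt N1152 F2668) (tt N1617 D3117) (tt N788 (iv F13276)))
theorem Q1194 : ∀ i, i < 1194 → P i := stepQ 1193 Q1193 (allL N1193 (tt N792 F5045) (tt N798 F13360) (tt N1196 F14166) (tt N791 (iv D2896)) (tt N1195 F14167) (tt N1618 D5676) (tt N792 (iv F13383)))
theorem Q1195 : ∀ i, i < 1195 → P i := stepQ 1194 Q1194 (allL N1194 (tt N794 F5047) (tt N801 F13243) (tt N1194 F5049) (tt N794 (iv F13384)) (tt N1182 F5050) (tt N794 F5051) (tt N791 (iv D2897)))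
theorem Q1196 : ∀ i, i < 1196 → P i := stepQ 1195 Q1195 (allL N1195 (tt N1196 (iv F14163)) (tt N1205 F14135) (tt N792 (iv D2898)) (tt N1599 (iv F14165)) (tt N1193 (iv F14167)) (tt N1619 (iv F14113)) (tt N1196 (iv F14164)))
theorem Q1197 : ∀ i, i < 1197 → P i := stepQ 1196 Q1196 (allL N1196 (tt N1195 F14163) (tt N796 F5052) (tt N1193 (iv F14166)) (tt N1620 D5683) (tt N792 (iv D2899)) (tt N1621 D5684) (tt N1195 F14164))
theorem Q1198 : ∀ i, i < 1198 → P i := stepQ 1197 Q1197 (allL N1197 (tt N1618 (iv F10027)) (tt N797 F5053) (tt N1619 (iv F14112)) (tt N1600 (iv F5468)) (tt N1621 (iv F10040)) (tt N792 (iv D2900)) (tt N1619 (iv F14117)))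
theorem Q1199 : ∀ i, i < 1199 → P i := stepQ 1198 Q1198 (allL N1198 (tt N1181 F5055) (tt N799 F5056) (tt N1622 D5689) (tt N793 (iv D2902)) (tt N1620 (iv F10038)) (tt N1623 D5690) (tt N1622 (iv F14426)))
theorem Q1200 : ∀ i, i < 1200 → P i := stepQ 1199 Q1199 (allL N1199 (tt N1182 F5057) (tt N800 F5058) (tt N1199 F5059) (tt N1624 D5692) (tt N794 F5060) (tt N1182 F5061) (tt N793 (iv D2903)))
theorem Q1201 : ∀ i, i < 1201 → P i := stepQ 1200 Q1200 (allL N1200 (tt N1214 (iv F5106)) (tt N795 F13992) (tt N1205 (iv F14013)) (tt N1147 (iv D1492)) (tt N1202 (iv F13999)) (tt N1148 F2627) (tt N1201 (iv F13995)))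
theorem Q1202 : ∀ i, i < 1202 → P i := stepQ 1201 Q1201 (allL N1201 (tt N1269 F4830) (tt N1202 F14093) (tt N796 F4831) (tt N1625 F13993) (tt N795 (iv D2736)) (tt N1559 F13994) (tt N1200 F13995))
theorem Q1203 : ∀ i, i < 1203 → P i := stepQ 1202 Q1202 (allL N1202 (tt N1270 F4834) (tt N1201 (iv F14093)) (tt N798 F4835) (tt N1626 F13998) (tt N1200 F13999) (tt N1560 (iv F14079)) (tt N795 (iv D2738)))
theorem Q1204 : ∀ i, i < 1204 → P i := stepQ 1203 Q1203 (allL N1203 (tt N1551 F5063) (tt N1620 (iv F10037)) (tt N1627 D5695) (tt N796 (iv D2905)) (tt N799 F5064) (tt N1628 D5696) (tt N1629 D5697))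
theorem Q1205 : ∀ i, i < 1205 → P i := stepQ 1204 Q1204 (allL N1204 (tt N1552 F5065) (tt N1621 (iv F10039)) (tt N1559 F14012) (tt N1591 (iv F9193)) (tt N797 F5066) (tt N796 (iv D2906)) (tt N1207 (iv F5078)))
theorem Q1206 : ∀ i, i < 1206 → P i := stepQ 1205 Q1205 (allL N1205 (tt N1553 F5067) (tt N1195 (iv F14135)) (tt N1200 F14013) (tt N1184 (iv F13497)) (tt N798 F5068) (tt N1206 (iv F14015)) (tt N796 (iv D2907)))
theorem Q1207 : ∀ i, i < 1207 → P i := stepQ 1206 Q1206 (allL N1206 (tt N1215 F14014) (tt N1619 D3049) (tt N1148 (iv D1493)) (tt N1630 D3050) (tt N1207 (iv F14017)) (tt N1205 F14015) (tt N797 F14016))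
theorem Q1208 : ∀ i, i < 1208 → P i := stepQ 1207 Q1207 (allL N1207 (tt N1554 F5076) (tt N1618 (iv F13486)) (tt N1560 (iv F14078)) (tt N1209 (iv F13498)) (tt N1206 F14017) (tt N798 (iv D2910)) (tt N1204 F5078))
theorem Q1209 : ∀ i, i < 1209 → P i := stepQ 1208 Q1208 (allL N1208 (tt N1555 F5079) (tt N1631 D5701) (tt N799 (iv D2911)) (tt N1632 D5702) (tt N1627 (iv F10063)) (tt N1633 D5703) (tt N1631 (iv F14456)))
theorem Q1210 : ∀ i, i < 1210 → P i := stepQ 1209 Q1209 (allL N1209 (tt N1556 F5080) (tt N1623 (iv F10054)) (tt N1633 (iv F10081)) (tt N1207 F13498) (tt N1628 (iv F10066)) (tt N799 (iv D2912)) (tt N1634 D5705))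
theorem Q1211 : ∀ i, i < 1211 → P i := stepQ 1210 Q1210 (allL N1210 (tt N1557 F5081) (tt N1622 (iv F14425)) (tt N1631 (iv F14455)) (tt N1263 F13589) (tt N1629 (iv F10068)) (tt N1635 (iv F13718)) (tt N799 (iv D2913)))
theorem Q1212 : ∀ i, i < 1212 → P i := stepQ 1211 Q1211 (allL N1211 (tt N1558 F5082) (tt N1624 (iv F10059)) (tt N1267 F13590) (tt N800 (iv D2914)) (tt N1187 F13534) (tt N1636 D5710) (tt N1263 F13591))
theorem Q1213 : ∀ i, i < 1213 → P i := stepQ 1212 Q1212 (allL N1212 (tt N1559 F5088) (tt N1212 F5089) (tt N1552 (iv F14011)) (tt N804 F5090) (tt N802 (iv D2918)) (tt N1269 F13899) (tt N1216 (iv F5114)))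
theorem Q1214 : ∀ i, i < 1214 → P i := stepQ 1213 Q1213 (allL N1213 (tt N1471 F5096) (tt N1347 (iv F10122)) (tt N1630 F13860) (tt N803 (iv D2921)) (tt N1299 F13895) (tt N1585 (iv F14005)) (tt N1387 D5724))
theorem Q1215 : ∀ i, i < 1215 → P i := stepQ 1214 Q1214 (allL N1214 (tt N1200 F5106) (tt N1214 F5107) (tt N1553 (iv F14061)) (tt N805 (iv D2924)) (tt N1270 F13909) (tt N806 F5108) (tt N1269 F13910))
theorem Q1216 : ∀ i, i < 1216 → P i := stepQ 1215 Q1215 (allL N1215 (tt N1206 (iv F14014)) (tt N1637 (iv F5238)) (tt N806 (iv F14023)) (tt N1638 D3015) (tt N1554 (iv F2615)) (tt N1553 F2613) (tt N1139 (iv D1474)))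
theorem Q1217 : ∀ i, i < 1217 → P i := stepQ 1216 Q1216 (allL N1216 (tt N1560 F5111) (tt N1216 F5112) (tt N1554 (iv F14111)) (tt N829 F5113) (tt N806 (iv D2926)) (tt N1270 F14019) (tt N1212 F5114))
theorem Q1218 : ∀ i, i < 1218 → P i := stepQ 1217 Q1217 (allL N1217 (tt N941 F5124) (tt N944 (iv F10154)) (tt N1217 F13804) (tt N1516 D5738) (tt N808 (iv D2931)) (tt N941 (iv F14123)) (tt N970 (iv F14146)))
theorem Q1219 : ∀ i, i < 1219 → P i := stepQ 1218 Q1218 (allL N1218 (tt N1271 (iv F13751)) (tt N910 (iv F9470)) (tt N811 (iv F13911)) (tt N1639 (iv F13912)) (tt N810 F4848) (tt N809 F13730) (tt N875 (iv D2748)))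
theorem Q1220 : ∀ i, i < 1220 → P i := stepQ 1219 Q1219 (allL N1219 (tt N1561 F5134) (tt N1219 F5135) (tt N1640 D5749) (tt N811 (iv D2937)) (tt N826 F5136) (tt N1231 (iv F5186)) (tt N1641 F14025))
theorem Q1221 : ∀ i, i < 1221 → P i := stepQ 1220 Q1220 (allL N1220 (tt N1273 (iv F13750)) (tt N1220 F13903) (tt N1642 D5389) (tt N812 (iv D2757)) (tt N1643 F13557) (tt N1641 (iv F9190)) (tt N822 (iv F13908)))
theorem Q1222 : ∀ i, i < 1222 → P i := stepQ 1221 Q1221 (allL N1221 (tt N1055 (iv F5362)) (tt N816 F2656) (tt N1014 (iv F5369)) (tt N1644 (iv F2742)) (tt N814 (iv F13391)) (tt N1116 D3097) (tt N1090 (iv D1514)))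
theorem Q1223 : ∀ i, i < 1223 → P i := stepQ 1222 Q1222 (allL N1222 (tt N1103 (iv F5357)) (tt N818 F2654) (tt N1011 (iv F5367)) (tt N1611 D3092) (tt N1090 (iv D1512)) (tt N1092 D3093) (tt N814 (iv F13392)))
theorem Q1224 : ∀ i, i < 1224 → P i := stepQ 1223 Q1223 (allL N1223 (tt N1188 F5150) (tt N819 F5151) (tt N1645 D5768) (tt N815 (iv D2945)) (tt N1644 F13571) (tt N1306 (iv F13578)) (tt N1525 F13572))
theorem Q1225 : ∀ i, i < 1225 → P i := stepQ 1224 Q1224 (allL N1224 (tt N1192 F13269) (tt N1644 (iv F2741)) (tt N1646 (iv F2748)) (tt N816 F1374) (tt N819 (iv F13414)) (tt N1647 D1607) (tt N1132 (iv D763)))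
theorem Q1226 : ∀ i, i < 1226 → P i := stepQ 1225 Q1225 (allL N1225 (tt N1226 (iv F13268)) (tt N1116 (iv F5381)) (tt N1226 F13266) (tt N1498 D3122) (tt N817 F13263) (tt N816 (iv D1527)) (tt N1226 F2674))
theorem Q1227 : ∀ i, i < 1227 → P i := stepQ 1226 Q1226 (allL N1226 (tt N1225 F13268) (tt N1092 (iv F5373)) (tt N1225 (iv F13266)) (tt N1082 D3119) (tt N1080 F2669) (tt N818 (iv D1523)) (tt N1225 (iv F2674)))
theorem Q1228 : ∀ i, i < 1228 → P i := stepQ 1227 Q1227 (allL N1227 (tt N1562 F5174) (tt N1648 D5780) (tt N819 (iv D2954)) (tt N1649 F13439) (tt N1646 (iv F13413)) (tt N1650 (iv F13568)) (tt N1649 (iv F13397)))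
theorem Q1229 : ∀ i, i < 1229 → P i := stepQ 1228 Q1228 (allL N1228 (tt N1501 F13432) (tt N1306 (iv F5604)) (tt N1650 (iv F5625)) (tt N1071 D3302) (tt N1647 (iv F2754)) (tt N819 F13433) (tt N1351 (iv D1606)))
theorem Q1230 : ∀ i, i < 1230 → P i := stepQ 1229 Q1229 (allL N1229 (tt N1190 F13277) (tt N1525 (iv F2739)) (tt N1649 (iv F2746)) (tt N1524 D1602) (tt N1132 (iv D761)) (tt N1651 D1603) (tt N819 (iv F13415)))
theorem Q1231 : ∀ i, i < 1231 → P i := stepQ 1230 Q1230 (allL N1230 (tt N1462 F5182) (tt N1652 D5791) (tt N822 (iv D2960)) (tt N1459 D5792) (tt N1653 D5793) (tt N1234 (iv F5203)) (tt N1642 (iv F13904)))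
theorem Q1232 : ∀ i, i < 1232 → P i := stepQ 1231 Q1231 (allL N1231 (tt N1563 F5183) (tt N1231 F5184) (tt N1653 (iv F10286)) (tt N824 F5185) (tt N822 (iv D2961)) (tt N1219 F5186) (tt N1643 (iv F13906)))
theorem Q1233 : ∀ i, i < 1233 → P i := stepQ 1232 Q1232 (allL N1232 (tt N1564 F5189) (tt N982 (iv F10288)) (tt N1654 D5796) (tt N823 (iv D2963)) (tt N1564 F14010) (tt N1655 D5798) (tt N1656 (iv F5346)))
theorem Q1234 : ∀ i, i < 1234 → P i := stepQ 1233 Q1233 (allL N1233 (tt N1565 F5199) (tt N1233 F5200) (tt N1657 (iv F14024)) (tt N825 (iv D2966)) (tt N1641 (iv F13907)) (tt N1643 (iv F13905)) (tt N826 F5201))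
theorem Q1235 : ∀ i, i < 1235 → P i := stepQ 1234 Q1234 (allL N1234 (tt N1566 F5202) (tt N1658 D5800) (tt N826 (iv D2967)) (tt N1659 D5801) (tt N1640 (iv F10189)) (tt N1230 F5203) (tt N1657 F14120))
theorem Q1236 : ∀ i, i < 1236 → P i := stepQ 1235 Q1235 (allL N1235 (tt N1277 F5029) (tt N1429 (iv F9978)) (tt N827 F5030) (tt N1172 (iv D2878)) (tt N1660 D5638) (tt N1661 D5639) (tt N1292 (iv F13837)))
theorem Q1237 : ∀ i, i < 1237 → P i := stepQ 1236 Q1236 (allL N1236 (tt N1567 F5207) (tt N1420 (iv F10305)) (tt N1660 (iv F9983)) (tt N1662 F14263) (tt N827 (iv D2970)) (tt N1663 D5808) (tt N1293 (iv F13839)))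
theorem Q1238 : ∀ i, i < 1238 → P i := stepQ 1237 Q1237 (allL N1237 (tt N1568 F5208) (tt N921 (iv F10306)) (tt N1661 (iv F9985)) (tt N1655 (iv F10299)) (tt N1663 (iv F10314)) (tt N827 (iv D2971)) (tt N1664 D5810))
theorem Q1239 : ∀ i, i < 1239 → P i := stepQ 1238 Q1238 (allL N1238 (tt N1569 F5210) (tt N986 (iv F10147)) (tt N1329 F14261) (tt N828 (iv D2973)) (tt N1662 F14262) (tt N1569 F14009) (tt N1314 D5815))
theorem Q1240 : ∀ i, i < 1240 → P i := stepQ 1239 Q1239 (allL N1239 (tt N1493 (iv F5737)) (tt N1664 (iv F14521)) (tt N831 (iv D3316)) (tt N1493 F11866) (tt N993 D6473) (tt N992 D6474) (tt N921 (iv F14547)))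
theorem Q1241 : ∀ i, i < 1241 → P i := stepQ 1240 Q1240 (allL N1240 (tt N1096 (iv F5723)) (tt N834 F5652) (tt N993 (iv F11215)) (tt N1665 (iv F5711)) (tt N831 (iv D3317)) (tt N991 D6476) (tt N922 (iv F14153)))
theorem Q1242 : ∀ i, i < 1242 → P i := stepQ 1241 Q1241 (allL N1241 (tt N1095 (iv F5738)) (tt N835 F5653) (tt N992 (iv F11216)) (tt N1042 F5654) (tt N991 (iv F11219)) (tt N831 (iv D3318)) (tt N1004 D6478))
theorem Q1243 : ∀ i, i < 1243 → P i := stepQ 1242 Q1242 (allL N1242 (tt N1161 F2773) (tt N837 F2774) (tt N1454 D3346) (tt N832 (iv D1628)) (tt N1665 D3347) (tt N1453 D3348) (tt N1521 D3349))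
theorem Q1244 : ∀ i, i < 1244 → P i := stepQ 1243 Q1243 (allL N1243 (tt N1666 (iv F14387)) (tt N833 F5553) (tt N1664 (iv F14522)) (tt N1667 (iv D3230)) (tt N1668 D6311) (tt N1669 D6312) (tt N1661 (iv F14567)))
theorem Q1245 : ∀ i, i < 1245 → P i := stepQ 1244 Q1244 (allL N1244 (tt N1183 (iv F2702)) (tt N1667 D1575) (tt N1129 (iv D752)) (tt N833 D1576) (tt N1670 D1577) (tt N1671 D1578) (tt N1672 D1579))
theorem Q1246 : ∀ i, i < 1246 → P i := stepQ 1245 Q1245 (allL N1245 (tt N1571 F5557) (tt N1668 (iv F11029)) (tt N834 F5558) (tt N1673 (iv F10452)) (tt N833 (iv D3234)) (tt N1674 D6321) (tt N1675 D6322))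
theorem Q1247 : ∀ i, i < 1247 → P i := stepQ 1246 Q1246 (allL N1246 (tt N1572 F5559) (tt N1669 (iv F11030)) (tt N835 F5560) (tt N1676 D6323) (tt N1674 (iv F11046)) (tt N833 (iv D3235)) (tt N1506 D6324))
theorem Q1248 : ∀ i, i < 1248 → P i := stepQ 1247 Q1247 (allL N1247 (tt N1573 F5561) (tt N1661 (iv F14566)) (tt N836 F5562) (tt N1677 D6325) (tt N1675 (iv F11049)) (tt N1429 (iv F14361)) (tt N833 (iv D3236)))
theorem Q1249 : ∀ i, i < 1249 → P i := stepQ 1248 Q1248 (allL N1248 (tt N1301 F5657) (tt N1665 (iv F5710)) (tt N1678 D6483) (tt N834 (iv D3321)) (tt N837 F5658) (tt N1499 D6484) (tt N1679 (iv F14176)))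
theorem Q1250 : ∀ i, i < 1250 → P i := stepQ 1249 Q1249 (allL N1249 (tt N1574 F5659) (tt N991 (iv F11218)) (tt N1674 (iv F11045)) (tt N1122 (iv F14196)) (tt N835 F5660) (tt N834 (iv D3322)) (tt N1001 (iv F5672)))
theorem Q1251 : ∀ i, i < 1251 → P i := stepQ 1250 Q1250 (allL N1250 (tt N1575 F14125) (tt N922 (iv F11119)) (tt N1675 (iv F14154)) (tt N1651 (iv D3297)) (tt N836 F14126) (tt N1251 (iv F14155)) (tt N834 (iv F14156)))
theorem Q1252 : ∀ i, i < 1252 → P i := stepQ 1251 Q1251 (allL N1251 (tt N1576 F5663) (tt N1004 (iv F11222)) (tt N1506 (iv F11053)) (tt N1284 (iv F14170)) (tt N1001 (iv F5671)) (tt N1250 F14155) (tt N835 (iv D3324)))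
theorem Q1253 : ∀ i, i < 1253 → P i := stepQ 1252 Q1252 (allL N1252 (tt N1300 F5673) (tt N1680 (iv F14366)) (tt N837 (iv D3327)) (tt N1642 (iv F9599)) (tt N1678 (iv F11235)) (tt N1681 (iv F14335)) (tt N1682 D6492))
theorem Q1254 : ∀ i, i < 1254 → P i := stepQ 1253 Q1253 (allL N1253 (tt N1302 F5674) (tt N1453 (iv F5713)) (tt N1681 (iv F14333)) (tt N1302 F5675) (tt N1499 (iv F11238)) (tt N837 (iv D3328)) (tt N1498 F14203))
theorem Q1255 : ∀ i, i < 1255 → P i := stepQ 1254 Q1254 (allL N1254 (tt N1076 F5676) (tt N1521 (iv F5715)) (tt N1682 (iv F11256)) (tt N1067 (iv F5797)) (tt N1679 (iv F14175)) (tt N1069 (iv F14178)) (tt N837 (iv D3329)))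
theorem Q1256 : ∀ i, i < 1256 → P i := stepQ 1255 Q1255 (allL N1255 (tt N1077 F2799) (tt N879 (iv F5717)) (tt N1079 F14052) (tt N838 (iv D1654)) (tt N1353 F14053) (tt N1072 (iv F5790)) (tt N1067 D3407))
theorem Q1257 : ∀ i, i < 1257 → P i := stepQ 1256 Q1256 (allL N1256 (tt N975 (iv F13372)) (tt N1683 (iv F11141)) (tt N841 (iv D3331)) (tt N1388 D6495) (tt N1684 D6496) (tt N1685 D6497) (tt N1686 D6498))
theorem Q1258 : ∀ i, i < 1258 → P i := stepQ 1257 Q1257 (allL N1257 (tt N976 (iv F13373)) (tt N843 F5680) (tt N1684 (iv F11262)) (tt N1257 F13332) (tt N841 (iv D3332)) (tt N1687 D6499) (tt N1688 D6500))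
theorem Q1259 : ∀ i, i < 1259 → P i := stepQ 1258 Q1258 (allL N1258 (tt N977 (iv F13375)) (tt N844 F5681) (tt N1685 (iv F11263)) (tt N977 F13500) (tt N1687 (iv F11266)) (tt N841 (iv D3333)) (tt N1689 D6502))
theorem Q1260 : ∀ i, i < 1260 → P i := stepQ 1259 Q1259 (allL N1259 (tt N978 (iv F13376)) (tt N845 F5682) (tt N1686 (iv F11264)) (tt N978 F5683) (tt N1688 (iv F11268)) (tt N1690 (iv F13585)) (tt N841 (iv D3334)))
theorem Q1261 : ∀ i, i < 1261 → P i := stepQ 1260 Q1260 (allL N1260 (tt N1691 (iv F11138)) (tt N842 F5611) (tt N1683 D6407) (tt N1692 (iv D3280)) (tt N1691 (iv F13465)) (tt N1693 D6409) (tt N1694 (iv F13649)))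
theorem Q1262 : ∀ i, i < 1262 → P i := stepQ 1261 Q1261 (allL N1261 (tt N1189 (iv F2713)) (tt N1692 D1597) (tt N1132 (iv D760)) (tt N842 D1598) (tt N1649 D1599) (tt N1695 D1600) (tt N1646 D1601))
theorem Q1263 : ∀ i, i < 1263 → P i := stepQ 1262 Q1262 (allL N1262 (tt N1578 F5615) (tt N1691 (iv F13464)) (tt N843 F5616) (tt N1646 F13440) (tt N842 (iv D3284)) (tt N1608 (iv F13652)) (tt N1636 (iv F13588)))
theorem Q1264 : ∀ i, i < 1264 → P i := stepQ 1263 Q1263 (allL N1263 (tt N1579 F5617) (tt N1693 (iv F11143)) (tt N844 F5618) (tt N1210 (iv F13589)) (tt N1608 (iv F13651)) (tt N842 (iv D3285)) (tt N1211 (iv F13591)))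
theorem Q1265 : ∀ i, i < 1265 → P i := stepQ 1264 Q1264 (allL N1264 (tt N1580 F5497) (tt N1694 (iv F10893)) (tt N845 F13501) (tt N1636 (iv F10099)) (tt N1636 (iv F13592)) (tt N1187 (iv D3194)) (tt N842 F13502))
theorem Q1266 : ∀ i, i < 1266 → P i := stepQ 1265 Q1265 (allL N1265 (tt N1581 F5687) (tt N1687 (iv F11265)) (tt N1608 (iv F13650)) (tt N1696 D6509) (tt N844 F5688) (tt N843 (iv D3337)) (tt N1268 (iv F13505)))
theorem Q1267 : ∀ i, i < 1267 → P i := stepQ 1266 Q1266 (allL N1266 (tt N1582 F5689) (tt N1688 (iv F11267)) (tt N1636 (iv F13587)) (tt N1697 D6510) (tt N845 F5690) (tt N1267 (iv F5697)) (tt N843 (iv D3338)))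
theorem Q1268 : ∀ i, i < 1268 → P i := stepQ 1267 Q1267 (allL N1267 (tt N1583 F5696) (tt N1689 (iv F11273)) (tt N1211 (iv F13590)) (tt N1698 D6511) (tt N1268 (iv F13503)) (tt N1266 F5697) (tt N844 (iv D3340)))
theorem Q1269 : ∀ i, i < 1269 → P i := stepQ 1268 Q1268 (allL N1268 (tt N1584 F5495) (tt N1690 D6244) (tt N1187 (iv D3192)) (tt N1589 (iv F14002)) (tt N1267 F13503) (tt N845 F13504) (tt N1265 F13505))
theorem Q1270 : ∀ i, i < 1270 → P i := stepQ 1269 Q1269 (allL N1269 (tt N1201 (iv F4830)) (tt N1269 F14021) (tt N1138 F2607) (tt N1641 D3003) (tt N846 (iv D1468)) (tt N1212 (iv F13899)) (tt N1214 (iv F13910)))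
theorem Q1271 : ∀ i, i < 1271 → P i := stepQ 1270 Q1270 (allL N1270 (tt N1202 (iv F4834)) (tt N1270 F14022) (tt N1140 F2609) (tt N1643 D3008) (tt N1214 (iv F13909)) (tt N1216 (iv F14019)) (tt N846 (iv D1470)))
theorem Q1272 : ∀ i, i < 1272 → P i := stepQ 1271 Q1271 (allL N1271 (tt N1218 F13751) (tt N980 F13929) (tt N1151 F2639) (tt N1656 D3075) (tt N851 F2640) (tt N1150 (iv D1504)) (tt N847 F2641))
theorem Q1273 : ∀ i, i < 1273 → P i := stepQ 1272 Q1272 (allL N1272 (tt N1585 (iv F14004)) (tt N981 (iv F10529)) (tt N1699 (iv F14020)) (tt N848 F13819) (tt N865 F13820) (tt N1471 (iv D3046)) (tt N1700 D5958))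
theorem Q1274 : ∀ i, i < 1274 → P i := stepQ 1273 Q1273 (allL N1273 (tt N1220 F13750) (tt N1565 (iv F2686)) (tt N1701 D3080) (tt N849 (iv D1508)) (tt N1626 D3081) (tt N1625 (iv F5350)) (tt N1153 F2647))
theorem Q1275 : ∀ i, i < 1275 → P i := stepQ 1274 Q1274 (allL N1274 (tt N1274 F13598) (tt N855 F14397) (tt N852 (iv D4585)) (tt N1274 F14579) (tt N1702 F14398) (tt N852 F14399) (tt N1303 F13602))
theorem Q1276 : ∀ i, i < 1276 → P i := stepQ 1275 Q1275 (allL N1275 (tt N1275 F13599) (tt N854 F8270) (tt N1702 (iv F14582)) (tt N1304 F13600) (tt N852 (iv D4586)) (tt N1702 F13603) (tt N1304 F13604))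
theorem Q1277 : ∀ i, i < 1277 → P i := stepQ 1276 Q1276 (allL N1276 (tt N1588 (iv F14339)) (tt N853 (iv D4591)) (tt N855 F14322) (tt N1703 F8280) (tt N1704 F13692) (tt N853 F14323) (tt N1586 F13799))
theorem Q1278 : ∀ i, i < 1278 → P i := stepQ 1277 Q1277 (allL N1277 (tt N1235 (iv F5029)) (tt N1703 D3158) (tt N1158 (iv D1546)) (tt N853 (iv F4218)) (tt N1705 D3159) (tt N1706 D3160) (tt N1595 D3161))
theorem Q1279 : ∀ i, i < 1279 → P i := stepQ 1278 Q1278 (allL N1278 (tt N1587 F8281) (tt N1704 F13693) (tt N854 F8282) (tt N1707 F14276) (tt N853 (iv D4592)) (tt N1704 (iv F14342)) (tt N1587 F13801))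
theorem Q1280 : ∀ i, i < 1280 → P i := stepQ 1279 Q1279 (allL N1279 (tt N1280 (iv F13689)) (tt N1702 (iv F9962)) (tt N1704 (iv F14340)) (tt N1708 D5653) (tt N855 F13687) (tt N854 F13688) (tt N1174 (iv D2885)))
theorem Q1281 : ∀ i, i < 1281 → P i := stepQ 1280 Q1280 (allL N1280 (tt N1279 F13689) (tt N1303 (iv F14381)) (tt N1586 F14357) (tt N1709 D5651) (tt N1174 F5035) (tt N1173 (iv D2883)) (tt N855 F13690))
theorem Q1282 : ∀ i, i < 1282 → P i := stepQ 1281 Q1281 (allL N1281 (tt N1397 (iv F14900)) (tt N1021 (iv F14929)) (tt N1339 (iv F14935)) (tt N946 D7198) (tt N858 (iv D4626)) (tt N1449 D7199) (tt N1520 D7200))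
theorem Q1283 : ∀ i, i < 1283 → P i := stepQ 1282 Q1282 (allL N1282 (tt N1398 (iv F14901)) (tt N1022 (iv F14930)) (tt N1341 (iv F14937)) (tt N1427 D7202) (tt N1520 (iv F14940)) (tt N1519 D7203) (tt N858 (iv D4628)))
theorem Q1284 : ∀ i, i < 1284 → P i := stepQ 1283 Q1283 (allL N1283 (tt N1589 (iv F14001)) (tt N1710 (iv F11090)) (tt N862 F13831) (tt N1584 (iv D3261)) (tt N1084 D6368) (tt N1589 (iv F14003)) (tt N1352 D6370))
theorem Q1285 : ∀ i, i < 1285 → P i := stepQ 1284 Q1284 (allL N1284 (tt N1590 (iv F13508)) (tt N1431 (iv F10633)) (tt N863 F13511) (tt N1251 F14170) (tt N863 F5631) (tt N1524 (iv D3295)) (tt N1590 (iv F5641)))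
theorem Q1286 : ∀ i, i < 1286 → P i := stepQ 1285 Q1285 (allL N1285 (tt N1106 (iv F2719)) (tt N1430 (iv F2649)) (tt N1524 F13408) (tt N1133 (iv D764)) (tt N1524 (iv F2749)) (tt N863 D1609) (tt N1486 D1610))
theorem Q1287 : ∀ i, i < 1287 → P i := stepQ 1286 Q1286 (allL N1286 (tt N1290 (iv F13971)) (tt N1045 (iv F14592)) (tt N1711 D7225) (tt N864 (iv D4690)) (tt N1179 F13925) (tt N1712 F14591) (tt N866 F8439))
theorem Q1288 : ∀ i, i < 1288 → P i := stepQ 1287 Q1287 (allL N1287 (tt N1591 F9191) (tt N1713 (iv F10390)) (tt N865 F9192) (tt N1552 (iv D3013)) (tt N1699 (iv F5575)) (tt N1470 (iv F10465)) (tt N1714 D5897))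
theorem Q1289 : ∀ i, i < 1289 → P i := stepQ 1288 Q1288 (allL N1288 (tt N1592 (iv F9104)) (tt N1408 (iv F14961)) (tt N1714 (iv F10468)) (tt N1297 (iv F8445)) (tt N1700 F13834) (tt N1406 F13835) (tt N865 (iv D4692)))
theorem Q1290 : ∀ i, i < 1290 → P i := stepQ 1289 Q1289 (allL N1289 (tt N1593 (iv F9105)) (tt N1289 F14597) (tt N866 (iv D4693)) (tt N1715 D7226) (tt N1716 D7227) (tt N1717 D7228) (tt N1711 (iv F15004)))
theorem Q1291 : ∀ i, i < 1291 → P i := stepQ 1290 Q1290 (allL N1290 (tt N1286 F13971) (tt N1065 (iv F14910)) (tt N1716 (iv F15012)) (tt N868 F8440) (tt N866 (iv D4694)) (tt N1718 D7229) (tt N1179 F13972))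
theorem Q1292 : ∀ i, i < 1292 → P i := stepQ 1291 Q1291 (allL N1291 (tt N1594 (iv F9108)) (tt N1424 (iv F14964)) (tt N1717 (iv F15016)) (tt N1294 (iv F8441)) (tt N1718 (iv F15020)) (tt N866 (iv D4695)) (tt N1594 (iv F14270)))
theorem Q1293 : ∀ i, i < 1293 → P i := stepQ 1292 Q1292 (allL N1292 (tt N1595 (iv F14006)) (tt N1674 F14553) (tt N867 (iv D4696)) (tt N1595 F14554) (tt N1669 (iv F14555)) (tt N1668 (iv F14556)) (tt N1235 F13837))
theorem Q1294 : ∀ i, i < 1294 → P i := stepQ 1293 Q1293 (allL N1293 (tt N1596 (iv F14007)) (tt N992 (iv F14551)) (tt N1669 (iv F14559)) (tt N1296 (iv F8444)) (tt N867 (iv D4697)) (tt N1664 F13838) (tt N1236 F13839))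
theorem Q1295 : ∀ i, i < 1295 → P i := stepQ 1294 Q1294 (allL N1294 (tt N1597 (iv F14008)) (tt N993 (iv F14575)) (tt N1668 F14574) (tt N1291 F8441) (tt N1664 F13840) (tt N867 (iv D4698)) (tt N1663 F13841))
theorem Q1296 : ∀ i, i < 1296 → P i := stepQ 1295 Q1295 (allL N1295 (tt N1450 (iv F9120)) (tt N1719 F14578) (tt N869 (iv D4702)) (tt N1720 (iv F14507)) (tt N1719 F14279) (tt N1459 (iv F14513)) (tt N1721 D7232))
theorem Q1297 : ∀ i, i < 1297 → P i := stepQ 1296 Q1296 (allL N1296 (tt N1451 (iv F9121)) (tt N1423 (iv F14969)) (tt N1719 (iv F14278)) (tt N1293 F8444) (tt N869 (iv D4703)) (tt N1460 (iv F15022)) (tt N1722 D7233))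
theorem Q1298 : ∀ i, i < 1298 → P i := stepQ 1297 Q1297 (allL N1297 (tt N1405 (iv F9123)) (tt N1425 (iv F14972)) (tt N1721 (iv F15026)) (tt N1288 F8445) (tt N1722 (iv F15031)) (tt N1403 F14529) (tt N869 (iv D4704)))
theorem Q1299 : ∀ i, i < 1299 → P i := stepQ 1298 Q1298 (allL N1298 (tt N1127 (iv F13915)) (tt N1124 (iv F15053)) (tt N1298 F13892) (tt N1499 (iv F14290)) (tt N1127 F13893) (tt N1122 F13894) (tt N871 (iv D4732)))
theorem Q1300 : ∀ i, i < 1300 → P i := stepQ 1299 Q1299 (allL N1299 (tt N1039 (iv F13924)) (tt N1437 F14639) (tt N1723 F14702) (tt N873 (iv D4736)) (tt N1213 (iv F13895)) (tt N1178 F13979) (tt N1724 D7240))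
theorem Q1301 : ∀ i, i < 1301 → P i := stepQ 1300 Q1300 (allL N1300 (tt N1252 (iv F5673)) (tt N1725 D3390) (tt N876 (iv D1647)) (tt N1701 (iv F13928)) (tt N1726 (iv F5759)) (tt N1727 D3392) (tt N1502 D3393))
theorem Q1302 : ∀ i, i < 1302 → P i := stepQ 1301 Q1301 (allL N1301 (tt N1248 (iv F5657)) (tt N1096 (iv F5724)) (tt N1726 D3380) (tt N1163 (iv D1641)) (tt N876 F2792) (tt N1083 D3381) (tt N1503 D3382))
theorem Q1303 : ∀ i, i < 1303 → P i := stepQ 1302 Q1302 (allL N1302 (tt N1253 (iv F5674)) (tt N1095 (iv F5739)) (tt N1727 (iv F5776)) (tt N1253 (iv F5675)) (tt N1083 (iv F5761)) (tt N876 (iv D1648)) (tt N1082 F14194))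
theorem Q1304 : ∀ i, i < 1304 → P i := stepQ 1303 Q1303 (allL N1303 (tt N1303 F13458) (tt N1280 F14381) (tt N880 (iv D2869)) (tt N1728 D5617) (tt N1305 (iv F14394)) (tt N1304 (iv F14396)) (tt N1274 (iv F13602)))
theorem Q1305 : ∀ i, i < 1305 → P i := stepQ 1304 Q1304 (allL N1304 (tt N1304 F13459) (tt N1173 F5015) (tt N1305 F14395) (tt N1275 (iv F13600)) (tt N880 (iv D2870)) (tt N1303 F14396) (tt N1275 (iv F13604)))
theorem Q1306 : ∀ i, i < 1306 → P i := stepQ 1305 Q1305 (allL N1305 (tt N1305 F13460) (tt N1174 F5016) (tt N1304 (iv F14395)) (tt N1305 F13597) (tt N1303 F14394) (tt N880 (iv D2871)) (tt N1702 D5624))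
theorem Q1307 : ∀ i, i < 1307 → P i := stepQ 1306 Q1306 (allL N1306 (tt N950 F13577) (tt N1228 F5604) (tt N1729 (iv F11114)) (tt N881 D6396) (tt N1730 (iv F5607)) (tt N1223 F13578) (tt N920 (iv D3274)))
theorem Q1308 : ∀ i, i < 1308 → P i := stepQ 1307 Q1307 (allL N1307 (tt N926 F16297) (tt N893 F16298) (tt N1731 F16299) (tt N883 (iv D7568)) (tt N1327 (iv F16312)) (tt N893 F16300) (tt N1328 F16301))
theorem Q1309 : ∀ i, i < 1309 → P i := stepQ 1308 Q1308 (allL N1308 (tt N927 F16078) (tt N894 F16079) (tt N1496 F16080) (tt N884 (iv F16188)) (tt N1333 F16081) (tt N1335 (iv D7514)) (tt N894 F16082))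
theorem Q1310 : ∀ i, i < 1310 → P i := stepQ 1309 Q1309 (allL N1309 (tt N952 F16332) (tt N1732 F16333) (tt N885 F16334) (tt N1325 (iv F16349)) (tt N1326 F16335) (tt N889 (iv D7575)) (tt N1325 (iv F16351)))
theorem Q1311 : ∀ i, i < 1311 → P i := stepQ 1310 Q1310 (allL N1310 (tt N953 F16302) (tt N898 F16303) (tt N1399 F16304) (tt N886 (iv D7569)) (tt N1319 F16305) (tt N1328 F16306) (tt N1318 F16307))
theorem Q1312 : ∀ i, i < 1312 → P i := stepQ 1311 Q1311 (allL N1311 (tt N955 F14728) (tt N902 D7249) (tt N1033 (iv D5073)) (tt N888 (iv F14729)) (tt N1322 D7250) (tt N1321 D7251) (tt N1335 D7252))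
theorem Q1313 : ∀ i, i < 1313 → P i := stepQ 1312 Q1312 (allL N1312 (tt N1338 (iv F16336)) (tt N889 (iv D7573)) (tt N903 F16322) (tt N1373 (iv F16430)) (tt N1336 F16325) (tt N1732 (iv F16324)) (tt N903 F16323))
theorem Q1314 : ∀ i, i < 1314 → P i := stepQ 1313 Q1313 (allL N1313 (tt N958 F16326) (tt N1336 F16327) (tt N890 F16328) (tt N1733 F16329) (tt N889 (iv D7574)) (tt N1326 F16331) (tt N905 F16330))
theorem Q1315 : ∀ i, i < 1315 → P i := stepQ 1314 Q1314 (allL N1314 (tt N1345 F10327) (tt N891 (iv F15268)) (tt N906 F14267) (tt N1700 (iv F10541)) (tt N1343 (iv F14264)) (tt N906 F14105) (tt N1238 (iv D5815)))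
theorem Q1316 : ∀ i, i < 1316 → P i := stepQ 1315 Q1315 (allL N1315 (tt N960 (iv F15251)) (tt N1700 (iv F15262)) (tt N1410 (iv D6667)) (tt N891 (iv F15270)) (tt N1408 (iv F15263)) (tt N1041 (iv F15375)) (tt N981 F15261))
theorem Q1317 : ∀ i, i < 1317 → P i := stepQ 1316 Q1316 (allL N1316 (tt N961 F15402) (tt N1343 F15403) (tt N892 (iv F15819)) (tt N1734 (iv F16004)) (tt N891 F15404) (tt N908 (iv D7326)) (tt N1332 F15405))
theorem Q1318 : ∀ i, i < 1318 → P i := stepQ 1317 Q1317 (allL N1317 (tt N928 (iv F16278)) (tt N1735 (iv F16409)) (tt N893 F16226) (tt N1531 F16227) (tt N1736 (iv D7551)) (tt N1731 F16228) (tt N969 (iv F16229)))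
theorem Q1319 : ∀ i, i < 1319 → P i := stepQ 1318 Q1318 (allL N1318 (tt N929 F16223) (tt N1327 (iv F16309)) (tt N1736 (iv D7550)) (tt N896 F16224) (tt N893 (iv F16225)) (tt N1327 (iv F16313)) (tt N1310 (iv F16307)))
theorem Q1320 : ∀ i, i < 1320 → P i := stepQ 1319 Q1319 (allL N1319 (tt N930 (iv F16282)) (tt N1328 (iv F16076)) (tt N969 F16069) (tt N1322 (iv D7511)) (tt N1310 (iv F16305)) (tt N898 (iv F16070)) (tt N893 (iv F16184)))
theorem Q1321 : ∀ i, i < 1321 → P i := stepQ 1320 Q1320 (allL N1320 (tt N931 (iv F15448)) (tt N1532 (iv F16059)) (tt N894 (iv F16072)) (tt N1109 D7516) (tt N1458 F15110) (tt N1457 (iv D7254)) (tt N1496 (iv F15120)))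
theorem Q1322 : ∀ i, i < 1322 → P i := stepQ 1321 Q1321 (allL N1321 (tt N932 F15099) (tt N1333 (iv F16065)) (tt N1458 F15100) (tt N900 (iv F15101)) (tt N894 (iv F16074)) (tt N1311 (iv D7251)) (tt N1333 (iv F16068)))
theorem Q1323 : ∀ i, i < 1323 → P i := stepQ 1322 Q1322 (allL N1322 (tt N933 (iv F15771)) (tt N1335 F15104) (tt N1457 F15098) (tt N1319 D7511) (tt N1311 (iv D7250)) (tt N894 D7512) (tt N902 (iv F15106)))
theorem Q1324 : ∀ i, i < 1324 → P i := stepQ 1323 Q1323 (allL N1323 (tt N1737 F16123) (tt N895 F16124) (tt N1732 (iv F16197)) (tt N1738 (iv D7523)) (tt N1739 (iv F16195)) (tt N903 (iv F16126)) (tt N1737 F16125))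
theorem Q1325 : ∀ i, i < 1325 → P i := stepQ 1324 Q1324 (allL N1324 (tt N935 F15685) (tt N1738 F15686) (tt N1689 F15687) (tt N895 (iv F15852)) (tt N1740 F15688) (tt N1741 F15689) (tt N1685 (iv D7413)))
theorem Q1326 : ∀ i, i < 1326 → P i := stepQ 1325 Q1325 (allL N1325 (tt N936 F16346) (tt N1739 F16347) (tt N896 F16348) (tt N1309 F16349) (tt N895 F16350) (tt N905 (iv D7578)) (tt N1309 F16351))
theorem Q1327 : ∀ i, i < 1327 → P i := stepQ 1326 Q1326 (allL N1326 (tt N937 F16191) (tt N1737 F16192) (tt N897 F16194) (tt N1740 (iv D7540)) (tt N1309 (iv F16335)) (tt N1313 (iv F16331)) (tt N895 F16193))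
theorem Q1328 : ∀ i, i < 1328 → P i := stepQ 1327 Q1327 (allL N1327 (tt N938 F16308) (tt N1318 F16309) (tt N1385 F16310) (tt N897 F16311) (tt N1307 F16312) (tt N1318 F16313) (tt N898 (iv D7570)))
theorem Q1329 : ∀ i, i < 1329 → P i := stepQ 1328 Q1328 (allL N1328 (tt N940 F16075) (tt N1319 F16076) (tt N1384 (iv F16361)) (tt N1335 (iv D7513)) (tt N898 F16077) (tt N1310 (iv F16306)) (tt N1307 (iv F16301)))
theorem Q1330 : ∀ i, i < 1330 → P i := stepQ 1329 Q1329 (allL N1329 (tt N1662 (iv F14259)) (tt N899 (iv F10551)) (tt N1238 (iv F14261)) (tt N1567 (iv D3162)) (tt N1569 F5457) (tt N1662 (iv F14260)) (tt N906 D6196))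
theorem Q1331 : ∀ i, i < 1331 → P i := stepQ 1330 Q1330 (allL N1330 (tt N942 (iv F10561)) (tt N1567 F5444) (tt N1102 (iv F10829)) (tt N899 (iv F10552)) (tt N1422 (iv D3153)) (tt N1742 D6176) (tt N1452 D6177))
theorem Q1332 : ∀ i, i < 1332 → P i := stepQ 1331 Q1331 (allL N1331 (tt N943 F5316) (tt N1569 F5317) (tt N900 D5968) (tt N985 (iv D3052)) (tt N899 D5969) (tt N986 (iv F14071)) (tt N908 D5971))
theorem Q1333 : ∀ i, i < 1333 → P i := stepQ 1332 Q1332 (allL N1332 (tt N944 F14272) (tt N1662 (iv D6204)) (tt N901 (iv F15385)) (tt N1420 F14268) (tt N986 (iv F14271)) (tt N899 F14273) (tt N1316 (iv F15405)))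
theorem Q1334 : ∀ i, i < 1334 → P i := stepQ 1333 Q1333 (allL N1333 (tt N945 F16064) (tt N1321 F16065) (tt N1743 F16066) (tt N901 F16067) (tt N1308 (iv F16081)) (tt N902 (iv D7510)) (tt N1321 F16068))
theorem Q1335 : ∀ i, i < 1335 → P i := stepQ 1334 Q1334 (allL N1334 (tt N946 F15111) (tt N1118 F15112) (tt N902 F15113) (tt N1397 (iv F15115)) (tt N1066 F15114) (tt N1743 (iv F15116)) (tt N1457 (iv D7255)))
theorem Q1336 : ∀ i, i < 1336 → P i := stepQ 1335 Q1335 (allL N1335 (tt N947 F15102) (tt N1322 (iv F15104)) (tt N1066 F15103) (tt N1328 D7513) (tt N902 F15105) (tt N1308 D7514) (tt N1311 (iv D7252)))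
theorem Q1337 : ∀ i, i < 1337 → P i := stepQ 1336 Q1336 (allL N1336 (tt N903 F16200) (tt N1313 (iv F16327)) (tt N1338 (iv F16338)) (tt N1744 (iv F16201)) (tt N1312 (iv F16325)) (tt N1737 (iv D7543)) (tt N1338 (iv F16340)))
theorem Q1338 : ∀ i, i < 1338 → P i := stepQ 1337 Q1337 (allL N1337 (tt N1744 D7481) (tt N904 (iv D7194)) (tt N1441 (iv F15922)) (tt N903 (iv F15847)) (tt N1745 D7482) (tt N1746 D7483) (tt N1747 D7484))
theorem Q1339 : ∀ i, i < 1339 → P i := stepQ 1338 Q1338 (allL N1338 (tt N1312 F16336) (tt N905 F16337) (tt N1336 F16338) (tt N1748 D7597) (tt N903 (iv D7576)) (tt N1739 F16339) (tt N1336 F16340))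
theorem Q1340 : ∀ i, i < 1340 → P i := stepQ 1339 Q1339 (allL N1339 (tt N966 (iv F15869)) (tt N1745 (iv F15945)) (tt N1281 F14935) (tt N1382 D7485) (tt N904 (iv D7195)) (tt N1442 F15928) (tt N1749 F15087))
theorem Q1341 : ∀ i, i < 1341 → P i := stepQ 1340 Q1340 (allL N1340 (tt N967 (iv F15790)) (tt N1746 (iv F15947)) (tt N1027 F14936) (tt N1741 (iv F15683)) (tt N1442 (iv F15926)) (tt N904 (iv D7196)) (tt N1518 F15628))
theorem Q1342 : ∀ i, i < 1342 → P i := stepQ 1341 Q1341 (allL N1341 (tt N968 (iv F15545)) (tt N1747 (iv F15948)) (tt N1282 F14937) (tt N1372 D7486) (tt N1749 F15086) (tt N1750 F15332) (tt N904 (iv D7197)))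
theorem Q1343 : ∀ i, i < 1343 → P i := stepQ 1342 Q1342 (allL N1342 (tt N969 F16341) (tt N1748 (iv F16434)) (tt N930 F16342) (tt N905 (iv D7577)) (tt N1382 F16343) (tt N939 (iv F16345)) (tt N928 F16344))
theorem Q1344 : ∀ i, i < 1344 → P i := stepQ 1343 Q1343 (allL N1343 (tt N906 (iv F14266)) (tt N1316 (iv F15403)) (tt N1345 F10865) (tt N1722 (iv F15030)) (tt N1314 F14264) (tt N1345 F14265) (tt N1662 (iv D6207)))
theorem Q1345 : ∀ i, i < 1345 → P i := stepQ 1344 Q1344 (allL N1344 (tt N1722 F15184) (tt N907 (iv F16101)) (tt N1751 (iv F15504)) (tt N906 F15185) (tt N1405 F15186) (tt N1037 F15187) (tt N1451 (iv D7277)))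
theorem Q1346 : ∀ i, i < 1346 → P i := stepQ 1345 Q1345 (allL N1345 (tt N1314 (iv F10327)) (tt N908 (iv F10556)) (tt N1343 (iv F10865)) (tt N1752 (iv F14098)) (tt N906 (iv F10858)) (tt N1343 (iv F14265)) (tt N1569 (iv D3170)))
theorem Q1347 : ∀ i, i < 1347 → P i := stepQ 1346 Q1346 (allL N1346 (tt N974 F15194) (tt N1752 F15195) (tt N1753 (iv F15637)) (tt N908 F15196) (tt N1390 F15197) (tt N1389 (iv F15622)) (tt N1421 (iv D7280)))
theorem Q1348 : ∀ i, i < 1348 → P i := stepQ 1347 Q1347 (allL N1347 (tt N981 (iv F10528)) (tt N1213 F10122) (tt N1754 F14645) (tt N909 (iv D5719)) (tt N1437 F14640) (tt N1421 (iv F13936)) (tt N960 D7292))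
theorem Q1349 : ∀ i, i < 1349 → P i := stepQ 1348 Q1348 (allL N1348 (tt N982 F10805) (tt N1639 F10806) (tt N1755 (iv F15514)) (tt N910 (iv F13886)) (tt N1416 (iv F14708)) (tt N1515 D7358) (tt N1419 (iv D6154)))
theorem Q1350 : ∀ i, i < 1350 → P i := stepQ 1349 Q1349 (allL N1349 (tt N917 F9082) (tt N1012 (iv F15140)) (tt N1756 (iv F15156)) (tt N913 F14709) (tt N1105 (iv F15000)) (tt N1078 (iv F14997)) (tt N1176 (iv D5113)))
theorem Q1351 : ∀ i, i < 1351 → P i := stepQ 1350 Q1350 (allL N1350 (tt N918 (iv F13850)) (tt N951 (iv F5745)) (tt N1350 F13752) (tt N1079 (iv F5782)) (tt N1166 (iv D1652)) (tt N913 D3403) (tt N948 (iv F13943)))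
theorem Q1352 : ∀ i, i < 1352 → P i := stepQ 1351 Q1351 (allL N1351 (tt N1191 (iv F2716)) (tt N920 (iv F2740)) (tt N1695 (iv F2747)) (tt N915 D1605) (tt N1651 (iv F2750)) (tt N1132 (iv D762)) (tt N1228 D1606))
theorem Q1353 : ∀ i, i < 1353 → P i := stepQ 1352 Q1352 (allL N1352 (tt N1756 (iv F15154)) (tt N1483 (iv F15585)) (tt N917 (iv F14711)) (tt N1757 F13761) (tt N1504 (iv F15588)) (tt N1484 D7384) (tt N1283 (iv D6370)))
theorem Q1354 : ∀ i, i < 1354 → P i := stepQ 1353 Q1353 (allL N1353 (tt N1079 F14048) (tt N923 (iv F14080)) (tt N1077 (iv D3397)) (tt N918 F14049) (tt N1255 (iv F14053)) (tt N1068 (iv F14088)) (tt N1071 F13717))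
theorem Q1355 : ∀ i, i < 1355 → P i := stepQ 1354 Q1354 (allL N1354 (tt N1511 (iv F2657)) (tt N1132 F1371) (tt N1758 D1592) (tt N919 (iv D758)) (tt N1525 D1593) (tt N920 D1594) (tt N1644 D1595))
theorem Q1356 : ∀ i, i < 1356 → P i := stepQ 1355 Q1355 (allL N1355 (tt N1512 (iv F10689)) (tt N1759 (iv F11106)) (tt N920 F5596) (tt N1749 D6387) (tt N1760 (iv F11111)) (tt N1758 (iv D3269)) (tt N1729 D6388))
theorem Q1357 : ∀ i, i < 1357 → P i := stepQ 1356 Q1356 (allL N1356 (tt N1513 (iv F10676)) (tt N1651 F5598) (tt N1760 (iv F11110)) (tt N922 D6391) (tt N920 F5599) (tt N1525 (iv D3271)) (tt N1730 (iv F5608)))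
theorem Q1358 : ∀ i, i < 1358 → P i := stepQ 1357 Q1357 (allL N1357 (tt N1515 (iv F15517)) (tt N1655 F15317) (tt N1761 (iv F15706)) (tt N921 F15318) (tt N1762 F15319) (tt N982 (iv D7306)) (tt N1515 (iv F15522)))
theorem Q1359 : ∀ i, i < 1359 → P i := stepQ 1358 Q1358 (allL N1358 (tt N1495 F15326) (tt N1663 F15327) (tt N922 F15328) (tt N1742 F15329) (tt N921 F15330) (tt N1420 (iv D7308)) (tt N993 F15331))
theorem Q1360 : ∀ i, i < 1360 → P i := stepQ 1359 Q1359 (allL N1359 (tt N1521 (iv F5714)) (tt N1165 F2781) (tt N1377 (iv F5722)) (tt N924 D3360) (tt N1763 (iv F5729)) (tt N1376 D3361) (tt N1161 (iv D1633)))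
theorem Q1361 : ∀ i, i < 1361 → P i := stepQ 1360 Q1360 (allL N1360 (tt N1731 (iv F16170)) (tt N1764 (iv F16273)) (tt N926 (iv F15763)) (tt N1760 (iv D7399)) (tt N1372 (iv F15953)) (tt N928 (iv F16281)) (tt N1374 (iv F16098)))
theorem Q1362 : ∀ i, i < 1362 → P i := stepQ 1361 Q1361 (allL N1361 (tt N1496 (iv F15117)) (tt N1017 (iv F15291)) (tt N927 D7336) (tt N1091 (iv D6053)) (tt N1378 D7337) (tt N998 F14620) (tt N931 D7338))
theorem Q1363 : ∀ i, i < 1363 → P i := stepQ 1362 Q1362 (allL N1362 (tt N1765 F16424) (tt N928 F16425) (tt N1362 F16426) (tt N1766 (iv D7595)) (tt N1767 F16427) (tt N1764 F16428) (tt N1748 (iv F16438)))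
theorem Q1364 : ∀ i, i < 1364 → P i := stepQ 1363 Q1363 (allL N1363 (tt N1531 (iv F16167)) (tt N1766 (iv F16269)) (tt N1446 (iv F15937)) (tt N928 D7564) (tt N1768 (iv F15642)) (tt N1444 (iv D7398)) (tt N1733 (iv F16086)))
theorem Q1365 : ∀ i, i < 1365 → P i := stepQ 1364 Q1364 (allL N1364 (tt N1736 F15638) (tt N1767 (iv F16276)) (tt N929 (iv F15890)) (tt N1729 (iv D7400)) (tt N928 (iv F16280)) (tt N1372 (iv F15954)) (tt N1382 (iv F15951)))
theorem Q1366 : ∀ i, i < 1366 → P i := stepQ 1365 Q1365 (allL N1365 (tt N934 (iv F15342)) (tt N937 (iv F15571)) (tt N1365 F14802) (tt N1769 (iv D6302)) (tt N1381 D7377) (tt N962 D7378) (tt N934 (iv F15345)))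
theorem Q1367 : ∀ i, i < 1367 → P i := stepQ 1366 Q1366 (allL N1366 (tt N1769 F10411) (tt N935 F14499) (tt N1770 (iv D5862)) (tt N934 D7312) (tt N1769 F13700) (tt N1771 D7313) (tt N1772 (iv F14492)))
theorem Q1368 : ∀ i, i < 1368 → P i := stepQ 1367 Q1367 (allL N1367 (tt N1381 F16152) (tt N936 F16153) (tt N1367 F16154) (tt N1381 F16155) (tt N934 (iv D7529)) (tt N964 F16156) (tt N1381 F16157))
theorem Q1369 : ∀ i, i < 1369 → P i := stepQ 1368 Q1368 (allL N1368 (tt N1689 F13518) (tt N1583 F5830) (tt N935 (iv F11565)) (tt N1773 D6686) (tt N1415 F13622) (tt N1414 F5831) (tt N977 (iv D3428)))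
theorem Q1370 : ∀ i, i < 1370 → P i := stepQ 1369 Q1369 (allL N1369 (tt N1740 F15531) (tt N1769 (iv D6301)) (tt N1415 F11016) (tt N937 D7376) (tt N935 F13664) (tt N1412 F13665) (tt N1774 F13666))
theorem Q1371 : ∀ i, i < 1371 → P i := stepQ 1370 Q1370 (allL N1370 (tt N1741 (iv F15681)) (tt N1771 (iv F15348)) (tt N1414 F11563) (tt N967 D7437) (tt N1412 F11564) (tt N935 (iv F11566)) (tt N1411 (iv D6673)))
theorem Q1372 : ∀ i, i < 1372 → P i := stepQ 1371 Q1371 (allL N1371 (tt N1685 F13514) (tt N1772 (iv F11557)) (tt N977 F5819) (tt N1774 (iv F14495)) (tt N1774 (iv F11562)) (tt N975 (iv D3422)) (tt N935 D6675))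
theorem Q1373 : ∀ i, i < 1373 → P i := stepQ 1372 Q1372 (allL N1372 (tt N1385 (iv F16219)) (tt N1765 (iv F16374)) (tt N938 F15955) (tt N1341 (iv D7486)) (tt N1360 F15953) (tt N1364 F15954) (tt N939 (iv F16290)))
theorem Q1374 : ∀ i, i < 1374 → P i := stepQ 1373 Q1373 (allL N1373 (tt N1748 (iv F16433)) (tt N939 (iv D7596)) (tt N1373 F16429) (tt N1312 F16430) (tt N1775 F16431) (tt N1748 (iv F16437)) (tt N1765 F16432))
theorem Q1375 : ∀ i, i < 1375 → P i := stepQ 1374 Q1374 (allL N1374 (tt N1384 (iv F16360)) (tt N1775 (iv F16389)) (tt N940 F16099) (tt N1438 (iv D7518)) (tt N939 (iv F16289)) (tt N1382 F16097) (tt N1360 F16098))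
theorem Q1376 : ∀ i, i < 1376 → P i := stepQ 1375 Q1375 (allL N1375 (tt N1516 (iv F10167)) (tt N942 (iv F10562)) (tt N1707 D6000) (tt N941 (iv D3066)) (tt N1469 F5339) (tt N1776 D6001) (tt N1465 D6002))
theorem Q1377 : ∀ i, i < 1377 → P i := stepQ 1376 Q1376 (allL N1376 (tt N1102 (iv F14299)) (tt N1428 F5734) (tt N942 (iv F14312)) (tt N1008 (iv F14161)) (tt N1475 F5735) (tt N1359 (iv D3361)) (tt N1472 F5736))
theorem Q1378 : ∀ i, i < 1378 → P i := stepQ 1377 Q1377 (allL N1377 (tt N1742 (iv F14350)) (tt N1776 (iv F14379)) (tt N1359 F5722) (tt N1495 D6544) (tt N1477 (iv F14316)) (tt N942 (iv F14313)) (tt N1043 (iv D3355)))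
theorem Q1379 : ∀ i, i < 1379 → P i := stepQ 1378 Q1378 (allL N1378 (tt N1743 F15444) (tt N1109 (iv F16088)) (tt N945 F15445) (tt N1532 (iv F16061)) (tt N1361 (iv D7337)) (tt N946 F15446) (tt N1058 (iv F15447)))
theorem Q1380 : ∀ i, i < 1380 → P i := stepQ 1379 Q1379 (allL N1379 (tt N1729 (iv F14786)) (tt N1777 (iv F15537)) (tt N950 F10935) (tt N1736 D7370) (tt N1778 (iv F15473)) (tt N1610 (iv D6250)) (tt N1512 F14787))
theorem Q1381 : ∀ i, i < 1381 → P i := stepQ 1380 Q1380 (allL N1380 (tt N1730 F10699) (tt N1616 F10700) (tt N1778 (iv F15472)) (tt N1763 F14158) (tt N950 (iv F13575)) (tt N1487 (iv D6071)) (tt N1513 F10702))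
theorem Q1382 : ∀ i, i < 1382 → P i := stepQ 1381 Q1381 (allL N1381 (tt N1367 (iv F16152)) (tt N952 (iv F15881)) (tt N1381 F15574) (tt N1367 (iv F16155)) (tt N1365 (iv D7377)) (tt N956 F15868) (tt N1367 (iv F16157)))
theorem Q1383 : ∀ i, i < 1383 → P i := stepQ 1382 Q1382 (allL N1382 (tt N1399 (iv F16230)) (tt N1779 (iv F16371)) (tt N953 F15952) (tt N1339 (iv D7485)) (tt N1342 (iv F16343)) (tt N1374 (iv F16097)) (tt N1364 F15951))
theorem Q1384 : ∀ i, i < 1384 → P i := stepQ 1383 Q1383 (allL N1383 (tt N1396 F16357) (tt N957 F16358) (tt N1780 (iv F16415)) (tt N956 (iv D7581)) (tt N1781 (iv F16422)) (tt N1396 F16359) (tt N1782 (iv F16406)))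
theorem Q1385 : ∀ i, i < 1385 → P i := stepQ 1384 Q1384 (allL N1384 (tt N1374 F16360) (tt N1781 (iv F16419)) (tt N1328 F16361) (tt N1059 F16362) (tt N957 (iv D7582)) (tt N1399 F16363) (tt N1731 F16364))
theorem Q1386 : ∀ i, i < 1386 → P i := stepQ 1385 Q1385 (allL N1385 (tt N1372 F16219) (tt N1782 (iv F16403)) (tt N1327 (iv F16310)) (tt N968 (iv D7549)) (tt N1731 F16220) (tt N1736 F16221) (tt N957 F16222))
theorem Q1387 : ∀ i, i < 1387 → P i := stepQ 1386 Q1386 (allL N1386 (tt N1733 (iv F16083)) (tt N1392 (iv F16240)) (tt N1060 (iv F15993)) (tt N958 F15879) (tt N1059 F15990) (tt N1112 (iv D7440)) (tt N1531 (iv F16169)))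
theorem Q1388 : ∀ i, i < 1388 → P i := stepQ 1387 Q1387 (allL N1387 (tt N1406 F10136) (tt N960 (iv F15247)) (tt N1783 F14228) (tt N959 F10137) (tt N1724 (iv F15060)) (tt N1592 F14535) (tt N1213 (iv D5724)))
theorem Q1389 : ∀ i, i < 1389 → P i := stepQ 1388 Q1388 (allL N1388 (tt N1410 (iv F13512)) (tt N1784 (iv F15656)) (tt N960 F15250) (tt N1256 (iv D6495)) (tt N1785 (iv F15254)) (tt N1786 (iv F15631)) (tt N1754 F15252))
theorem Q1390 : ∀ i, i < 1390 → P i := stepQ 1389 Q1389 (allL N1389 (tt N1408 F15618) (tt N1724 F15619) (tt N1785 F15620) (tt N1482 (iv F15918)) (tt N960 F15621) (tt N1346 F15622) (tt N1437 (iv D7393)))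
theorem Q1391 : ∀ i, i < 1391 → P i := stepQ 1390 Q1390 (allL N1390 (tt N1041 (iv F15371)) (tt N1592 F15123) (tt N1786 (iv F15630)) (tt N973 (iv F15127)) (tt N1346 (iv F15197)) (tt N960 (iv F15249)) (tt N1018 (iv D7260)))
theorem Q1392 : ∀ i, i < 1392 → P i := stepQ 1391 Q1391 (allL N1391 (tt N1734 (iv F16001)) (tt N1403 F15412) (tt N1482 (iv F15917)) (tt N961 (iv D7330)) (tt N1482 (iv F15919)) (tt N1425 F15413) (tt N1481 (iv F15769)))
theorem Q1393 : ∀ i, i < 1393 → P i := stepQ 1392 Q1392 (allL N1392 (tt N963 F16239) (tt N1386 F16240) (tt N1527 F16242) (tt N962 (iv D7555)) (tt N1488 (iv F16380)) (tt N1527 F16241) (tt N1787 (iv F16402)))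
theorem Q1394 : ∀ i, i < 1394 → P i := stepQ 1393 Q1393 (allL N1393 (tt N1527 F16158) (tt N967 F16159) (tt N963 (iv F16161)) (tt N1771 (iv D7530)) (tt N1526 (iv F16217)) (tt N963 F16160) (tt N1788 F16211))
theorem Q1395 : ∀ i, i < 1395 → P i := stepQ 1394 Q1394 (allL N1394 (tt N1488 (iv F16378)) (tt N966 F16352) (tt N1526 F16353) (tt N1780 (iv F16416)) (tt N963 (iv D7579)) (tt N1526 F16354) (tt N1789 F16355))
theorem Q1396 : ∀ i, i < 1396 → P i := stepQ 1395 Q1395 (allL N1395 (tt N1787 (iv F16398)) (tt N968 F16212) (tt N1788 F16213) (tt N1782 D7591) (tt N1789 F16214) (tt N1790 (iv D7546)) (tt N963 F16215))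
theorem Q1397 : ∀ i, i < 1397 → P i := stepQ 1396 Q1396 (allL N1396 (tt N1383 (iv F16357)) (tt N969 F16356) (tt N1781 (iv F16420)) (tt N964 (iv D7580)) (tt N1780 (iv F16417)) (tt N1383 (iv F16359)) (tt N1735 F16413))
theorem Q1398 : ∀ i, i < 1398 → P i := stepQ 1397 Q1397 (allL N1397 (tt N1281 F14900) (tt N1120 (iv F15896)) (tt N966 (iv F15870)) (tt N1334 F15115) (tt N965 (iv D7181)) (tt N1120 (iv F15899)) (tt N1535 D7472))
theorem Q1399 : ∀ i, i < 1399 → P i := stepQ 1398 Q1398 (allL N1398 (tt N1282 F14901) (tt N1121 (iv F15902)) (tt N968 (iv F15546)) (tt N1433 F15582) (tt N1535 (iv F15913)) (tt N1534 F15542) (tt N965 (iv D7182)))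
theorem Q1400 : ∀ i, i < 1400 → P i := stepQ 1399 Q1399 (allL N1399 (tt N1382 F16230) (tt N1780 (iv F16414)) (tt N1310 (iv F16304)) (tt N966 F16231) (tt N969 F16232) (tt N1384 (iv F16363)) (tt N1736 (iv D7552)))
theorem Q1401 : ∀ i, i < 1401 → P i := stepQ 1400 Q1400 (allL N1400 (tt N1749 F15470) (tt N1789 (iv F16176)) (tt N1535 (iv F15912)) (tt N1512 (iv D7345)) (tt N968 (iv F15547)) (tt N1401 F15544) (tt N966 (iv F15872)))
theorem Q1402 : ∀ i, i < 1402 → P i := stepQ 1401 Q1401 (allL N1401 (tt N1518 (iv F15624)) (tt N1788 (iv F16208)) (tt N1121 (iv F15903)) (tt N1046 F15543) (tt N1402 (iv D7367)) (tt N1400 (iv F15544)) (tt N967 (iv F15792)))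
theorem Q1403 : ∀ i, i < 1403 → P i := stepQ 1402 Q1402 (allL N1402 (tt N1750 (iv F15298)) (tt N1790 (iv F15536)) (tt N1534 D7366) (tt N1610 (iv D6248)) (tt N1401 D7367) (tt N968 D7368) (tt N1111 D7369))
theorem Q1404 : ∀ i, i < 1404 → P i := stepQ 1403 Q1403 (allL N1403 (tt N971 (iv F14534)) (tt N1391 (iv F15412)) (tt N1791 D7332) (tt N970 (iv D6009)) (tt N1461 (iv F15024)) (tt N1297 (iv F14529)) (tt N1460 F15023))
theorem Q1405 : ∀ i, i < 1405 → P i := stepQ 1404 Q1404 (allL N1404 (tt N1791 (iv F15418)) (tt N1751 (iv F15503)) (tt N971 (iv D7331)) (tt N1792 (iv F15417)) (tt N1464 F15414) (tt N1793 F15415) (tt N1463 F15416))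
theorem Q1406 : ∀ i, i < 1406 → P i := stepQ 1405 Q1405 (allL N1405 (tt N1297 F9123) (tt N973 (iv F15126)) (tt N1793 (iv F15182)) (tt N1592 F9124) (tt N1344 (iv F15186)) (tt N971 F14533) (tt N1028 (iv D5136)))
theorem Q1407 : ∀ i, i < 1407 → P i := stepQ 1406 Q1406 (allL N1406 (tt N1387 (iv F10136)) (tt N974 (iv F10531)) (tt N1794 F14169) (tt N972 F5310) (tt N1466 (iv F10540)) (tt N1288 (iv F13835)) (tt N1471 (iv D3047)))
theorem Q1408 : ∀ i, i < 1408 → P i := stepQ 1407 Q1407 (allL N1407 (tt N1753 (iv F15633)) (tt N1795 (iv F15563)) (tt N974 F15367) (tt N1796 F15368) (tt N1474 F15369) (tt N1796 F15370) (tt N1479 (iv D7317)))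
theorem Q1409 : ∀ i, i < 1409 → P i := stepQ 1408 Q1408 (allL N1408 (tt N1389 (iv F15618)) (tt N1288 F14961) (tt N1796 (iv F15257)) (tt N1425 (iv F14973)) (tt N1315 F15263) (tt N974 F14962) (tt N1048 (iv D7210)))
theorem Q1410 : ∀ i, i < 1410 → P i := stepQ 1409 Q1409 (allL N1409 (tt N1797 D6662) (tt N975 (iv D3419)) (tt N1577 F5817) (tt N1798 D6663) (tt N1797 (iv F13656)) (tt N1772 D6665) (tt N1799 (iv F13663)))
theorem Q1411 : ∀ i, i < 1411 → P i := stepQ 1410 Q1410 (allL N1410 (tt N1388 F13512) (tt N1798 (iv F11554)) (tt N1315 D6667) (tt N975 (iv D3420)) (tt N1796 D6668) (tt N1474 D6669) (tt N1417 D6670))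
theorem Q1412 : ∀ i, i < 1412 → P i := stepQ 1411 Q1411 (allL N1411 (tt N1684 F13513) (tt N1797 (iv F13655)) (tt N976 F5818) (tt N1474 (iv F14496)) (tt N975 (iv D3421)) (tt N1774 D6672) (tt N1370 D6673))
theorem Q1413 : ∀ i, i < 1413 → P i := stepQ 1412 Q1412 (allL N1412 (tt N1686 F13515) (tt N1799 (iv F13662)) (tt N978 F5820) (tt N1112 D6676) (tt N1370 (iv F11564)) (tt N1369 (iv F13665)) (tt N975 (iv D3423)))
theorem Q1414 : ∀ i, i < 1414 → P i := stepQ 1413 Q1413 (allL N1413 (tt N1687 F13516) (tt N1581 F5824) (tt N1774 (iv F11561)) (tt N1800 D6681) (tt N977 F5825) (tt N976 (iv D3425)) (tt N1415 F13621))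
theorem Q1415 : ∀ i, i < 1415 → P i := stepQ 1414 Q1414 (allL N1414 (tt N1688 F13517) (tt N1582 F5826) (tt N1370 (iv F11563)) (tt N1801 D6682) (tt N978 F5827) (tt N1368 (iv F5831)) (tt N976 (iv D3426)))
theorem Q1416 : ∀ i, i < 1416 → P i := stepQ 1415 Q1415 (allL N1415 (tt N1690 (iv F13593)) (tt N1584 (iv D3260)) (tt N1369 (iv F11016)) (tt N1710 D6364) (tt N1368 (iv F13622)) (tt N978 F13527) (tt N1413 (iv F13621)))
theorem Q1417 : ∀ i, i < 1417 → P i := stepQ 1416 Q1416 (allL N1416 (tt N1419 F13930) (tt N1656 F13931) (tt N1802 D7278) (tt N980 (iv D5311)) (tt N1348 F14708) (tt N1803 D7279) (tt N982 F13932))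
theorem Q1418 : ∀ i, i < 1418 → P i := stepQ 1417 Q1417 (allL N1417 (tt N1754 (iv F15253)) (tt N1804 (iv F15558)) (tt N981 (iv F15259)) (tt N1529 D7436) (tt N1480 F15258) (tt N1479 F15260) (tt N1410 (iv D6670)))
theorem Q1419 : ∀ i, i < 1419 → P i := stepQ 1418 Q1418 (allL N1418 (tt N1755 (iv F15512)) (tt N1805 F15314) (tt N982 (iv D7305)) (tt N1806 D7527) (tt N1807 F15315) (tt N1761 F15707) (tt N1802 F15316))
theorem Q1420 : ∀ i, i < 1420 → P i := stepQ 1419 Q1419 (allL N1419 (tt N1416 (iv F13930)) (tt N1564 F5433) (tt N1807 D6151) (tt N984 (iv D3143)) (tt N982 (iv F14106)) (tt N1762 D6153) (tt N1348 D6154))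
theorem Q1421 : ∀ i, i < 1421 → P i := stepQ 1420 Q1420 (allL N1420 (tt N1094 (iv F15275)) (tt N1236 F10305) (tt N1004 F14576) (tt N1332 (iv F14268)) (tt N983 (iv D5803)) (tt N1358 D7308) (tt N992 (iv F14548)))
theorem Q1422 : ∀ i, i < 1422 → P i := stepQ 1421 Q1421 (allL N1421 (tt N1047 F13935) (tt N1585 F9472) (tt N1808 F14611) (tt N987 (iv D5316)) (tt N1018 F9473) (tt N1347 F13936) (tt N1346 D7280))
theorem Q1423 : ∀ i, i < 1423 → P i := stepQ 1422 Q1422 (allL N1422 (tt N1044 (iv F5324)) (tt N1158 F2689) (tt N1522 D3152) (tt N990 (iv D1544)) (tt N1330 D3153) (tt N1809 D3154) (tt N1030 D3155))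
theorem Q1424 : ∀ i, i < 1424 → P i := stepQ 1423 Q1423 (allL N1423 (tt N1481 (iv F15764)) (tt N1296 F14969) (tt N994 (iv D7212)) (tt N992 F14971) (tt N994 F14970) (tt N1481 (iv F15768)) (tt N1734 D7498))
theorem Q1425 : ∀ i, i < 1425 → P i := stepQ 1424 Q1424 (allL N1424 (tt N1494 F14963) (tt N1291 F14964) (tt N1424 F14965) (tt N993 F14966) (tt N1494 F14967) (tt N995 (iv D7211)) (tt N1810 F14968))
theorem Q1426 : ∀ i, i < 1426 → P i := stepQ 1425 Q1425 (allL N1425 (tt N1482 (iv F15915)) (tt N1297 F14972) (tt N1734 (iv F16003)) (tt N1408 F14973) (tt N1734 (iv F16005)) (tt N1391 (iv F15413)) (tt N994 (iv D7213)))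
theorem Q1427 : ∀ i, i < 1427 → P i := stepQ 1426 Q1426 (allL N1426 (tt N1483 (iv F15584)) (tt N1756 (iv F15155)) (tt N996 (iv D7205)) (tt N1811 D7491) (tt N1053 D7492) (tt N1456 D7493) (tt N1812 F15150))
theorem Q1428 : ∀ i, i < 1428 → P i := stepQ 1427 Q1427 (allL N1427 (tt N1433 (iv F15578)) (tt N1013 F15138) (tt N1812 (iv F15146)) (tt N1282 (iv D7202)) (tt N1054 D7489) (tt N1433 (iv F15580)) (tt N996 F14942))
theorem Q1429 : ∀ i, i < 1429 → P i := stepQ 1428 Q1428 (allL N1428 (tt N1001 (iv F5670)) (tt N1376 (iv F5734)) (tt N1813 (iv F5756)) (tt N999 F14162) (tt N1576 F2797) (tt N1165 (iv D1646)) (tt N1574 F2798))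
theorem Q1430 : ∀ i, i < 1430 → P i := stepQ 1429 Q1429 (allL N1429 (tt N1813 F14358) (tt N1235 F9978) (tt N1001 F14359) (tt N1586 (iv D5634)) (tt N1506 F14360) (tt N1247 F14361) (tt N1674 F14362))
theorem Q1431 : ∀ i, i < 1431 → P i := stepQ 1430 Q1430 (allL N1430 (tt N1090 F2648) (tt N1285 F2649) (tt N1052 D3082) (tt N1002 (iv D1509)) (tt N1103 D3083) (tt N1003 D3084) (tt N1055 D3085))
theorem Q1432 : ∀ i, i < 1432 → P i := stepQ 1431 Q1431 (allL N1431 (tt N1092 F10632) (tt N1284 F10633) (tt N1104 (iv F15432)) (tt N1004 (iv F14295)) (tt N1003 F10634) (tt N1103 (iv D6033)) (tt N1447 (iv F10648)))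
theorem Q1433 : ∀ i, i < 1433 → P i := stepQ 1432 Q1432 (allL N1432 (tt N1097 (iv F13889)) (tt N1175 F9058) (tt N1125 D7264) (tt N1025 (iv D5102)) (tt N1005 F9059) (tt N1097 (iv F13891)) (tt N1123 F14684))
theorem Q1434 : ∀ i, i < 1434 → P i := stepQ 1433 Q1433 (allL N1433 (tt N1427 F15578) (tt N1006 F15579) (tt N1710 (iv D7380)) (tt N1398 (iv F15582)) (tt N1098 (iv F15986)) (tt N1427 F15580) (tt N1051 F15581))
theorem Q1435 : ∀ i, i < 1435 → P i := stepQ 1434 Q1434 (allL N1434 (tt N1104 (iv F15430)) (tt N1435 F14801) (tt N1092 F10665) (tt N1448 (iv F15084)) (tt N1091 F10666) (tt N1011 (iv D6051)) (tt N1435 (iv F10673)))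
theorem Q1436 : ∀ i, i < 1436 → P i := stepQ 1435 Q1435 (allL N1435 (tt N1056 (iv F15434)) (tt N1434 (iv F14801)) (tt N1116 F10671) (tt N1458 (iv F14608)) (tt N1015 (iv F13398)) (tt N1014 (iv D6056)) (tt N1434 F10673))
theorem Q1437 : ∀ i, i < 1437 → P i := stepQ 1436 Q1436 (allL N1436 (tt N1046 (iv F15363)) (tt N1814 (iv F15603)) (tt N1018 F14642) (tt N1518 D7395) (tt N1808 (iv F14643)) (tt N1815 (iv D6382)) (tt N1786 D7396))
theorem Q1438 : ∀ i, i < 1438 → P i := stepQ 1437 Q1437 (allL N1437 (tt N1048 F14638) (tt N1299 (iv F14639)) (tt N1815 (iv D6380)) (tt N1050 F14637) (tt N1347 (iv F14640)) (tt N1018 (iv F14641)) (tt N1389 D7393))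
theorem Q1439 : ∀ i, i < 1439 → P i := stepQ 1438 Q1438 (allL N1438 (tt N1059 (iv F15988)) (tt N1816 D7517) (tt N1019 (iv D7258)) (tt N1374 D7518) (tt N1733 (iv F16084)) (tt N1020 F15121) (tt N1768 F15641))
theorem Q1440 : ∀ i, i < 1440 → P i := stepQ 1439 Q1439 (allL N1439 (tt N1060 (iv F15991)) (tt N1449 F15107) (tt N1733 D7515) (tt N1457 (iv D7253)) (tt N1019 F15108) (tt N1021 (iv F15109)) (tt N1446 (iv F15940)))
theorem Q1441 : ∀ i, i < 1441 → P i := stepQ 1440 Q1440 (allL N1440 (tt N1061 (iv F15997)) (tt N1099 F15122) (tt N1768 (iv F15640)) (tt N1098 (iv F15985)) (tt N1446 (iv F15939)) (tt N1445 (iv F15935)) (tt N1019 (iv D7259)))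
theorem Q1442 : ∀ i, i < 1442 → P i := stepQ 1441 Q1441 (allL N1441 (tt N1817 D7583) (tt N1020 (iv D7475)) (tt N1337 F15922) (tt N1817 F16370) (tt N1818 F16207) (tt N1816 (iv F16095)) (tt N1819 F15923))
theorem Q1443 : ∀ i, i < 1443 → P i := stepQ 1442 Q1442 (allL N1442 (tt N1111 F15924) (tt N1817 (iv F16365)) (tt N1449 F15925) (tt N1020 (iv D7476)) (tt N1340 F15926) (tt N1339 (iv F15928)) (tt N1750 F15927))
theorem Q1444 : ∀ i, i < 1444 → P i := stepQ 1443 Q1443 (allL N1443 (tt N1112 F15690) (tt N1818 (iv F16203)) (tt N1021 F15693) (tt N1686 (iv D7414)) (tt N1020 (iv F15692)) (tt N1733 (iv F16085)) (tt N1820 F15691))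
theorem Q1445 : ∀ i, i < 1445 → P i := stepQ 1444 Q1444 (allL N1444 (tt N1113 (iv F15456)) (tt N1819 (iv F15607)) (tt N1022 F14931) (tt N1821 (iv D6384)) (tt N1820 (iv F15623)) (tt N1363 D7398) (tt N1020 (iv F14932)))
theorem Q1446 : ∀ i, i < 1446 → P i := stepQ 1445 Q1445 (allL N1445 (tt N1114 (iv F16314)) (tt N1520 F15932) (tt N1820 F15933) (tt N1114 (iv F16318)) (tt N1022 F15934) (tt N1440 F15935) (tt N1021 (iv D7478)))
theorem Q1447 : ∀ i, i < 1447 → P i := stepQ 1446 Q1446 (allL N1446 (tt N1115 (iv F15956)) (tt N1519 F15936) (tt N1363 F15937) (tt N1535 F15938) (tt N1440 F15939) (tt N1022 (iv D7479)) (tt N1439 F15940))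
theorem Q1448 : ∀ i, i < 1448 → P i := stepQ 1447 Q1447 (allL N1447 (tt N1116 F10645) (tt N1590 F10646) (tt N1056 (iv F15436)) (tt N1475 F14173) (tt N1024 (iv F13985)) (tt N1055 (iv D6037)) (tt N1431 F10648))
theorem Q1449 : ∀ i, i < 1449 → P i := stepQ 1448 Q1448 (allL N1448 (tt N1119 (iv F16050)) (tt N1458 F15083) (tt N1533 (iv F16054)) (tt N1434 F15084) (tt N1532 (iv F16062)) (tt N1026 (iv D7246)) (tt N1533 (iv F16057)))
theorem Q1450 : ∀ i, i < 1450 → P i := stepQ 1449 Q1449 (allL N1449 (tt N1120 (iv F15895)) (tt N1439 (iv F15107)) (tt N1442 (iv F15925)) (tt N1117 (iv F15081)) (tt N1027 F14939) (tt N1281 (iv D7199)) (tt N1519 (iv F14944)))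
theorem Q1451 : ∀ i, i < 1451 → P i := stepQ 1450 Q1450 (allL N1450 (tt N1295 F9120) (tt N1035 F14510) (tt N1028 (iv D5134)) (tt N1822 F14511) (tt N1823 D7275) (tt N1035 F14512) (tt N1793 D7276))
theorem Q1452 : ∀ i, i < 1452 → P i := stepQ 1451 Q1451 (allL N1451 (tt N1296 F9121) (tt N1029 (iv F15124)) (tt N1823 (iv F15177)) (tt N1596 F14099) (tt N1028 (iv D5135)) (tt N1036 (iv F15044)) (tt N1344 D7277))
theorem Q1453 : ∀ i, i < 1453 → P i := stepQ 1452 Q1452 (allL N1452 (tt N1040 (iv F14557)) (tt N1596 F10834) (tt N1523 F14558) (tt N1029 (iv F15125)) (tt N1030 F10835) (tt N1824 (iv F10837)) (tt N1330 (iv D6177)))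
theorem Q1454 : ∀ i, i < 1454 → P i := stepQ 1453 Q1453 (allL N1453 (tt N1042 F5712) (tt N1253 F5713) (tt N1030 (iv F14311)) (tt N1095 (iv F5740)) (tt N1523 (iv F11320)) (tt N1242 (iv D3348)) (tt N1522 F14308))
theorem Q1455 : ∀ i, i < 1455 → P i := stepQ 1454 Q1454 (allL N1454 (tt N1043 F5708) (tt N1597 (iv F14346)) (tt N1242 (iv D3346)) (tt N1810 D6519) (tt N1824 (iv F14349)) (tt N1030 F14336) (tt N1742 (iv F14352)))
theorem Q1456 : ∀ i, i < 1456 → P i := stepQ 1455 Q1455 (allL N1455 (tt N1045 (iv F14598)) (tt N1179 F9031) (tt N1455 F14599) (tt N1031 (iv D5085)) (tt N1045 F14594) (tt N1810 F14601) (tt N1065 (iv F14913)))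
theorem Q1457 : ∀ i, i < 1457 → P i := stepQ 1456 Q1456 (allL N1456 (tt N1053 F15976) (tt N1504 F15977) (tt N1032 F15978) (tt N1053 F15979) (tt N1483 F15980) (tt N1426 (iv D7493)) (tt N1509 F15981))
theorem Q1458 : ∀ i, i < 1458 → P i := stepQ 1457 Q1457 (allL N1457 (tt N1057 (iv F14978)) (tt N1117 (iv F15079)) (tt N1322 (iv F15098)) (tt N1439 D7253) (tt N1033 (iv D5074)) (tt N1320 D7254) (tt N1334 D7255))
theorem Q1459 : ∀ i, i < 1459 → P i := stepQ 1458 Q1458 (allL N1458 (tt N1058 (iv F14980)) (tt N1448 (iv F15083)) (tt N1321 (iv F15100)) (tt N1435 F14608) (tt N1320 (iv F15110)) (tt N1033 (iv D5075)) (tt N1743 D7256))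
theorem Q1460 : ∀ i, i < 1460 → P i := stepQ 1459 Q1459 (allL N1459 (tt N1035 F10284) (tt N1825 (iv F15300)) (tt N1034 F14515) (tt N1230 (iv D5792)) (tt N1825 F15303) (tt N1295 F14513) (tt N1826 D7304))
theorem Q1461 : ∀ i, i < 1461 → P i := stepQ 1460 Q1460 (allL N1460 (tt N1036 (iv F15041)) (tt N1481 (iv F15765)) (tt N1825 (iv F15302)) (tt N1491 (iv F15065)) (tt N1034 (iv D7230)) (tt N1296 F15022) (tt N1403 (iv F15023)))
theorem Q1462 : ∀ i, i < 1462 → P i := stepQ 1461 Q1461 (allL N1461 (tt N1037 (iv F15046)) (tt N1482 (iv F15916)) (tt N1826 (iv F15311)) (tt N1724 (iv F15059)) (tt N1403 F15024) (tt N1722 (iv F15032)) (tt N1034 (iv D7231)))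
theorem Q1463 : ∀ i, i < 1463 → P i := stepQ 1462 Q1462 (allL N1462 (tt N1230 (iv F5182)) (tt N1822 D3140) (tt N1153 (iv D1536)) (tt N1035 D3141) (tt N1827 D3142) (tt N1566 (iv F2688)) (tt N1701 (iv F5351)))
theorem Q1464 : ∀ i, i < 1464 → P i := stepQ 1463 Q1463 (allL N1463 (tt N1825 (iv F15299)) (tt N1823 (iv F15176)) (tt N1036 (iv F15042)) (tt N1828 (iv F15289)) (tt N1035 (iv D6147)) (tt N1823 (iv F15179)) (tt N1404 (iv F15416)))
theorem Q1465 : ∀ i, i < 1465 → P i := stepQ 1464 Q1464 (allL N1464 (tt N1826 (iv F15310)) (tt N1793 (iv F15181)) (tt N1037 (iv F15047)) (tt N1502 F14778) (tt N1404 (iv F15414)) (tt N1751 D7354) (tt N1035 (iv D6149)))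
theorem Q1466 : ∀ i, i < 1466 → P i := stepQ 1465 Q1465 (allL N1465 (tt N1491 (iv F15062)) (tt N1040 F14585) (tt N1829 (iv F14584)) (tt N1036 (iv F15043)) (tt N1038 F10598) (tt N1830 (iv F10607)) (tt N1375 (iv D6002)))
theorem Q1467 : ∀ i, i < 1467 → P i := stepQ 1466 Q1466 (allL N1466 (tt N1724 (iv F15057)) (tt N1041 (iv F15372)) (tt N1831 (iv F14687)) (tt N1037 (iv F15048)) (tt N1406 F10540) (tt N1700 (iv F10542)) (tt N1039 (iv D5957)))
theorem Q1468 : ∀ i, i < 1468 → P i := stepQ 1467 Q1467 (allL N1467 (tt N1490 (iv F14367)) (tt N1572 F5748) (tt N1038 F14353) (tt N1654 (iv F14371)) (tt N1829 (iv F11418)) (tt N1570 (iv D3371)) (tt N1832 (iv F14364)))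
theorem Q1469 : ∀ i, i < 1469 → P i := stepQ 1468 Q1468 (allL N1468 (tt N1492 (iv F14372)) (tt N1043 (iv D3351)) (tt N1570 F5718) (tt N1712 D6532) (tt N1830 (iv F14378)) (tt N1038 F14354) (tt N1776 (iv F14380)))
theorem Q1470 : ∀ i, i < 1470 → P i := stepQ 1469 Q1469 (allL N1469 (tt N1093 (iv F5127)) (tt N1044 (iv F5325)) (tt N1832 D3072) (tt N1150 (iv D1503)) (tt N1375 (iv F5339)) (tt N1833 D3073) (tt N1038 D3074))
theorem Q1471 : ∀ i, i < 1471 → P i := stepQ 1470 Q1470 (allL N1470 (tt N1723 F14699) (tt N1834 (iv F15335)) (tt N1039 F14026) (tt N1835 (iv D5895)) (tt N1638 F13704) (tt N1287 F10465) (tt N1831 (iv F14091)))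
theorem Q1472 : ∀ i, i < 1472 → P i := stepQ 1471 Q1471 (allL N1471 (tt N1213 (iv F5096)) (tt N1047 (iv F5303)) (tt N1638 F14140) (tt N1145 (iv D1489)) (tt N1039 D3045) (tt N1272 D3046) (tt N1406 D3047))
theorem Q1473 : ∀ i, i < 1473 → P i := stepQ 1472 Q1472 (allL N1472 (tt N1523 (iv F11318)) (tt N1574 F5726) (tt N1040 (iv F11353)) (tt N1123 D6549) (tt N1042 F5727) (tt N1517 (iv D3357)) (tt N1376 (iv F5736)))
theorem Q1474 : ∀ i, i < 1474 → P i := stepQ 1473 Q1473 (allL N1473 (tt N1824 (iv F14347)) (tt N1830 (iv F14376)) (tt N1517 F5720) (tt N1824 (iv F14604)) (tt N1043 (iv D3353)) (tt N1040 D6540) (tt N1477 (iv F14317)))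
theorem Q1475 : ∀ i, i < 1475 → P i := stepQ 1474 Q1474 (allL N1474 (tt N1786 (iv F15629)) (tt N1836 (iv F15783)) (tt N1041 (iv F15373)) (tt N1411 F14496) (tt N1407 (iv F15369)) (tt N1410 (iv D6669)) (tt N1046 F15366))
theorem Q1476 : ∀ i, i < 1476 → P i := stepQ 1475 Q1475 (allL N1475 (tt N1522 F14296) (tt N1576 F5730) (tt N1044 (iv F14309)) (tt N1447 (iv F14173)) (tt N1376 (iv F5735)) (tt N1763 F5731) (tt N1042 (iv D3359)))
theorem Q1477 : ∀ i, i < 1477 → P i := stepQ 1476 Q1476 (allL N1476 (tt N1810 (iv F11310)) (tt N1712 (iv F11343)) (tt N1476 F5719) (tt N1043 (iv D3352)) (tt N1810 (iv F14603)) (tt N1045 D6537) (tt N1494 D6538))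
theorem Q1478 : ∀ i, i < 1478 → P i := stepQ 1477 Q1477 (allL N1477 (tt N1809 F10576) (tt N1833 F10577) (tt N1763 F14315) (tt N1803 (iv F15192)) (tt N1377 F14316) (tt N1044 (iv D5984)) (tt N1473 F14317))
theorem Q1479 : ∀ i, i < 1479 → P i := stepQ 1478 Q1478 (allL N1478 (tt N1804 F16147) (tt N1046 F16148) (tt N1834 (iv D7528)) (tt N1788 (iv F16209)) (tt N1837 F16149) (tt N1838 F16150) (tt N1836 F16151))
theorem Q1480 : ∀ i, i < 1480 → P i := stepQ 1479 Q1479 (allL N1479 (tt N1808 (iv F14612)) (tt N1837 (iv F15341)) (tt N1047 (iv D5947)) (tt N1839 F14610) (tt N1046 D7316) (tt N1417 (iv F15260)) (tt N1407 D7317))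
theorem Q1481 : ∀ i, i < 1481 → P i := stepQ 1480 Q1480 (allL N1480 (tt N1815 F10688) (tt N1838 (iv F15338)) (tt N1048 F14636) (tt N1840 (iv D6066)) (tt N1417 (iv F15258)) (tt N1046 (iv F15365)) (tt N1796 F15256))
theorem Q1482 : ∀ i, i < 1482 → P i := stepQ 1481 Q1481 (allL N1481 (tt N1423 F15764) (tt N1460 F15765) (tt N1049 F15766) (tt N1063 (iv D7430)) (tt N1049 F15767) (tt N1423 F15768) (tt N1391 F15769))
theorem Q1483 : ∀ i, i < 1483 → P i := stepQ 1482 Q1482 (allL N1482 (tt N1425 F15915) (tt N1461 F15916) (tt N1391 F15917) (tt N1389 F15918) (tt N1391 F15919) (tt N1734 (iv F16006)) (tt N1049 (iv D7473)))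
theorem Q1484 : ∀ i, i < 1484 → P i := stepQ 1483 Q1483 (allL N1483 (tt N1426 F15584) (tt N1352 F15585) (tt N1051 F15586) (tt N1841 (iv F15803)) (tt N1456 (iv F15980)) (tt N1053 (iv F15975)) (tt N1710 (iv D7382)))
theorem Q1485 : ∀ i, i < 1485 → P i := stepQ 1484 Q1484 (allL N1484 (tt N1504 F15590) (tt N1053 (iv F15973)) (tt N1105 F15591) (tt N1504 F15594) (tt N1756 F15592) (tt N1352 (iv D7384)) (tt N1500 F15593))
theorem Q1486 : ∀ i, i < 1486 → P i := stepQ 1485 Q1485 (allL N1485 (tt N1509 F16112) (tt N1500 F16113) (tt N1054 F16114) (tt N1842 F16115) (tt N1812 (iv D7521)) (tt N1509 F16116) (tt N1053 F16117))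
theorem Q1487 : ∀ i, i < 1487 → P i := stepQ 1486 Q1486 (allL N1486 (tt N1524 F13371) (tt N1055 (iv F5363)) (tt N1106 F13278) (tt N1190 F2756) (tt N1106 (iv F13437)) (tt N1590 D3309) (tt N1285 (iv D1610)))
theorem Q1488 : ∀ i, i < 1488 → P i := stepQ 1487 Q1487 (allL N1487 (tt N1644 F5387) (tt N1190 F5388) (tt N1839 (iv F10692)) (tt N1055 F5389) (tt N1188 (iv F13427)) (tt N1380 D6071) (tt N1511 (iv D3100)))
theorem Q1489 : ∀ i, i < 1489 → P i := stepQ 1488 Q1488 (allL N1488 (tt N1394 F16378) (tt N1059 (iv D7586)) (tt N1110 F16379) (tt N1781 (iv F16421)) (tt N1392 F16380) (tt N1110 F16381) (tt N1843 (iv F16396)))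
theorem Q1490 : ∀ i, i < 1490 → P i := stepQ 1489 Q1489 (allL N1489 (tt N1768 F16178) (tt N1843 (iv F16394)) (tt N1061 F16179) (tt N1778 (iv D7537)) (tt N1531 (iv F16181)) (tt N1529 F16180) (tt N1059 (iv F16182)))
theorem Q1491 : ∀ i, i < 1491 → P i := stepQ 1490 Q1490 (allL N1490 (tt N1467 F14367) (tt N1508 F14368) (tt N1062 F10809) (tt N1844 (iv D6156)) (tt N1845 F14369) (tt N1846 F14235) (tt N1505 (iv F14238)))
theorem Q1492 : ∀ i, i < 1492 → P i := stepQ 1491 Q1491 (allL N1491 (tt N1465 F15062) (tt N1063 F15063) (tt N1845 F15064) (tt N1460 F15065) (tt N1062 (iv D7241)) (tt N1847 F15066) (tt N1516 F15067))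
theorem Q1493 : ∀ i, i < 1493 → P i := stepQ 1492 Q1492 (allL N1492 (tt N1468 F14372) (tt N1064 F14373) (tt N1846 (iv D6333)) (tt N1718 (iv F15019)) (tt N1847 F14374) (tt N1062 F14236) (tt N1848 (iv F15286)))
theorem Q1494 : ∀ i, i < 1494 → P i := stepQ 1493 Q1493 (allL N1493 (tt N1239 F5737) (tt N1847 D6556) (tt N1089 (iv D3362)) (tt N1239 (iv F11866)) (tt N1064 (iv F11364)) (tt N1063 D6558) (tt N1087 D6559))
theorem Q1495 : ∀ i, i < 1495 → P i := stepQ 1494 Q1494 (allL N1494 (tt N1424 (iv F14963)) (tt N1718 (iv F15018)) (tt N1494 F11352) (tt N1064 F14915) (tt N1424 (iv F14967)) (tt N1065 F14914) (tt N1476 (iv D6538)))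
theorem Q1496 : ∀ i, i < 1496 → P i := stepQ 1495 Q1495 (allL N1495 (tt N1358 (iv F15326)) (tt N1848 (iv F15282)) (tt N1088 F14917) (tt N1377 (iv D6544)) (tt N1087 F14918) (tt N1094 (iv F15278)) (tt N1064 (iv F14916)))
theorem Q1497 : ∀ i, i < 1497 → P i := stepQ 1496 Q1496 (allL N1496 (tt N1361 F15117) (tt N1119 (iv F16051)) (tt N1308 (iv F16080)) (tt N1107 F15118) (tt N1743 F15119) (tt N1066 (iv D7257)) (tt N1320 F15120))
theorem Q1498 : ∀ i, i < 1498 → P i := stepQ 1497 Q1497 (allL N1497 (tt N1081 F14324) (tt N1705 F10844) (tt N1069 F14325) (tt N1849 (iv F14345)) (tt N1703 (iv D6184)) (tt N1682 F14326) (tt N1850 D7359))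
theorem Q1499 : ∀ i, i < 1499 → P i := stepQ 1498 Q1498 (allL N1498 (tt N1082 (iv F13410)) (tt N1522 F14297) (tt N1703 (iv F14310)) (tt N1225 (iv D3122)) (tt N1069 (iv F13565)) (tt N1679 (iv F5636)) (tt N1253 (iv F14203)))
theorem Q1500 : ∀ i, i < 1500 → P i := stepQ 1499 Q1499 (allL N1499 (tt N1083 F11237) (tt N1523 (iv F11319)) (tt N1850 (iv F15525)) (tt N1298 F14290) (tt N1253 F11238) (tt N1248 (iv D6484)) (tt N1069 (iv F14179)))
theorem Q1501 : ∀ i, i < 1501 → P i := stepQ 1500 Q1500 (allL N1500 (tt N1084 F15151) (tt N1485 (iv F16113)) (tt N1070 F15152) (tt N1851 (iv F15725)) (tt N1589 (iv D7269)) (tt N1084 F15153) (tt N1484 (iv F15593)))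
theorem Q1502 : ∀ i, i < 1502 → P i := stepQ 1501 Q1501 (allL N1501 (tt N1228 (iv F13432)) (tt N1086 (iv F5386)) (tt N1852 (iv F5413)) (tt N1074 D3127) (tt N1617 (iv F5410)) (tt N1152 (iv D1529)) (tt N1191 (iv F13431)))
theorem Q1503 : ∀ i, i < 1503 → P i := stepQ 1502 Q1502 (allL N1502 (tt N1682 (iv F11255)) (tt N1853 (iv F11461)) (tt N1076 F5777) (tt N1464 (iv F14778)) (tt N1854 (iv F11435)) (tt N1081 D6613) (tt N1300 (iv D3393)))
theorem Q1504 : ∀ i, i < 1504 → P i := stepQ 1503 Q1503 (allL N1503 (tt N1679 (iv F14174)) (tt N1088 (iv F11369)) (tt N1854 (iv F11434)) (tt N1617 F14172) (tt N1076 F5762) (tt N1082 (iv F14180)) (tt N1301 (iv D3382)))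
theorem Q1505 : ∀ i, i < 1505 → P i := stepQ 1504 Q1504 (allL N1504 (tt N1484 (iv F15590)) (tt N1456 (iv F15977)) (tt N1078 F15587) (tt N1484 (iv F15594)) (tt N1352 F15588) (tt N1756 F15589) (tt N1084 (iv D7383)))
theorem Q1506 : ∀ i, i < 1506 → P i := stepQ 1505 Q1505 (allL N1505 (tt N1832 F10180) (tt N1081 F14531) (tt N1093 (iv D5744)) (tt N1660 (iv F14257)) (tt N1855 F14255) (tt N1853 (iv F14530)) (tt N1490 F14238))
theorem Q1507 : ∀ i, i < 1507 → P i := stepQ 1506 Q1506 (allL N1506 (tt N1849 F11052) (tt N1660 (iv F14536)) (tt N1251 F11053) (tt N1081 (iv F14206)) (tt N1429 (iv F14360)) (tt N1675 F11054) (tt N1246 (iv D6324)))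
theorem Q1508 : ∀ i, i < 1508 → P i := stepQ 1507 Q1507 (allL N1507 (tt N1703 F14320) (tt N1855 F14321) (tt N1082 F14249) (tt N1588 (iv D5644)) (tt N1081 F14250) (tt N1854 F14251) (tt N1727 F14252))
theorem Q1509 : ∀ i, i < 1509 → P i := stepQ 1508 Q1508 (allL N1508 (tt N1850 (iv F15523)) (tt N1490 (iv F14368)) (tt N1083 F11430) (tt N1856 (iv F14571)) (tt N1727 F11431) (tt N1726 (iv D6590)) (tt N1081 (iv F11468)))
theorem Q1510 : ∀ i, i < 1510 → P i := stepQ 1509 Q1509 (allL N1509 (tt N1485 (iv F16112)) (tt N1084 F15583) (tt N1098 (iv F15984)) (tt N1857 (iv F15812)) (tt N1710 (iv D7381)) (tt N1485 (iv F16116)) (tt N1456 (iv F15981)))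
theorem Q1511 : ∀ i, i < 1511 → P i := stepQ 1510 Q1510 (allL N1510 (tt N1851 (iv F15722)) (tt N1857 (iv F15810)) (tt N1858 (iv F14224)) (tt N1084 (iv F13760)) (tt N1859 (iv D6734)) (tt N1860 (iv F15781)) (tt N1851 (iv F15727)))
theorem Q1512 : ∀ i, i < 1512 → P i := stepQ 1511 Q1511 (allL N1511 (tt N1354 F2657) (tt N1152 F2658) (tt N1840 D3098) (tt N1085 (iv D1515)) (tt N1611 (iv F5372)) (tt N1086 D3099) (tt N1487 D3100))
theorem Q1513 : ∀ i, i < 1513 → P i := stepQ 1512 Q1512 (allL N1512 (tt N1355 F10689) (tt N1861 (iv F15468)) (tt N1086 F10690) (tt N1400 D7345) (tt N1862 (iv F15459)) (tt N1840 (iv D6067)) (tt N1379 (iv F14787)))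
theorem Q1514 : ∀ i, i < 1514 → P i := stepQ 1513 Q1513 (allL N1513 (tt N1356 F10676) (tt N1617 F10677) (tt N1862 (iv F15458)) (tt N1088 F14294) (tt N1086 F10678) (tt N1611 (iv D6058)) (tt N1380 (iv F10702)))
theorem Q1515 : ∀ i, i < 1515 → P i := stepQ 1514 Q1514 (allL N1514 (tt N1833 F10181) (tt N1087 F14525) (tt N1853 F14526) (tt N1863 (iv F10820)) (tt N1848 (iv F15285)) (tt N1093 (iv D5745)) (tt N1847 (iv F14524)))
theorem Q1516 : ∀ i, i < 1516 → P i := stepQ 1515 Q1515 (allL N1515 (tt N1357 F15517) (tt N1863 F15518) (tt N1773 F15519) (tt N1087 F15520) (tt N1803 F15521) (tt N1348 (iv D7358)) (tt N1357 F15522))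
theorem Q1517 : ∀ i, i < 1517 → P i := stepQ 1516 Q1516 (allL N1516 (tt N1375 F10167) (tt N1094 (iv F15276)) (tt N1855 (iv F14256)) (tt N1217 (iv D5738)) (tt N1093 F10168) (tt N1848 D7297) (tt N1491 (iv F15067)))
theorem Q1518 : ∀ i, i < 1518 → P i := stepQ 1517 Q1517 (allL N1517 (tt N1665 (iv F5709)) (tt N1163 F2779) (tt N1473 (iv F5720)) (tt N1096 D3356) (tt N1161 (iv D1631)) (tt N1472 D3357) (tt N1763 D3358))
theorem Q1519 : ∀ i, i < 1519 → P i := stepQ 1518 Q1518 (allL N1518 (tt N1401 F15624) (tt N1864 (iv F16257)) (tt N1099 (iv F15627)) (tt N1436 (iv D7395)) (tt N1750 F15625) (tt N1749 F15626) (tt N1340 (iv F15628)))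
theorem Q1520 : ∀ i, i < 1520 → P i := stepQ 1519 Q1519 (allL N1519 (tt N1534 (iv F15540)) (tt N1446 (iv F15936)) (tt N1750 (iv F15333)) (tt N1534 (iv F15541)) (tt N1099 F14943) (tt N1282 (iv D7203)) (tt N1449 F14944))
theorem Q1521 : ∀ i, i < 1521 → P i := stepQ 1520 Q1520 (allL N1520 (tt N1535 (iv F15910)) (tt N1445 (iv F15932)) (tt N1749 (iv F15085)) (tt N1115 D7487) (tt N1282 F14940) (tt N1099 (iv F14941)) (tt N1281 (iv D7200)))
theorem Q1522 : ∀ i, i < 1522 → P i := stepQ 1521 Q1521 (allL N1521 (tt N1359 F5714) (tt N1254 F5715) (tt N1742 (iv F14351)) (tt N1100 D6526) (tt N1865 (iv F14306)) (tt N1102 (iv F14301)) (tt N1242 (iv D3349)))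
theorem Q1523 : ∀ i, i < 1523 → P i := stepQ 1522 Q1522 (allL N1522 (tt N1475 (iv F14296)) (tt N1498 (iv F14297)) (tt N1422 (iv D3152)) (tt N1116 (iv F14298)) (tt N1102 D6173) (tt N1865 D6174) (tt N1453 (iv F14308)))
theorem Q1524 : ∀ i, i < 1524 → P i := stepQ 1523 Q1523 (allL N1523 (tt N1472 F11318) (tt N1499 F11319) (tt N1452 (iv F14558)) (tt N1124 (iv F15054)) (tt N1453 F11320) (tt N1665 (iv D6523)) (tt N1102 (iv F14302)))
theorem Q1525 : ∀ i, i < 1525 → P i := stepQ 1524 Q1524 (allL N1524 (tt N1486 (iv F13371)) (tt N1103 (iv F5358)) (tt N1285 (iv F13408)) (tt N1229 (iv D1602)) (tt N1285 F2749) (tt N1284 D3295) (tt N1106 (iv F13438)))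
theorem Q1526 : ∀ i, i < 1526 → P i := stepQ 1525 Q1525 (allL N1525 (tt N1611 (iv F5370)) (tt N1229 F2739) (tt N1821 (iv F5595)) (tt N1103 (iv F5359)) (tt N1354 (iv D1593)) (tt N1356 D3271) (tt N1223 (iv F13572)))
theorem Q1527 : ∀ i, i < 1527 → P i := stepQ 1526 Q1526 (allL N1526 (tt N1110 (iv F16243)) (tt N1111 F16216) (tt N1394 (iv F16353)) (tt N1110 (iv F16245)) (tt N1393 F16217) (tt N1394 (iv F16354)) (tt N1790 (iv D7547)))
theorem Q1528 : ∀ i, i < 1528 → P i := stepQ 1527 Q1527 (allL N1527 (tt N1393 (iv F16158)) (tt N1112 F15577) (tt N1392 (iv F16242)) (tt N1799 (iv D7379)) (tt N1110 D7556) (tt N1392 (iv F16241)) (tt N1866 (iv F16236)))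
theorem Q1529 : ∀ i, i < 1529 → P i := stepQ 1528 Q1528 (allL N1528 (tt N1790 F16165) (tt N1113 F16166) (tt N1843 D7589) (tt N1867 (iv D7532)) (tt N1866 (iv F16235)) (tt N1787 D7590) (tt N1110 (iv F16246)))
theorem Q1530 : ∀ i, i < 1530 → P i := stepQ 1529 Q1529 (allL N1529 (tt N1820 F15787) (tt N1866 (iv F16234)) (tt N1114 D7571) (tt N1417 (iv D7436)) (tt N1113 F15788) (tt N1489 (iv F16180)) (tt N1112 F15789))
theorem Q1531 : ∀ i, i < 1531 → P i := stepQ 1530 Q1530 (allL N1530 (tt N1821 F10674) (tt N1867 D7339) (tt N1611 (iv D6057)) (tt N1113 D7340) (tt N1840 F10675) (tt N1862 D7341) (tt N1610 F13426))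
theorem Q1532 : ∀ i, i < 1532 → P i := stepQ 1531 Q1531 (allL N1531 (tt N1363 F16167) (tt N1787 (iv F16399)) (tt N1115 F16168) (tt N1317 (iv F16227)) (tt N1489 F16181) (tt N1113 (iv D7533)) (tt N1386 F16169))
theorem Q1533 : ∀ i, i < 1533 → P i := stepQ 1532 Q1532 (allL N1532 (tt N1533 F16058) (tt N1320 F16059) (tt N1119 F16060) (tt N1378 F16061) (tt N1448 F16062) (tt N1117 (iv D7509)) (tt N1119 F16063))
theorem Q1534 : ∀ i, i < 1534 → P i := stepQ 1533 Q1533 (allL N1533 (tt N1532 (iv F16058)) (tt N1743 F16053) (tt N1448 F16054) (tt N1743 F16055) (tt N1119 F16056) (tt N1118 (iv D7508)) (tt N1448 F16057))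
theorem Q1535 : ∀ i, i < 1535 → P i := stepQ 1534 Q1534 (allL N1534 (tt N1519 F15540) (tt N1535 (iv F15911)) (tt N1402 (iv D7366)) (tt N1519 F15541) (tt N1121 (iv F15904)) (tt N1398 (iv F15542)) (tt N1120 F15900))
theorem Q1536 : ∀ i, i < 1536 → P i := stepQ 1535 Q1535 (allL N1535 (tt N1520 F15910) (tt N1534 F15911) (tt N1400 F15912) (tt N1446 (iv F15938)) (tt N1398 F15913) (tt N1121 F15914) (tt N1397 (iv D7472)))
theorem Q1537 : ∀ i, i < 1537 → P i := stepQ 1536 Q1536 (allL N1536 (tt N1122 (iv F14195)) (tt N1123 (iv F11371)) (tt N1536 F9558) (tt N1574 (iv D3383)) (tt N1122 (iv F14197)) (tt N1127 (iv F14199)) (tt N1175 F14181))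
theorem Q1538 : ∀ i, i < 1538 → P i := stepQ 1537 Q1537 (allL N1537 (tt N1538 (iv F16039)) (tt N1537 F15804) (tt N1801 (iv D7442)) (tt N1125 F15806) (tt N1538 (iv F16042)) (tt N1868 D7572) (tt N1537 F15805))
theorem Q1539 : ∀ i, i < 1539 → P i := stepQ 1538 Q1538 (allL N1538 (tt N1537 F16039) (tt N1538 F16040) (tt N1869 F16041) (tt N1126 (iv D7505)) (tt N1537 F16042) (tt N1870 D7587) (tt N1538 F16043))
theorem Q1540 : ∀ i, i < 1540 → P i := stepQ 1539 Q1539 (allL N1539 (tt N1549 (iv F2599)) (tt N1129 F1367) (tt N1871 D1570) (tt N1128 (iv D750)) (tt N1872 D1571) (tt N1873 D1572) (tt N1874 D1573))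
theorem Q1541 : ∀ i, i < 1541 → P i := stepQ 1540 Q1540 (allL N1540 (tt N1550 (iv F2601)) (tt N1131 F1368) (tt N1137 F1369) (tt N1875 D1574) (tt N1546 (iv F2594)) (tt N1550 (iv F2605)) (tt N1128 (iv D751)))
theorem Q1542 : ∀ i, i < 1542 → P i := stepQ 1541 Q1541 (allL N1541 (tt N1184 (iv F2704)) (tt N1872 (iv F2721)) (tt N1670 (iv F2728)) (tt N1553 F13389) (tt N1129 (iv D753)) (tt N1876 D1581) (tt N1877 D1582))
theorem Q1543 : ∀ i, i < 1543 → P i := stepQ 1542 Q1542 (allL N1542 (tt N1185 (iv F2705)) (tt N1873 (iv F2722)) (tt N1671 (iv F2729)) (tt N1139 F1370) (tt N1876 (iv F2732)) (tt N1129 (iv D754)) (tt N1878 D1583))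
theorem Q1544 : ∀ i, i < 1544 → P i := stepQ 1543 Q1543 (allL N1543 (tt N1186 (iv F2707)) (tt N1874 (iv F2724)) (tt N1672 (iv F2730)) (tt N1879 D1584) (tt N1877 (iv F2733)) (tt N1880 D1585) (tt N1129 (iv D755)))
theorem Q1545 : ∀ i, i < 1545 → P i := stepQ 1544 Q1544 (allL N1544 (tt N1187 (iv F2709)) (tt N1875 (iv F2725)) (tt N1584 D1589) (tt N1131 (iv D757)) (tt N1558 (iv F13536)) (tt N1580 D1591) (tt N1879 (iv F2735)))
theorem Q1546 : ∀ i, i < 1546 → P i := stepQ 1545 Q1545 (allL N1545 (tt N1135 F2590) (tt N1140 F13260) (tt N1545 F14143) (tt N1134 (iv D1458)) (tt N1881 D2977) (tt N1882 D2978) (tt N1135 (iv F13386)))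
theorem Q1547 : ∀ i, i < 1547 → P i := stepQ 1546 Q1546 (allL N1546 (tt N1137 F2592) (tt N1143 F13251) (tt N1550 (iv F2603)) (tt N1137 (iv F13385)) (tt N1540 F2594) (tt N1137 F2595) (tt N1134 (iv D1459)))
theorem Q1548 : ∀ i, i < 1548 → P i := stepQ 1547 Q1547 (allL N1547 (tt N1881 (iv F5218)) (tt N1138 F2596) (tt N1547 F14144) (tt N1883 D2986) (tt N1135 (iv D1461)) (tt N1884 D2987) (tt N1881 F13538))
theorem Q1549 : ∀ i, i < 1549 → P i := stepQ 1548 Q1548 (allL N1548 (tt N1882 (iv F5221)) (tt N1139 F2597) (tt N1548 F14110) (tt N1873 (iv F2723)) (tt N1884 (iv F5235)) (tt N1135 (iv D1462)) (tt N1637 D2989))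
theorem Q1550 : ∀ i, i < 1550 → P i := stepQ 1549 Q1549 (allL N1549 (tt N1539 F2599) (tt N1141 F2600) (tt N1885 D2992) (tt N1136 (iv D1464)) (tt N1883 (iv F5233)) (tt N1886 D2993) (tt N1887 D2994))
theorem Q1551 : ∀ i, i < 1551 → P i := stepQ 1550 Q1550 (allL N1550 (tt N1540 F2601) (tt N1142 F2602) (tt N1546 F2603) (tt N1770 D2995) (tt N1137 F2604) (tt N1540 F2605) (tt N1136 (iv D1465)))
theorem Q1552 : ∀ i, i < 1552 → P i := stepQ 1551 Q1551 (allL N1551 (tt N1203 (iv F5063)) (tt N1883 (iv F5232)) (tt N1888 D3010) (tt N1138 (iv D1471)) (tt N1141 F2610) (tt N1835 D3011) (tt N1889 D3012))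
theorem Q1553 : ∀ i, i < 1553 → P i := stepQ 1552 Q1552 (allL N1552 (tt N1204 (iv F5065)) (tt N1884 (iv F5234)) (tt N1212 F14011) (tt N1287 D3013) (tt N1139 F2611) (tt N1138 (iv D1472)) (tt N1554 (iv F2616)))
theorem Q1554 : ∀ i, i < 1554 → P i := stepQ 1553 Q1553 (allL N1553 (tt N1205 (iv F5067)) (tt N1881 (iv F13387)) (tt N1214 F14061) (tt N1541 (iv F13389)) (tt N1140 F2612) (tt N1215 (iv F2613)) (tt N1138 (iv D1473)))
theorem Q1555 : ∀ i, i < 1555 → P i := stepQ 1554 Q1554 (allL N1554 (tt N1207 (iv F5076)) (tt N1882 (iv F13388)) (tt N1216 F14111) (tt N1556 (iv F13390)) (tt N1215 F2615) (tt N1140 (iv D1476)) (tt N1552 F2616))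
theorem Q1556 : ∀ i, i < 1556 → P i := stepQ 1555 Q1555 (allL N1555 (tt N1208 (iv F5079)) (tt N1890 D3017) (tt N1141 (iv D1477)) (tt N1891 D3018) (tt N1888 (iv F5268)) (tt N1892 D3019) (tt N1893 D3020))
theorem Q1557 : ∀ i, i < 1557 → P i := stepQ 1556 Q1556 (allL N1556 (tt N1209 (iv F5080)) (tt N1886 (iv F5247)) (tt N1892 (iv F5271)) (tt N1554 F13390) (tt N1835 (iv F5269)) (tt N1141 (iv D1478)) (tt N1894 D3021))
theorem Q1558 : ∀ i, i < 1558 → P i := stepQ 1557 Q1557 (allL N1557 (tt N1210 (iv F5081)) (tt N1887 (iv F5250)) (tt N1893 (iv F5272)) (tt N1579 F13623) (tt N1889 (iv F5270)) (tt N1895 D3023) (tt N1141 (iv D1479)))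
theorem Q1559 : ∀ i, i < 1559 → P i := stepQ 1558 Q1558 (allL N1558 (tt N1211 (iv F5082)) (tt N1770 (iv F5252)) (tt N1583 F13627) (tt N1142 (iv D1480)) (tt N1544 F13536) (tt N1896 D3026) (tt N1579 F13628))
theorem Q1560 : ∀ i, i < 1560 → P i := stepQ 1559 Q1559 (allL N1559 (tt N1212 (iv F5088)) (tt N1560 (iv F2629)) (tt N1204 (iv F14012)) (tt N1146 F2620) (tt N1144 (iv D1486)) (tt N1201 (iv F13994)) (tt N1560 (iv F2631)))
theorem Q1561 : ∀ i, i < 1561 → P i := stepQ 1560 Q1560 (allL N1560 (tt N1216 (iv F5111)) (tt N1559 F2629) (tt N1207 F14078) (tt N1160 F2630) (tt N1148 (iv D1494)) (tt N1202 F14079) (tt N1559 F2631))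
theorem Q1562 : ∀ i, i < 1562 → P i := stepQ 1561 Q1561 (allL N1561 (tt N1219 (iv F5134)) (tt N1563 (iv F2678)) (tt N1897 D3078) (tt N1151 (iv D1507)) (tt N1157 F2646) (tt N1563 (iv F2680)) (tt N1625 D3079))
theorem Q1563 : ∀ i, i < 1563 → P i := stepQ 1562 Q1562 (allL N1562 (tt N1227 (iv F5174)) (tt N1898 D3123) (tt N1152 (iv D1528)) (tt N1613 D3124) (tt N1615 (iv F5409)) (tt N1852 D3125) (tt N1613 F13417))
theorem Q1564 : ∀ i, i < 1564 → P i := stepQ 1563 Q1563 (allL N1563 (tt N1231 (iv F5183)) (tt N1561 F2678) (tt N1827 (iv F5431)) (tt N1155 F2679) (tt N1153 (iv D1537)) (tt N1561 F2680) (tt N1626 (iv F5355)))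
theorem Q1565 : ∀ i, i < 1565 → P i := stepQ 1564 Q1564 (allL N1564 (tt N1232 (iv F5189)) (tt N1419 (iv F5433)) (tt N1844 D3145) (tt N1154 (iv D1539)) (tt N1232 (iv F14010)) (tt N1899 D3147) (tt N1639 D3148))
theorem Q1566 : ∀ i, i < 1566 → P i := stepQ 1565 Q1565 (allL N1565 (tt N1233 (iv F5199)) (tt N1273 F2686) (tt N1900 D3149) (tt N1156 (iv D1542)) (tt N1625 (iv F5349)) (tt N1626 (iv F5354)) (tt N1157 F2687))
theorem Q1567 : ∀ i, i < 1567 → P i := stepQ 1566 Q1566 (allL N1566 (tt N1234 (iv F5202)) (tt N1901 D3150) (tt N1157 (iv D1543)) (tt N1901 F14509) (tt N1897 (iv F5347)) (tt N1462 F2688) (tt N1900 (iv F5441)))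
theorem Q1568 : ∀ i, i < 1568 → P i := stepQ 1567 Q1567 (allL N1567 (tt N1236 (iv F5207)) (tt N1330 (iv F5444)) (tt N1705 (iv F5454)) (tt N1329 D3162) (tt N1158 (iv D1547)) (tt N1902 D3163) (tt N1596 D3164))
theorem Q1569 : ∀ i, i < 1569 → P i := stepQ 1568 Q1568 (allL N1568 (tt N1237 (iv F5208)) (tt N1809 (iv F5445)) (tt N1706 (iv F5455)) (tt N1899 (iv F5438)) (tt N1902 (iv F5458)) (tt N1158 (iv D1548)) (tt N1903 D3165))
theorem Q1570 : ∀ i, i < 1570 → P i := stepQ 1569 Q1569 (allL N1569 (tt N1238 (iv F5210)) (tt N1331 (iv F5317)) (tt N1662 D3168) (tt N1159 (iv D1550)) (tt N1329 (iv F5457)) (tt N1238 (iv F14009)) (tt N1345 D3170))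
theorem Q1571 : ∀ i, i < 1571 → P i := stepQ 1570 Q1570 (allL N1570 (tt N1846 (iv F14390)) (tt N1162 (iv D1637)) (tt N1468 (iv F5718)) (tt N1602 (iv F5471)) (tt N1904 D3370) (tt N1467 D3371) (tt N1905 D3372))
theorem Q1572 : ∀ i, i < 1572 → P i := stepQ 1571 Q1571 (allL N1571 (tt N1245 (iv F5557)) (tt N1904 (iv F5747)) (tt N1163 F2789) (tt N1906 D3373) (tt N1162 (iv D1638)) (tt N1907 D3374) (tt N1908 D3375))
theorem Q1573 : ∀ i, i < 1573 → P i := stepQ 1572 Q1572 (allL N1572 (tt N1246 (iv F5559)) (tt N1467 (iv F5748)) (tt N1164 F2790) (tt N1909 D3376) (tt N1907 (iv F5751)) (tt N1162 (iv D1639)) (tt N1849 D3377))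
theorem Q1574 : ∀ i, i < 1574 → P i := stepQ 1573 Q1573 (allL N1573 (tt N1247 (iv F5561)) (tt N1905 (iv F5749)) (tt N1165 F2791) (tt N1905 F14415) (tt N1908 (iv F5753)) (tt N1813 D3379) (tt N1162 (iv D1640)))
theorem Q1575 : ∀ i, i < 1575 → P i := stepQ 1574 Q1574 (allL N1574 (tt N1249 (iv F5659)) (tt N1472 (iv F5726)) (tt N1907 (iv F5750)) (tt N1536 D3383) (tt N1164 F2793) (tt N1163 (iv D1642)) (tt N1428 (iv F2798)))
theorem Q1576 : ∀ i, i < 1576 → P i := stepQ 1575 Q1575 (allL N1575 (tt N1250 (iv F14125)) (tt N1763 (iv F5728)) (tt N1908 (iv F5752)) (tt N1616 (iv F14132)) (tt N1165 F2794) (tt N1576 (iv F2795)) (tt N1163 (iv D1643)))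
theorem Q1577 : ∀ i, i < 1577 → P i := stepQ 1576 Q1576 (allL N1576 (tt N1251 (iv F5663)) (tt N1475 (iv F5730)) (tt N1849 (iv F5754)) (tt N1590 (iv F14160)) (tt N1428 (iv F2797)) (tt N1575 F2795) (tt N1164 (iv D1644)))
theorem Q1578 : ∀ i, i < 1578 → P i := stepQ 1577 Q1577 (allL N1577 (tt N1910 D3437) (tt N1167 (iv D1668)) (tt N1409 (iv F5817)) (tt N1612 (iv F5506)) (tt N1910 (iv F13520)) (tt N1911 D3439) (tt N1912 (iv F13521)))
theorem Q1579 : ∀ i, i < 1579 → P i := stepQ 1578 Q1578 (allL N1578 (tt N1262 (iv F5615)) (tt N1910 (iv F13519)) (tt N1168 F2824) (tt N1615 F13377) (tt N1167 (iv D1669)) (tt N1879 (iv F13626)) (tt N1896 (iv F13523)))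
theorem Q1580 : ∀ i, i < 1580 → P i := stepQ 1579 Q1579 (allL N1579 (tt N1263 (iv F5617)) (tt N1911 (iv F5846)) (tt N1169 F2825) (tt N1557 (iv F13623)) (tt N1879 (iv F13625)) (tt N1167 (iv D1670)) (tt N1558 (iv F13628)))
theorem Q1581 : ∀ i, i < 1581 → P i := stepQ 1580 Q1580 (allL N1580 (tt N1264 (iv F5497)) (tt N1912 (iv F5552)) (tt N1170 F13466) (tt N1896 (iv F5278)) (tt N1896 (iv F13524)) (tt N1544 (iv D1591)) (tt N1167 F13467))
theorem Q1582 : ∀ i, i < 1582 → P i := stepQ 1581 Q1581 (allL N1581 (tt N1265 (iv F5687)) (tt N1413 (iv F5824)) (tt N1879 (iv F13624)) (tt N1913 D3451) (tt N1169 F2828) (tt N1168 (iv D1673)) (tt N1584 (iv F13470)))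
theorem Q1583 : ∀ i, i < 1583 → P i := stepQ 1582 Q1582 (allL N1582 (tt N1266 (iv F5689)) (tt N1414 (iv F5826)) (tt N1896 (iv F13522)) (tt N1914 D3452) (tt N1170 F2829) (tt N1583 (iv F2831)) (tt N1168 (iv D1674)))
theorem Q1584 : ∀ i, i < 1584 → P i := stepQ 1583 Q1583 (allL N1583 (tt N1267 (iv F5696)) (tt N1368 (iv F5830)) (tt N1558 (iv F13627)) (tt N1859 D3456) (tt N1584 (iv F13468)) (tt N1582 F2831) (tt N1169 (iv D1676)))
theorem Q1585 : ∀ i, i < 1585 → P i := stepQ 1584 Q1584 (allL N1584 (tt N1268 (iv F5495)) (tt N1415 D3260) (tt N1544 (iv D1589)) (tt N1283 D3261) (tt N1583 F13468) (tt N1170 F13469) (tt N1581 F13470))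
theorem Q1586 : ∀ i, i < 1586 → P i := stepQ 1585 Q1585 (allL N1585 (tt N1272 F14004) (tt N1421 (iv F9472)) (tt N1915 D5372) (tt N1171 (iv D2749)) (tt N1178 F4849) (tt N1213 F14005) (tt N1752 D5373))
theorem Q1587 : ∀ i, i < 1587 → P i := stepQ 1586 Q1586 (allL N1586 (tt N1704 D5633) (tt N1172 (iv D2877)) (tt N1280 (iv F14357)) (tt N1429 D5634) (tt N1588 F14344) (tt N1587 (iv F14356)) (tt N1276 (iv F13799)))
theorem Q1588 : ∀ i, i < 1588 → P i := stepQ 1587 Q1587 (allL N1587 (tt N1278 (iv F8281)) (tt N1588 F14355) (tt N1173 F5031) (tt N1855 D5641) (tt N1172 (iv D2879)) (tt N1586 F14356) (tt N1278 (iv F13801)))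
theorem Q1589 : ∀ i, i < 1589 → P i := stepQ 1588 Q1588 (allL N1588 (tt N1276 F14339) (tt N1587 (iv F14355)) (tt N1174 F5032) (tt N1507 D5644) (tt N1586 (iv F14344)) (tt N1172 (iv D2880)) (tt N1704 (iv F14343)))
theorem Q1590 : ∀ i, i < 1590 → P i := stepQ 1589 Q1589 (allL N1589 (tt N1283 F14001) (tt N1812 D7268) (tt N1176 (iv D5111)) (tt N1268 F14002) (tt N1500 D7269) (tt N1283 F14003) (tt N1756 D7270))
theorem Q1591 : ∀ i, i < 1591 → P i := stepQ 1590 Q1590 (allL N1590 (tt N1284 F13508) (tt N1447 (iv F10646)) (tt N1177 F13988) (tt N1576 F14160) (tt N1177 F13989) (tt N1486 (iv D3309)) (tt N1284 F5641))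
theorem Q1592 : ∀ i, i < 1592 → P i := stepQ 1591 Q1591 (allL N1591 (tt N1287 (iv F9191)) (tt N1916 D7271) (tt N1178 (iv D5123)) (tt N1204 F9193) (tt N1915 (iv F9576)) (tt N1723 (iv F14701)) (tt N1917 D7272))
theorem Q1593 : ∀ i, i < 1593 → P i := stepQ 1592 Q1592 (allL N1592 (tt N1288 F9104) (tt N1390 (iv F15123)) (tt N1917 (iv F15160)) (tt N1405 (iv F9124)) (tt N1752 (iv F9578)) (tt N1387 (iv F14535)) (tt N1178 (iv D5124)))
theorem Q1594 : ∀ i, i < 1594 → P i := stepQ 1593 Q1593 (allL N1593 (tt N1289 F9105) (tt N1593 F14600) (tt N1179 (iv D5125)) (tt N1918 D7273) (tt N1711 (iv F15003)) (tt N1919 D7274) (tt N1716 (iv F15014)))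
theorem Q1595 : ∀ i, i < 1595 → P i := stepQ 1594 Q1594 (allL N1594 (tt N1291 F9108) (tt N1810 (iv F14602)) (tt N1919 (iv F15172)) (tt N1597 F14100) (tt N1712 (iv F14589)) (tt N1179 (iv D5127)) (tt N1291 F14270))
theorem Q1596 : ∀ i, i < 1596 → P i := stepQ 1595 Q1595 (allL N1595 (tt N1292 F14006) (tt N1681 (iv F10846)) (tt N1180 F5456) (tt N1292 (iv F14554)) (tt N1920 (iv F10850)) (tt N1680 D6193) (tt N1277 (iv D3161)))
theorem Q1597 : ∀ i, i < 1597 → P i := stepQ 1596 Q1596 (allL N1596 (tt N1293 F14007) (tt N1452 (iv F10834)) (tt N1920 (iv F10849)) (tt N1451 (iv F14099)) (tt N1180 F5459) (tt N1903 (iv F5460)) (tt N1567 (iv D3164)))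
theorem Q1598 : ∀ i, i < 1598 → P i := stepQ 1597 Q1597 (allL N1597 (tt N1294 F14008) (tt N1454 F14346) (tt N1680 (iv F10853)) (tt N1594 (iv F14100)) (tt N1903 F5462) (tt N1180 (iv D3167)) (tt N1902 F5463))
theorem Q1599 : ∀ i, i < 1599 → P i := stepQ 1598 Q1598 (allL N1598 (tt N1622 (iv F10052)) (tt N1186 F14418) (tt N1181 (iv D3174)) (tt N1921 D6217) (tt N1922 D6218) (tt N1923 D6219) (tt N1181 (iv F14427)))
theorem Q1600 : ∀ i, i < 1600 → P i := stepQ 1599 Q1599 (allL N1599 (tt N1620 (iv F10036)) (tt N1184 F5466) (tt N1922 (iv F10878)) (tt N1195 F14165) (tt N1181 (iv D3175)) (tt N1924 D6221) (tt N1922 (iv F14434)))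
theorem Q1601 : ∀ i, i < 1601 → P i := stepQ 1600 Q1600 (allL N1600 (tt N1623 (iv F10053)) (tt N1185 F5467) (tt N1923 (iv F10879)) (tt N1197 F5468) (tt N1924 (iv F10882)) (tt N1181 (iv D3176)) (tt N1925 D6223))
theorem Q1602 : ∀ i, i < 1602 → P i := stepQ 1601 Q1601 (allL N1601 (tt N1624 (iv F10058)) (tt N1187 F5470) (tt N1926 D6226) (tt N1182 (iv D3178)) (tt N1624 (iv F13698)) (tt N1694 D6228) (tt N1921 (iv F14431)))
theorem Q1603 : ∀ i, i < 1603 → P i := stepQ 1602 Q1602 (allL N1602 (tt N1672 (iv F14401)) (tt N1183 (iv D3179)) (tt N1186 (iv F14407)) (tt N1570 F5471) (tt N1927 (iv F10473)) (tt N1928 D6229) (tt N1183 (iv F14406)))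
theorem Q1604 : ∀ i, i < 1604 → P i := stepQ 1603 Q1603 (allL N1603 (tt N1670 F5472) (tt N1927 (iv F10472)) (tt N1184 F5473) (tt N1900 F14136) (tt N1183 (iv D3180)) (tt N1929 (iv F10479)) (tt N1927 (iv F14410)))
theorem Q1605 : ∀ i, i < 1605 → P i := stepQ 1604 Q1604 (allL N1604 (tt N1671 F5474) (tt N1928 (iv F10895)) (tt N1185 F5475) (tt N1930 D6232) (tt N1929 F10480) (tt N1183 (iv D3181)) (tt N1931 D6233))
theorem Q1606 : ∀ i, i < 1606 → P i := stepQ 1605 Q1605 (allL N1605 (tt N1876 F5480) (tt N1924 (iv F10881)) (tt N1929 (iv F10478)) (tt N1915 F9577) (tt N1185 F5481) (tt N1184 (iv D3184)) (tt N1609 (iv F5490)))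
theorem Q1607 : ∀ i, i < 1607 → P i := stepQ 1606 Q1606 (allL N1606 (tt N1877 F5482) (tt N1922 (iv F14432)) (tt N1927 (iv F14408)) (tt N1629 (iv F13813)) (tt N1186 F5483) (tt N1607 (iv F5485)) (tt N1184 (iv D3185)))
theorem Q1608 : ∀ i, i < 1608 → P i := stepQ 1607 Q1607 (allL N1607 (tt N1878 F5484) (tt N1925 (iv F10885)) (tt N1931 (iv F10903)) (tt N1783 (iv F14142)) (tt N1609 (iv F5489)) (tt N1606 F5485) (tt N1185 (iv D3186)))
theorem Q1609 : ∀ i, i < 1609 → P i := stepQ 1608 Q1608 (allL N1608 (tt N1879 F5486) (tt N1921 (iv F14428)) (tt N1265 F13650) (tt N1186 (iv D3187)) (tt N1263 F13651) (tt N1262 F13652) (tt N1187 F5487))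
theorem Q1610 : ∀ i, i < 1610 → P i := stepQ 1609 Q1609 (allL N1609 (tt N1880 F5488) (tt N1923 (iv F14435)) (tt N1928 (iv F14412)) (tt N1932 F14018) (tt N1607 F5489) (tt N1186 (iv D3188)) (tt N1605 F5490))
theorem Q1611 : ∀ i, i < 1611 → P i := stepQ 1610 Q1610 (allL N1610 (tt N1645 (iv F10231)) (tt N1933 D6247) (tt N1188 (iv D3195)) (tt N1402 D6248) (tt N1839 (iv F13507)) (tt N1379 D6250) (tt N1530 (iv F13426)))
theorem Q1612 : ∀ i, i < 1612 → P i := stepQ 1611 Q1611 (allL N1611 (tt N1525 F5370) (tt N1192 F5371) (tt N1530 D6057) (tt N1222 (iv D3092)) (tt N1511 F5372) (tt N1513 D6058) (tt N1188 (iv F13428)))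
theorem Q1613 : ∀ i, i < 1613 → P i := stepQ 1612 Q1612 (allL N1612 (tt N1934 (iv F10746)) (tt N1189 (iv D3200)) (tt N1933 (iv F10933)) (tt N1577 F5506) (tt N1935 (iv F10761)) (tt N1936 D6260) (tt N1934 (iv F13421)))
theorem Q1614 : ∀ i, i < 1614 → P i := stepQ 1613 Q1613 (allL N1613 (tt N1649 (iv F13281)) (tt N1935 (iv F13418)) (tt N1190 F13274) (tt N1562 (iv D3124)) (tt N1189 (iv F13370)) (tt N1937 D6120) (tt N1562 (iv F13417)))
theorem Q1615 : ∀ i, i < 1615 → P i := stepQ 1614 Q1614 (allL N1614 (tt N1695 F5509) (tt N1936 (iv F10951)) (tt N1191 F5510) (tt N1895 (iv F13758)) (tt N1937 F13506) (tt N1189 (iv D3202)) (tt N1852 (iv F13434)))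
theorem Q1616 : ∀ i, i < 1616 → P i := stepQ 1615 Q1615 (allL N1615 (tt N1646 (iv F13412)) (tt N1934 D6102) (tt N1192 (iv D3116)) (tt N1578 (iv F13377)) (tt N1562 F5409) (tt N1938 (iv F13759)) (tt N1189 F13273))
theorem Q1617 : ∀ i, i < 1617 → P i := stepQ 1616 Q1616 (allL N1616 (tt N1651 (iv F13435)) (tt N1380 (iv F10700)) (tt N1937 (iv F13424)) (tt N1575 F14132) (tt N1191 (iv F13430)) (tt N1190 (iv D3129)) (tt N1617 F5418))
theorem Q1618 : ∀ i, i < 1618 → P i := stepQ 1617 Q1617 (allL N1617 (tt N1647 (iv F13416)) (tt N1513 (iv F10677)) (tt N1938 F13950) (tt N1503 (iv F14172)) (tt N1501 F5410) (tt N1192 (iv D3117)) (tt N1616 (iv F5418)))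
theorem Q1619 : ∀ i, i < 1619 → P i := stepQ 1618 Q1618 (allL N1618 (tt N1197 F10027) (tt N1207 F13486) (tt N1621 F14114) (tt N1623 (iv F10055)) (tt N1619 (iv F14116)) (tt N1193 (iv D5676)) (tt N1621 F13488))
theorem Q1620 : ∀ i, i < 1620 → P i := stepQ 1619 Q1619 (allL N1619 (tt N1621 (iv F14115)) (tt N1206 (iv D3049)) (tt N1197 F14112) (tt N1939 D5962) (tt N1618 F14116) (tt N1195 F14113) (tt N1197 F14117))
theorem Q1621 : ∀ i, i < 1621 → P i := stepQ 1620 Q1620 (allL N1620 (tt N1599 F10036) (tt N1203 F10037) (tt N1940 D7285) (tt N1196 (iv D5683)) (tt N1198 F10038) (tt N1941 D7286) (tt N1940 F15219))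
theorem Q1622 : ∀ i, i < 1622 → P i := stepQ 1621 Q1621 (allL N1621 (tt N1619 F14115) (tt N1204 F10039) (tt N1618 (iv F14114)) (tt N1916 (iv F15158)) (tt N1197 F10040) (tt N1196 (iv D5684)) (tt N1618 (iv F13488)))
theorem Q1623 : ∀ i, i < 1623 → P i := stepQ 1622 Q1622 (allL N1622 (tt N1598 F10052) (tt N1210 F14425) (tt N1198 (iv D5689)) (tt N1693 F14485) (tt N1940 (iv F15217)) (tt N1942 (iv F14484)) (tt N1198 F14426))
theorem Q1624 : ∀ i, i < 1624 → P i := stepQ 1623 Q1623 (allL N1623 (tt N1600 F10053) (tt N1209 F10054) (tt N1942 (iv F14476)) (tt N1618 F10055) (tt N1941 (iv F15222)) (tt N1198 (iv D5690)) (tt N1943 D7287))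
theorem Q1625 : ∀ i, i < 1625 → P i := stepQ 1624 Q1624 (allL N1624 (tt N1601 F10058) (tt N1211 F10059) (tt N1738 D7288) (tt N1199 (iv D5692)) (tt N1601 F13698) (tt N1944 D7289) (tt N1693 (iv F13648)))
theorem Q1626 : ∀ i, i < 1626 → P i := stepQ 1625 Q1625 (allL N1625 (tt N1641 F13938) (tt N1626 (iv F5352)) (tt N1906 (iv F14069)) (tt N1201 (iv F13993)) (tt N1565 F5349) (tt N1273 F5350) (tt N1561 (iv D3079)))
theorem Q1627 : ∀ i, i < 1627 → P i := stepQ 1626 Q1626 (allL N1626 (tt N1643 F13937) (tt N1625 F5352) (tt N1891 (iv F14067)) (tt N1202 (iv F13998)) (tt N1273 (iv D3081)) (tt N1565 F5354) (tt N1563 F5355))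
theorem Q1628 : ∀ i, i < 1628 → P i := stepQ 1627 Q1627 (allL N1627 (tt N1888 F10062) (tt N1945 (iv F10064)) (tt N1203 (iv D5695)) (tt N1678 (iv F11234)) (tt N1208 F10063) (tt N1946 D7290) (tt N1945 F14419))
theorem Q1629 : ∀ i, i < 1629 → P i := stepQ 1628 Q1628 (allL N1628 (tt N1835 F10065) (tt N1941 (iv F15221)) (tt N1946 (iv F15238)) (tt N1723 F14700) (tt N1209 F10066) (tt N1203 (iv D5696)) (tt N1635 F13863))
theorem Q1630 : ∀ i, i < 1630 → P i := stepQ 1629 Q1629 (allL N1629 (tt N1889 F10067) (tt N1940 (iv F15216)) (tt N1945 F14452) (tt N1606 F13813) (tt N1210 F10068) (tt N1634 (iv F10086)) (tt N1203 (iv D5697)))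
theorem Q1631 : ∀ i, i < 1631 → P i := stepQ 1630 Q1630 (allL N1630 (tt N1638 F14118) (tt N1939 (iv F10547)) (tt N1213 (iv F13860)) (tt N1206 (iv D3050)) (tt N1723 D5964) (tt N1915 (iv F14046)) (tt N1783 D5966))
theorem Q1632 : ∀ i, i < 1632 → P i := stepQ 1631 Q1631 (allL N1631 (tt N1893 F14454) (tt N1208 (iv D5701)) (tt N1210 F14455) (tt N1947 D7291) (tt N1945 F10074) (tt N1948 (iv F14478)) (tt N1208 F14456))
theorem Q1633 : ∀ i, i < 1633 → P i := stepQ 1632 Q1632 (allL N1632 (tt N1891 F10076) (tt N1947 (iv F15243)) (tt N1643 F13556) (tt N1208 (iv D5702)) (tt N1642 (iv F10078)) (tt N1657 (iv F10079)) (tt N1653 F14686))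
theorem Q1634 : ∀ i, i < 1634 → P i := stepQ 1633 Q1633 (allL N1633 (tt N1892 F10080) (tt N1948 F14474) (tt N1209 F10081) (tt N1949 F10082) (tt N1946 (iv F15239)) (tt N1208 (iv D5703)) (tt N1950 F14480))
theorem Q1635 : ∀ i, i < 1635 → P i := stepQ 1634 Q1634 (allL N1634 (tt N1894 F10085) (tt N1943 (iv F15225)) (tt N1950 (iv F14481)) (tt N1917 (iv F15161)) (tt N1635 F13862) (tt N1629 F10086) (tt N1209 (iv D5705)))
theorem Q1636 : ∀ i, i < 1636 → P i := stepQ 1635 Q1635 (allL N1635 (tt N1895 (iv F13757)) (tt N1942 (iv F11150)) (tt N1948 D6426) (tt N1695 (iv D3290)) (tt N1634 (iv F13862)) (tt N1210 F13718) (tt N1628 (iv F13863)))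
theorem Q1637 : ∀ i, i < 1637 → P i := stepQ 1636 Q1636 (allL N1636 (tt N1896 F10098) (tt N1944 (iv F15232)) (tt N1266 F13587) (tt N1264 F10099) (tt N1264 F13592) (tt N1211 (iv D5710)) (tt N1262 F13588))
theorem Q1638 : ∀ i, i < 1638 → P i := stepQ 1637 Q1637 (allL N1637 (tt N1884 (iv F13547)) (tt N1215 F5238) (tt N1637 F14139) (tt N1951 D5852) (tt N1882 F13545) (tt N1881 F13546) (tt N1548 (iv D2989)))
theorem Q1639 : ∀ i, i < 1639 → P i := stepQ 1638 Q1638 (allL N1638 (tt N1630 (iv F14118)) (tt N1951 (iv F10392)) (tt N1471 (iv F14140)) (tt N1215 (iv D3015)) (tt N1470 (iv F13704)) (tt N1699 (iv F13702)) (tt N1794 (iv F5576)))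
theorem Q1640 : ∀ i, i < 1640 → P i := stepQ 1639 Q1639 (allL N1639 (tt N1656 F5439) (tt N1348 (iv F10806)) (tt N1952 (iv F10813)) (tt N1218 F13912) (tt N1656 (iv F14031)) (tt N1863 D6163) (tt N1564 (iv D3148)))
theorem Q1641 : ∀ i, i < 1641 → P i := stepQ 1640 Q1640 (allL N1640 (tt N1897 F10188) (tt N1828 D7298) (tt N1219 (iv D5749)) (tt N1823 (iv F15178)) (tt N1234 F10189) (tt N1653 (iv F10287)) (tt N1673 F14685))
theorem Q1642 : ∀ i, i < 1642 → P i := stepQ 1641 Q1641 (allL N1641 (tt N1625 (iv F13938)) (tt N1641 F14060) (tt N1673 D5881) (tt N1269 (iv D3003)) (tt N1233 F13907) (tt N1220 F9190) (tt N1219 (iv F14025)))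
theorem Q1643 : ∀ i, i < 1643 → P i := stepQ 1642 Q1642 (allL N1642 (tt N1701 (iv F13927)) (tt N1953 D7282) (tt N1220 (iv D5389)) (tt N1252 F9599) (tt N1632 F10078) (tt N1673 (iv F10451)) (tt N1230 F13904))
theorem Q1644 : ∀ i, i < 1644 → P i := stepQ 1643 Q1643 (allL N1643 (tt N1626 (iv F13937)) (tt N1643 F14059) (tt N1632 (iv F13556)) (tt N1270 (iv D3008)) (tt N1220 (iv F13557)) (tt N1233 F13905) (tt N1231 F13906))
theorem Q1645 : ∀ i, i < 1645 → P i := stepQ 1644 Q1644 (allL N1644 (tt N1487 (iv F5387)) (tt N1224 F2741) (tt N1954 (iv F5597)) (tt N1221 F2742) (tt N1223 (iv F13571)) (tt N1730 D3275) (tt N1354 (iv D1595)))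
theorem Q1646 : ∀ i, i < 1646 → P i := stepQ 1645 Q1645 (allL N1645 (tt N1610 F10231) (tt N1955 D7300) (tt N1223 (iv D5768)) (tt N1750 D7301) (tt N1954 F13707) (tt N1729 F13708) (tt N1821 F13709))
theorem Q1647 : ∀ i, i < 1647 → P i := stepQ 1646 Q1646 (allL N1646 (tt N1615 F13412) (tt N1956 (iv F13574)) (tt N1224 F2748) (tt N1262 (iv F13440)) (tt N1227 F13413) (tt N1932 D3293) (tt N1261 (iv D1601)))
theorem Q1648 : ∀ i, i < 1648 → P i := stepQ 1647 Q1647 (allL N1647 (tt N1617 F13416) (tt N1730 (iv F5606)) (tt N1932 (iv F5627)) (tt N1679 D3303) (tt N1228 F2754) (tt N1224 (iv D1607)) (tt N1651 F2755))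
theorem Q1649 : ∀ i, i < 1649 → P i := stepQ 1648 Q1648 (allL N1648 (tt N1957 (iv F10254)) (tt N1227 (iv D5780)) (tt N1955 (iv F15294)) (tt N1957 F13580) (tt N1956 F10253) (tt N1958 F13581) (tt N1957 F13582))
theorem Q1650 : ∀ i, i < 1650 → P i := stepQ 1649 Q1649 (allL N1649 (tt N1613 F13281) (tt N1957 (iv F5612)) (tt N1229 F2746) (tt N1227 (iv F13439)) (tt N1261 (iv D1599)) (tt N1959 D3288) (tt N1227 F13397))
theorem Q1651 : ∀ i, i < 1651 → P i := stepQ 1650 Q1650 (allL N1650 (tt N1852 F13567) (tt N1958 (iv F11151)) (tt N1228 F5625) (tt N1960 D6429) (tt N1932 (iv F5628)) (tt N1227 F13568) (tt N1695 (iv D3291)))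
theorem Q1652 : ∀ i, i < 1652 → P i := stepQ 1651 Q1651 (allL N1651 (tt N1616 F13435) (tt N1356 (iv F5598)) (tt N1959 (iv F5621)) (tt N1250 D3297) (tt N1351 F2750) (tt N1229 (iv D1603)) (tt N1647 (iv F2755)))
theorem Q1653 : ∀ i, i < 1653 → P i := stepQ 1652 Q1652 (allL N1652 (tt N1828 (iv F15287)) (tt N1230 (iv D5791)) (tt N1652 F10283) (tt N1825 D7302) (tt N1961 D7303) (tt N1658 (iv F10303)) (tt N1953 (iv F15203)))
theorem Q1654 : ∀ i, i < 1654 → P i := stepQ 1653 Q1653 (allL N1653 (tt N1827 F10285) (tt N1961 (iv F15305)) (tt N1231 F10286) (tt N1961 (iv F15307)) (tt N1230 (iv D5793)) (tt N1640 F10287) (tt N1632 (iv F14686)))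
theorem Q1655 : ∀ i, i < 1655 → P i := stepQ 1654 Q1654 (allL N1654 (tt N1844 F10295) (tt N1909 F14370) (tt N1232 (iv D5796)) (tt N1467 F14371) (tt N1844 F14107) (tt N1962 D7307) (tt N1963 (iv F10610)))
theorem Q1656 : ∀ i, i < 1656 → P i := stepQ 1655 Q1655 (allL N1655 (tt N1899 F10298) (tt N1357 (iv F15317)) (tt N1962 (iv F15322)) (tt N1237 F10299) (tt N1899 F14108) (tt N1232 (iv D5798)) (tt N1863 F14109))
theorem Q1657 : ∀ i, i < 1657 → P i := stepQ 1656 Q1656 (allL N1656 (tt N1639 (iv F5439)) (tt N1416 (iv F13931)) (tt N1963 D6017) (tt N1271 (iv D3075)) (tt N1639 F14031) (tt N1964 (iv F10606)) (tt N1232 F5346))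
theorem Q1658 : ∀ i, i < 1658 → P i := stepQ 1657 Q1657 (allL N1657 (tt N1900 (iv F14094)) (tt N1965 (iv F14457)) (tt N1233 F14024) (tt N1670 (iv D3237)) (tt N1673 (iv F10450)) (tt N1632 F10079) (tt N1234 (iv F14120)))
theorem Q1659 : ∀ i, i < 1659 → P i := stepQ 1658 Q1658 (allL N1658 (tt N1961 (iv F15304)) (tt N1234 (iv D5800)) (tt N1658 F10302) (tt N1827 F14502) (tt N1828 (iv F15290)) (tt N1652 F10303) (tt N1965 F14501))
theorem Q1660 : ∀ i, i < 1660 → P i := stepQ 1659 Q1659 (allL N1659 (tt N1901 (iv F14505)) (tt N1827 F14503) (tt N1720 (iv F14506)) (tt N1234 (iv D5801)) (tt N1822 (iv F14508)) (tt N1720 F14504) (tt N1966 (iv F14528)))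
theorem Q1661 : ∀ i, i < 1661 → P i := stepQ 1660 Q1660 (allL N1660 (tt N1705 F9982) (tt N1506 F14536) (tt N1236 F9983) (tt N1505 F14257) (tt N1235 (iv D5638)) (tt N1792 D7284) (tt N1669 F14561))
theorem Q1662 : ∀ i, i < 1662 → P i := stepQ 1661 Q1661 (allL N1661 (tt N1706 F9984) (tt N1247 F14566) (tt N1237 F9985) (tt N1854 (iv F14239)) (tt N1792 (iv F15213)) (tt N1235 (iv D5639)) (tt N1243 F14567))
theorem Q1663 : ∀ i, i < 1663 → P i := stepQ 1662 Q1662 (allL N1662 (tt N1329 F14259) (tt N1332 D6204) (tt N1569 (iv D3168)) (tt N1236 (iv F14263)) (tt N1238 (iv F14262)) (tt N1329 F14260) (tt N1343 D6207))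
theorem Q1664 : ∀ i, i < 1664 → P i := stepQ 1663 Q1663 (allL N1663 (tt N1902 F10313) (tt N1358 (iv F15327)) (tt N1792 (iv F15212)) (tt N1902 F14269) (tt N1237 F10314) (tt N1236 (iv D5808)) (tt N1294 (iv F13841)))
theorem Q1665 : ∀ i, i < 1665 → P i := stepQ 1664 Q1664 (allL N1664 (tt N1903 F10317) (tt N1239 F14521) (tt N1243 F14522) (tt N1847 F14523) (tt N1294 (iv F13840)) (tt N1293 (iv F13838)) (tt N1237 (iv D5810)))
theorem Q1666 : ∀ i, i < 1666 → P i := stepQ 1665 Q1665 (allL N1665 (tt N1517 F5709) (tt N1248 F5710) (tt N1824 (iv F14348)) (tt N1240 F5711) (tt N1242 (iv D3347)) (tt N1523 D6523) (tt N1865 (iv F14307)))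
theorem Q1667 : ∀ i, i < 1667 → P i := stepQ 1666 Q1666 (allL N1666 (tt N1243 F14387) (tt N1678 F14388) (tt N1903 F10851) (tt N1945 F14389) (tt N1680 (iv F10854)) (tt N1920 F10852) (tt N1706 (iv D6191)))
theorem Q1668 : ∀ i, i < 1668 → P i := stepQ 1667 Q1667 (allL N1667 (tt N1945 D3229) (tt N1244 (iv D1575)) (tt N1889 (iv F14438)) (tt N1243 D3230) (tt N1893 (iv F14441)) (tt N1967 D3232) (tt N1888 F14421))
theorem Q1669 : ∀ i, i < 1669 → P i := stepQ 1668 Q1668 (allL N1668 (tt N1680 (iv F14365)) (tt N1245 F11029) (tt N1294 (iv F14574)) (tt N1968 (iv F15354)) (tt N1243 (iv D6311)) (tt N1292 F14556) (tt N1792 (iv F15214)))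
theorem Q1670 : ∀ i, i < 1670 → P i := stepQ 1669 Q1669 (allL N1669 (tt N1920 (iv F14560)) (tt N1246 F11030) (tt N1293 F14559) (tt N1952 (iv F14562)) (tt N1292 F14555) (tt N1243 (iv D6312)) (tt N1660 (iv F14561)))
theorem Q1671 : ∀ i, i < 1671 → P i := stepQ 1670 Q1670 (allL N1670 (tt N1603 (iv F5472)) (tt N1893 (iv F14440)) (tt N1541 F2728) (tt N1657 D3237) (tt N1244 (iv D1577)) (tt N1949 D3238) (tt N1890 F14424))
theorem Q1672 : ∀ i, i < 1672 → P i := stepQ 1671 Q1671 (allL N1671 (tt N1604 (iv F5474)) (tt N1967 (iv F5555)) (tt N1542 F2729) (tt N1969 D3240) (tt N1949 (iv F5564)) (tt N1244 (iv D1578)) (tt N1970 D3241))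
theorem Q1673 : ∀ i, i < 1673 → P i := stepQ 1672 Q1672 (allL N1672 (tt N1602 F14401) (tt N1888 (iv F14416)) (tt N1543 F2730) (tt N1846 D3242) (tt N1890 (iv F14417)) (tt N1971 D3243) (tt N1244 (iv D1579)))
theorem Q1674 : ∀ i, i < 1674 → P i := stepQ 1673 Q1673 (allL N1673 (tt N1906 F10449) (tt N1968 D7314) (tt N1641 (iv D5881)) (tt N1245 F10452) (tt N1657 F10450) (tt N1642 F10451) (tt N1640 (iv F14685)))
theorem Q1675 : ∀ i, i < 1675 → P i := stepQ 1674 Q1674 (allL N1674 (tt N1907 F11044) (tt N1292 (iv F14553)) (tt N1249 F11045) (tt N1681 (iv F14334)) (tt N1246 F11046) (tt N1245 (iv D6321)) (tt N1429 (iv F14362)))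
theorem Q1676 : ∀ i, i < 1676 → P i := stepQ 1675 Q1675 (allL N1675 (tt N1908 F11047) (tt N1792 (iv F15211)) (tt N1250 F14154) (tt N1751 (iv F15505)) (tt N1247 F11049) (tt N1506 (iv F11054)) (tt N1245 (iv D6322)))
theorem Q1677 : ∀ i, i < 1677 → P i := stepQ 1676 Q1676 (allL N1676 (tt N1909 F11050) (tt N1952 F14563) (tt N1972 F14225) (tt N1246 (iv D6323)) (tt N1973 (iv F14218)) (tt N1969 F11051) (tt N1856 (iv F14573)))
theorem Q1678 : ∀ i, i < 1678 → P i := stepQ 1677 Q1677 (allL N1677 (tt N1905 F14403) (tt N1854 F14404) (tt N1848 (iv F15283)) (tt N1247 (iv D6325)) (tt N1853 F14405) (tt N1855 F14253) (tt N1846 F11056))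
theorem Q1679 : ∀ i, i < 1679 → P i := stepQ 1678 Q1678 (allL N1678 (tt N1726 F11233) (tt N1666 (iv F14388)) (tt N1248 (iv D6483)) (tt N1627 F11234) (tt N1252 F11235) (tt N1850 (iv F15528)) (tt N1974 (iv F14331)))
theorem Q1680 : ∀ i, i < 1680 → P i := stepQ 1679 Q1679 (allL N1679 (tt N1503 F14174) (tt N1865 (iv F14304)) (tt N1974 (iv F14328)) (tt N1647 (iv D3303)) (tt N1254 F14175) (tt N1498 F5636) (tt N1248 F14176))
theorem Q1681 : ∀ i, i < 1681 → P i := stepQ 1680 Q1680 (allL N1680 (tt N1668 F14365) (tt N1252 F14366) (tt N1597 F10853) (tt N1953 (iv F15202)) (tt N1666 F10854) (tt N1595 (iv D6193)) (tt N1975 F10855))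
theorem Q1682 : ∀ i, i < 1682 → P i := stepQ 1681 Q1681 (allL N1681 (tt N1727 F14332) (tt N1595 F10846) (tt N1253 F14333) (tt N1674 F14334) (tt N1850 (iv F15527)) (tt N1252 F14335) (tt N1703 (iv D6186)))
theorem Q1683 : ∀ i, i < 1683 → P i := stepQ 1682 Q1682 (allL N1682 (tt N1502 F11255) (tt N1975 F14577) (tt N1254 F11256) (tt N1826 (iv F15312)) (tt N1974 (iv F14330)) (tt N1497 (iv F14326)) (tt N1252 (iv D6492)))
theorem Q1684 : ∀ i, i < 1684 → P i := stepQ 1683 Q1683 (allL N1683 (tt N1976 (iv F15652)) (tt N1256 F11141) (tt N1260 (iv D6407)) (tt N1784 D7406) (tt N1976 (iv F15654)) (tt N1977 D7407) (tt N1978 F15535))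
theorem Q1685 : ∀ i, i < 1685 → P i := stepQ 1684 Q1684 (allL N1684 (tt N1411 (iv F13513)) (tt N1976 (iv F15653)) (tt N1257 F11262) (tt N1786 F15632) (tt N1256 (iv D6496)) (tt N1979 D7411) (tt N1741 D7412))
theorem Q1686 : ∀ i, i < 1686 → P i := stepQ 1685 Q1685 (allL N1685 (tt N1371 (iv F13514)) (tt N1977 (iv F15661)) (tt N1258 F11263) (tt N1979 (iv F15678)) (tt N1979 (iv F15679)) (tt N1256 (iv D6497)) (tt N1324 D7413))
theorem Q1687 : ∀ i, i < 1687 → P i := stepQ 1686 Q1686 (allL N1686 (tt N1412 (iv F13515)) (tt N1978 (iv F15533)) (tt N1259 F11264) (tt N1443 D7414) (tt N1741 (iv F15684)) (tt N1740 (iv F15532)) (tt N1256 (iv D6498)))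
theorem Q1688 : ∀ i, i < 1688 → P i := stepQ 1687 Q1687 (allL N1687 (tt N1413 (iv F13516)) (tt N1265 F11265) (tt N1979 (iv F15677)) (tt N1980 D7415) (tt N1258 F11266) (tt N1257 (iv D6499)) (tt N1690 F13645))
theorem Q1689 : ∀ i, i < 1689 → P i := stepQ 1688 Q1688 (allL N1688 (tt N1414 (iv F13517)) (tt N1266 F11267) (tt N1741 (iv F15682)) (tt N1869 D7416) (tt N1259 F11268) (tt N1689 (iv F11274)) (tt N1257 (iv D6500)))
theorem Q1690 : ∀ i, i < 1690 → P i := stepQ 1689 Q1689 (allL N1689 (tt N1368 (iv F13518)) (tt N1267 F11273) (tt N1324 (iv F15687)) (tt N1761 D7417) (tt N1690 F13646) (tt N1688 F11274) (tt N1258 (iv D6502)))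
theorem Q1691 : ∀ i, i < 1691 → P i := stepQ 1690 Q1690 (allL N1690 (tt N1415 F13593) (tt N1268 (iv D6244)) (tt N1740 (iv F15530)) (tt N1812 (iv F15147)) (tt N1689 (iv F13646)) (tt N1259 F13585) (tt N1687 (iv F13645)))
theorem Q1692 : ∀ i, i < 1692 → P i := stepQ 1691 Q1691 (allL N1691 (tt N1260 F11138) (tt N1262 F13464) (tt N1976 D7405) (tt N1956 (iv D6404)) (tt N1260 F13465) (tt N1921 (iv F14430)) (tt N1944 (iv F15235)))
theorem Q1693 : ∀ i, i < 1693 → P i := stepQ 1692 Q1692 (allL N1692 (tt N1956 D3279) (tt N1261 (iv D1597)) (tt N1981 (iv F5594)) (tt N1260 D3280) (tt N1957 D3281) (tt N1982 D3282) (tt N1956 F13710))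
theorem Q1694 : ∀ i, i < 1694 → P i := stepQ 1693 Q1693 (allL N1693 (tt N1921 F14486) (tt N1263 F11143) (tt N1977 (iv F15662)) (tt N1622 (iv F14485)) (tt N1921 (iv F14429)) (tt N1260 (iv D6409)) (tt N1624 F13648))
theorem Q1695 : ∀ i, i < 1695 → P i := stepQ 1694 Q1694 (allL N1694 (tt N1944 (iv F15231)) (tt N1264 F10893) (tt N1978 (iv F15534)) (tt N1944 (iv F15233)) (tt N1944 (iv F15234)) (tt N1601 (iv D6228)) (tt N1260 F13649))
theorem Q1696 : ∀ i, i < 1696 → P i := stepQ 1695 Q1695 (allL N1695 (tt N1614 (iv F5509)) (tt N1982 (iv F5613)) (tt N1351 F2747) (tt N1635 D3290) (tt N1959 (iv F5622)) (tt N1261 (iv D1600)) (tt N1650 D3291))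
theorem Q1697 : ∀ i, i < 1697 → P i := stepQ 1696 Q1696 (allL N1696 (tt N1913 F11288) (tt N1980 (iv F15695)) (tt N1983 D7418) (tt N1265 (iv D6509)) (tt N1913 F13653) (tt N1696 F14792) (tt N1984 D7419))
theorem Q1698 : ∀ i, i < 1698 → P i := stepQ 1697 Q1697 (allL N1697 (tt N1914 F11290) (tt N1869 (iv F15700)) (tt N1697 F11292) (tt N1266 (iv D6510)) (tt N1914 F11291) (tt N1985 D7420) (tt N1697 F14794))
theorem Q1699 : ∀ i, i < 1699 → P i := stepQ 1698 Q1698 (allL N1698 (tt N1859 F11293) (tt N1761 (iv F15704)) (tt N1930 F14222) (tt N1267 (iv D6511)) (tt N1851 D7421) (tt N1805 (iv F14227)) (tt N1859 F13654))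
theorem Q1700 : ∀ i, i < 1700 → P i := stepQ 1699 Q1699 (allL N1699 (tt N1915 (iv F9575)) (tt N1986 (iv F11006)) (tt N1272 F14020) (tt N1876 (iv D3247)) (tt N1287 F5575) (tt N1638 F13702) (tt N1987 D6341))
theorem Q1701 : ∀ i, i < 1701 → P i := stepQ 1700 Q1700 (allL N1700 (tt N1752 (iv F14097)) (tt N1315 F15262) (tt N1987 F14274) (tt N1314 F10541) (tt N1288 (iv F13834)) (tt N1466 F10542) (tt N1272 (iv D5958)))
theorem Q1702 : ∀ i, i < 1702 → P i := stepQ 1701 Q1701 (allL N1701 (tt N1642 F13927) (tt N1988 D6025) (tt N1273 (iv D3080)) (tt N1300 F13928) (tt N1891 (iv F14068)) (tt N1906 (iv F14070)) (tt N1462 F5351))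
theorem Q1703 : ∀ i, i < 1703 → P i := stepQ 1702 Q1702 (allL N1702 (tt N1702 F14581) (tt N1279 F9962) (tt N1275 F14582) (tt N1989 (iv F15207)) (tt N1274 (iv F14398)) (tt N1275 (iv F13603)) (tt N1305 (iv D5624)))
theorem Q1704 : ∀ i, i < 1704 → P i := stepQ 1703 Q1703 (allL N1703 (tt N1507 (iv F14320)) (tt N1277 (iv D3158)) (tt N1498 F14310) (tt N1276 (iv F8280)) (tt N1497 D6184) (tt N1974 D6185) (tt N1681 D6186))
theorem Q1705 : ∀ i, i < 1705 → P i := stepQ 1704 Q1704 (allL N1704 (tt N1586 (iv D5633)) (tt N1278 (iv F13693)) (tt N1279 F14340) (tt N1813 F14341) (tt N1276 (iv F13692)) (tt N1278 F14342) (tt N1588 F14343))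
theorem Q1706 : ∀ i, i < 1706 → P i := stepQ 1705 Q1705 (allL N1705 (tt N1660 (iv F9982)) (tt N1497 (iv F10844)) (tt N1567 F5454) (tt N1832 (iv F14258)) (tt N1277 (iv D3159)) (tt N1975 D6188) (tt N1920 D6189))
theorem Q1707 : ∀ i, i < 1707 → P i := stepQ 1706 Q1706 (allL N1706 (tt N1661 (iv F9984)) (tt N1974 (iv F10845)) (tt N1568 F5455) (tt N1974 (iv F14329)) (tt N1975 (iv F10848)) (tt N1277 (iv D3160)) (tt N1666 D6191))
theorem Q1708 : ∀ i, i < 1708 → P i := stepQ 1707 Q1707 (allL N1707 (tt N1855 (iv F14254)) (tt N1813 F14382) (tt N1375 (iv D6000)) (tt N1278 (iv F14276)) (tt N1832 F10596) (tt N1905 (iv F14393)) (tt N1829 F14383))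
theorem Q1709 : ∀ i, i < 1709 → P i := stepQ 1708 Q1708 (allL N1708 (tt N1709 F14788) (tt N1989 (iv F15205)) (tt N1715 (iv F15008)) (tt N1279 (iv D5653)) (tt N1708 F14789) (tt N1709 (iv F14791)) (tt N1708 F14790))
theorem Q1710 : ∀ i, i < 1710 → P i := stepQ 1709 Q1709 (allL N1709 (tt N1708 (iv F14788)) (tt N1728 F14586) (tt N1918 (iv F15166)) (tt N1280 (iv D5651)) (tt N1709 F14587) (tt N1708 F14791) (tt N1709 F14588))
theorem Q1711 : ∀ i, i < 1711 → P i := stepQ 1710 Q1710 (allL N1710 (tt N1812 F15149) (tt N1283 F11090) (tt N1433 D7380) (tt N1415 (iv D6364)) (tt N1509 D7381) (tt N1812 (iv F15148)) (tt N1483 D7382))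
theorem Q1712 : ∀ i, i < 1712 → P i := stepQ 1711 Q1711 (allL N1711 (tt N1716 (iv F15010)) (tt N1711 F15002) (tt N1286 (iv D7225)) (tt N1711 F15005) (tt N1593 F15003) (tt N1990 (iv F15750)) (tt N1289 F15004))
theorem Q1713 : ∀ i, i < 1713 → P i := stepQ 1712 Q1712 (allL N1712 (tt N1718 (iv F15017)) (tt N1476 F11343) (tt N1990 D7426) (tt N1468 (iv D6532)) (tt N1594 F14589) (tt N1286 (iv F14591)) (tt N1718 (iv F15021)))
theorem Q1714 : ∀ i, i < 1714 → P i := stepQ 1713 Q1713 (allL N1713 (tt N1951 F14488) (tt N1287 F10390) (tt N1838 D7310) (tt N1884 (iv D5850)) (tt N1986 (iv F11007)) (tt N1834 (iv F15337)) (tt N1991 (iv F14470)))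
theorem Q1715 : ∀ i, i < 1715 → P i := stepQ 1714 Q1714 (allL N1714 (tt N1917 (iv F15159)) (tt N1991 F14469) (tt N1288 F10468) (tt N1894 F13706) (tt N1987 (iv F11068)) (tt N1794 F14047) (tt N1287 (iv D5897)))
theorem Q1716 : ∀ i, i < 1716 → P i := stepQ 1715 Q1715 (allL N1715 (tt N1918 (iv F15164)) (tt N1715 F15006) (tt N1708 F15008) (tt N1289 (iv D7226)) (tt N1715 F15009) (tt N1918 F15169) (tt N1715 F15007))
theorem Q1717 : ∀ i, i < 1717 → P i := stepQ 1716 Q1716 (allL N1716 (tt N1711 F15010) (tt N1716 F15011) (tt N1290 F15012) (tt N1716 F15013) (tt N1289 (iv D7227)) (tt N1992 D7504) (tt N1593 F15014))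
theorem Q1718 : ∀ i, i < 1718 → P i := stepQ 1717 Q1717 (allL N1717 (tt N1919 (iv F15170)) (tt N1717 F15015) (tt N1291 F15016) (tt N1919 (iv F15173)) (tt N1992 (iv F16036)) (tt N1289 (iv D7228)) (tt N1919 (iv F15174)))
theorem Q1719 : ∀ i, i < 1719 → P i := stepQ 1718 Q1718 (allL N1718 (tt N1712 F15017) (tt N1494 F15018) (tt N1992 (iv F16035)) (tt N1492 F15019) (tt N1291 F15020) (tt N1290 (iv D7229)) (tt N1712 F15021))
theorem Q1720 : ∀ i, i < 1720 → P i := stepQ 1719 Q1719 (allL N1719 (tt N1823 (iv F15175)) (tt N1295 (iv F14578)) (tt N1296 F14278) (tt N1897 (iv D6023)) (tt N1295 (iv F14279)) (tt N1825 (iv F15301)) (tt N1993 (iv F14707)))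
theorem Q1721 : ∀ i, i < 1721 → P i := stepQ 1720 Q1720 (allL N1720 (tt N1822 (iv F10615)) (tt N1897 (iv D6022)) (tt N1659 F14506) (tt N1295 F14507) (tt N1901 F10614) (tt N1659 (iv F14504)) (tt N1994 F14527))
theorem Q1722 : ∀ i, i < 1722 → P i := stepQ 1721 Q1721 (allL N1721 (tt N1793 (iv F15180)) (tt N1993 F15025) (tt N1297 F15026) (tt N1995 F15027) (tt N1993 F15028) (tt N1791 (iv F15420)) (tt N1295 (iv D7232)))
theorem Q1723 : ∀ i, i < 1723 → P i := stepQ 1722 Q1722 (allL N1722 (tt N1344 (iv F15184)) (tt N1734 (iv F16002)) (tt N1993 F15029) (tt N1343 F15030) (tt N1297 F15031) (tt N1461 F15032) (tt N1296 (iv D7233)))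
theorem Q1724 : ∀ i, i < 1724 → P i := stepQ 1723 Q1723 (allL N1723 (tt N1470 (iv F14699)) (tt N1996 (iv F15379)) (tt N1299 (iv F14702)) (tt N1628 (iv F14700)) (tt N1630 (iv D5964)) (tt N1591 F14701) (tt N1960 F14698))
theorem Q1725 : ∀ i, i < 1725 → P i := stepQ 1724 Q1724 (allL N1724 (tt N1466 F15057) (tt N1389 (iv F15619)) (tt N1960 F15058) (tt N1461 F15059) (tt N1387 F15060) (tt N1752 F15061) (tt N1299 (iv D7240)))
theorem Q1726 : ∀ i, i < 1726 → P i := stepQ 1725 Q1725 (allL N1725 (tt N1904 (iv F5775)) (tt N1300 (iv D3390)) (tt N1847 (iv F11382)) (tt N1988 (iv F14064)) (tt N1846 F14402) (tt N1845 D6608) (tt N1853 D6609))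
theorem Q1727 : ∀ i, i < 1727 → P i := stepQ 1726 Q1726 (allL N1726 (tt N1678 (iv F11233)) (tt N1846 F14400) (tt N1301 (iv D3380)) (tt N1888 F9554) (tt N1300 F5759) (tt N1508 D6590) (tt N1854 D6591))
theorem Q1728 : ∀ i, i < 1728 → P i := stepQ 1727 Q1727 (allL N1727 (tt N1681 (iv F14332)) (tt N1845 (iv F11457)) (tt N1302 F5776) (tt N1907 F9557) (tt N1508 (iv F11431)) (tt N1300 (iv D3392)) (tt N1507 (iv F14252)))
theorem Q1729 : ∀ i, i < 1729 → P i := stepQ 1728 Q1728 (allL N1728 (tt N1728 F14798) (tt N1709 (iv F14586)) (tt N1728 F14799) (tt N1303 (iv D5617)) (tt N1728 F14583) (tt N1989 D7283) (tt N1728 F14580))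
theorem Q1730 : ∀ i, i < 1730 → P i := stepQ 1729 Q1729 (allL N1729 (tt N1379 F14786) (tt N1997 (iv F15614)) (tt N1306 F11114) (tt N1364 D7400) (tt N1998 (iv F11117)) (tt N1645 (iv F13708)) (tt N1355 (iv D6388)))
theorem Q1731 : ∀ i, i < 1731 → P i := stepQ 1730 Q1730 (allL N1730 (tt N1380 (iv F10699)) (tt N1647 F5606) (tt N1998 (iv F11116)) (tt N1865 (iv F14305)) (tt N1306 F5607) (tt N1644 (iv D3275)) (tt N1356 F5608))
theorem Q1732 : ∀ i, i < 1732 → P i := stepQ 1731 Q1731 (allL N1731 (tt N1360 F16170) (tt N1999 (iv F16238)) (tt N1307 (iv F16299)) (tt N1862 (iv D7534)) (tt N1385 (iv F16220)) (tt N1317 (iv F16228)) (tt N1384 (iv F16364)))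
theorem Q1733 : ∀ i, i < 1733 → P i := stepQ 1732 Q1732 (allL N1732 (tt N1739 F16196) (tt N1309 (iv F16333)) (tt N1323 F16197) (tt N1739 F16198) (tt N1737 (iv D7542)) (tt N1312 F16324) (tt N1739 F16199))
theorem Q1734 : ∀ i, i < 1734 → P i := stepQ 1733 Q1733 (allL N1733 (tt N1386 F16083) (tt N1744 (iv F16087)) (tt N1439 (iv D7515)) (tt N1313 (iv F16329)) (tt N1438 F16084) (tt N1443 F16085) (tt N1363 F16086))
theorem Q1735 : ∀ i, i < 1735 → P i := stepQ 1734 Q1734 (allL N1734 (tt N1391 F16001) (tt N1722 F16002) (tt N1425 F16003) (tt N1316 F16004) (tt N1425 F16005) (tt N1482 F16006) (tt N1423 (iv D7498)))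
theorem Q1736 : ∀ i, i < 1736 → P i := stepQ 1735 Q1735 (allL N1735 (tt N1782 F16408) (tt N1317 F16409) (tt N1999 F16410) (tt N1787 F16411) (tt N2000 (iv D7592)) (tt N1999 F16412) (tt N1396 (iv F16413)))
theorem Q1737 : ∀ i, i < 1737 → P i := stepQ 1736 Q1736 (allL N1736 (tt N1364 (iv F15638)) (tt N2000 (iv F16218)) (tt N1318 D7550) (tt N1379 (iv D7370)) (tt N1317 D7551) (tt N1385 (iv F16221)) (tt N1399 D7552))
theorem Q1738 : ∀ i, i < 1738 → P i := stepQ 1737 Q1737 (allL N1737 (tt N1323 (iv F16123)) (tt N1326 (iv F16192)) (tt N1739 D7541) (tt N1926 (iv D7362)) (tt N1732 D7542) (tt N1336 D7543) (tt N1323 (iv F16125)))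
theorem Q1739 : ∀ i, i < 1739 → P i := stepQ 1738 Q1738 (allL N1738 (tt N1926 F15229) (tt N1324 (iv F15686)) (tt N1624 (iv D7288)) (tt N1323 D7523) (tt N1926 F15230) (tt N2001 D7524) (tt N1977 (iv F15664)))
theorem Q1740 : ∀ i, i < 1740 → P i := stepQ 1739 Q1739 (allL N1739 (tt N1732 (iv F16196)) (tt N1325 (iv F16347)) (tt N1737 (iv D7541)) (tt N1732 (iv F16198)) (tt N1323 F16195) (tt N1338 (iv F16339)) (tt N1732 (iv F16199)))
theorem Q1741 : ∀ i, i < 1741 → P i := stepQ 1740 Q1740 (allL N1740 (tt N1369 (iv F15531)) (tt N1926 (iv D7361)) (tt N1690 F15530) (tt N1326 D7540) (tt N1324 (iv F15688)) (tt N1686 F15532) (tt N1979 (iv F15680)))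
theorem Q1742 : ∀ i, i < 1742 → P i := stepQ 1741 Q1741 (allL N1741 (tt N1370 F15681) (tt N2001 (iv F16128)) (tt N1688 F15682) (tt N1340 F15683) (tt N1686 F15684) (tt N1324 (iv F15689)) (tt N1684 (iv D7412)))
theorem Q1743 : ∀ i, i < 1743 → P i := stepQ 1742 Q1742 (allL N1742 (tt N1377 F14350) (tt N1902 F10832) (tt N1521 F14351) (tt N1358 (iv F15329)) (tt N1809 F10833) (tt N1330 (iv D6176)) (tt N1454 F14352))
theorem Q1744 : ∀ i, i < 1744 → P i := stepQ 1743 Q1743 (allL N1743 (tt N1378 (iv F15444)) (tt N1533 (iv F16053)) (tt N1333 (iv F16066)) (tt N1533 (iv F16055)) (tt N1496 (iv F15119)) (tt N1334 F15116) (tt N1458 (iv D7256)))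
theorem Q1745 : ∀ i, i < 1745 → P i := stepQ 1744 Q1744 (allL N1744 (tt N1337 (iv D7481)) (tt N1733 F16087) (tt N1817 (iv F16366)) (tt N1336 F16201) (tt N1816 (iv F16094)) (tt N1818 (iv F16204)) (tt N1766 (iv F16272)))
theorem Q1746 : ∀ i, i < 1746 → P i := stepQ 1745 Q1745 (allL N1745 (tt N1816 F16096) (tt N1339 F15945) (tt N1818 F16206) (tt N1779 D7584) (tt N1337 (iv D7482)) (tt N1817 (iv F16368)) (tt N2002 (iv F15946)))
theorem Q1747 : ∀ i, i < 1747 → P i := stepQ 1746 Q1746 (allL N1746 (tt N1818 (iv F16202)) (tt N1340 F15947) (tt N1816 (iv F16093)) (tt N2001 (iv F16130)) (tt N1817 (iv F16367)) (tt N1337 (iv D7483)) (tt N1864 F16261))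
theorem Q1748 : ∀ i, i < 1748 → P i := stepQ 1747 Q1747 (allL N1747 (tt N1766 (iv F16268)) (tt N1341 F15948) (tt N1819 F15949) (tt N1765 D7585) (tt N2002 F15950) (tt N2003 F16141) (tt N1337 (iv D7484)))
theorem Q1749 : ∀ i, i < 1749 → P i := stepQ 1748 Q1748 (allL N1748 (tt N1373 F16433) (tt N1342 F16434) (tt N1748 F16435) (tt N1338 (iv D7597)) (tt N1779 F16436) (tt N1373 F16437) (tt N1362 F16438))
theorem Q1750 : ∀ i, i < 1750 → P i := stepQ 1749 Q1749 (allL N1749 (tt N1400 (iv F15470)) (tt N2002 (iv F15612)) (tt N1520 F15085) (tt N1355 (iv D6387)) (tt N1341 (iv F15086)) (tt N1518 (iv F15626)) (tt N1339 (iv F15087)))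
theorem Q1751 : ∀ i, i < 1751 → P i := stepQ 1750 Q1750 (allL N1750 (tt N1402 F15298) (tt N2003 (iv F16140)) (tt N1519 F15333) (tt N1645 (iv D7301)) (tt N1518 (iv F15625)) (tt N1341 (iv F15332)) (tt N1442 (iv F15927)))
theorem Q1752 : ∀ i, i < 1752 → P i := stepQ 1751 Q1751 (allL N1751 (tt N1993 F15502) (tt N1404 F15503) (tt N1344 F15504) (tt N1675 F15505) (tt N1793 F15506) (tt N1464 (iv D7354)) (tt N1823 F15507))
theorem Q1753 : ∀ i, i < 1753 → P i := stepQ 1752 Q1752 (allL N1752 (tt N1700 F14097) (tt N1346 (iv F15195)) (tt N2004 F14706) (tt N1345 F14098) (tt N1592 F9578) (tt N1724 (iv F15061)) (tt N1585 (iv D5373)))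
theorem Q1754 : ∀ i, i < 1754 → P i := stepQ 1753 Q1753 (allL N1753 (tt N1407 F15633) (tt N2005 (iv F16248)) (tt N1346 F15637) (tt N1785 (iv D7397)) (tt N1786 F15634) (tt N1785 (iv F15636)) (tt N1808 F15635))
theorem Q1755 : ∀ i, i < 1755 → P i := stepQ 1754 Q1754 (allL N1754 (tt N1417 F15253) (tt N2006 (iv F15376)) (tt N1347 (iv F14645)) (tt N1820 D7394) (tt N1815 (iv D6381)) (tt N1808 F14644) (tt N1388 (iv F15252)))
theorem Q1756 : ∀ i, i < 1756 → P i := stepQ 1755 Q1755 (allL N1755 (tt N1418 F15512) (tt N1972 F15513) (tt N1348 F15514) (tt N2007 (iv F15808)) (tt N1802 F15515) (tt N1773 F15516) (tt N1807 (iv D7357)))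
theorem Q1757 : ∀ i, i < 1757 → P i := stepQ 1756 Q1756 (allL N1756 (tt N1352 F15154) (tt N1426 F15155) (tt N1349 F15156) (tt N1984 (iv F15714)) (tt N1484 (iv F15592)) (tt N1504 (iv F15589)) (tt N1589 (iv D7270)))
theorem Q1758 : ∀ i, i < 1758 → P i := stepQ 1757 Q1757 (allL N1757 (tt N1984 (iv F15713)) (tt N1841 (iv F15801)) (tt N2008 (iv F15816)) (tt N1352 (iv F13761)) (tt N1984 (iv F15715)) (tt N1984 (iv F15716)) (tt N1913 (iv D6728)))
theorem Q1759 : ∀ i, i < 1759 → P i := stepQ 1758 Q1758 (allL N1758 (tt N1840 (iv F5384)) (tt N1981 D3266) (tt N1354 (iv D1592)) (tt N1815 D3267) (tt N1821 D3268) (tt N1355 D3269) (tt N1954 D3270))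
theorem Q1760 : ∀ i, i < 1760 → P i := stepQ 1759 Q1759 (allL N1759 (tt N2009 (iv F15599)) (tt N1355 F11106) (tt N1982 F11107) (tt N2002 D7391) (tt N2010 (iv F15610)) (tt N1981 (iv D6378)) (tt N1997 D7392))
theorem Q1761 : ∀ i, i < 1761 → P i := stepQ 1760 Q1760 (allL N1760 (tt N1862 (iv F15457)) (tt N2010 (iv F15608)) (tt N1356 F11110) (tt N1360 D7399) (tt N1355 F11111) (tt N1821 (iv D6385)) (tt N1998 (iv F11118)))
theorem Q1762 : ∀ i, i < 1762 → P i := stepQ 1761 Q1761 (allL N1761 (tt N1773 F15703) (tt N1698 F15704) (tt N1357 F15706) (tt N1689 (iv D7417)) (tt N1842 F15708) (tt N1418 (iv F15707)) (tt N1773 F15705))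
theorem Q1763 : ∀ i, i < 1763 → P i := stepQ 1762 Q1762 (allL N1762 (tt N1803 (iv F15190)) (tt N1899 F10803) (tt N1842 (iv F15511)) (tt N1809 F10804) (tt N1357 (iv F15319)) (tt N1419 (iv D6153)) (tt N1803 (iv F15193)))
theorem Q1764 : ∀ i, i < 1764 → P i := stepQ 1763 Q1763 (allL N1763 (tt N1865 (iv F14303)) (tt N1575 F5728) (tt N1477 (iv F14315)) (tt N1380 (iv F14158)) (tt N1359 F5729) (tt N1475 (iv F5731)) (tt N1517 (iv D3358)))
theorem Q1765 : ∀ i, i < 1765 → P i := stepQ 1764 Q1764 (allL N1764 (tt N1767 (iv F16275)) (tt N1360 F16273) (tt N1764 F16274) (tt N2010 (iv D7562)) (tt N1765 (iv F16375)) (tt N1362 (iv F16428)) (tt N1775 (iv F16392)))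
theorem Q1766 : ∀ i, i < 1766 → P i := stepQ 1765 Q1765 (allL N1765 (tt N1362 (iv F16424)) (tt N1372 F16374) (tt N1765 F16377) (tt N1747 (iv D7585)) (tt N1764 F16375) (tt N1767 F16376) (tt N1373 (iv F16432)))
theorem Q1767 : ∀ i, i < 1767 → P i := stepQ 1766 Q1766 (allL N1766 (tt N1747 F16268) (tt N1363 F16269) (tt N2003 F16270) (tt N1362 D7595) (tt N2011 F16271) (tt N1819 (iv D7561)) (tt N1744 F16272))
theorem Q1768 : ∀ i, i < 1768 → P i := stepQ 1767 Q1767 (allL N1767 (tt N1764 F16275) (tt N1364 F16276) (tt N1767 F16277) (tt N1997 (iv D7563)) (tt N1362 (iv F16427)) (tt N1765 (iv F16376)) (tt N1779 (iv F16372)))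
theorem Q1769 : ∀ i, i < 1769 → P i := stepQ 1768 Q1768 (allL N1768 (tt N1489 (iv F16178)) (tt N2011 (iv F16253)) (tt N1440 F15640) (tt N1998 (iv D7401)) (tt N1363 F15642) (tt N1820 F15639) (tt N1438 (iv F15641)))
theorem Q1770 : ∀ i, i < 1770 → P i := stepQ 1769 Q1769 (allL N1769 (tt N1366 (iv F10411)) (tt N1369 D6301) (tt N1875 (iv D3226)) (tt N1365 D6302) (tt N1366 (iv F13700)) (tt N1799 D6304) (tt N2012 (iv F11011)))
theorem Q1771 : ∀ i, i < 1771 → P i := stepQ 1770 Q1770 (allL N1770 (tt N1875 F5251) (tt N1558 F5252) (tt N1366 D5862) (tt N1550 (iv D2995)) (tt N1875 F13535) (tt N2013 D5864) (tt N1911 F13756))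
theorem Q1772 : ∀ i, i < 1772 → P i := stepQ 1771 Q1771 (allL N1771 (tt N1799 F15347) (tt N1370 F15348) (tt N2013 F15349) (tt N1393 D7530) (tt N1799 F15350) (tt N1366 (iv D7313)) (tt N1797 F15351))
theorem Q1773 : ∀ i, i < 1773 → P i := stepQ 1772 Q1772 (allL N1772 (tt N2012 (iv F14490)) (tt N1371 F11557) (tt N1911 F11558) (tt N2012 F14489) (tt N2012 F14493) (tt N1409 (iv D6665)) (tt N1366 F14492))
theorem Q1774 : ∀ i, i < 1774 → P i := stepQ 1773 Q1773 (allL N1773 (tt N1761 (iv F15703)) (tt N1859 F11588) (tt N1515 (iv F15519)) (tt N1368 (iv D6686)) (tt N1857 D7444) (tt N1755 (iv F15516)) (tt N1761 (iv F15705)))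
theorem Q1775 : ∀ i, i < 1775 → P i := stepQ 1774 Q1774 (allL N1774 (tt N1979 (iv F15675)) (tt N2012 (iv F14494)) (tt N1413 F11561) (tt N1371 F14495) (tt N1371 F11562) (tt N1411 (iv D6672)) (tt N1369 (iv F13666)))
theorem Q1776 : ∀ i, i < 1776 → P i := stepQ 1775 Q1775 (allL N1775 (tt N1779 F16388) (tt N1374 F16389) (tt N1775 F16390) (tt N1816 (iv D7588)) (tt N1373 (iv F16431)) (tt N1779 F16391) (tt N1764 F16392))
theorem Q1777 : ∀ i, i < 1777 → P i := stepQ 1776 Q1776 (allL N1776 (tt N1848 (iv F15281)) (tt N1377 F14379) (tt N1905 (iv F14391)) (tt N1848 (iv F15284)) (tt N1833 F10597) (tt N1375 (iv D6001)) (tt N1468 F14380))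
theorem Q1778 : ∀ i, i < 1778 → P i := stepQ 1777 Q1777 (allL N1777 (tt N2014 (iv F15567)) (tt N1379 F15537) (tt N1936 F15538) (tt N2000 D7548) (tt N2015 (iv F16174)) (tt N1933 (iv D7365)) (tt N1861 F15539))
theorem Q1779 : ∀ i, i < 1779 → P i := stepQ 1778 Q1778 (allL N1778 (tt N1998 F15471) (tt N2015 (iv F16172)) (tt N1380 F15472) (tt N1489 D7537) (tt N1379 F15473) (tt N1839 (iv D7346)) (tt N1862 F15474))
theorem Q1780 : ∀ i, i < 1780 → P i := stepQ 1779 Q1779 (allL N1779 (tt N1775 (iv F16388)) (tt N1382 F16371) (tt N1779 F16373) (tt N1745 (iv D7584)) (tt N1748 (iv F16436)) (tt N1775 (iv F16391)) (tt N1767 F16372))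
theorem Q1781 : ∀ i, i < 1781 → P i := stepQ 1780 Q1780 (allL N1780 (tt N1781 (iv F16418)) (tt N1399 F16414) (tt N1383 F16415) (tt N1394 F16416) (tt N1396 F16417) (tt N1781 (iv F16423)) (tt N2000 (iv D7593)))
theorem Q1782 : ∀ i, i < 1782 → P i := stepQ 1781 Q1781 (allL N1781 (tt N1780 F16418) (tt N1384 F16419) (tt N1396 F16420) (tt N1488 F16421) (tt N1383 F16422) (tt N1780 F16423) (tt N1999 (iv D7594)))
theorem Q1783 : ∀ i, i < 1783 → P i := stepQ 1782 Q1782 (allL N1782 (tt N1735 (iv F16408)) (tt N1385 F16403) (tt N2000 F16407) (tt N1395 (iv D7591)) (tt N1999 F16404) (tt N2000 F16405) (tt N1383 F16406))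
theorem Q1784 : ∀ i, i < 1784 → P i := stepQ 1783 Q1783 (allL N1783 (tt N1794 F14141) (tt N2016 (iv F15383)) (tt N1387 (iv F14228)) (tt N1607 F14142) (tt N1960 (iv F14696)) (tt N1917 (iv F15163)) (tt N1630 (iv D5966)))
theorem Q1785 : ∀ i, i < 1785 → P i := stepQ 1784 Q1784 (allL N1784 (tt N2017 (iv F16262)) (tt N1388 F15656) (tt N2016 F15657) (tt N1683 (iv D7406)) (tt N2018 F15659) (tt N2017 (iv F16267)) (tt N2006 (iv F15658)))
theorem Q1786 : ∀ i, i < 1786 → P i := stepQ 1785 Q1785 (allL N1785 (tt N1796 (iv F15255)) (tt N2018 (iv F15606)) (tt N1389 (iv F15620)) (tt N1753 D7397) (tt N1388 F15254) (tt N1753 F15636) (tt N1815 (iv D6383)))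
theorem Q1787 : ∀ i, i < 1787 → P i := stepQ 1786 Q1786 (allL N1786 (tt N1474 F15629) (tt N2017 (iv F16263)) (tt N1390 F15630) (tt N1684 (iv F15632)) (tt N1753 (iv F15634)) (tt N1388 F15631) (tt N1436 (iv D7396)))
theorem Q1788 : ∀ i, i < 1788 → P i := stepQ 1787 Q1787 (allL N1787 (tt N1395 F16398) (tt N1531 F16399) (tt N1866 F16400) (tt N1735 (iv F16411)) (tt N1843 F16401) (tt N1528 (iv D7590)) (tt N1392 F16402))
theorem Q1789 : ∀ i, i < 1789 → P i := stepQ 1788 Q1788 (allL N1788 (tt N1866 (iv F16233)) (tt N1401 F16208) (tt N1395 (iv F16213)) (tt N1478 F16209) (tt N1790 (iv D7545)) (tt N1789 (iv F16210)) (tt N1393 (iv F16211)))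
theorem Q1790 : ∀ i, i < 1790 → P i := stepQ 1789 Q1789 (allL N1789 (tt N1843 (iv F16393)) (tt N1400 F16176) (tt N1790 F16177) (tt N1861 (iv D7536)) (tt N1395 (iv F16214)) (tt N1788 F16210) (tt N1394 (iv F16355)))
theorem Q1791 : ∀ i, i < 1791 → P i := stepQ 1790 Q1790 (allL N1790 (tt N1528 (iv F16165)) (tt N1402 F15536) (tt N1789 (iv F16177)) (tt N1933 (iv D7364)) (tt N1788 D7545) (tt N1395 D7546) (tt N1526 D7547))
theorem Q1792 : ∀ i, i < 1792 → P i := stepQ 1791 Q1791 (allL N1791 (tt N1404 F15418) (tt N1826 (iv F15423)) (tt N1403 (iv D7332)) (tt N1975 F15422) (tt N1826 F15419) (tt N1721 F15420) (tt N1825 F15421))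
theorem Q1793 : ∀ i, i < 1793 → P i := stepQ 1792 Q1792 (allL N1792 (tt N1975 F15210) (tt N1675 F15211) (tt N1663 F15212) (tt N1404 F15417) (tt N1661 F15213) (tt N1660 (iv D7284)) (tt N1668 F15214))
theorem Q1794 : ∀ i, i < 1794 → P i := stepQ 1793 Q1793 (allL N1793 (tt N1721 F15180) (tt N1464 F15181) (tt N1405 F15182) (tt N1853 F15183) (tt N1751 (iv F15506)) (tt N1404 (iv F15415)) (tt N1450 (iv D7276)))
theorem Q1795 : ∀ i, i < 1795 → P i := stepQ 1794 Q1794 (allL N1794 (tt N1783 (iv F14141)) (tt N2019 (iv F11009)) (tt N1406 (iv F14169)) (tt N1878 (iv D3249)) (tt N1831 (iv F14090)) (tt N1714 (iv F14047)) (tt N1638 F5576))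
theorem Q1796 : ∀ i, i < 1796 → P i := stepQ 1795 Q1795 (allL N1795 (tt N2020 F15562) (tt N1407 F15563) (tt N2019 (iv D7374)) (tt N2020 F15566) (tt N1836 (iv F15784)) (tt N2020 F15564) (tt N1837 F15565))
theorem Q1797 : ∀ i, i < 1797 → P i := stepQ 1796 Q1796 (allL N1796 (tt N1785 F15255) (tt N2020 (iv F15549)) (tt N1408 F15257) (tt N1407 (iv F15368)) (tt N1410 (iv D6668)) (tt N1407 (iv F15370)) (tt N1480 (iv F15256)))
theorem Q1798 : ∀ i, i < 1798 → P i := stepQ 1797 Q1797 (allL N1797 (tt N1409 (iv D6662)) (tt N1411 F13655) (tt N1910 F11553) (tt N1836 D7435) (tt N1409 F13656) (tt N2012 F14491) (tt N1771 (iv F15351)))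
theorem Q1799 : ∀ i, i < 1799 → P i := stepQ 1798 Q1798 (allL N1798 (tt N1836 (iv F15782)) (tt N1410 F11554) (tt N2021 (iv F15554)) (tt N1409 (iv D6663)) (tt N2020 F15551) (tt N1836 (iv F15785)) (tt N1804 (iv F15561)))
theorem Q1800 : ∀ i, i < 1800 → P i := stepQ 1799 Q1799 (allL N1799 (tt N1771 (iv F15347)) (tt N1412 F13662) (tt N1912 F11018) (tt N1527 D7379) (tt N1771 (iv F15350)) (tt N1769 (iv D6304)) (tt N1409 F13663))
theorem Q1801 : ∀ i, i < 1801 → P i := stepQ 1800 Q1800 (allL N1800 (tt N1980 (iv F15694)) (tt N1913 F11579) (tt N1800 F14497) (tt N1413 (iv D6681)) (tt N1980 (iv F15697)) (tt N1800 F14796) (tt N1841 D7441))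
theorem Q1802 : ∀ i, i < 1802 → P i := stepQ 1801 Q1801 (allL N1801 (tt N1869 (iv F15699)) (tt N1914 F11580) (tt N1537 D7442) (tt N1414 (iv D6682)) (tt N1869 (iv F15701)) (tt N2007 D7443) (tt N1801 F14795))
theorem Q1803 : ∀ i, i < 1803 → P i := stepQ 1802 Q1802 (allL N1802 (tt N1807 F15188) (tt N1860 (iv F15777)) (tt N1416 (iv D7278)) (tt N1807 F15189) (tt N1755 (iv F15515)) (tt N1857 (iv F15813)) (tt N1418 (iv F15316)))
theorem Q1804 : ∀ i, i < 1804 → P i := stepQ 1803 Q1803 (allL N1803 (tt N1762 F15190) (tt N1964 F15191) (tt N1857 (iv F15811)) (tt N1477 F15192) (tt N1515 (iv F15521)) (tt N1416 (iv D7279)) (tt N1762 F15193))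
theorem Q1805 : ∀ i, i < 1805 → P i := stepQ 1804 Q1804 (allL N1804 (tt N1478 (iv F16147)) (tt N1417 F15558) (tt N1986 (iv D7373)) (tt N1866 D7553) (tt N1838 F15559) (tt N1837 F15560) (tt N1798 F15561))
theorem Q1806 : ∀ i, i < 1806 → P i := stepQ 1805 Q1805 (allL N1805 (tt N1972 (iv F14226)) (tt N1418 (iv F15314)) (tt N1909 (iv D6582)) (tt N1985 (iv F15719)) (tt N2022 (iv F15509)) (tt N1698 F14227) (tt N1860 D7434))
theorem Q1807 : ∀ i, i < 1807 → P i := stepQ 1806 Q1806 (allL N1806 (tt N2007 F16142) (tt N1985 F16143) (tt N1870 (iv F16384)) (tt N1418 (iv D7527)) (tt N2007 F16144) (tt N1869 F16145) (tt N2007 F16146))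
theorem Q1808 : ∀ i, i < 1808 → P i := stepQ 1807 Q1807 (allL N1807 (tt N1802 (iv F15188)) (tt N2022 D7355) (tt N1419 (iv D6151)) (tt N1802 (iv F15189)) (tt N1418 (iv F15315)) (tt N1842 D7356) (tt N1755 D7357))
theorem Q1809 : ∀ i, i < 1809 → P i := stepQ 1808 Q1808 (allL N1808 (tt N1479 F14612) (tt N2023 (iv F15596)) (tt N1421 (iv F14611)) (tt N1954 (iv D6389)) (tt N1436 F14643) (tt N1754 (iv F14644)) (tt N1753 (iv F15635)))
theorem Q1810 : ∀ i, i < 1810 → P i := stepQ 1809 Q1809 (allL N1809 (tt N1477 (iv F10576)) (tt N1568 F5445) (tt N1865 (iv F10830)) (tt N1762 (iv F10804)) (tt N1742 (iv F10833)) (tt N1422 (iv D3154)) (tt N1824 D6178))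
theorem Q1811 : ∀ i, i < 1811 → P i := stepQ 1810 Q1810 (allL N1810 (tt N1476 F11310) (tt N1594 F14602) (tt N1810 F11311) (tt N1454 (iv D6519)) (tt N1476 F14603) (tt N1455 (iv F14601)) (tt N1424 (iv F14968)))
theorem Q1812 : ∀ i, i < 1812 → P i := stepQ 1811 Q1811 (allL N1811 (tt N1841 F15967) (tt N1984 F15968) (tt N1811 F15969) (tt N1426 (iv D7491)) (tt N1841 F15972) (tt N1841 (iv F15971)) (tt N1980 F15970))
theorem Q1813 : ∀ i, i < 1813 → P i := stepQ 1812 Q1812 (allL N1812 (tt N1710 (iv F15149)) (tt N1589 (iv D7268)) (tt N1427 F15146) (tt N1690 F15147) (tt N1485 D7521) (tt N1710 F15148) (tt N1426 (iv F15150)))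
theorem Q1814 : ∀ i, i < 1814 → P i := stepQ 1813 Q1813 (allL N1813 (tt N1429 (iv F14358)) (tt N1707 (iv F14382)) (tt N1428 F5756) (tt N1704 (iv F14341)) (tt N1849 F5757) (tt N1573 (iv D3379)) (tt N1907 F5758))
theorem Q1815 : ∀ i, i < 1815 → P i := stepQ 1814 Q1814 (allL N1814 (tt N2006 F15602) (tt N1436 F15603) (tt N1916 F15604) (tt N1864 D7559) (tt N2023 F15605) (tt N2024 (iv D7387)) (tt N2017 D7560))
theorem Q1816 : ∀ i, i < 1816 → P i := stepQ 1815 Q1815 (allL N1815 (tt N1480 (iv F10688)) (tt N2024 (iv F11103)) (tt N1437 D6380) (tt N1758 (iv D3267)) (tt N1754 D6381) (tt N1436 D6382) (tt N1785 D6383))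
theorem Q1817 : ∀ i, i < 1817 → P i := stepQ 1816 Q1816 (allL N1816 (tt N1745 (iv F16096)) (tt N1438 (iv D7517)) (tt N1746 F16093) (tt N1775 D7588) (tt N1744 F16094) (tt N1441 F16095) (tt N2011 F16255))
theorem Q1818 : ∀ i, i < 1818 → P i := stepQ 1817 Q1817 (allL N1817 (tt N1441 (iv D7583)) (tt N1442 F16365) (tt N1744 F16366) (tt N1441 (iv F16370)) (tt N1746 F16367) (tt N1745 F16368) (tt N2003 F16369))
theorem Q1819 : ∀ i, i < 1819 → P i := stepQ 1818 Q1818 (allL N1818 (tt N1746 F16202) (tt N1443 F16203) (tt N1745 (iv F16206)) (tt N1978 (iv D7544)) (tt N1441 (iv F16207)) (tt N1744 F16204) (tt N2025 F16205))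
theorem Q1820 : ∀ i, i < 1820 → P i := stepQ 1819 Q1819 (allL N1819 (tt N2003 (iv F16139)) (tt N1444 F15607) (tt N1747 (iv F15949)) (tt N2026 (iv D7389)) (tt N2025 (iv F16163)) (tt N1766 D7561) (tt N1441 (iv F15923)))
theorem Q1821 : ∀ i, i < 1821 → P i := stepQ 1820 Q1820 (allL N1820 (tt N1529 (iv F15787)) (tt N2025 (iv F16162)) (tt N1445 (iv F15933)) (tt N1754 (iv D7394)) (tt N1444 F15623) (tt N1768 (iv F15639)) (tt N1443 (iv F15691)))
theorem Q1822 : ∀ i, i < 1822 → P i := stepQ 1821 Q1821 (allL N1821 (tt N1530 (iv F10674)) (tt N2026 (iv F11104)) (tt N1525 F5595) (tt N1444 D6384) (tt N1758 (iv D3268)) (tt N1760 D6385) (tt N1645 (iv F13709)))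
theorem Q1823 : ∀ i, i < 1823 → P i := stepQ 1822 Q1822 (allL N1822 (tt N1720 F10615) (tt N1462 (iv D3140)) (tt N1901 (iv F5442)) (tt N1450 (iv F14511)) (tt N1659 F14508) (tt N1901 (iv F5443)) (tt N1988 (iv F10619)))
theorem Q1824 : ∀ i, i < 1824 → P i := stepQ 1823 Q1823 (allL N1823 (tt N1719 F15175) (tt N1463 F15176) (tt N1451 F15177) (tt N1640 F15178) (tt N1450 (iv D7275)) (tt N1463 F15179) (tt N1751 (iv F15507)))
theorem Q1825 : ∀ i, i < 1825 → P i := stepQ 1824 Q1824 (allL N1824 (tt N1473 F14347) (tt N1903 F10836) (tt N1665 F14348) (tt N1473 F14604) (tt N1454 F14349) (tt N1452 F10837) (tt N1809 (iv D6178)))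
theorem Q1826 : ∀ i, i < 1826 → P i := stepQ 1825 Q1825 (allL N1825 (tt N1463 F15299) (tt N1459 F15300) (tt N1460 F15302) (tt N1652 (iv D7302)) (tt N1459 (iv F15303)) (tt N1719 F15301) (tt N1791 (iv F15421)))
theorem Q1827 : ∀ i, i < 1827 → P i := stepQ 1826 Q1826 (allL N1826 (tt N1464 F15310) (tt N1791 F15423) (tt N1461 F15311) (tt N1682 F15312) (tt N1791 (iv F15419)) (tt N1993 F15313) (tt N1459 (iv D7304)))
theorem Q1828 : ∀ i, i < 1828 → P i := stepQ 1827 Q1827 (allL N1827 (tt N1653 (iv F10285)) (tt N1659 (iv F14503)) (tt N1563 F5431) (tt N1658 (iv F14502)) (tt N1462 (iv D3142)) (tt N1897 F5432) (tt N1891 F14130))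
theorem Q1829 : ∀ i, i < 1829 → P i := stepQ 1828 Q1828 (allL N1828 (tt N1652 F15287) (tt N1640 (iv D7298)) (tt N1828 F15288) (tt N1463 F15289) (tt N1658 F15290) (tt N1961 (iv F15308)) (tt N1968 (iv F15357)))
theorem Q1830 : ∀ i, i < 1830 → P i := stepQ 1829 Q1829 (allL N1829 (tt N1845 (iv F11456)) (tt N1907 F11417) (tt N1465 F14584) (tt N1845 (iv F11458)) (tt N1467 F11418) (tt N1904 (iv D6574)) (tt N1707 (iv F14383)))
theorem Q1831 : ∀ i, i < 1831 → P i := stepQ 1830 Q1830 (allL N1830 (tt N1847 F14375) (tt N1473 F14376) (tt N1904 F14377) (tt N1903 F14287) (tt N1468 F14378) (tt N1465 F10607) (tt N1833 (iv D6015)))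
theorem Q1832 : ∀ i, i < 1832 → P i := stepQ 1831 Q1831 (allL N1831 (tt N1960 F14697) (tt N2027 (iv F15495)) (tt N1466 F14687) (tt N1852 (iv D6121)) (tt N1794 F14090) (tt N1987 (iv F14688)) (tt N1470 F14091))
theorem Q1833 : ∀ i, i < 1833 → P i := stepQ 1832 Q1832 (allL N1832 (tt N1505 (iv F10180)) (tt N1849 F14363) (tt N1469 (iv D3072)) (tt N1705 F14258) (tt N1707 (iv F10596)) (tt N1995 D6012) (tt N1467 F14364))
theorem Q1834 : ∀ i, i < 1834 → P i := stepQ 1833 Q1833 (allL N1833 (tt N1514 (iv F10181)) (tt N1477 (iv F10577)) (tt N1995 (iv F10604)) (tt N1964 D6014) (tt N1776 (iv F10597)) (tt N1469 (iv D3073)) (tt N1830 D6015))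
theorem Q1835 : ∀ i, i < 1835 → P i := stepQ 1834 Q1834 (allL N1834 (tt N1986 F15334) (tt N1470 F15335) (tt N1478 D7528) (tt N2028 (iv D7309)) (tt N1951 F15336) (tt N1713 F15337) (tt N2027 (iv F15497)))
theorem Q1836 : ∀ i, i < 1836 → P i := stepQ 1835 Q1835 (allL N1835 (tt N1628 (iv F10065)) (tt N2028 (iv F10385)) (tt N2029 (iv F10461)) (tt N1470 D5895) (tt N1556 F5269) (tt N1551 (iv D3011)) (tt N1895 (iv F5276)))
theorem Q1837 : ∀ i, i < 1837 → P i := stepQ 1836 Q1836 (allL N1836 (tt N1798 F15782) (tt N1474 F15783) (tt N2027 F15786) (tt N1797 (iv D7435)) (tt N1795 F15784) (tt N1798 F15785) (tt N1478 (iv F16151)))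
theorem Q1838 : ∀ i, i < 1838 → P i := stepQ 1837 Q1837 (allL N1837 (tt N1838 F15340) (tt N1479 F15341) (tt N1951 (iv D7311)) (tt N2030 (iv F15465)) (tt N1478 (iv F16149)) (tt N1804 (iv F15560)) (tt N1795 (iv F15565)))
theorem Q1839 : ∀ i, i < 1839 → P i := stepQ 1838 Q1838 (allL N1838 (tt N1837 (iv F15340)) (tt N1480 F15338) (tt N1713 (iv D7310)) (tt N2031 (iv F15339)) (tt N1804 (iv F15559)) (tt N1478 (iv F16150)) (tt N2020 (iv F15550)))
theorem Q1840 : ∀ i, i < 1840 → P i := stepQ 1839 Q1839 (allL N1839 (tt N1954 F10691) (tt N2030 (iv F15463)) (tt N1487 F10692) (tt N1479 (iv F14610)) (tt N1610 F13507) (tt N1778 D7346) (tt N1840 (iv D6068)))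
theorem Q1841 : ∀ i, i < 1841 → P i := stepQ 1840 Q1840 (allL N1840 (tt N1758 F5384) (tt N2031 D6065) (tt N1511 (iv D3098)) (tt N1480 D6066) (tt N1530 (iv F10675)) (tt N1512 D6067) (tt N1839 D6068))
theorem Q1842 : ∀ i, i < 1842 → P i := stepQ 1841 Q1841 (allL N1841 (tt N1811 (iv F15967)) (tt N1757 F15801) (tt N1841 F15802) (tt N1483 F15803) (tt N1811 (iv F15972)) (tt N1811 F15971) (tt N1800 (iv D7441)))
theorem Q1843 : ∀ i, i < 1843 → P i := stepQ 1842 Q1842 (allL N1842 (tt N1857 (iv F15809)) (tt N1851 (iv F15723)) (tt N1762 F15511) (tt N1485 (iv F16115)) (tt N1761 (iv F15708)) (tt N1807 (iv D7356)) (tt N1857 (iv F15814)))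
theorem Q1844 : ∀ i, i < 1844 → P i := stepQ 1843 Q1843 (allL N1843 (tt N1789 F16393) (tt N1489 F16394) (tt N1528 (iv D7589)) (tt N2015 F16395) (tt N1787 (iv F16401)) (tt N1866 (iv F16397)) (tt N1488 F16396))
theorem Q1845 : ∀ i, i < 1845 → P i := stepQ 1844 Q1844 (allL N1844 (tt N1654 (iv F10295)) (tt N1856 D6155) (tt N1564 (iv D3145)) (tt N1490 D6156) (tt N1654 (iv F14107)) (tt N2032 D6158) (tt N1952 D6159))
theorem Q1846 : ∀ i, i < 1846 → P i := stepQ 1845 Q1845 (allL N1845 (tt N1829 F11456) (tt N1727 F11457) (tt N1491 (iv F15064)) (tt N1829 F11458) (tt N1490 (iv F14369)) (tt N1725 (iv D6608)) (tt N1855 (iv F14532)))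
theorem Q1847 : ∀ i, i < 1847 → P i := stepQ 1846 Q1846 (allL N1846 (tt N1570 F14390) (tt N1726 (iv F14400)) (tt N1492 D6333) (tt N1672 (iv D3242)) (tt N1725 (iv F14402)) (tt N1490 (iv F14235)) (tt N1677 (iv F11056)))
theorem Q1848 : ∀ i, i < 1848 → P i := stepQ 1847 Q1847 (allL N1847 (tt N1830 (iv F14375)) (tt N1493 (iv D6556)) (tt N1725 F11382) (tt N1664 (iv F14523)) (tt N1492 (iv F14374)) (tt N1491 (iv F15066)) (tt N1514 F14524))
theorem Q1849 : ∀ i, i < 1849 → P i := stepQ 1848 Q1848 (allL N1848 (tt N1776 F15281) (tt N1495 F15282) (tt N1677 F15283) (tt N1776 F15284) (tt N1514 F15285) (tt N1516 (iv D7297)) (tt N1492 F15286))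
theorem Q1850 : ∀ i, i < 1850 → P i := stepQ 1849 Q1849 (allL N1849 (tt N1506 (iv F11052)) (tt N1832 (iv F14363)) (tt N1576 F5754) (tt N1497 F14345) (tt N1813 (iv F5757)) (tt N1908 F5755) (tt N1572 (iv D3377)))
theorem Q1851 : ∀ i, i < 1851 → P i := stepQ 1850 Q1850 (allL N1850 (tt N1508 F15523) (tt N1920 F15524) (tt N1499 F15525) (tt N1973 F15526) (tt N1681 F15527) (tt N1678 F15528) (tt N1497 (iv D7359)))
theorem Q1852 : ∀ i, i < 1852 → P i := stepQ 1851 Q1851 (allL N1851 (tt N1510 F15722) (tt N1842 F15723) (tt N2033 F15724) (tt N1500 F15725) (tt N1698 (iv D7421)) (tt N2022 F15726) (tt N1510 F15727))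
theorem Q1853 : ∀ i, i < 1853 → P i := stepQ 1852 Q1852 (allL N1852 (tt N1650 (iv F13567)) (tt N2034 (iv F10763)) (tt N1501 F5413) (tt N1831 D6121) (tt N1938 F13951) (tt N1562 (iv D3125)) (tt N1614 F13434))
theorem Q1854 : ∀ i, i < 1854 → P i := stepQ 1853 Q1853 (allL N1853 (tt N1995 (iv F14384)) (tt N1502 F11461) (tt N1514 (iv F14526)) (tt N1793 (iv F15183)) (tt N1677 (iv F14405)) (tt N1505 F14530) (tt N1725 (iv D6609)))
theorem Q1855 : ∀ i, i < 1855 → P i := stepQ 1854 Q1854 (allL N1854 (tt N1974 (iv F14327)) (tt N1677 (iv F14404)) (tt N1503 F11434) (tt N1661 F14239) (tt N1502 F11435) (tt N1507 (iv F14251)) (tt N1726 (iv D6591)))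
theorem Q1856 : ∀ i, i < 1856 → P i := stepQ 1855 Q1855 (allL N1855 (tt N1707 F14254) (tt N1507 (iv F14321)) (tt N1516 F14256) (tt N1587 (iv D5641)) (tt N1505 (iv F14255)) (tt N1677 (iv F14253)) (tt N1845 F14532))
theorem Q1857 : ∀ i, i < 1857 → P i := stepQ 1856 Q1856 (allL N1856 (tt N1973 F14570) (tt N1844 (iv D6155)) (tt N2022 (iv F15508)) (tt N1508 F14571) (tt N1909 F14572) (tt N2033 (iv F15361)) (tt N1676 F14573))
theorem Q1858 : ∀ i, i < 1858 → P i := stepQ 1857 Q1857 (allL N1857 (tt N1842 F15809) (tt N1510 F15810) (tt N1803 F15811) (tt N1509 F15812) (tt N1773 (iv D7444)) (tt N1802 F15813) (tt N1842 F15814))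
theorem Q1859 : ∀ i, i < 1859 → P i := stepQ 1858 Q1858 (allL N1858 (tt N2033 (iv F15358)) (tt N2035 F15429) (tt N1510 F14224) (tt N1946 F15241) (tt N1969 (iv D6330)) (tt N1973 F14221) (tt N2033 (iv F15362)))
theorem Q1860 : ∀ i, i < 1860 → P i := stepQ 1859 Q1859 (allL N1859 (tt N1698 (iv F11293)) (tt N1773 (iv F11588)) (tt N1969 F14223) (tt N1583 (iv D3456)) (tt N1510 D6734) (tt N1972 D6735) (tt N1698 (iv F13654)))
theorem Q1861 : ∀ i, i < 1861 → P i := stepQ 1860 Q1860 (allL N1860 (tt N2022 F15776) (tt N1802 F15777) (tt N1973 F15778) (tt N2022 F15779) (tt N1972 F15780) (tt N1510 F15781) (tt N1805 (iv D7434)))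
theorem Q1862 : ∀ i, i < 1862 → P i := stepQ 1861 Q1861 (allL N1861 (tt N2015 (iv F16171)) (tt N1512 F15468) (tt N2034 F15469) (tt N1789 D7536) (tt N2014 (iv F15569)) (tt N2031 (iv D7344)) (tt N1777 (iv F15539)))
theorem Q1863 : ∀ i, i < 1863 → P i := stepQ 1862 Q1862 (allL N1862 (tt N1760 F15457) (tt N2014 (iv F15568)) (tt N1513 F15458) (tt N1731 D7534) (tt N1512 F15459) (tt N1530 (iv D7341)) (tt N1778 (iv F15474)))
theorem Q1864 : ∀ i, i < 1864 → P i := stepQ 1863 Q1863 (allL N1863 (tt N1964 F10819) (tt N1515 (iv F15518)) (tt N2036 F14568) (tt N1514 F10820) (tt N1964 (iv F14121)) (tt N1639 (iv D6163)) (tt N1655 (iv F14109)))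
theorem Q1865 : ∀ i, i < 1865 → P i := stepQ 1864 Q1864 (allL N1864 (tt N2025 F16256) (tt N1518 F16257) (tt N2011 F16258) (tt N1814 (iv D7559)) (tt N2003 F16259) (tt N2002 F16260) (tt N1746 (iv F16261)))
theorem Q1866 : ∀ i, i < 1866 → P i := stepQ 1865 Q1865 (allL N1865 (tt N1763 F14303) (tt N1679 F14304) (tt N1809 F10830) (tt N1730 F14305) (tt N1521 F14306) (tt N1522 (iv D6174)) (tt N1665 F14307))
theorem Q1867 : ∀ i, i < 1867 → P i := stepQ 1866 Q1866 (allL N1866 (tt N1788 F16233) (tt N1529 F16234) (tt N1787 (iv F16400)) (tt N1804 (iv D7553)) (tt N1528 F16235) (tt N1843 F16397) (tt N1527 F16236))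
theorem Q1868 : ∀ i, i < 1868 → P i := stepQ 1867 Q1867 (allL N1867 (tt N1933 F15452) (tt N1530 (iv D7339)) (tt N1934 F15453) (tt N1528 D7532) (tt N2031 F15454) (tt N2014 (iv F15570)) (tt N1933 F15455))
theorem Q1869 : ∀ i, i < 1869 → P i := stepQ 1868 Q1868 (allL N1868 (tt N1870 (iv F16382)) (tt N1868 F16320) (tt N2007 F16321) (tt N1870 (iv F16385)) (tt N1870 (iv F16386)) (tt N1537 (iv D7572)) (tt N1870 (iv F16387)))
theorem Q1870 : ∀ i, i < 1870 → P i := stepQ 1869 Q1869 (allL N1869 (tt N1801 F15699) (tt N1697 F15700) (tt N1538 (iv F16041)) (tt N1688 (iv D7416)) (tt N1801 F15701) (tt N1806 (iv F16145)) (tt N1869 F15702))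
theorem Q1871 : ∀ i, i < 1871 → P i := stepQ 1870 Q1870 (allL N1870 (tt N1868 F16382) (tt N1870 F16383) (tt N1806 F16384) (tt N1868 F16385) (tt N1868 F16386) (tt N1538 (iv D7587)) (tt N1868 F16387))
theorem Q1872 : ∀ i, i < 1872 → P i := stepQ 1871 Q1871 (allL N1871 (tt N1885 (iv F5245)) (tt N1889 F14450) (tt N1539 (iv D1570)) (tt N1885 (iv F14467)) (tt N1887 (iv F14460)) (tt N2037 D3219) (tt N1883 F14451))
theorem Q1873 : ∀ i, i < 1873 → P i := stepQ 1872 Q1872 (allL N1872 (tt N1883 (iv F5231)) (tt N1541 F2721) (tt N1887 (iv F14459)) (tt N1881 (iv F5220)) (tt N1539 (iv D1571)) (tt N2038 D3221) (tt N1885 F14446))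
theorem Q1874 : ∀ i, i < 1874 → P i := stepQ 1873 Q1873 (allL N1873 (tt N1886 (iv F5246)) (tt N1542 F2722) (tt N2037 (iv F5538)) (tt N1548 F2723) (tt N2038 (iv F5541)) (tt N1539 (iv D1572)) (tt N2039 D3223))
theorem Q1875 : ∀ i, i < 1875 → P i := stepQ 1874 Q1874 (allL N1874 (tt N1887 (iv F5249)) (tt N1543 F2724) (tt N1883 F14447) (tt N2040 D3224) (tt N1885 F14448) (tt N2041 D3225) (tt N1539 (iv D1573)))
theorem Q1876 : ∀ i, i < 1876 → P i := stepQ 1875 Q1875 (allL N1875 (tt N1770 (iv F5251)) (tt N1544 F2725) (tt N1769 D3226) (tt N1540 (iv D1574)) (tt N1770 (iv F13535)) (tt N1912 D3228) (tt N2040 (iv F5547)))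
theorem Q1877 : ∀ i, i < 1877 → P i := stepQ 1876 Q1876 (allL N1876 (tt N1605 (iv F5480)) (tt N2038 (iv F5540)) (tt N1949 (iv F5563)) (tt N1699 D3247) (tt N1542 F2732) (tt N1541 (iv D1581)) (tt N1880 (iv F2737)))
theorem Q1878 : ∀ i, i < 1878 → P i := stepQ 1877 Q1877 (allL N1877 (tt N1606 (iv F5482)) (tt N1885 (iv F14445)) (tt N1890 F14422) (tt N1889 (iv F13703)) (tt N1543 F2733) (tt N1878 (iv F2734)) (tt N1541 (iv D1582)))
theorem Q1879 : ∀ i, i < 1879 → P i := stepQ 1878 Q1878 (allL N1878 (tt N1607 (iv F5484)) (tt N2039 (iv F5544)) (tt N1970 (iv F5567)) (tt N1794 D3249) (tt N1880 (iv F2736)) (tt N1877 F2734) (tt N1542 (iv D1583)))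
theorem Q1880 : ∀ i, i < 1880 → P i := stepQ 1879 Q1879 (allL N1879 (tt N1608 (iv F5486)) (tt N2040 (iv F5546)) (tt N1581 F13624) (tt N1543 (iv D1584)) (tt N1579 F13625) (tt N1578 F13626) (tt N1544 F2735))
theorem Q1881 : ∀ i, i < 1881 → P i := stepQ 1880 Q1880 (allL N1880 (tt N1609 (iv F5488)) (tt N2041 (iv F5548)) (tt N1971 (iv F5569)) (tt N1938 D3253) (tt N1878 F2736) (tt N1543 (iv D1585)) (tt N1876 F2737))
theorem Q1882 : ∀ i, i < 1882 → P i := stepQ 1881 Q1881 (allL N1881 (tt N1547 F5218) (tt N1553 F13387) (tt N1881 F14168) (tt N1872 F5220) (tt N1545 (iv D2977)) (tt N1637 (iv F13546)) (tt N1547 (iv F13538)))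
theorem Q1883 : ∀ i, i < 1883 → P i := stepQ 1882 Q1882 (allL N1882 (tt N1548 F5221) (tt N1554 F13388) (tt N1882 F14137) (tt N1886 (iv F5248)) (tt N1637 (iv F13545)) (tt N1545 (iv D2978)) (tt N1884 (iv F13548)))
theorem Q1884 : ∀ i, i < 1884 → P i := stepQ 1883 Q1883 (allL N1883 (tt N1872 F5231) (tt N1551 F5232) (tt N1874 (iv F14447)) (tt N1547 (iv D2986)) (tt N1549 F5233) (tt N2028 D5848) (tt N1871 (iv F14451)))
theorem Q1885 : ∀ i, i < 1885 → P i := stepQ 1884 Q1884 (allL N1884 (tt N1637 F13547) (tt N1552 F5234) (tt N1884 F14138) (tt N1713 D5850) (tt N1548 F5235) (tt N1547 (iv D2987)) (tt N1882 F13548))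
theorem Q1886 : ∀ i, i < 1886 → P i := stepQ 1885 Q1885 (allL N1885 (tt N1871 F5245) (tt N1877 F14445) (tt N1549 (iv D2992)) (tt N1871 F14467) (tt N1874 (iv F14448)) (tt N2039 (iv F14458)) (tt N1872 (iv F14446)))
theorem Q1887 : ∀ i, i < 1887 → P i := stepQ 1886 Q1886 (allL N1886 (tt N1873 F5246) (tt N1556 F5247) (tt N2039 F14461) (tt N1882 F5248) (tt N2028 (iv F10386)) (tt N1549 (iv D2993)) (tt N2037 (iv F14466)))
theorem Q1888 : ∀ i, i < 1888 → P i := stepQ 1887 Q1887 (allL N1887 (tt N1874 F5249) (tt N1557 F5250) (tt N1872 F14459) (tt N1911 F13755) (tt N1871 F14460) (tt N2042 D5861) (tt N1549 (iv D2994)))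
theorem Q1889 : ∀ i, i < 1889 → P i := stepQ 1888 Q1888 (allL N1888 (tt N1627 (iv F10062)) (tt N1672 F14416) (tt N1551 (iv D3010)) (tt N1726 (iv F9554)) (tt N1555 F5268) (tt N2029 D5893) (tt N1667 (iv F14421)))
theorem Q1890 : ∀ i, i < 1890 → P i := stepQ 1889 Q1889 (allL N1889 (tt N1629 (iv F10067)) (tt N1871 (iv F14450)) (tt N1667 F14438) (tt N1877 F13703) (tt N1557 F5270) (tt N1894 (iv F5273)) (tt N1551 (iv D3012)))
theorem Q1891 : ∀ i, i < 1891 → P i := stepQ 1890 Q1890 (allL N1890 (tt N1927 D5906) (tt N1555 (iv D3017)) (tt N1877 (iv F14422)) (tt N1966 D5907) (tt N1672 F14417) (tt N1970 (iv F14423)) (tt N1670 (iv F14424)))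
theorem Q1892 : ∀ i, i < 1892 → P i := stepQ 1891 Q1891 (allL N1891 (tt N1632 (iv F10076)) (tt N1966 (iv F10474)) (tt N1626 F14067) (tt N1555 (iv D3018)) (tt N1701 F14068) (tt N1900 (iv F14096)) (tt N1827 (iv F14130)))
theorem Q1893 : ∀ i, i < 1893 → P i := stepQ 1892 Q1892 (allL N1892 (tt N1633 (iv F10080)) (tt N1970 F14439) (tt N1556 F5271) (tt N1929 D5911) (tt N2029 (iv F10462)) (tt N1555 (iv D3019)) (tt N1967 (iv F14444)))
theorem Q1894 : ∀ i, i < 1894 → P i := stepQ 1893 Q1893 (allL N1893 (tt N1631 (iv F14454)) (tt N1670 F14440) (tt N1557 F5272) (tt N1965 D5913) (tt N1667 F14441) (tt N2043 D5914) (tt N1555 (iv D3020)))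
theorem Q1895 : ∀ i, i < 1895 → P i := stepQ 1894 Q1894 (allL N1894 (tt N1634 (iv F10085)) (tt N2037 (iv F14464)) (tt N1967 F14453) (tt N1714 (iv F13706)) (tt N1895 (iv F5275)) (tt N1889 F5273) (tt N1556 (iv D3021)))
theorem Q1896 : ∀ i, i < 1896 → P i := stepQ 1895 Q1895 (allL N1895 (tt N1635 F13757) (tt N2042 (iv F10408)) (tt N2043 (iv F10483)) (tt N1614 F13758) (tt N1894 F5275) (tt N1557 (iv D3023)) (tt N1835 F5276))
theorem Q1897 : ∀ i, i < 1897 → P i := stepQ 1896 Q1896 (allL N1896 (tt N1636 (iv F10098)) (tt N2013 (iv F10416)) (tt N1582 F13522) (tt N1580 F5278) (tt N1580 F13524) (tt N1558 (iv D3026)) (tt N1578 F13523))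
theorem Q1898 : ∀ i, i < 1898 → P i := stepQ 1897 Q1897 (allL N1897 (tt N1640 (iv F10188)) (tt N1720 D6022) (tt N1561 (iv D3078)) (tt N1719 D6023) (tt N1566 F5347) (tt N1827 (iv F5432)) (tt N1906 F14131))
theorem Q1899 : ∀ i, i < 1899 → P i := stepQ 1898 Q1898 (allL N1898 (tt N1935 D6116) (tt N1562 (iv D3123)) (tt N2031 (iv F10687)) (tt N1935 (iv F13419)) (tt N1934 (iv F10748)) (tt N2034 D6118) (tt N1935 (iv F13423)))
theorem Q1900 : ∀ i, i < 1900 → P i := stepQ 1899 Q1899 (allL N1899 (tt N1655 (iv F10298)) (tt N1762 (iv F10803)) (tt N2032 (iv F10811)) (tt N1568 F5438) (tt N1655 (iv F14108)) (tt N1564 (iv D3147)) (tt N1964 (iv F14122)))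
theorem Q1901 : ∀ i, i < 1901 → P i := stepQ 1900 Q1900 (allL N1900 (tt N1657 F14094) (tt N2044 D6164) (tt N1565 (iv D3149)) (tt N1603 (iv F14136)) (tt N1906 F14095) (tt N1891 F14096) (tt N1566 F5441))
theorem Q1902 : ∀ i, i < 1902 → P i := stepQ 1901 Q1901 (allL N1901 (tt N1659 F14505) (tt N1566 (iv D3150)) (tt N1822 F5442) (tt N1566 (iv F14509)) (tt N1720 (iv F10614)) (tt N1822 F5443) (tt N2044 (iv F10824)))
theorem Q1903 : ∀ i, i < 1903 → P i := stepQ 1902 Q1902 (allL N1902 (tt N1663 (iv F10313)) (tt N1742 (iv F10832)) (tt N1975 (iv F10847)) (tt N1663 (iv F14269)) (tt N1568 F5458) (tt N1567 (iv D3163)) (tt N1597 (iv F5463)))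
theorem Q1904 : ∀ i, i < 1904 → P i := stepQ 1903 Q1903 (allL N1903 (tt N1664 (iv F10317)) (tt N1824 (iv F10836)) (tt N1666 (iv F10851)) (tt N1830 (iv F14287)) (tt N1597 (iv F5462)) (tt N1596 F5460) (tt N1568 (iv D3165)))
theorem Q1905 : ∀ i, i < 1905 → P i := stepQ 1904 Q1904 (allL N1904 (tt N1725 F5775) (tt N1571 F5747) (tt N1830 (iv F14377)) (tt N1994 D6573) (tt N1570 (iv D3370)) (tt N1829 D6574) (tt N1995 (iv F14386)))
theorem Q1906 : ∀ i, i < 1906 → P i := stepQ 1905 Q1905 (allL N1905 (tt N1677 (iv F14403)) (tt N1573 F5749) (tt N1776 F14391) (tt N1573 (iv F14415)) (tt N1995 F14392) (tt N1707 F14393) (tt N1570 (iv D3372)))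
theorem Q1907 : ∀ i, i < 1907 → P i := stepQ 1906 Q1906 (allL N1906 (tt N1673 (iv F10449)) (tt N1994 (iv F11416)) (tt N1625 F14069) (tt N1571 (iv D3373)) (tt N1900 (iv F14095)) (tt N1701 F14070) (tt N1897 (iv F14131)))
theorem Q1908 : ∀ i, i < 1908 → P i := stepQ 1907 Q1907 (allL N1907 (tt N1674 (iv F11044)) (tt N1829 (iv F11417)) (tt N1574 F5750) (tt N1727 (iv F9557)) (tt N1572 F5751) (tt N1571 (iv D3374)) (tt N1813 (iv F5758)))
theorem Q1909 : ∀ i, i < 1909 → P i := stepQ 1908 Q1908 (allL N1908 (tt N1675 (iv F11047)) (tt N1995 (iv F14385)) (tt N1575 F5752) (tt N1993 D6581) (tt N1573 F5753) (tt N1849 (iv F5755)) (tt N1571 (iv D3375)))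
theorem Q1910 : ∀ i, i < 1910 → P i := stepQ 1909 Q1909 (allL N1909 (tt N1676 (iv F11050)) (tt N1654 (iv F14370)) (tt N1805 D6582) (tt N1572 (iv D3376)) (tt N1856 (iv F14572)) (tt N1930 (iv F10901)) (tt N1973 D6584))
theorem Q1911 : ∀ i, i < 1911 → P i := stepQ 1910 Q1910 (allL N1910 (tt N1577 (iv D3437)) (tt N1578 F13519) (tt N1797 (iv F11553)) (tt N1934 (iv F10747)) (tt N1577 F13520) (tt N2040 (iv F13661)) (tt N2013 (iv F13658)))
theorem Q1912 : ∀ i, i < 1912 → P i := stepQ 1911 Q1911 (allL N1911 (tt N2040 (iv F13660)) (tt N1579 F5846) (tt N1772 (iv F11558)) (tt N1887 (iv F13755)) (tt N2040 (iv F13657)) (tt N1577 (iv D3439)) (tt N1770 (iv F13756)))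
theorem Q1913 : ∀ i, i < 1913 → P i := stepQ 1912 Q1912 (allL N1912 (tt N2013 (iv F10415)) (tt N1580 F5552) (tt N1799 (iv F11018)) (tt N2013 (iv F10417)) (tt N2013 (iv F13659)) (tt N1875 (iv D3228)) (tt N1577 F13521))
theorem Q1914 : ∀ i, i < 1914 → P i := stepQ 1913 Q1913 (allL N1913 (tt N1696 (iv F11288)) (tt N1800 (iv F11579)) (tt N2045 D6726) (tt N1581 (iv D3451)) (tt N1696 (iv F13653)) (tt N1913 F13525) (tt N1757 D6728))
theorem Q1915 : ∀ i, i < 1915 → P i := stepQ 1914 Q1914 (allL N1914 (tt N1697 (iv F11290)) (tt N1801 (iv F11580)) (tt N1914 F9856) (tt N1582 (iv D3452)) (tt N1697 (iv F11291)) (tt N2046 D6729) (tt N1914 F13526))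
theorem Q1916 : ∀ i, i < 1916 → P i := stepQ 1915 Q1915 (allL N1915 (tt N1699 F9575) (tt N2047 D7281) (tt N1585 (iv D5372)) (tt N1605 (iv F9577)) (tt N1591 F9576) (tt N1630 F14046) (tt N2004 (iv F14705)))
theorem Q1917 : ∀ i, i < 1917 → P i := stepQ 1916 Q1916 (allL N1916 (tt N1939 F15157) (tt N1591 (iv D7271)) (tt N1814 (iv F15604)) (tt N1621 F15158) (tt N2047 (iv F15199)) (tt N1996 (iv F15382)) (tt N2048 D7522))
theorem Q1918 : ∀ i, i < 1918 → P i := stepQ 1917 Q1917 (allL N1917 (tt N1714 F15159) (tt N2048 (iv F16119)) (tt N1592 F15160) (tt N1634 F15161) (tt N2004 F15162) (tt N1783 F15163) (tt N1591 (iv D7272)))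
theorem Q1919 : ∀ i, i < 1919 → P i := stepQ 1918 Q1918 (allL N1918 (tt N1715 F15164) (tt N1918 F15165) (tt N1709 F15166) (tt N1593 (iv D7273)) (tt N1918 F15167) (tt N1715 (iv F15169)) (tt N1918 F15168))
theorem Q1920 : ∀ i, i < 1920 → P i := stepQ 1919 Q1919 (allL N1919 (tt N1717 F15170) (tt N1919 F15171) (tt N1594 F15172) (tt N1717 F15173) (tt N1990 (iv F15749)) (tt N1593 (iv D7274)) (tt N1717 F15174))
theorem Q1921 : ∀ i, i < 1921 → P i := stepQ 1920 Q1920 (allL N1920 (tt N1669 F14560) (tt N1850 (iv F15524)) (tt N1596 F10849) (tt N1963 F14277) (tt N1595 F10850) (tt N1666 (iv F10852)) (tt N1705 (iv D6189)))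
theorem Q1922 : ∀ i, i < 1922 → P i := stepQ 1921 Q1921 (allL N1921 (tt N1693 (iv F14486)) (tt N1608 F14428) (tt N2049 D7360) (tt N1598 (iv D6217)) (tt N1693 F14429) (tt N1691 F14430) (tt N1601 F14431))
theorem Q1923 : ∀ i, i < 1923 → P i := stepQ 1922 Q1922 (allL N1922 (tt N1940 (iv F15215)) (tt N1606 F14432) (tt N1599 F10878) (tt N1940 (iv F15218)) (tt N1598 (iv D6218)) (tt N1925 F14433) (tt N1599 F14434))
theorem Q1924 : ∀ i, i < 1924 → P i := stepQ 1923 Q1923 (allL N1923 (tt N1942 F14482) (tt N1609 F14435) (tt N1600 F10879) (tt N2050 (iv F14483)) (tt N1925 F14436) (tt N1598 (iv D6219)) (tt N1924 F14437))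
theorem Q1925 : ∀ i, i < 1925 → P i := stepQ 1924 Q1924 (allL N1924 (tt N1941 (iv F15220)) (tt N1605 F10881) (tt N1925 F14473) (tt N2047 (iv F15198)) (tt N1600 F10882) (tt N1599 (iv D6221)) (tt N1923 (iv F14437)))
theorem Q1926 : ∀ i, i < 1926 → P i := stepQ 1925 Q1925 (allL N1925 (tt N1943 (iv F15224)) (tt N1607 F10885) (tt N1924 (iv F14473)) (tt N2016 (iv F15384)) (tt N1923 (iv F14436)) (tt N1922 (iv F14433)) (tt N1600 (iv D6223)))
theorem Q1927 : ∀ i, i < 1927 → P i := stepQ 1926 Q1926 (allL N1926 (tt N1738 (iv F15229)) (tt N1740 D7361) (tt N1601 (iv D6226)) (tt N1737 D7362) (tt N1738 (iv F15230)) (tt N1978 D7363) (tt N2049 (iv F15529)))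
theorem Q1928 : ∀ i, i < 1928 → P i := stepQ 1927 Q1927 (allL N1927 (tt N1890 (iv D5906)) (tt N1603 F10472) (tt N1606 F14408) (tt N2044 (iv F14516)) (tt N1602 F10473) (tt N1931 F14409) (tt N1603 F14410))
theorem Q1929 : ∀ i, i < 1929 → P i := stepQ 1928 Q1928 (allL N1928 (tt N1971 F14411) (tt N1604 F10895) (tt N1609 F14412) (tt N1962 (iv F15323)) (tt N1931 F14413) (tt N1602 (iv D6229)) (tt N1929 F14414))
theorem Q1930 : ∀ i, i < 1930 → P i := stepQ 1929 Q1929 (allL N1929 (tt N1949 F10477) (tt N1931 (iv F14472)) (tt N1605 F10478) (tt N1892 (iv D5911)) (tt N1604 (iv F10480)) (tt N1603 F10479) (tt N1928 (iv F14414)))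
theorem Q1931 : ∀ i, i < 1931 → P i := stepQ 1930 Q1930 (allL N1930 (tt N1969 F10900) (tt N1962 (iv F15321)) (tt N1698 (iv F14222)) (tt N1604 (iv D6232)) (tt N2033 (iv F15360)) (tt N1909 F10901) (tt N1969 F14219))
theorem Q1932 : ∀ i, i < 1932 → P i := stepQ 1931 Q1931 (allL N1931 (tt N1970 F10902) (tt N1929 F14472) (tt N1607 F10903) (tt N1970 F14220) (tt N1928 (iv F14413)) (tt N1927 (iv F14409)) (tt N1604 (iv D6233)))
theorem Q1933 : ∀ i, i < 1933 → P i := stepQ 1932 Q1932 (allL N1932 (tt N1938 F13812) (tt N2050 (iv F13713)) (tt N1647 F5627) (tt N1609 (iv F14018)) (tt N1650 F5628) (tt N1646 (iv D3293)) (tt N1959 F5629))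
theorem Q1934 : ∀ i, i < 1934 → P i := stepQ 1933 Q1933 (allL N1933 (tt N1867 (iv F15452)) (tt N1610 (iv D6247)) (tt N1612 F10933) (tt N1790 D7364) (tt N2030 (iv F15466)) (tt N1777 D7365) (tt N1867 (iv F15455)))
theorem Q1935 : ∀ i, i < 1935 → P i := stepQ 1934 Q1934 (allL N1934 (tt N1612 F10746) (tt N1615 (iv D6102)) (tt N1867 (iv F15453)) (tt N1910 F10747) (tt N1898 F10748) (tt N2051 F14771) (tt N1612 F13421))
theorem Q1936 : ∀ i, i < 1936 → P i := stepQ 1935 Q1935 (allL N1935 (tt N1898 (iv D6116)) (tt N1613 F13418) (tt N2030 (iv F15464)) (tt N1898 F13419) (tt N1612 F10761) (tt N2052 D7351) (tt N1898 F13423))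
theorem Q1937 : ∀ i, i < 1937 → P i := stepQ 1936 Q1936 (allL N1936 (tt N2051 (iv F14773)) (tt N1614 F10951) (tt N1777 (iv F15538)) (tt N2042 F14774) (tt N2052 (iv F15493)) (tt N1612 (iv D6260)) (tt N2034 F14772))
theorem Q1938 : ∀ i, i < 1938 → P i := stepQ 1937 Q1937 (allL N1937 (tt N1959 F13420) (tt N2052 (iv F15492)) (tt N1616 F13424) (tt N1987 F13952) (tt N1614 (iv F13506)) (tt N1613 (iv D6120)) (tt N1938 F13953))
theorem Q1939 : ∀ i, i < 1939 → P i := stepQ 1938 Q1938 (allL N1938 (tt N1932 (iv F13812)) (tt N2051 (iv F11015)) (tt N1617 (iv F13950)) (tt N1880 (iv D3253)) (tt N1852 (iv F13951)) (tt N1615 F13759) (tt N1937 (iv F13953)))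
theorem Q1940 : ∀ i, i < 1940 → P i := stepQ 1939 Q1939 (allL N1939 (tt N1916 (iv F15157)) (tt N1630 F10547) (tt N2006 D7319) (tt N1619 (iv D5962)) (tt N1996 D7320) (tt N2047 (iv F15200)) (tt N2016 D7321))
theorem Q1941 : ∀ i, i < 1941 → P i := stepQ 1940 Q1940 (allL N1940 (tt N1922 F15215) (tt N1629 F15216) (tt N1620 (iv D7285)) (tt N1922 F15218) (tt N1622 F15217) (tt N1943 (iv F15228)) (tt N1620 (iv F15219)))
theorem Q1942 : ∀ i, i < 1942 → P i := stepQ 1941 Q1941 (allL N1941 (tt N1924 F15220) (tt N1628 F15221) (tt N1943 (iv F15226)) (tt N1996 (iv F15381)) (tt N1623 F15222) (tt N1620 (iv D7286)) (tt N1942 F15223))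
theorem Q1943 : ∀ i, i < 1943 → P i := stepQ 1942 Q1942 (allL N1942 (tt N1923 (iv F14482)) (tt N1635 F11150) (tt N1623 F14476) (tt N1982 (iv D6414)) (tt N1943 (iv F15227)) (tt N1622 F14484) (tt N1941 (iv F15223)))
theorem Q1944 : ∀ i, i < 1944 → P i := stepQ 1943 Q1943 (allL N1943 (tt N1925 F15224) (tt N1634 F15225) (tt N1941 F15226) (tt N2048 (iv F16120)) (tt N1942 F15227) (tt N1940 F15228) (tt N1623 (iv D7287)))
theorem Q1945 : ∀ i, i < 1945 → P i := stepQ 1944 Q1944 (allL N1944 (tt N1694 F15231) (tt N1636 F15232) (tt N2001 (iv F16129)) (tt N1694 F15233) (tt N1694 F15234) (tt N1624 (iv D7289)) (tt N1691 F15235))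
theorem Q1946 : ∀ i, i < 1946 → P i := stepQ 1945 Q1945 (allL N1945 (tt N1667 (iv D3229)) (tt N1627 F10064) (tt N1629 (iv F14452)) (tt N1666 (iv F14389)) (tt N1631 (iv F10074)) (tt N1950 D6308) (tt N1627 (iv F14419)))
theorem Q1947 : ∀ i, i < 1947 → P i := stepQ 1946 Q1946 (allL N1946 (tt N2029 F15236) (tt N1950 F15237) (tt N1628 F15238) (tt N1858 (iv F15241)) (tt N1633 F15239) (tt N1627 (iv D7290)) (tt N1948 F15240))
theorem Q1948 : ∀ i, i < 1948 → P i := stepQ 1947 Q1947 (allL N1947 (tt N1965 F15242) (tt N1632 F15243) (tt N1947 F15244) (tt N1631 (iv D7291)) (tt N1953 F15245) (tt N1965 F15246) (tt N1961 (iv F15309)))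
theorem Q1949 : ∀ i, i < 1949 → P i := stepQ 1948 Q1948 (allL N1948 (tt N2043 F14475) (tt N1633 (iv F14474)) (tt N1635 (iv D6426)) (tt N2043 F14477) (tt N1950 (iv F14479)) (tt N1631 F14478) (tt N1946 (iv F15240)))
theorem Q1950 : ∀ i, i < 1950 → P i := stepQ 1949 Q1949 (allL N1949 (tt N1929 (iv F10477)) (tt N2043 (iv F14442)) (tt N1876 F5563) (tt N1633 (iv F10082)) (tt N1671 F5564) (tt N1670 (iv D3238)) (tt N1971 (iv F5571)))
theorem Q1951 : ∀ i, i < 1951 → P i := stepQ 1950 Q1950 (allL N1950 (tt N1967 F11026) (tt N1946 (iv F15237)) (tt N1634 F14481) (tt N2035 (iv F15425)) (tt N1948 F14479) (tt N1945 (iv D6308)) (tt N1633 (iv F14480)))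
theorem Q1952 : ∀ i, i < 1952 → P i := stepQ 1951 Q1951 (allL N1951 (tt N1713 (iv F14488)) (tt N1638 F10392) (tt N1837 D7311) (tt N1637 (iv D5852)) (tt N1834 (iv F15336)) (tt N1986 (iv F14471)) (tt N2019 (iv F11010)))
theorem Q1953 : ∀ i, i < 1953 → P i := stepQ 1952 Q1952 (allL N1952 (tt N1963 F10812) (tt N1676 (iv F14563)) (tt N1639 F10813) (tt N1669 F14562) (tt N1963 (iv F14564)) (tt N2036 (iv F14565)) (tt N1844 (iv D6159)))
theorem Q1954 : ∀ i, i < 1954 → P i := stepQ 1953 Q1953 (allL N1953 (tt N1968 (iv F15352)) (tt N1642 (iv D7282)) (tt N1953 F15201) (tt N1680 F15202) (tt N1947 (iv F15245)) (tt N1968 (iv F15356)) (tt N1652 F15203))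
theorem Q1955 : ∀ i, i < 1955 → P i := stepQ 1954 Q1954 (allL N1954 (tt N1839 (iv F10691)) (tt N2053 (iv F13711)) (tt N1644 F5597) (tt N1808 D6389) (tt N1645 (iv F13707)) (tt N1998 D6390) (tt N1758 (iv D3270)))
theorem Q1956 : ∀ i, i < 1956 → P i := stepQ 1955 Q1955 (allL N1955 (tt N2026 (iv F15297)) (tt N1645 (iv D7300)) (tt N1648 F15294) (tt N2003 D7526) (tt N2053 F15295) (tt N1997 (iv F15617)) (tt N2026 F15296))
theorem Q1957 : ∀ i, i < 1957 → P i := stepQ 1956 Q1956 (allL N1956 (tt N1692 (iv D3279)) (tt N1646 F13574) (tt N2053 (iv F11102)) (tt N1691 D6404) (tt N1648 (iv F10253)) (tt N2050 D6405) (tt N1692 (iv F13710)))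
theorem Q1958 : ∀ i, i < 1958 → P i := stepQ 1957 Q1957 (allL N1957 (tt N1648 F10254) (tt N1649 F5612) (tt N2026 (iv F11105)) (tt N1648 (iv F13580)) (tt N1692 (iv D3281)) (tt N2054 D6412) (tt N1648 (iv F13582)))
theorem Q1959 : ∀ i, i < 1959 → P i := stepQ 1958 Q1958 (allL N1958 (tt N2054 (iv F14785)) (tt N1650 F11151) (tt N1997 (iv F15615)) (tt N2055 D7409) (tt N2050 (iv F13714)) (tt N1648 (iv F13581)) (tt N1982 (iv D6415)))
theorem Q1960 : ∀ i, i < 1960 → P i := stepQ 1959 Q1959 (allL N1959 (tt N1937 (iv F13420)) (tt N2054 (iv F11146)) (tt N1651 F5621) (tt N2004 D6425) (tt N1695 F5622) (tt N1649 (iv D3288)) (tt N1932 (iv F5629)))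
theorem Q1961 : ∀ i, i < 1961 → P i := stepQ 1960 Q1960 (allL N1960 (tt N1831 (iv F14697)) (tt N2055 (iv F15669)) (tt N1724 (iv F15058)) (tt N1650 (iv D6429)) (tt N1783 F14696) (tt N2004 F14703) (tt N1723 (iv F14698)))
theorem Q1962 : ∀ i, i < 1962 → P i := stepQ 1961 Q1961 (allL N1961 (tt N1658 F15304) (tt N1653 F15305) (tt N1961 F15306) (tt N1653 F15307) (tt N1652 (iv D7303)) (tt N1828 F15308) (tt N1947 F15309))
theorem Q1963 : ∀ i, i < 1963 → P i := stepQ 1962 Q1962 (allL N1962 (tt N2032 F15320) (tt N1930 F15321) (tt N1655 F15322) (tt N1928 F15323) (tt N2032 F15324) (tt N1654 (iv D7307)) (tt N2036 F15325))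
theorem Q1964 : ∀ i, i < 1964 → P i := stepQ 1963 Q1963 (allL N1963 (tt N1952 (iv F10812)) (tt N1973 (iv F14569)) (tt N1656 (iv D6017)) (tt N1920 (iv F14277)) (tt N1952 F14564) (tt N2035 (iv F15427)) (tt N1654 F10610))
theorem Q1965 : ∀ i, i < 1965 → P i := stepQ 1964 Q1964 (allL N1964 (tt N1863 (iv F10819)) (tt N1803 (iv F15191)) (tt N2035 D7333) (tt N1833 (iv D6014)) (tt N1863 F14121) (tt N1656 F10606) (tt N1899 F14122))
theorem Q1966 : ∀ i, i < 1966 → P i := stepQ 1965 Q1965 (allL N1965 (tt N1947 (iv F15242)) (tt N1657 F14457) (tt N1965 F14500) (tt N1893 (iv D5913)) (tt N1968 (iv F15355)) (tt N1947 (iv F15246)) (tt N1658 (iv F14501)))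
theorem Q1967 : ∀ i, i < 1967 → P i := stepQ 1966 Q1966 (allL N1966 (tt N2044 F14517) (tt N1891 F10474) (tt N1994 (iv F14518)) (tt N1890 (iv D5907)) (tt N1988 (iv F14065)) (tt N2044 F14520) (tt N1659 F14528))
theorem Q1968 : ∀ i, i < 1968 → P i := stepQ 1967 Q1967 (allL N1967 (tt N1950 (iv F11026)) (tt N1671 F5555) (tt N1894 (iv F14453)) (tt N2036 D6317) (tt N2043 F14443) (tt N1667 (iv D3232)) (tt N1892 F14444))
theorem Q1969 : ∀ i, i < 1969 → P i := stepQ 1968 Q1968 (allL N1968 (tt N1953 F15352) (tt N1673 (iv D7314)) (tt N1968 F15353) (tt N1668 F15354) (tt N1965 F15355) (tt N1953 F15356) (tt N1828 F15357))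
theorem Q1970 : ∀ i, i < 1970 → P i := stepQ 1969 Q1969 (allL N1969 (tt N1930 (iv F10900)) (tt N2036 (iv F11037)) (tt N1859 (iv F14223)) (tt N1671 (iv D3240)) (tt N1858 D6330) (tt N1676 (iv F11051)) (tt N1930 (iv F14219)))
theorem Q1971 : ∀ i, i < 1971 → P i := stepQ 1970 Q1970 (allL N1970 (tt N1931 (iv F10902)) (tt N1892 (iv F14439)) (tt N1878 F5567) (tt N1931 (iv F14220)) (tt N1971 (iv F5570)) (tt N1890 F14423) (tt N1671 (iv D3241)))
theorem Q1972 : ∀ i, i < 1972 → P i := stepQ 1971 Q1971 (allL N1971 (tt N1928 (iv F14411)) (tt N2029 (iv F14420)) (tt N1880 F5569) (tt N2032 (iv F14237)) (tt N1970 F5570) (tt N1672 (iv D3243)) (tt N1949 F5571))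
theorem Q1973 : ∀ i, i < 1973 → P i := stepQ 1972 Q1972 (allL N1972 (tt N1805 F14226) (tt N1755 (iv F15513)) (tt N1676 (iv F14225)) (tt N2046 F11657) (tt N1860 (iv F15780)) (tt N1859 (iv D6735)) (tt N2022 F15510))
theorem Q1974 : ∀ i, i < 1974 → P i := stepQ 1973 Q1973 (allL N1973 (tt N1856 (iv F14570)) (tt N1963 F14569) (tt N1860 (iv F15778)) (tt N1850 (iv F15526)) (tt N1676 F14218) (tt N1858 (iv F14221)) (tt N1909 (iv D6584)))
theorem Q1975 : ∀ i, i < 1975 → P i := stepQ 1974 Q1974 (allL N1974 (tt N1854 F14327) (tt N1706 F10845) (tt N1679 F14328) (tt N1706 F14329) (tt N1682 F14330) (tt N1703 (iv D6185)) (tt N1678 F14331))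
theorem Q1976 : ∀ i, i < 1976 → P i := stepQ 1975 Q1975 (allL N1975 (tt N1792 (iv F15210)) (tt N1682 (iv F14577)) (tt N1902 F10847) (tt N1791 (iv F15422)) (tt N1706 F10848) (tt N1705 (iv D6188)) (tt N1680 (iv F10855)))
theorem Q1977 : ∀ i, i < 1977 → P i := stepQ 1976 Q1976 (allL N1976 (tt N1683 F15652) (tt N1684 F15653) (tt N1691 (iv D7405)) (tt N2017 (iv F16265)) (tt N1683 F15654) (tt N2049 F15655) (tt N2001 (iv F16132)))
theorem Q1978 : ∀ i, i < 1978 → P i := stepQ 1977 Q1977 (allL N1977 (tt N2049 F15660) (tt N1685 F15661) (tt N1693 F15662) (tt N2049 F15665) (tt N2049 F15663) (tt N1683 (iv D7407)) (tt N1738 F15664))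
theorem Q1979 : ∀ i, i < 1979 → P i := stepQ 1978 Q1978 (allL N1978 (tt N2001 (iv F16127)) (tt N1686 F15533) (tt N1694 F15534) (tt N1818 D7544) (tt N2001 (iv F16131)) (tt N1926 (iv D7363)) (tt N1683 (iv F15535)))
theorem Q1980 : ∀ i, i < 1980 → P i := stepQ 1979 Q1979 (allL N1979 (tt N1774 F15675) (tt N2049 F15676) (tt N1687 F15677) (tt N1685 F15678) (tt N1685 F15679) (tt N1684 (iv D7411)) (tt N1740 F15680))
theorem Q1981 : ∀ i, i < 1981 → P i := stepQ 1980 Q1980 (allL N1980 (tt N1800 F15694) (tt N1696 F15695) (tt N1980 F15696) (tt N1687 (iv D7415)) (tt N1800 F15697) (tt N1980 F15698) (tt N1811 (iv F15970)))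
theorem Q1982 : ∀ i, i < 1982 → P i := stepQ 1981 Q1981 (allL N1981 (tt N2053 D6375) (tt N1758 (iv D3266)) (tt N1692 F5594) (tt N2024 D6376) (tt N2026 D6377) (tt N1759 D6378) (tt N2053 (iv F13712)))
theorem Q1983 : ∀ i, i < 1983 → P i := stepQ 1982 Q1982 (allL N1982 (tt N2050 (iv F11139)) (tt N1695 F5613) (tt N1759 (iv F11107)) (tt N1942 D6414) (tt N2054 (iv F11147)) (tt N1692 (iv D3282)) (tt N1958 D6415))
theorem Q1984 : ∀ i, i < 1984 → P i := stepQ 1983 Q1983 (allL N1983 (tt N2045 F15709) (tt N1983 F15710) (tt N1696 (iv D7418)) (tt N1992 (iv F16038)) (tt N2045 F15711) (tt N1983 F15712) (tt N2056 D7567))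
theorem Q1985 : ∀ i, i < 1985 → P i := stepQ 1984 Q1984 (allL N1984 (tt N1757 F15713) (tt N1811 (iv F15968)) (tt N2056 (iv F16293)) (tt N1756 F15714) (tt N1757 F15715) (tt N1757 F15716) (tt N1696 (iv D7419)))
theorem Q1986 : ∀ i, i < 1986 → P i := stepQ 1985 Q1985 (allL N1985 (tt N2046 F15717) (tt N1806 (iv F16143)) (tt N1985 F15718) (tt N1805 F15719) (tt N2046 F15720) (tt N1697 (iv D7420)) (tt N2046 F15721))
theorem Q1987 : ∀ i, i < 1987 → P i := stepQ 1986 Q1986 (allL N1986 (tt N1834 (iv F15334)) (tt N1699 F11006) (tt N1804 D7373) (tt N2038 (iv D6294)) (tt N1713 F11007) (tt N1951 F14471) (tt N2021 (iv F15557)))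
theorem Q1988 : ∀ i, i < 1988 → P i := stepQ 1987 Q1987 (allL N1987 (tt N2004 (iv F14704)) (tt N2021 (iv F15553)) (tt N1700 (iv F14274)) (tt N1937 (iv F13952)) (tt N1714 F11068) (tt N1831 F14688) (tt N1699 (iv D6341)))
theorem Q1989 : ∀ i, i < 1989 → P i := stepQ 1988 Q1988 (allL N1988 (tt N1994 F14063) (tt N1701 (iv D6025)) (tt N2044 (iv F10823)) (tt N1725 F14064) (tt N1966 F14065) (tt N1994 F14066) (tt N1822 F10619))
theorem Q1990 : ∀ i, i < 1990 → P i := stepQ 1989 Q1989 (allL N1989 (tt N1989 F15204) (tt N1708 F15205) (tt N1989 F15206) (tt N1702 F15207) (tt N1989 F15208) (tt N1728 (iv D7283)) (tt N1989 F15209))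
theorem Q1991 : ∀ i, i < 1991 → P i := stepQ 1990 Q1990 (allL N1990 (tt N1992 (iv F16033)) (tt N1990 F15748) (tt N1712 (iv D7426)) (tt N2045 F15751) (tt N1919 F15749) (tt N1711 F15750) (tt N1992 (iv F16037)))
theorem Q1992 : ∀ i, i < 1992 → P i := stepQ 1991 Q1991 (allL N1991 (tt N2019 (iv F14487)) (tt N1714 (iv F14469)) (tt N2020 D7371) (tt N2037 (iv D6290)) (tt N2021 D7372) (tt N2019 F14468) (tt N1713 F14470))
theorem Q1993 : ∀ i, i < 1993 → P i := stepQ 1992 Q1992 (allL N1992 (tt N1990 F16033) (tt N1992 F16034) (tt N1718 F16035) (tt N1983 F16038) (tt N1717 F16036) (tt N1716 (iv D7504)) (tt N1990 F16037))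
theorem Q1994 : ∀ i, i < 1994 → P i := stepQ 1993 Q1993 (allL N1993 (tt N1751 (iv F15502)) (tt N1721 (iv F15025)) (tt N1722 (iv F15029)) (tt N1908 (iv D6581)) (tt N1721 (iv F15028)) (tt N1826 (iv F15313)) (tt N1719 F14707))
theorem Q1995 : ∀ i, i < 1995 → P i := stepQ 1994 Q1994 (allL N1994 (tt N1988 (iv F14063)) (tt N1906 F11416) (tt N1966 F14518) (tt N1904 (iv D6573)) (tt N2044 F14519) (tt N1988 (iv F14066)) (tt N1720 (iv F14527)))
theorem Q1996 : ∀ i, i < 1996 → P i := stepQ 1995 Q1995 (allL N1995 (tt N1853 F14384) (tt N1908 F14385) (tt N1833 F10604) (tt N1721 (iv F15027)) (tt N1905 (iv F14392)) (tt N1832 (iv D6012)) (tt N1904 F14386))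
theorem Q1997 : ∀ i, i < 1997 → P i := stepQ 1996 Q1996 (allL N1996 (tt N2047 F15378) (tt N1723 F15379) (tt N2024 F15380) (tt N1941 F15381) (tt N1939 (iv D7320)) (tt N1916 F15382) (tt N2055 (iv F15672)))
theorem Q1998 : ∀ i, i < 1998 → P i := stepQ 1997 Q1997 (allL N1997 (tt N2010 F15613) (tt N1729 F15614) (tt N1958 F15615) (tt N1767 D7563) (tt N2009 F15616) (tt N1955 F15617) (tt N1759 (iv D7392)))
theorem Q1999 : ∀ i, i < 1999 → P i := stepQ 1998 Q1998 (allL N1998 (tt N1778 (iv F15471)) (tt N2009 (iv F15600)) (tt N1730 F11116) (tt N1768 D7401) (tt N1729 F11117) (tt N1954 (iv D6390)) (tt N1760 F11118))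
theorem Q2000 : ∀ i, i < 2000 → P i := stepQ 1999 Q1999 (allL N1999 (tt N2000 F16237) (tt N1731 F16238) (tt N1735 (iv F16410)) (tt N2014 (iv D7554)) (tt N1782 (iv F16404)) (tt N1735 (iv F16412)) (tt N1781 D7594))
theorem Q2001 : ∀ i, i < 2001 → P i := stepQ 2000 Q2000 (allL N2000 (tt N1999 (iv F16237)) (tt N1736 F16218) (tt N1782 (iv F16407)) (tt N1777 (iv D7548)) (tt N1735 D7592) (tt N1782 (iv F16405)) (tt N1780 D7593))
theorem Q2002 : ∀ i, i < 2002 → P i := stepQ 2001 Q2001 (allL N2001 (tt N1978 F16127) (tt N1741 F16128) (tt N1944 F16129) (tt N1746 F16130) (tt N1978 F16131) (tt N1738 (iv D7524)) (tt N1976 F16132))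
theorem Q2003 : ∀ i, i < 2003 → P i := stepQ 2002 Q2002 (allL N2002 (tt N2011 (iv F16252)) (tt N1749 F15612) (tt N2025 (iv F16164)) (tt N1759 (iv D7391)) (tt N1747 (iv F15950)) (tt N1864 (iv F16260)) (tt N1745 F15946))
theorem Q2004 : ∀ i, i < 2004 → P i := stepQ 2003 Q2003 (allL N2003 (tt N1819 F16139) (tt N1750 F16140) (tt N1766 (iv F16270)) (tt N1955 (iv D7526)) (tt N1864 (iv F16259)) (tt N1747 (iv F16141)) (tt N1817 (iv F16369)))
theorem Q2005 : ∀ i, i < 2005 → P i := stepQ 2004 Q2004 (allL N2004 (tt N1987 F14704) (tt N2057 (iv F15666)) (tt N1752 (iv F14706)) (tt N1959 (iv D6425)) (tt N1917 (iv F15162)) (tt N1960 (iv F14703)) (tt N1915 F14705))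
theorem Q2006 : ∀ i, i < 2006 → P i := stepQ 2005 Q2005 (allL N2005 (tt N2018 F16247) (tt N1753 F16248) (tt N2057 F16249) (tt N2018 F16250) (tt N2017 (iv F16266)) (tt N2018 F16251) (tt N2023 (iv D7557)))
theorem Q2007 : ∀ i, i < 2007 → P i := stepQ 2006 Q2006 (allL N2006 (tt N1814 (iv F15602)) (tt N1754 F15376) (tt N1939 (iv D7319)) (tt N2025 D7531) (tt N2024 (iv F15377)) (tt N2023 F15598) (tt N1784 F15658))
theorem Q2008 : ∀ i, i < 2008 → P i := stepQ 2007 Q2007 (allL N2007 (tt N1806 (iv F16142)) (tt N2046 F15807) (tt N1868 (iv F16321)) (tt N1755 F15808) (tt N1806 (iv F16144)) (tt N1801 (iv D7443)) (tt N1806 (iv F16146)))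
theorem Q2009 : ∀ i, i < 2009 → P i := stepQ 2008 Q2008 (allL N2008 (tt N2056 (iv F16291)) (tt N2008 F15815) (tt N1757 F15816) (tt N2056 (iv F16294)) (tt N2056 (iv F16295)) (tt N2056 (iv F16296)) (tt N2045 (iv D7445)))
theorem Q2010 : ∀ i, i < 2010 → P i := stepQ 2009 Q2009 (allL N2009 (tt N1759 F15599) (tt N1998 F15600) (tt N2050 F15601) (tt N2011 D7558) (tt N1997 (iv F15616)) (tt N2053 (iv D7386)) (tt N2010 (iv F15611)))
theorem Q2011 : ∀ i, i < 2011 → P i := stepQ 2010 Q2010 (allL N2010 (tt N1997 (iv F15613)) (tt N1760 F15608) (tt N2054 F15609) (tt N1764 D7562) (tt N1759 F15610) (tt N2026 (iv D7390)) (tt N2009 F15611))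
theorem Q2012 : ∀ i, i < 2012 → P i := stepQ 2011 Q2011 (allL N2011 (tt N2002 F16252) (tt N1768 F16253) (tt N1864 (iv F16258)) (tt N2009 (iv D7558)) (tt N1766 (iv F16271)) (tt N2025 F16254) (tt N1816 (iv F16255)))
theorem Q2013 : ∀ i, i < 2013 → P i := stepQ 2012 Q2012 (allL N2012 (tt N1772 F14490) (tt N1774 F14494) (tt N2040 (iv D6297)) (tt N1772 (iv F14489)) (tt N1772 (iv F14493)) (tt N1797 (iv F14491)) (tt N1769 F11011))
theorem Q2014 : ∀ i, i < 2014 → P i := stepQ 2013 Q2013 (allL N2013 (tt N1912 F10415) (tt N1896 F10416) (tt N1771 (iv F15349)) (tt N1912 F10417) (tt N1912 F13659) (tt N1770 (iv D5864)) (tt N1910 F13658))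
theorem Q2015 : ∀ i, i < 2015 → P i := stepQ 2014 Q2014 (allL N2014 (tt N1777 F15567) (tt N1862 F15568) (tt N2051 (iv D7375)) (tt N1999 D7554) (tt N1861 F15569) (tt N1867 F15570) (tt N2015 (iv F16175)))
theorem Q2016 : ∀ i, i < 2016 → P i := stepQ 2015 Q2015 (allL N2015 (tt N1861 F16171) (tt N1778 F16172) (tt N2052 F16173) (tt N1843 (iv F16395)) (tt N1777 F16174) (tt N2030 (iv D7535)) (tt N2014 F16175))
theorem Q2017 : ∀ i, i < 2017 → P i := stepQ 2016 Q2016 (allL N2016 (tt N2048 (iv F16118)) (tt N1783 F15383) (tt N1784 (iv F15657)) (tt N1925 F15384) (tt N2055 (iv F15670)) (tt N2048 (iv F16122)) (tt N1939 (iv D7321)))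
theorem Q2018 : ∀ i, i < 2018 → P i := stepQ 2017 Q2017 (allL N2017 (tt N1784 F16262) (tt N1786 F16263) (tt N2048 F16264) (tt N1976 F16265) (tt N2005 F16266) (tt N1784 F16267) (tt N1814 (iv D7560)))
theorem Q2019 : ∀ i, i < 2019 → P i := stepQ 2018 Q2018 (allL N2018 (tt N2005 (iv F16247)) (tt N1785 F15606) (tt N2055 F15673) (tt N2005 (iv F16250)) (tt N1784 (iv F15659)) (tt N2005 (iv F16251)) (tt N2024 (iv D7388)))
theorem Q2020 : ∀ i, i < 2020 → P i := stepQ 2019 Q2019 (allL N2019 (tt N1991 F14487) (tt N1794 F11009) (tt N1795 D7374) (tt N2039 (iv D6296)) (tt N2027 (iv F15496)) (tt N1991 (iv F14468)) (tt N1951 F11010))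
theorem Q2021 : ∀ i, i < 2021 → P i := stepQ 2020 Q2020 (allL N2020 (tt N1795 (iv F15562)) (tt N1796 F15549) (tt N1991 (iv D7371)) (tt N1795 (iv F15566)) (tt N1798 (iv F15551)) (tt N1795 (iv F15564)) (tt N1838 F15550))
theorem Q2022 : ∀ i, i < 2022 → P i := stepQ 2021 Q2021 (allL N2021 (tt N2027 F15552) (tt N1987 F15553) (tt N1798 F15554) (tt N2052 F15555) (tt N1991 (iv D7372)) (tt N2027 F15556) (tt N1986 F15557))
theorem Q2023 : ∀ i, i < 2023 → P i := stepQ 2022 Q2022 (allL N2022 (tt N1860 (iv F15776)) (tt N1807 (iv D7355)) (tt N1856 F15508) (tt N1860 (iv F15779)) (tt N1805 F15509) (tt N1851 (iv F15726)) (tt N1972 (iv F15510)))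
theorem Q2024 : ∀ i, i < 2024 → P i := stepQ 2023 Q2023 (allL N2023 (tt N2024 F15595) (tt N1808 F15596) (tt N2047 (iv F15597)) (tt N2053 (iv D7385)) (tt N1814 (iv F15605)) (tt N2006 (iv F15598)) (tt N2005 D7557))
theorem Q2025 : ∀ i, i < 2025 → P i := stepQ 2024 Q2024 (allL N2024 (tt N2023 (iv F15595)) (tt N1815 F11103) (tt N1996 (iv F15380)) (tt N1981 (iv D6376)) (tt N2006 F15377) (tt N1814 D7387) (tt N2018 D7388))
theorem Q2026 : ∀ i, i < 2026 → P i := stepQ 2025 Q2025 (allL N2025 (tt N1864 (iv F16256)) (tt N1820 F16162) (tt N2002 F16164) (tt N2006 (iv D7531)) (tt N1819 F16163) (tt N2011 (iv F16254)) (tt N1818 (iv F16205)))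
theorem Q2027 : ∀ i, i < 2027 → P i := stepQ 2026 Q2026 (allL N2026 (tt N1955 F15297) (tt N1821 F11104) (tt N1957 F11105) (tt N1819 D7389) (tt N1981 (iv D6377)) (tt N2010 D7390) (tt N1955 (iv F15296)))
theorem Q2028 : ∀ i, i < 2028 → P i := stepQ 2027 Q2027 (allL N2027 (tt N2021 (iv F15552)) (tt N1831 F15495) (tt N1836 (iv F15786)) (tt N2034 (iv D7352)) (tt N2019 F15496) (tt N2021 (iv F15556)) (tt N1834 F15497))
theorem Q2029 : ∀ i, i < 2029 → P i := stepQ 2028 Q2028 (allL N2028 (tt N2038 F10384) (tt N1835 F10385) (tt N2041 F14449) (tt N1834 D7309) (tt N1886 F10386) (tt N1883 (iv D5848)) (tt N2042 (iv F10410)))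
theorem Q2030 : ∀ i, i < 2030 → P i := stepQ 2029 Q2029 (allL N2029 (tt N1946 (iv F15236)) (tt N1971 F14420) (tt N1835 F10461) (tt N2033 D7315) (tt N1892 F10462) (tt N1888 (iv D5893)) (tt N2043 (iv F10485)))
theorem Q2031 : ∀ i, i < 2031 → P i := stepQ 2030 Q2030 (allL N2030 (tt N2031 (iv D7343)) (tt N1839 F15463) (tt N1935 F15464) (tt N1837 F15465) (tt N1933 F15466) (tt N2015 D7535) (tt N2031 (iv F15467)))
theorem Q2032 : ∀ i, i < 2032 → P i := stepQ 2031 Q2031 (allL N2031 (tt N2030 D7343) (tt N1840 (iv D6065)) (tt N1898 F10687) (tt N1838 F15339) (tt N1867 (iv F15454)) (tt N1861 D7344) (tt N2030 F15467))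
theorem Q2033 : ∀ i, i < 2033 → P i := stepQ 2032 Q2032 (allL N2032 (tt N1962 (iv F15320)) (tt N2033 (iv F15359)) (tt N1899 F10811) (tt N1971 F14237) (tt N1962 (iv F15324)) (tt N1844 (iv D6158)) (tt N2035 (iv F15428)))
theorem Q2034 : ∀ i, i < 2034 → P i := stepQ 2033 Q2033 (allL N2033 (tt N1858 F15358) (tt N2032 F15359) (tt N1851 (iv F15724)) (tt N2029 (iv D7315)) (tt N1930 F15360) (tt N1856 F15361) (tt N1858 F15362))
theorem Q2035 : ∀ i, i < 2035 → P i := stepQ 2034 Q2034 (allL N2034 (tt N2052 (iv F15491)) (tt N1852 F10763) (tt N1861 (iv F15469)) (tt N2027 D7352) (tt N2051 (iv F14770)) (tt N1898 (iv D6118)) (tt N1936 (iv F14772)))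
theorem Q2036 : ∀ i, i < 2036 → P i := stepQ 2035 Q2035 (allL N2035 (tt N2036 F15424) (tt N1858 (iv F15429)) (tt N1964 (iv D7333)) (tt N1950 F15425) (tt N2036 F15426) (tt N1963 F15427) (tt N2032 F15428))
theorem Q2037 : ∀ i, i < 2037 → P i := stepQ 2036 Q2036 (allL N2036 (tt N2035 (iv F15424)) (tt N1969 F11037) (tt N1863 (iv F14568)) (tt N1967 (iv D6317)) (tt N2035 (iv F15426)) (tt N1952 F14565) (tt N1962 (iv F15325)))
theorem Q2038 : ∀ i, i < 2038 → P i := stepQ 2037 Q2037 (allL N2037 (tt N2039 F14463) (tt N1894 F14464) (tt N1873 F5538) (tt N1991 D6290) (tt N2042 F14465) (tt N1871 (iv D3219)) (tt N1886 F14466))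
theorem Q2039 : ∀ i, i < 2039 → P i := stepQ 2038 Q2038 (allL N2038 (tt N2028 (iv F10384)) (tt N1876 F5540) (tt N2042 (iv F14462)) (tt N1986 D6294) (tt N1873 F5541) (tt N1872 (iv D3221)) (tt N2041 (iv F5550)))
theorem Q2040 : ∀ i, i < 2040 → P i := stepQ 2039 Q2039 (allL N2039 (tt N2037 (iv F14463)) (tt N1878 F5544) (tt N1886 (iv F14461)) (tt N2019 D6296) (tt N2041 (iv F5549)) (tt N1885 F14458) (tt N1873 (iv D3223)))
theorem Q2041 : ∀ i, i < 2041 → P i := stepQ 2040 Q2040 (allL N2040 (tt N1911 F13660) (tt N1879 F5546) (tt N2012 D6297) (tt N1874 (iv D3224)) (tt N1911 F13657) (tt N1910 F13661) (tt N1875 F5547))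
theorem Q2042 : ∀ i, i < 2042 → P i := stepQ 2041 Q2041 (allL N2041 (tt N2042 (iv F10407)) (tt N1880 F5548) (tt N2028 (iv F14449)) (tt N2051 D6300) (tt N2039 F5549) (tt N1874 (iv D3225)) (tt N2038 F5550))
theorem Q2043 : ∀ i, i < 2043 → P i := stepQ 2042 Q2042 (allL N2042 (tt N2041 F10407) (tt N1895 F10408) (tt N2038 F14462) (tt N1936 (iv F14774)) (tt N2037 (iv F14465)) (tt N1887 (iv D5861)) (tt N2028 F10410))
theorem Q2044 : ∀ i, i < 2044 → P i := stepQ 2043 Q2043 (allL N2043 (tt N1948 (iv F14475)) (tt N1949 F14442) (tt N1895 F10483) (tt N1948 (iv F14477)) (tt N1967 (iv F14443)) (tt N1893 (iv D5914)) (tt N2029 F10485))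
theorem Q2045 : ∀ i, i < 2045 → P i := stepQ 2044 Q2044 (allL N2044 (tt N1966 (iv F14517)) (tt N1900 (iv D6164)) (tt N1988 F10823) (tt N1927 F14516) (tt N1994 (iv F14519)) (tt N1966 (iv F14520)) (tt N1901 F10824))
theorem Q2046 : ∀ i, i < 2046 → P i := stepQ 2045 Q2045 (allL N2045 (tt N1983 (iv F15709)) (tt N2045 F14498) (tt N1913 (iv D6726)) (tt N1990 (iv F15751)) (tt N1983 (iv F15711)) (tt N2045 F14797) (tt N2008 D7445))
theorem Q2047 : ∀ i, i < 2047 → P i := stepQ 2046 Q2046 (allL N2046 (tt N1985 (iv F15717)) (tt N2007 (iv F15807)) (tt N2046 F11649) (tt N1972 (iv F11657)) (tt N1985 (iv F15720)) (tt N1914 (iv D6729)) (tt N1985 (iv F15721)))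
theorem Q2048 : ∀ i, i < 2048 → P i := stepQ 2047 Q2047 (allL N2047 (tt N1996 (iv F15378)) (tt N1915 (iv D7281)) (tt N2023 F15597) (tt N1924 F15198) (tt N1916 F15199) (tt N1939 F15200) (tt N2057 (iv F15667)))
theorem Q2049 : ∀ i, i < 2049 → P i := stepQ 2048 Q2048 (allL N2048 (tt N2016 F16118) (tt N1917 F16119) (tt N2017 (iv F16264)) (tt N1943 F16120) (tt N2057 F16121) (tt N2016 F16122) (tt N1916 (iv D7522)))
theorem Q2050 : ∀ i, i < 2050 → P i := stepQ 2049 Q2049 (allL N2049 (tt N1977 (iv F15660)) (tt N1979 (iv F15676)) (tt N1921 (iv D7360)) (tt N1977 (iv F15665)) (tt N1977 (iv F15663)) (tt N1976 (iv F15655)) (tt N1926 F15529))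
theorem Q2051 : ∀ i, i < 2051 → P i := stepQ 2050 Q2050 (allL N2050 (tt N1982 F11139) (tt N1932 F13713) (tt N2009 (iv F15601)) (tt N1923 F14483) (tt N1958 F13714) (tt N1956 (iv D6405)) (tt N2054 F13715))
theorem Q2052 : ∀ i, i < 2052 → P i := stepQ 2051 Q2051 (allL N2051 (tt N1936 F14773) (tt N1938 F11015) (tt N2014 D7375) (tt N2041 (iv D6300)) (tt N2034 F14770) (tt N1934 (iv F14771)) (tt N2052 (iv F15494)))
theorem Q2053 : ∀ i, i < 2053 → P i := stepQ 2052 Q2052 (allL N2052 (tt N2034 F15491) (tt N1937 F15492) (tt N2015 (iv F16173)) (tt N2021 (iv F15555)) (tt N1936 F15493) (tt N1935 (iv D7351)) (tt N2051 F15494))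
theorem Q2054 : ∀ i, i < 2054 → P i := stepQ 2053 Q2053 (allL N2053 (tt N1981 (iv D6375)) (tt N1954 F13711) (tt N1956 F11102) (tt N2023 D7385) (tt N1955 (iv F15295)) (tt N2009 D7386) (tt N1981 F13712))
theorem Q2055 : ∀ i, i < 2055 → P i := stepQ 2054 Q2054 (allL N2054 (tt N1958 F14785) (tt N1959 F11146) (tt N2010 (iv F15609)) (tt N2057 D7408) (tt N1982 F11147) (tt N1957 (iv D6412)) (tt N2050 (iv F13715)))
theorem Q2056 : ∀ i, i < 2056 → P i := stepQ 2055 Q2055 (allL N2055 (tt N2057 F15668) (tt N1960 F15669) (tt N2018 (iv F15673)) (tt N1958 (iv D7409)) (tt N2016 F15670) (tt N2057 F15671) (tt N1996 F15672))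
theorem Q2057 : ∀ i, i < 2057 → P i := stepQ 2056 Q2056 (allL N2056 (tt N2008 F16291) (tt N2056 F16292) (tt N1984 F16293) (tt N2008 F16294) (tt N2008 F16295) (tt N2008 F16296) (tt N1983 (iv D7567)))
theorem Q2058 : ∀ i, i < 2058 → P i := stepQ 2057 Q2057 (allL N2057 (tt N2055 (iv F15668)) (tt N2004 F15666) (tt N2005 (iv F16249)) (tt N2054 (iv D7408)) (tt N2048 (iv F16121)) (tt N2055 (iv F15671)) (tt N2047 F15667))

theorem closedN : ∀ i, i < N → P i := Q2058

end Cfsg.Agent.Helper17.HeTC
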