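import Cfsg.Agent.Helper17.HeTC.Base

set_option autoImplicit false
set_option linter.all false

noncomputable section

namespace Cfsg.Agent.Helper17.HeTC

theorem c0_7 {p0 p1 p2 p3 p4 p5 p6 p7 q7 : Q} (h0 : act 1 p0 = p1) (h1 : act 0 p1 = p2) (h2 : act 1 p2 = p3) (h3 : act 0 p3 = p4) (h4 : act 1 p4 = p5) (h5 : act 0 p5 = p6) (h6 : act 1 p6 = p7) (h7 : act 0 q7 = p0) : p7 = q7 := by
  have hr := R0 p0
  subst h0
  subst h1
  subst h2
  subst h3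
  subst h4
  subst h5
  subst h6
  subst h7
  exact ij (hr)

theorem c1_3 {p0 p1 p2 p3 q3 : Q} (h0 : act 2 p0 = p1) (h1 : act 0 p1 = p2) (h2 : act 2 p2 = p3) (h3 : act 0 q3 = p0) : p3 = q3 := by
  have hr := R1 p0
  subst h0
  subst h1
  subst h2
  subst h3
  exact ij (hr)

theorem c2_3 {p0 p1 p2 p3 q3 : Q} (h0 : act 3 p0 = p1) (h1 : act 0 p1 = p2) (h2 : act 3 p2 = p3) (h3 : act 0 q3 = p0) : p3 = q3 := by
  have hr := R2 p0
  subst h0
  subst h1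
  subst h2
  subst h3
  exact ij (hr)

theorem c4_2 {p0 p1 p2 q2 q3 : Q} (h0 : act 5 p0 = p1) (h1 : act 0 p1 = p2) (h2 : act 5 q2 = q3) (h3 : act 0 q3 = p0) : p2 = q2 := by
  have hr := R4 p0
  subst h0
  subst h1
  subst h3
  subst h2
  exact ij (ij (hr))

theorem c4_3 {p0 p1 p2 p3 q3 : Q} (h0 : act 5 p0 = p1) (h1 : act 0 p1 = p2) (h2 : act 5 p2 = p3) (h3 : act 0 q3 = p0) : p3 = q3 := by
  have hr := R4 p0
  subst h0
  subst h1
  subst h2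
  subst h3
  exact ij (hr)

theorem c6_2 {p0 p1 p2 q2 q3 q4 q5 : Q} (h0 : act 2 p0 = p1) (h1 : act 1 p1 = p2) (h2 : act 2 q2 = q3) (h3 : act 1 q3 = q4) (h4 : act 2 q4 = q5) (h5 : act 1 q5 = p0) : p2 = q2 := by
  have hr := R6 p0
  subst h0
  subst h1
  subst h5
  subst h4
  subst h3
  subst h2
  exact ij (ij (ij (ij (hr))))

theorem c6_3 {p0 p1 p2 p3 q3 q4 q5 : Q} (h0 : act 2 p0 = p1) (h1 : act 1 p1 = p2) (h2 : act 2 p2 = p3) (h3 : act 1 q3 = q4) (h4 : act 2 q4 = q5) (h5 : act 1 q5 = p0) : p3 = q3 := by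
  have hr := R6 p0
  subst h0
  subst h1
  subst h2
  subst h5
  subst h4
  subst h3
  exact ij (ij (ij (hr)))

theorem c7_1 {p0 p1 q1 q2 q3 : Q} (h0 : act 3 p0 = p1) (h1 : act 1 q1 = q2) (h2 : act 3 q2 = q3) (h3 : act 1 q3 = p0) : p1 = q1 := by
  have hr := R7 p0
  subst h0
  subst h3
  subst h2
  subst h1
  exact ij (ij (ij (hr)))

theorem c7_2 {p0 p1 p2 q2 q3 : Q} (h0 : act 3 p0 = p1) (h1 : act 1 p1 = p2) (h2 : act 3 q2 = q3) (h3 : act 1 q3 = p0) : p2 = q2 := by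
  have hr := R7 p0
  subst h0
  subst h1
  subst h3
  subst h2
  exact ij (ij (hr))

theorem c7_3 {p0 p1 p2 p3 q3 : Q} (h0 : act 3 p0 = p1) (h1 : act 1 p1 = p2) (h2 : act 3 p2 = p3) (h3 : act 1 q3 = p0) : p3 = q3 := by
  have hr := R7 p0
  subst h0
  subst h1
  subst h2
  subst h3
  exact ij (hr)

theorem c7_4 {p0 p1 p2 p3 p4 : Q} (h0 : act 3 p0 = p1) (h1 : act 1 p1 = p2) (h2 : act 3 p2 = p3) (h3 : act 1 p3 = p4) : p4 = p0 := by
  have hr := R7 p0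
  subst h0
  subst h1
  subst h2
  subst h3
  exact hr

theorem c8_2 {p0 p1 p2 q2 q3 : Q} (h0 : act 4 p0 = p1) (h1 : act 1 p1 = p2) (h2 : act 4 q2 = q3) (h3 : act 1 q3 = p0) : p2 = q2 := by
  have hr := R8 p0
  subst h0
  subst h1
  subst h3
  subst h2
  exact ij (ij (hr))

theorem c9_1 {p0 p1 q1 q2 q3 : Q} (h0 : act 5 p0 = p1) (h1 : act 1 q1 = q2) (h2 : act 5 q2 = q3) (h3 : act 1 q3 = p0) : p1 = q1 := by
  have hr := R9 p0
  subst h0
  subst h3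
  subst h2
  subst h1
  exact ij (ij (ij (hr)))

theorem c12_3 {p0 p1 p2 p3 q3 : Q} (h0 : act 4 p0 = p1) (h1 : act 2 p1 = p2) (h2 : act 4 p2 = p3) (h3 : act 2 q3 = p0) : p3 = q3 := by
  have hr := R12 p0
  subst h0
  subst h1
  subst h2
  subst h3
  exact ij (hr)

theorem c13_2 {p0 p1 p2 q2 q3 : Q} (h0 : act 5 p0 = p1) (h1 : act 2 p1 = p2) (h2 : act 5 q2 = q3) (h3 : act 2 q3 = p0) : p2 = q2 := by
  have hr := R13 p0
  subst h0
  subst h1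
  subst h3
  subst h2
  exact ij (ij (hr))

theorem c13_3 {p0 p1 p2 p3 q3 : Q} (h0 : act 5 p0 = p1) (h1 : act 2 p1 = p2) (h2 : act 5 p2 = p3) (h3 : act 2 q3 = p0) : p3 = q3 := by
  have hr := R13 p0
  subst h0
  subst h1
  subst h2
  subst h3
  exact ij (hr)

theorem c14_2 {p0 p1 p2 q2 q3 : Q} (h0 : act 6 p0 = p1) (h1 : act 2 p1 = p2) (h2 : act 6 q2 = q3) (h3 : act 2 q3 = p0) : p2 = q2 := by
  have hr := R14 p0
  subst h0
  subst h1
  subst h3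
  subst h2
  exact ij (ij (hr))

theorem c14_3 {p0 p1 p2 p3 q3 : Q} (h0 : act 6 p0 = p1) (h1 : act 2 p1 = p2) (h2 : act 6 p2 = p3) (h3 : act 2 q3 = p0) : p3 = q3 := by
  have hr := R14 p0
  subst h0
  subst h1
  subst h2
  subst h3
  exact ij (hr)

theorem c14_4 {p0 p1 p2 p3 p4 : Q} (h0 : act 6 p0 = p1) (h1 : act 2 p1 = p2) (h2 : act 6 p2 = p3) (h3 : act 2 p3 = p4) : p4 = p0 := by
  have hr := R14 p0
  subst h0
  subst h1
  subst h2
  subst h3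
  exact hr

theorem c15_1 {p0 p1 q1 q2 q3 q4 q5 : Q} (h0 : act 4 p0 = p1) (h1 : act 3 q1 = q2) (h2 : act 4 q2 = q3) (h3 : act 3 q3 = q4) (h4 : act 4 q4 = q5) (h5 : act 3 q5 = p0) : p1 = q1 := by
  have hr := R15 p0
  subst h0
  subst h5
  subst h4
  subst h3
  subst h2
  subst h1
  exact ij (ij (ij (ij (ij (hr)))))

theorem c15_3 {p0 p1 p2 p3 q3 q4 q5 : Q} (h0 : act 4 p0 = p1) (h1 : act 3 p1 = p2) (h2 : act 4 p2 = p3) (h3 : act 3 q3 = q4) (h4 : act 4 q4 = q5) (h5 : act 3 q5 = p0) : p3 = q3 := by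
  have hr := R15 p0
  subst h0
  subst h1
  subst h2
  subst h5
  subst h4
  subst h3
  exact ij (ij (ij (hr)))

theorem c15_4 {p0 p1 p2 p3 p4 q4 q5 : Q} (h0 : act 4 p0 = p1) (h1 : act 3 p1 = p2) (h2 : act 4 p2 = p3) (h3 : act 3 p3 = p4) (h4 : act 4 q4 = q5) (h5 : act 3 q5 = p0) : p4 = q4 := by
  have hr := R15 p0
  subst h0
  subst h1
  subst h2
  subst h3
  subst h5
  subst h4
  exact ij (ij (hr))

theorem c15_5 {p0 p1 p2 p3 p4 p5 q5 : Q} (h0 : act 4 p0 = p1) (h1 : act 3 p1 = p2) (h2 : act 4 p2 = p3) (h3 : act 3 p3 = p4) (h4 : act 4 p4 = p5) (h5 : act 3 q5 = p0) : p5 = q5 := by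
  have hr := R15 p0
  subst h0
  subst h1
  subst h2
  subst h3
  subst h4
  subst h5
  exact ij (hr)

theorem c16_4 {p0 p1 p2 p3 p4 q4 q5 : Q} (h0 : act 5 p0 = p1) (h1 : act 3 p1 = p2) (h2 : act 5 p2 = p3) (h3 : act 3 p3 = p4) (h4 : act 5 q4 = q5) (h5 : act 3 q5 = p0) : p4 = q4 := by
  have hr := R16 p0
  subst h0
  subst h1
  subst h2
  subst h3
  subst h5
  subst h4
  exact ij (ij (hr))

theorem c16_5 {p0 p1 p2 p3 p4 p5 q5 : Q} (h0 : act 5 p0 = p1) (h1 : act 3 p1 = p2) (h2 : act 5 p2 = p3) (h3 : act 3 p3 = p4) (h4 : act 5 p4 = p5) (h5 : act 3 q5 = p0) : p5 = q5 := by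
  have hr := R16 p0
  subst h0
  subst h1
  subst h2
  subst h3
  subst h4
  subst h5
  exact ij (hr)

theorem c16_6 {p0 p1 p2 p3 p4 p5 p6 : Q} (h0 : act 5 p0 = p1) (h1 : act 3 p1 = p2) (h2 : act 5 p2 = p3) (h3 : act 3 p3 = p4) (h4 : act 5 p4 = p5) (h5 : act 3 p5 = p6) : p6 = p0 := by
  have hr := R16 p0
  subst h0
  subst h1
  subst h2
  subst h3
  subst h4
  subst h5
  exact hr

theorem c17_4 {p0 p1 p2 p3 p4 q4 q5 : Q} (h0 : act 6 p0 = p1) (h1 : act 3 p1 = p2) (h2 : act 6 p2 = p3) (h3 : act 3 p3 = p4) (h4 : act 6 q4 = q5) (h5 : act 3 q5 = p0) : p4 = q4 := by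
  have hr := R17 p0
  subst h0
  subst h1
  subst h2
  subst h3
  subst h5
  subst h4
  exact ij (ij (hr))

theorem c17_5 {p0 p1 p2 p3 p4 p5 q5 : Q} (h0 : act 6 p0 = p1) (h1 : act 3 p1 = p2) (h2 : act 6 p2 = p3) (h3 : act 3 p3 = p4) (h4 : act 6 p4 = p5) (h5 : act 3 q5 = p0) : p5 = q5 := by
  have hr := R17 p0
  subst h0
  subst h1
  subst h2
  subst h3
  subst h4
  subst h5
  exact ij (hr)

theorem c17_6 {p0 p1 p2 p3 p4 p5 p6 : Q} (h0 : act 6 p0 = p1) (h1 : act 3 p1 = p2) (h2 : act 6 p2 = p3) (h3 : act 3 p3 = p4) (h4 : act 6 p4 = p5) (h5 : act 3 p5 = p6) : p6 = p0 := by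
  have hr := R17 p0
  subst h0
  subst h1
  subst h2
  subst h3
  subst h4
  subst h5
  exact hr

theorem c21_1 {p0 p1 q1 q2 q3 q4 : Q} (h0 : act 5 p0 = p1) (h1 : act 6 q1 = q2) (h2 : act 5 q2 = q3) (h3 : act 6 q3 = q4) (h4 : act 4 q4 = p0) : p1 = q1 := by
  have hr := R21 p0
  subst h0
  subst h4
  subst h3
  subst h2
  subst h1
  exact ij (ij (ij (ij (hr))))

theorem c22_4 {p0 p1 p2 p3 p4 q4 q5 q6 q7 q8 q9 : Q} (h0 : act 0 p0 = p1) (h1 : act 1 p1 = p2) (h2 : act 2 p2 = p3) (h3 : act 0 p3 = p4) (h4 : act 1 q4 = q5) (h5 : act 2 q5 = q6) (h6 : act 0 q6 = q7) (h7 : act 1 q7 = q8) (h8 : act 2 q8 = q9) (h9 : act 4 q9 = p0) : p4 = q4 := by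
  have hr := R22 p0
  subst h0
  subst h1
  subst h2
  subst h3
  subst h9
  subst h8
  subst h7
  subst h6
  subst h5
  subst h4
  exact ij (ij (ij (ij (ij (ij (hr))))))

theorem c22_8 {p0 p1 p2 p3 p4 p5 p6 p7 p8 q8 q9 : Q} (h0 : act 0 p0 = p1) (h1 : act 1 p1 = p2) (h2 : act 2 p2 = p3) (h3 : act 0 p3 = p4) (h4 : act 1 p4 = p5) (h5 : act 2 p5 = p6) (h6 : act 0 p6 = p7) (h7 : act 1 p7 = p8) (h8 : act 2 q8 = q9) (h9 : act 4 q9 = p0) : p8 = q8 := by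
  have hr := R22 p0
  subst h0
  subst h1
  subst h2
  subst h3
  subst h4
  subst h5
  subst h6
  subst h7
  subst h9
  subst h8
  exact ij (ij (hr))

theorem c22_9 {p0 p1 p2 p3 p4 p5 p6 p7 p8 p9 q9 : Q} (h0 : act 0 p0 = p1) (h1 : act 1 p1 = p2) (h2 : act 2 p2 = p3) (h3 : act 0 p3 = p4) (h4 : act 1 p4 = p5) (h5 : act 2 p5 = p6) (h6 : act 0 p6 = p7) (h7 : act 1 p7 = p8) (h8 : act 2 p8 = p9) (h9 : act 4 q9 = p0) : p9 = q9 := by
  have hr := R22 p0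
  subst h0
  subst h1
  subst h2
  subst h3
  subst h4
  subst h5
  subst h6
  subst h7
  subst h8
  subst h9
  exact ij (hr)

theorem c23_1 {p0 p1 q1 q2 q3 q4 q5 q6 q7 q8 q9 q10 : Q} (h0 : act 2 p0 = p1) (h1 : act 3 q1 = q2) (h2 : act 2 q2 = q3) (h3 : act 3 q3 = q4) (h4 : act 2 q4 = q5) (h5 : act 3 q5 = q6) (h6 : act 2 q6 = q7) (h7 : act 3 q7 = q8) (h8 : act 2 q8 = q9) (h9 : act 3 q9 = q10) (h10 : act 0 q10 = p0) : p1 = q1 := by
  have hr := R23 p0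
  subst h0
  subst h10
  subst h9
  subst h8
  subst h7
  subst h6
  subst h5
  subst h4
  subst h3
  subst h2
  subst h1
  exact ij (ij (ij (ij (ij (ij (ij (ij (ij (ij (hr))))))))))

theorem c23_3 {p0 p1 p2 p3 q3 q4 q5 q6 q7 q8 q9 q10 : Q} (h0 : act 2 p0 = p1) (h1 : act 3 p1 = p2) (h2 : act 2 p2 = p3) (h3 : act 3 q3 = q4) (h4 : act 2 q4 = q5) (h5 : act 3 q5 = q6) (h6 : act 2 q6 = q7) (h7 : act 3 q7 = q8) (h8 : act 2 q8 = q9) (h9 : act 3 q9 = q10) (h10 : act 0 q10 = p0) : p3 = q3 := by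
  have hr := R23 p0
  subst h0
  subst h1
  subst h2
  subst h10
  subst h9
  subst h8
  subst h7
  subst h6
  subst h5
  subst h4
  subst h3
  exact ij (ij (ij (ij (ij (ij (ij (ij (hr))))))))

theorem c23_4 {p0 p1 p2 p3 p4 q4 q5 q6 q7 q8 q9 q10 : Q} (h0 : act 2 p0 = p1) (h1 : act 3 p1 = p2) (h2 : act 2 p2 = p3) (h3 : act 3 p3 = p4) (h4 : act 2 q4 = q5) (h5 : act 3 q5 = q6) (h6 : act 2 q6 = q7) (h7 : act 3 q7 = q8) (h8 : act 2 q8 = q9) (h9 : act 3 q9 = q10) (h10 : act 0 q10 = p0) : p4 = q4 := by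
  have hr := R23 p0
  subst h0
  subst h1
  subst h2
  subst h3
  subst h10
  subst h9
  subst h8
  subst h7
  subst h6
  subst h5
  subst h4
  exact ij (ij (ij (ij (ij (ij (ij (hr)))))))

theorem c23_6 {p0 p1 p2 p3 p4 p5 p6 q6 q7 q8 q9 q10 : Q} (h0 : act 2 p0 = p1) (h1 : act 3 p1 = p2) (h2 : act 2 p2 = p3) (h3 : act 3 p3 = p4) (h4 : act 2 p4 = p5) (h5 : act 3 p5 = p6) (h6 : act 2 q6 = q7) (h7 : act 3 q7 = q8) (h8 : act 2 q8 = q9) (h9 : act 3 q9 = q10) (h10 : act 0 q10 = p0) : p6 = q6 := by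
  have hr := R23 p0
  subst h0
  subst h1
  subst h2
  subst h3
  subst h4
  subst h5
  subst h10
  subst h9
  subst h8
  subst h7
  subst h6
  exact ij (ij (ij (ij (ij (hr)))))

theorem c23_9 {p0 p1 p2 p3 p4 p5 p6 p7 p8 p9 q9 q10 : Q} (h0 : act 2 p0 = p1) (h1 : act 3 p1 = p2) (h2 : act 2 p2 = p3) (h3 : act 3 p3 = p4) (h4 : act 2 p4 = p5) (h5 : act 3 p5 = p6) (h6 : act 2 p6 = p7) (h7 : act 3 p7 = p8) (h8 : act 2 p8 = p9) (h9 : act 3 q9 = q10) (h10 : act 0 q10 = p0) : p9 = q9 := by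
  have hr := R23 p0
  subst h0
  subst h1
  subst h2
  subst h3
  subst h4
  subst h5
  subst h6
  subst h7
  subst h8
  subst h10
  subst h9
  exact ij (ij (hr))

theorem c23_10 {p0 p1 p2 p3 p4 p5 p6 p7 p8 p9 p10 q10 : Q} (h0 : act 2 p0 = p1) (h1 : act 3 p1 = p2) (h2 : act 2 p2 = p3) (h3 : act 3 p3 = p4) (h4 : act 2 p4 = p5) (h5 : act 3 p5 = p6) (h6 : act 2 p6 = p7) (h7 : act 3 p7 = p8) (h8 : act 2 p8 = p9) (h9 : act 3 p9 = p10) (h10 : act 0 q10 = p0) : p10 = q10 := by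
  have hr := R23 p0
  subst h0
  subst h1
  subst h2
  subst h3
  subst h4
  subst h5
  subst h6
  subst h7
  subst h8
  subst h9
  subst h10
  exact ij (hr)

theorem c24_2 {p0 p1 p2 q2 q3 q4 q5 q6 q7 q8 q9 q10 q11 q12 q13 q14 q15 : Q} (h0 : act 6 p0 = p1) (h1 : act 5 p1 = p2) (h2 : act 3 q2 = q3) (h3 : act 2 q3 = q4) (h4 : act 6 q4 = q5) (h5 : act 5 q5 = q6) (h6 : act 3 q6 = q7) (h7 : act 2 q7 = q8) (h8 : act 6 q8 = q9) (h9 : act 5 q9 = q10) (h10 : act 3 q10 = q11) (h11 : act 2 q11 = q12) (h12 : act 6 q12 = q13) (h13 : act 5 q13 = q14) (h14 : act 3 q14 = q15) (h15 : act 2 q15 = p0) : p2 = q2 := by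
  have hr := R24 p0
  subst h0
  subst h1
  subst h15
  subst h14
  subst h13
  subst h12
  subst h11
  subst h10
  subst h9
  subst h8
  subst h7
  subst h6
  subst h5
  subst h4
  subst h3
  subst h2
  exact ij (ij (ij (ij (ij (ij (ij (ij (ij (ij (ij (ij (ij (ij (hr))))))))))))))

theorem c24_6 {p0 p1 p2 p3 p4 p5 p6 q6 q7 q8 q9 q10 q11 q12 q13 q14 q15 : Q} (h0 : act 6 p0 = p1) (h1 : act 5 p1 = p2) (h2 : act 3 p2 = p3) (h3 : act 2 p3 = p4) (h4 : act 6 p4 = p5) (h5 : act 5 p5 = p6) (h6 : act 3 q6 = q7) (h7 : act 2 q7 = q8) (h8 : act 6 q8 = q9) (h9 : act 5 q9 = q10) (h10 : act 3 q10 = q11) (h11 : act 2 q11 = q12) (h12 : act 6 q12 = q13) (h13 : act 5 q13 = q14) (h14 : act 3 q14 = q15) (h15 : act 2 q15 = p0) : p6 = q6 := by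
  have hr := R24 p0
  subst h0
  subst h1
  subst h2
  subst h3
  subst h4
  subst h5
  subst h15
  subst h14
  subst h13
  subst h12
  subst h11
  subst h10
  subst h9
  subst h8
  subst h7
  subst h6
  exact ij (ij (ij (ij (ij (ij (ij (ij (ij (ij (hr))))))))))

theorem c24_8 {p0 p1 p2 p3 p4 p5 p6 p7 p8 q8 q9 q10 q11 q12 q13 q14 q15 : Q} (h0 : act 6 p0 = p1) (h1 : act 5 p1 = p2) (h2 : act 3 p2 = p3) (h3 : act 2 p3 = p4) (h4 : act 6 p4 = p5) (h5 : act 5 p5 = p6) (h6 : act 3 p6 = p7) (h7 : act 2 p7 = p8) (h8 : act 6 q8 = q9) (h9 : act 5 q9 = q10) (h10 : act 3 q10 = q11) (h11 : act 2 q11 = q12) (h12 : act 6 q12 = q13) (h13 : act 5 q13 = q14) (h14 : act 3 q14 = q15) (h15 : act 2 q15 = p0) : p8 = q8 := by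
  have hr := R24 p0
  subst h0
  subst h1
  subst h2
  subst h3
  subst h4
  subst h5
  subst h6
  subst h7
  subst h15
  subst h14
  subst h13
  subst h12
  subst h11
  subst h10
  subst h9
  subst h8
  exact ij (ij (ij (ij (ij (ij (ij (ij (hr))))))))

theorem c24_11 {p0 p1 p2 p3 p4 p5 p6 p7 p8 p9 p10 p11 q11 q12 q13 q14 q15 : Q} (h0 : act 6 p0 = p1) (h1 : act 5 p1 = p2) (h2 : act 3 p2 = p3) (h3 : act 2 p3 = p4) (h4 : act 6 p4 = p5) (h5 : act 5 p5 = p6) (h6 : act 3 p6 = p7) (h7 : act 2 p7 = p8) (h8 : act 6 p8 = p9) (h9 : act 5 p9 = p10) (h10 : act 3 p10 = p11) (h11 : act 2 q11 = q12) (h12 : act 6 q12 = q13) (h13 : act 5 q13 = q14) (h14 : act 3 q14 = q15) (h15 : act 2 q15 = p0) : p11 = q11 := by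
  have hr := R24 p0
  subst h0
  subst h1
  subst h2
  subst h3
  subst h4
  subst h5
  subst h6
  subst h7
  subst h8
  subst h9
  subst h10
  subst h15
  subst h14
  subst h13
  subst h12
  subst h11
  exact ij (ij (ij (ij (ij (hr)))))

theorem c24_12 {p0 p1 p2 p3 p4 p5 p6 p7 p8 p9 p10 p11 p12 q12 q13 q14 q15 : Q} (h0 : act 6 p0 = p1) (h1 : act 5 p1 = p2) (h2 : act 3 p2 = p3) (h3 : act 2 p3 = p4) (h4 : act 6 p4 = p5) (h5 : act 5 p5 = p6) (h6 : act 3 p6 = p7) (h7 : act 2 p7 = p8) (h8 : act 6 p8 = p9) (h9 : act 5 p9 = p10) (h10 : act 3 p10 = p11) (h11 : act 2 p11 = p12) (h12 : act 6 q12 = q13) (h13 : act 5 q13 = q14) (h14 : act 3 q14 = q15) (h15 : act 2 q15 = p0) : p12 = q12 := by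
  have hr := R24 p0
  subst h0
  subst h1
  subst h2
  subst h3
  subst h4
  subst h5
  subst h6
  subst h7
  subst h8
  subst h9
  subst h10
  subst h11
  subst h15
  subst h14
  subst h13
  subst h12
  exact ij (ij (ij (ij (hr))))

theorem c24_15 {p0 p1 p2 p3 p4 p5 p6 p7 p8 p9 p10 p11 p12 p13 p14 p15 q15 : Q} (h0 : act 6 p0 = p1) (h1 : act 5 p1 = p2) (h2 : act 3 p2 = p3) (h3 : act 2 p3 = p4) (h4 : act 6 p4 = p5) (h5 : act 5 p5 = p6) (h6 : act 3 p6 = p7) (h7 : act 2 p7 = p8) (h8 : act 6 p8 = p9) (h9 : act 5 p9 = p10) (h10 : act 3 p10 = p11) (h11 : act 2 p11 = p12) (h12 : act 6 p12 = p13) (h13 : act 5 p13 = p14) (h14 : act 3 p14 = p15) (h15 : act 2 q15 = p0) : p15 = q15 := by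
  have hr := R24 p0
  subst h0
  subst h1
  subst h2
  subst h3
  subst h4
  subst h5
  subst h6
  subst h7
  subst h8
  subst h9
  subst h10
  subst h11
  subst h12
  subst h13
  subst h14
  subst h15
  exact ij (hr)

theorem c24_16 {p0 p1 p2 p3 p4 p5 p6 p7 p8 p9 p10 p11 p12 p13 p14 p15 p16 : Q} (h0 : act 6 p0 = p1) (h1 : act 5 p1 = p2) (h2 : act 3 p2 = p3) (h3 : act 2 p3 = p4) (h4 : act 6 p4 = p5) (h5 : act 5 p5 = p6) (h6 : act 3 p6 = p7) (h7 : act 2 p7 = p8) (h8 : act 6 p8 = p9) (h9 : act 5 p9 = p10) (h10 : act 3 p10 = p11) (h11 : act 2 p11 = p12) (h12 : act 6 p12 = p13) (h13 : act 5 p13 = p14) (h14 : act 3 p14 = p15) (h15 : act 2 p15 = p16) : p16 = p0 := by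
  have hr := R24 p0
  subst h0
  subst h1
  subst h2
  subst h3
  subst h4
  subst h5
  subst h6
  subst h7
  subst h8
  subst h9
  subst h10
  subst h11
  subst h12
  subst h13
  subst h14
  subst h15
  exact hr

theorem d0_1 {p0 p1 q2 q3 q4 q5 q6 q7 : Q} (h0 : act 1 p0 = p1) (h2 : act 1 q2 = q3) (h3 : act 0 q3 = q4) (h4 : act 1 q4 = q5) (h5 : act 0 q5 = q6) (h6 : act 1 q6 = q7) (h7 : act 0 q7 = p0) : act 0 p1 = q2 := by
  have hr := R0 p0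
  subst h0
  subst h7
  subst h6
  subst h5
  subst h4
  subst h3
  subst h2
  exact ij (ij (ij (ij (ij (ij (hr))))))

theorem d0_2 {p0 p1 p2 q3 q4 q5 q6 q7 : Q} (h0 : act 1 p0 = p1) (h1 : act 0 p1 = p2) (h3 : act 0 q3 = q4) (h4 : act 1 q4 = q5) (h5 : act 0 q5 = q6) (h6 : act 1 q6 = q7) (h7 : act 0 q7 = p0) : act 1 p2 = q3 := by
  have hr := R0 p0
  subst h0
  subst h1
  subst h7
  subst h6
  subst h5
  subst h4
  subst h3
  exact ij (ij (ij (ij (ij (hr)))))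

theorem d0_4 {p0 p1 p2 p3 p4 q5 q6 q7 : Q} (h0 : act 1 p0 = p1) (h1 : act 0 p1 = p2) (h2 : act 1 p2 = p3) (h3 : act 0 p3 = p4) (h5 : act 0 q5 = q6) (h6 : act 1 q6 = q7) (h7 : act 0 q7 = p0) : act 1 p4 = q5 := by
  have hr := R0 p0
  subst h0
  subst h1
  subst h2
  subst h3
  subst h7
  subst h6
  subst h5
  exact ij (ij (ij (hr)))

theorem d1_0 {p0 q1 q2 q3 : Q} (h1 : act 0 q1 = q2) (h2 : act 2 q2 = q3) (h3 : act 0 q3 = p0) : act 2 p0 = q1 := by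
  have hr := R1 p0
  subst h3
  subst h2
  subst h1
  exact ij (ij (ij (hr)))

theorem d1_1 {p0 p1 q2 q3 : Q} (h0 : act 2 p0 = p1) (h2 : act 2 q2 = q3) (h3 : act 0 q3 = p0) : act 0 p1 = q2 := by
  have hr := R1 p0
  subst h0
  subst h3
  subst h2
  exact ij (ij (hr))

theorem d1_2 {p0 p1 p2 q3 : Q} (h0 : act 2 p0 = p1) (h1 : act 0 p1 = p2) (h3 : act 0 q3 = p0) : act 2 p2 = q3 := by
  have hr := R1 p0
  subst h0
  subst h1
  subst h3
  exact ij (hr)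

theorem d1_3 {p0 p1 p2 p3 : Q} (h0 : act 2 p0 = p1) (h1 : act 0 p1 = p2) (h2 : act 2 p2 = p3) : act 0 p3 = p0 := by
  have hr := R1 p0
  subst h0
  subst h1
  subst h2
  exact hr

theorem d2_0 {p0 q1 q2 q3 : Q} (h1 : act 0 q1 = q2) (h2 : act 3 q2 = q3) (h3 : act 0 q3 = p0) : act 3 p0 = q1 := by
  have hr := R2 p0
  subst h3
  subst h2
  subst h1
  exact ij (ij (ij (hr)))

theorem d2_1 {p0 p1 q2 q3 : Q} (h0 : act 3 p0 = p1) (h2 : act 3 q2 = q3) (h3 : act 0 q3 = p0) : act 0 p1 = q2 := by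
  have hr := R2 p0
  subst h0
  subst h3
  subst h2
  exact ij (ij (hr))

theorem d2_2 {p0 p1 p2 q3 : Q} (h0 : act 3 p0 = p1) (h1 : act 0 p1 = p2) (h3 : act 0 q3 = p0) : act 3 p2 = q3 := by
  have hr := R2 p0
  subst h0
  subst h1
  subst h3
  exact ij (hr)

theorem d2_3 {p0 p1 p2 p3 : Q} (h0 : act 3 p0 = p1) (h1 : act 0 p1 = p2) (h2 : act 3 p2 = p3) : act 0 p3 = p0 := by
  have hr := R2 p0
  subst h0
  subst h1
  subst h2
  exact hr

theorem d3_0 {p0 q1 q2 q3 : Q} (h1 : act 0 q1 = q2) (h2 : act 4 q2 = q3) (h3 : act 0 q3 = p0) : act 4 p0 = q1 := by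
  have hr := R3 p0
  subst h3
  subst h2
  subst h1
  exact ij (ij (ij (hr)))

theorem d3_1 {p0 p1 q2 q3 : Q} (h0 : act 4 p0 = p1) (h2 : act 4 q2 = q3) (h3 : act 0 q3 = p0) : act 0 p1 = q2 := by
  have hr := R3 p0
  subst h0
  subst h3
  subst h2
  exact ij (ij (hr))

theorem d3_2 {p0 p1 p2 q3 : Q} (h0 : act 4 p0 = p1) (h1 : act 0 p1 = p2) (h3 : act 0 q3 = p0) : act 4 p2 = q3 := by
  have hr := R3 p0
  subst h0
  subst h1
  subst h3
  exact ij (hr)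

theorem d3_3 {p0 p1 p2 p3 : Q} (h0 : act 4 p0 = p1) (h1 : act 0 p1 = p2) (h2 : act 4 p2 = p3) : act 0 p3 = p0 := by
  have hr := R3 p0
  subst h0
  subst h1
  subst h2
  exact hr

theorem d4_0 {p0 q1 q2 q3 : Q} (h1 : act 0 q1 = q2) (h2 : act 5 q2 = q3) (h3 : act 0 q3 = p0) : act 5 p0 = q1 := by
  have hr := R4 p0
  subst h3
  subst h2
  subst h1
  exact ij (ij (ij (hr)))

theorem d4_1 {p0 p1 q2 q3 : Q} (h0 : act 5 p0 = p1) (h2 : act 5 q2 = q3) (h3 : act 0 q3 = p0) : act 0 p1 = q2 := by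
  have hr := R4 p0
  subst h0
  subst h3
  subst h2
  exact ij (ij (hr))

theorem d4_2 {p0 p1 p2 q3 : Q} (h0 : act 5 p0 = p1) (h1 : act 0 p1 = p2) (h3 : act 0 q3 = p0) : act 5 p2 = q3 := by
  have hr := R4 p0
  subst h0
  subst h1
  subst h3
  exact ij (hr)

theorem d4_3 {p0 p1 p2 p3 : Q} (h0 : act 5 p0 = p1) (h1 : act 0 p1 = p2) (h2 : act 5 p2 = p3) : act 0 p3 = p0 := by
  have hr := R4 p0
  subst h0
  subst h1
  subst h2
  exact hr

theorem d5_0 {p0 q1 q2 q3 : Q} (h1 : act 0 q1 = q2) (h2 : act 6 q2 = q3) (h3 : act 0 q3 = p0) : act 6 p0 = q1 := by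
  have hr := R5 p0
  subst h3
  subst h2
  subst h1
  exact ij (ij (ij (hr)))

theorem d5_1 {p0 p1 q2 q3 : Q} (h0 : act 6 p0 = p1) (h2 : act 6 q2 = q3) (h3 : act 0 q3 = p0) : act 0 p1 = q2 := by
  have hr := R5 p0
  subst h0
  subst h3
  subst h2
  exact ij (ij (hr))

theorem d5_2 {p0 p1 p2 q3 : Q} (h0 : act 6 p0 = p1) (h1 : act 0 p1 = p2) (h3 : act 0 q3 = p0) : act 6 p2 = q3 := by
  have hr := R5 p0
  subst h0
  subst h1
  subst h3
  exact ij (hr)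

theorem d5_3 {p0 p1 p2 p3 : Q} (h0 : act 6 p0 = p1) (h1 : act 0 p1 = p2) (h2 : act 6 p2 = p3) : act 0 p3 = p0 := by
  have hr := R5 p0
  subst h0
  subst h1
  subst h2
  exact hr

theorem d6_0 {p0 q1 q2 q3 q4 q5 : Q} (h1 : act 1 q1 = q2) (h2 : act 2 q2 = q3) (h3 : act 1 q3 = q4) (h4 : act 2 q4 = q5) (h5 : act 1 q5 = p0) : act 2 p0 = q1 := by
  have hr := R6 p0
  subst h5
  subst h4
  subst h3
  subst h2
  subst h1
  exact ij (ij (ij (ij (ij (hr)))))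

theorem d6_1 {p0 p1 q2 q3 q4 q5 : Q} (h0 : act 2 p0 = p1) (h2 : act 2 q2 = q3) (h3 : act 1 q3 = q4) (h4 : act 2 q4 = q5) (h5 : act 1 q5 = p0) : act 1 p1 = q2 := by
  have hr := R6 p0
  subst h0
  subst h5
  subst h4
  subst h3
  subst h2
  exact ij (ij (ij (ij (hr))))

theorem d6_2 {p0 p1 p2 q3 q4 q5 : Q} (h0 : act 2 p0 = p1) (h1 : act 1 p1 = p2) (h3 : act 1 q3 = q4) (h4 : act 2 q4 = q5) (h5 : act 1 q5 = p0) : act 2 p2 = q3 := by
  have hr := R6 p0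
  subst h0
  subst h1
  subst h5
  subst h4
  subst h3
  exact ij (ij (ij (hr)))

theorem d6_3 {p0 p1 p2 p3 q4 q5 : Q} (h0 : act 2 p0 = p1) (h1 : act 1 p1 = p2) (h2 : act 2 p2 = p3) (h4 : act 2 q4 = q5) (h5 : act 1 q5 = p0) : act 1 p3 = q4 := by
  have hr := R6 p0
  subst h0
  subst h1
  subst h2
  subst h5
  subst h4
  exact ij (ij (hr))

theorem d6_4 {p0 p1 p2 p3 p4 q5 : Q} (h0 : act 2 p0 = p1) (h1 : act 1 p1 = p2) (h2 : act 2 p2 = p3) (h3 : act 1 p3 = p4) (h5 : act 1 q5 = p0) : act 2 p4 = q5 := by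
  have hr := R6 p0
  subst h0
  subst h1
  subst h2
  subst h3
  subst h5
  exact ij (hr)

theorem d6_5 {p0 p1 p2 p3 p4 p5 : Q} (h0 : act 2 p0 = p1) (h1 : act 1 p1 = p2) (h2 : act 2 p2 = p3) (h3 : act 1 p3 = p4) (h4 : act 2 p4 = p5) : act 1 p5 = p0 := by
  have hr := R6 p0
  subst h0
  subst h1
  subst h2
  subst h3
  subst h4
  exact hr

theorem d7_0 {p0 q1 q2 q3 : Q} (h1 : act 1 q1 = q2) (h2 : act 3 q2 = q3) (h3 : act 1 q3 = p0) : act 3 p0 = q1 := by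
  have hr := R7 p0
  subst h3
  subst h2
  subst h1
  exact ij (ij (ij (hr)))

theorem d7_1 {p0 p1 q2 q3 : Q} (h0 : act 3 p0 = p1) (h2 : act 3 q2 = q3) (h3 : act 1 q3 = p0) : act 1 p1 = q2 := by
  have hr := R7 p0
  subst h0
  subst h3
  subst h2
  exact ij (ij (hr))

theorem d7_2 {p0 p1 p2 q3 : Q} (h0 : act 3 p0 = p1) (h1 : act 1 p1 = p2) (h3 : act 1 q3 = p0) : act 3 p2 = q3 := by
  have hr := R7 p0
  subst h0
  subst h1
  subst h3
  exact ij (hr)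

theorem d7_3 {p0 p1 p2 p3 : Q} (h0 : act 3 p0 = p1) (h1 : act 1 p1 = p2) (h2 : act 3 p2 = p3) : act 1 p3 = p0 := by
  have hr := R7 p0
  subst h0
  subst h1
  subst h2
  exact hr

theorem d8_0 {p0 q1 q2 q3 : Q} (h1 : act 1 q1 = q2) (h2 : act 4 q2 = q3) (h3 : act 1 q3 = p0) : act 4 p0 = q1 := by
  have hr := R8 p0
  subst h3
  subst h2
  subst h1
  exact ij (ij (ij (hr)))

theorem d8_1 {p0 p1 q2 q3 : Q} (h0 : act 4 p0 = p1) (h2 : act 4 q2 = q3) (h3 : act 1 q3 = p0) : act 1 p1 = q2 := by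
  have hr := R8 p0
  subst h0
  subst h3
  subst h2
  exact ij (ij (hr))

theorem d8_2 {p0 p1 p2 q3 : Q} (h0 : act 4 p0 = p1) (h1 : act 1 p1 = p2) (h3 : act 1 q3 = p0) : act 4 p2 = q3 := by
  have hr := R8 p0
  subst h0
  subst h1
  subst h3
  exact ij (hr)

theorem d8_3 {p0 p1 p2 p3 : Q} (h0 : act 4 p0 = p1) (h1 : act 1 p1 = p2) (h2 : act 4 p2 = p3) : act 1 p3 = p0 := by
  have hr := R8 p0
  subst h0
  subst h1
  subst h2
  exact hr

theorem d9_0 {p0 q1 q2 q3 : Q} (h1 : act 1 q1 = q2) (h2 : act 5 q2 = q3) (h3 : act 1 q3 = p0) : act 5 p0 = q1 := by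
  have hr := R9 p0
  subst h3
  subst h2
  subst h1
  exact ij (ij (ij (hr)))

theorem d9_1 {p0 p1 q2 q3 : Q} (h0 : act 5 p0 = p1) (h2 : act 5 q2 = q3) (h3 : act 1 q3 = p0) : act 1 p1 = q2 := by
  have hr := R9 p0
  subst h0
  subst h3
  subst h2
  exact ij (ij (hr))

theorem d9_2 {p0 p1 p2 q3 : Q} (h0 : act 5 p0 = p1) (h1 : act 1 p1 = p2) (h3 : act 1 q3 = p0) : act 5 p2 = q3 := by
  have hr := R9 p0
  subst h0
  subst h1
  subst h3
  exact ij (hr)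

theorem d9_3 {p0 p1 p2 p3 : Q} (h0 : act 5 p0 = p1) (h1 : act 1 p1 = p2) (h2 : act 5 p2 = p3) : act 1 p3 = p0 := by
  have hr := R9 p0
  subst h0
  subst h1
  subst h2
  exact hr

theorem d10_0 {p0 q1 q2 q3 : Q} (h1 : act 1 q1 = q2) (h2 : act 6 q2 = q3) (h3 : act 1 q3 = p0) : act 6 p0 = q1 := by
  have hr := R10 p0
  subst h3
  subst h2
  subst h1
  exact ij (ij (ij (hr)))

theorem d10_1 {p0 p1 q2 q3 : Q} (h0 : act 6 p0 = p1) (h2 : act 6 q2 = q3) (h3 : act 1 q3 = p0) : act 1 p1 = q2 := by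
  have hr := R10 p0
  subst h0
  subst h3
  subst h2
  exact ij (ij (hr))

theorem d10_2 {p0 p1 p2 q3 : Q} (h0 : act 6 p0 = p1) (h1 : act 1 p1 = p2) (h3 : act 1 q3 = p0) : act 6 p2 = q3 := by
  have hr := R10 p0
  subst h0
  subst h1
  subst h3
  exact ij (hr)

theorem d10_3 {p0 p1 p2 p3 : Q} (h0 : act 6 p0 = p1) (h1 : act 1 p1 = p2) (h2 : act 6 p2 = p3) : act 1 p3 = p0 := by
  have hr := R10 p0
  subst h0
  subst h1
  subst h2
  exact hr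

theorem d11_1 {p0 p1 q2 q3 q4 q5 q6 q7 q8 q9 q10 q11 q12 q13 q14 q15 q16 q17 q18 q19 : Q} (h0 : act 3 p0 = p1) (h2 : act 3 q2 = q3) (h3 : act 2 q3 = q4) (h4 : act 3 q4 = q5) (h5 : act 2 q5 = q6) (h6 : act 3 q6 = q7) (h7 : act 2 q7 = q8) (h8 : act 3 q8 = q9) (h9 : act 2 q9 = q10) (h10 : act 3 q10 = q11) (h11 : act 2 q11 = q12) (h12 : act 3 q12 = q13) (h13 : act 2 q13 = q14) (h14 : act 3 q14 = q15) (h15 : act 2 q15 = q16) (h16 : act 3 q16 = q17) (h17 : act 2 q17 = q18) (h18 : act 3 q18 = q19) (h19 : act 2 q19 = p0) : act 2 p1 = q2 := by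
  have hr := R11 p0
  subst h0
  subst h19
  subst h18
  subst h17
  subst h16
  subst h15
  subst h14
  subst h13
  subst h12
  subst h11
  subst h10
  subst h9
  subst h8
  subst h7
  subst h6
  subst h5
  subst h4
  subst h3
  subst h2
  exact ij (ij (ij (ij (ij (ij (ij (ij (ij (ij (ij (ij (ij (ij (ij (ij (ij (ij (hr))))))))))))))))))

theorem d11_2 {p0 p1 p2 q3 q4 q5 q6 q7 q8 q9 q10 q11 q12 q13 q14 q15 q16 q17 q18 q19 : Q} (h0 : act 3 p0 = p1) (h1 : act 2 p1 = p2) (h3 : act 2 q3 = q4) (h4 : act 3 q4 = q5) (h5 : act 2 q5 = q6) (h6 : act 3 q6 = q7) (h7 : act 2 q7 = q8) (h8 : act 3 q8 = q9) (h9 : act 2 q9 = q10) (h10 : act 3 q10 = q11) (h11 : act 2 q11 = q12) (h12 : act 3 q12 = q13) (h13 : act 2 q13 = q14) (h14 : act 3 q14 = q15) (h15 : act 2 q15 = q16) (h16 : act 3 q16 = q17) (h17 : act 2 q17 = q18) (h18 : act 3 q18 = q19) (h19 : act 2 q19 = p0) : act 3 p2 = q3 := by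
  have hr := R11 p0
  subst h0
  subst h1
  subst h19
  subst h18
  subst h17
  subst h16
  subst h15
  subst h14
  subst h13
  subst h12
  subst h11
  subst h10
  subst h9
  subst h8
  subst h7
  subst h6
  subst h5
  subst h4
  subst h3
  exact ij (ij (ij (ij (ij (ij (ij (ij (ij (ij (ij (ij (ij (ij (ij (ij (ij (hr)))))))))))))))))

theorem d11_9 {p0 p1 p2 p3 p4 p5 p6 p7 p8 p9 q10 q11 q12 q13 q14 q15 q16 q17 q18 q19 : Q} (h0 : act 3 p0 = p1) (h1 : act 2 p1 = p2) (h2 : act 3 p2 = p3) (h3 : act 2 p3 = p4) (h4 : act 3 p4 = p5) (h5 : act 2 p5 = p6) (h6 : act 3 p6 = p7) (h7 : act 2 p7 = p8) (h8 : act 3 p8 = p9) (h10 : act 3 q10 = q11) (h11 : act 2 q11 = q12) (h12 : act 3 q12 = q13) (h13 : act 2 q13 = q14) (h14 : act 3 q14 = q15) (h15 : act 2 q15 = q16) (h16 : act 3 q16 = q17) (h17 : act 2 q17 = q18) (h18 : act 3 q18 = q19) (h19 : act 2 q19 = p0) : act 2 p9 = q10 := by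
  have hr := R11 p0
  subst h0
  subst h1
  subst h2
  subst h3
  subst h4
  subst h5
  subst h6
  subst h7
  subst h8
  subst h19
  subst h18
  subst h17
  subst h16
  subst h15
  subst h14
  subst h13
  subst h12
  subst h11
  subst h10
  exact ij (ij (ij (ij (ij (ij (ij (ij (ij (ij (hr))))))))))

theorem d11_10 {p0 p1 p2 p3 p4 p5 p6 p7 p8 p9 p10 q11 q12 q13 q14 q15 q16 q17 q18 q19 : Q} (h0 : act 3 p0 = p1) (h1 : act 2 p1 = p2) (h2 : act 3 p2 = p3) (h3 : act 2 p3 = p4) (h4 : act 3 p4 = p5) (h5 : act 2 p5 = p6) (h6 : act 3 p6 = p7) (h7 : act 2 p7 = p8) (h8 : act 3 p8 = p9) (h9 : act 2 p9 = p10) (h11 : act 2 q11 = q12) (h12 : act 3 q12 = q13) (h13 : act 2 q13 = q14) (h14 : act 3 q14 = q15) (h15 : act 2 q15 = q16) (h16 : act 3 q16 = q17) (h17 : act 2 q17 = q18) (h18 : act 3 q18 = q19) (h19 : act 2 q19 = p0) : act 3 p10 = q11 := by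
  have hr := R11 p0
  subst h0
  subst h1
  subst h2
  subst h3
  subst h4
  subst h5
  subst h6
  subst h7
  subst h8
  subst h9
  subst h19
  subst h18
  subst h17
  subst h16
  subst h15
  subst h14
  subst h13
  subst h12
  subst h11
  exact ij (ij (ij (ij (ij (ij (ij (ij (ij (hr)))))))))

theorem d12_0 {p0 q1 q2 q3 : Q} (h1 : act 2 q1 = q2) (h2 : act 4 q2 = q3) (h3 : act 2 q3 = p0) : act 4 p0 = q1 := by
  have hr := R12 p0
  subst h3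
  subst h2
  subst h1
  exact ij (ij (ij (hr)))

theorem d12_1 {p0 p1 q2 q3 : Q} (h0 : act 4 p0 = p1) (h2 : act 4 q2 = q3) (h3 : act 2 q3 = p0) : act 2 p1 = q2 := by
  have hr := R12 p0
  subst h0
  subst h3
  subst h2
  exact ij (ij (hr))

theorem d12_2 {p0 p1 p2 q3 : Q} (h0 : act 4 p0 = p1) (h1 : act 2 p1 = p2) (h3 : act 2 q3 = p0) : act 4 p2 = q3 := by
  have hr := R12 p0
  subst h0
  subst h1
  subst h3
  exact ij (hr)

theorem d12_3 {p0 p1 p2 p3 : Q} (h0 : act 4 p0 = p1) (h1 : act 2 p1 = p2) (h2 : act 4 p2 = p3) : act 2 p3 = p0 := by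
  have hr := R12 p0
  subst h0
  subst h1
  subst h2
  exact hr

theorem d13_0 {p0 q1 q2 q3 : Q} (h1 : act 2 q1 = q2) (h2 : act 5 q2 = q3) (h3 : act 2 q3 = p0) : act 5 p0 = q1 := by
  have hr := R13 p0
  subst h3
  subst h2
  subst h1
  exact ij (ij (ij (hr)))

theorem d13_1 {p0 p1 q2 q3 : Q} (h0 : act 5 p0 = p1) (h2 : act 5 q2 = q3) (h3 : act 2 q3 = p0) : act 2 p1 = q2 := by
  have hr := R13 p0
  subst h0
  subst h3
  subst h2
  exact ij (ij (hr))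

theorem d13_2 {p0 p1 p2 q3 : Q} (h0 : act 5 p0 = p1) (h1 : act 2 p1 = p2) (h3 : act 2 q3 = p0) : act 5 p2 = q3 := by
  have hr := R13 p0
  subst h0
  subst h1
  subst h3
  exact ij (hr)

theorem d13_3 {p0 p1 p2 p3 : Q} (h0 : act 5 p0 = p1) (h1 : act 2 p1 = p2) (h2 : act 5 p2 = p3) : act 2 p3 = p0 := by
  have hr := R13 p0
  subst h0
  subst h1
  subst h2
  exact hr

theorem d14_0 {p0 q1 q2 q3 : Q} (h1 : act 2 q1 = q2) (h2 : act 6 q2 = q3) (h3 : act 2 q3 = p0) : act 6 p0 = q1 := by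
  have hr := R14 p0
  subst h3
  subst h2
  subst h1
  exact ij (ij (ij (hr)))

theorem d14_1 {p0 p1 q2 q3 : Q} (h0 : act 6 p0 = p1) (h2 : act 6 q2 = q3) (h3 : act 2 q3 = p0) : act 2 p1 = q2 := by
  have hr := R14 p0
  subst h0
  subst h3
  subst h2
  exact ij (ij (hr))

theorem d14_2 {p0 p1 p2 q3 : Q} (h0 : act 6 p0 = p1) (h1 : act 2 p1 = p2) (h3 : act 2 q3 = p0) : act 6 p2 = q3 := by
  have hr := R14 p0
  subst h0
  subst h1
  subst h3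
  exact ij (hr)

theorem d14_3 {p0 p1 p2 p3 : Q} (h0 : act 6 p0 = p1) (h1 : act 2 p1 = p2) (h2 : act 6 p2 = p3) : act 2 p3 = p0 := by
  have hr := R14 p0
  subst h0
  subst h1
  subst h2
  exact hr

theorem d15_0 {p0 q1 q2 q3 q4 q5 : Q} (h1 : act 3 q1 = q2) (h2 : act 4 q2 = q3) (h3 : act 3 q3 = q4) (h4 : act 4 q4 = q5) (h5 : act 3 q5 = p0) : act 4 p0 = q1 := by
  have hr := R15 p0
  subst h5
  subst h4
  subst h3
  subst h2
  subst h1
  exact ij (ij (ij (ij (ij (hr)))))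

theorem d15_1 {p0 p1 q2 q3 q4 q5 : Q} (h0 : act 4 p0 = p1) (h2 : act 4 q2 = q3) (h3 : act 3 q3 = q4) (h4 : act 4 q4 = q5) (h5 : act 3 q5 = p0) : act 3 p1 = q2 := by
  have hr := R15 p0
  subst h0
  subst h5
  subst h4
  subst h3
  subst h2
  exact ij (ij (ij (ij (hr))))

theorem d15_2 {p0 p1 p2 q3 q4 q5 : Q} (h0 : act 4 p0 = p1) (h1 : act 3 p1 = p2) (h3 : act 3 q3 = q4) (h4 : act 4 q4 = q5) (h5 : act 3 q5 = p0) : act 4 p2 = q3 := by
  have hr := R15 p0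
  subst h0
  subst h1
  subst h5
  subst h4
  subst h3
  exact ij (ij (ij (hr)))

theorem d15_3 {p0 p1 p2 p3 q4 q5 : Q} (h0 : act 4 p0 = p1) (h1 : act 3 p1 = p2) (h2 : act 4 p2 = p3) (h4 : act 4 q4 = q5) (h5 : act 3 q5 = p0) : act 3 p3 = q4 := by
  have hr := R15 p0
  subst h0
  subst h1
  subst h2
  subst h5
  subst h4
  exact ij (ij (hr))

theorem d15_4 {p0 p1 p2 p3 p4 q5 : Q} (h0 : act 4 p0 = p1) (h1 : act 3 p1 = p2) (h2 : act 4 p2 = p3) (h3 : act 3 p3 = p4) (h5 : act 3 q5 = p0) : act 4 p4 = q5 := by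
  have hr := R15 p0
  subst h0
  subst h1
  subst h2
  subst h3
  subst h5
  exact ij (hr)

theorem d15_5 {p0 p1 p2 p3 p4 p5 : Q} (h0 : act 4 p0 = p1) (h1 : act 3 p1 = p2) (h2 : act 4 p2 = p3) (h3 : act 3 p3 = p4) (h4 : act 4 p4 = p5) : act 3 p5 = p0 := by
  have hr := R15 p0
  subst h0
  subst h1
  subst h2
  subst h3
  subst h4
  exact hr

theorem d16_0 {p0 q1 q2 q3 q4 q5 : Q} (h1 : act 3 q1 = q2) (h2 : act 5 q2 = q3) (h3 : act 3 q3 = q4) (h4 : act 5 q4 = q5) (h5 : act 3 q5 = p0) : act 5 p0 = q1 := by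
  have hr := R16 p0
  subst h5
  subst h4
  subst h3
  subst h2
  subst h1
  exact ij (ij (ij (ij (ij (hr)))))

theorem d16_1 {p0 p1 q2 q3 q4 q5 : Q} (h0 : act 5 p0 = p1) (h2 : act 5 q2 = q3) (h3 : act 3 q3 = q4) (h4 : act 5 q4 = q5) (h5 : act 3 q5 = p0) : act 3 p1 = q2 := by
  have hr := R16 p0
  subst h0
  subst h5
  subst h4
  subst h3
  subst h2
  exact ij (ij (ij (ij (hr))))

theorem d16_2 {p0 p1 p2 q3 q4 q5 : Q} (h0 : act 5 p0 = p1) (h1 : act 3 p1 = p2) (h3 : act 3 q3 = q4) (h4 : act 5 q4 = q5) (h5 : act 3 q5 = p0) : act 5 p2 = q3 := by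
  have hr := R16 p0
  subst h0
  subst h1
  subst h5
  subst h4
  subst h3
  exact ij (ij (ij (hr)))

theorem d16_3 {p0 p1 p2 p3 q4 q5 : Q} (h0 : act 5 p0 = p1) (h1 : act 3 p1 = p2) (h2 : act 5 p2 = p3) (h4 : act 5 q4 = q5) (h5 : act 3 q5 = p0) : act 3 p3 = q4 := by
  have hr := R16 p0
  subst h0
  subst h1
  subst h2
  subst h5
  subst h4
  exact ij (ij (hr))

theorem d16_4 {p0 p1 p2 p3 p4 q5 : Q} (h0 : act 5 p0 = p1) (h1 : act 3 p1 = p2) (h2 : act 5 p2 = p3) (h3 : act 3 p3 = p4) (h5 : act 3 q5 = p0) : act 5 p4 = q5 := by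
  have hr := R16 p0
  subst h0
  subst h1
  subst h2
  subst h3
  subst h5
  exact ij (hr)

theorem d16_5 {p0 p1 p2 p3 p4 p5 : Q} (h0 : act 5 p0 = p1) (h1 : act 3 p1 = p2) (h2 : act 5 p2 = p3) (h3 : act 3 p3 = p4) (h4 : act 5 p4 = p5) : act 3 p5 = p0 := by
  have hr := R16 p0
  subst h0
  subst h1
  subst h2
  subst h3
  subst h4
  exact hr

theorem d17_0 {p0 q1 q2 q3 q4 q5 : Q} (h1 : act 3 q1 = q2) (h2 : act 6 q2 = q3) (h3 : act 3 q3 = q4) (h4 : act 6 q4 = q5) (h5 : act 3 q5 = p0) : act 6 p0 = q1 := by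
  have hr := R17 p0
  subst h5
  subst h4
  subst h3
  subst h2
  subst h1
  exact ij (ij (ij (ij (ij (hr)))))

theorem d17_1 {p0 p1 q2 q3 q4 q5 : Q} (h0 : act 6 p0 = p1) (h2 : act 6 q2 = q3) (h3 : act 3 q3 = q4) (h4 : act 6 q4 = q5) (h5 : act 3 q5 = p0) : act 3 p1 = q2 := by
  have hr := R17 p0
  subst h0
  subst h5
  subst h4
  subst h3
  subst h2
  exact ij (ij (ij (ij (hr))))

theorem d17_2 {p0 p1 p2 q3 q4 q5 : Q} (h0 : act 6 p0 = p1) (h1 : act 3 p1 = p2) (h3 : act 3 q3 = q4) (h4 : act 6 q4 = q5) (h5 : act 3 q5 = p0) : act 6 p2 = q3 := by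
  have hr := R17 p0
  subst h0
  subst h1
  subst h5
  subst h4
  subst h3
  exact ij (ij (ij (hr)))

theorem d17_3 {p0 p1 p2 p3 q4 q5 : Q} (h0 : act 6 p0 = p1) (h1 : act 3 p1 = p2) (h2 : act 6 p2 = p3) (h4 : act 6 q4 = q5) (h5 : act 3 q5 = p0) : act 3 p3 = q4 := by
  have hr := R17 p0
  subst h0
  subst h1
  subst h2
  subst h5
  subst h4
  exact ij (ij (hr))

theorem d17_4 {p0 p1 p2 p3 p4 q5 : Q} (h0 : act 6 p0 = p1) (h1 : act 3 p1 = p2) (h2 : act 6 p2 = p3) (h3 : act 3 p3 = p4) (h5 : act 3 q5 = p0) : act 6 p4 = q5 := by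
  have hr := R17 p0
  subst h0
  subst h1
  subst h2
  subst h3
  subst h5
  exact ij (hr)

theorem d17_5 {p0 p1 p2 p3 p4 p5 : Q} (h0 : act 6 p0 = p1) (h1 : act 3 p1 = p2) (h2 : act 6 p2 = p3) (h3 : act 3 p3 = p4) (h4 : act 6 p4 = p5) : act 3 p5 = p0 := by
  have hr := R17 p0
  subst h0
  subst h1
  subst h2
  subst h3
  subst h4
  exact hr

theorem d18_0 {p0 q1 q2 q3 : Q} (h1 : act 4 q1 = q2) (h2 : act 5 q2 = q3) (h3 : act 4 q3 = p0) : act 5 p0 = q1 := by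
  have hr := R18 p0
  subst h3
  subst h2
  subst h1
  exact ij (ij (ij (hr)))

theorem d18_1 {p0 p1 q2 q3 : Q} (h0 : act 5 p0 = p1) (h2 : act 5 q2 = q3) (h3 : act 4 q3 = p0) : act 4 p1 = q2 := by
  have hr := R18 p0
  subst h0
  subst h3
  subst h2
  exact ij (ij (hr))

theorem d18_2 {p0 p1 p2 q3 : Q} (h0 : act 5 p0 = p1) (h1 : act 4 p1 = p2) (h3 : act 4 q3 = p0) : act 5 p2 = q3 := by
  have hr := R18 p0
  subst h0
  subst h1
  subst h3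
  exact ij (hr)

theorem d18_3 {p0 p1 p2 p3 : Q} (h0 : act 5 p0 = p1) (h1 : act 4 p1 = p2) (h2 : act 5 p2 = p3) : act 4 p3 = p0 := by
  have hr := R18 p0
  subst h0
  subst h1
  subst h2
  exact hr

theorem d19_0 {p0 q1 q2 q3 : Q} (h1 : act 4 q1 = q2) (h2 : act 6 q2 = q3) (h3 : act 4 q3 = p0) : act 6 p0 = q1 := by
  have hr := R19 p0
  subst h3
  subst h2
  subst h1
  exact ij (ij (ij (hr)))

theorem d19_1 {p0 p1 q2 q3 : Q} (h0 : act 6 p0 = p1) (h2 : act 6 q2 = q3) (h3 : act 4 q3 = p0) : act 4 p1 = q2 := by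
  have hr := R19 p0
  subst h0
  subst h3
  subst h2
  exact ij (ij (hr))

theorem d19_2 {p0 p1 p2 q3 : Q} (h0 : act 6 p0 = p1) (h1 : act 4 p1 = p2) (h3 : act 4 q3 = p0) : act 6 p2 = q3 := by
  have hr := R19 p0
  subst h0
  subst h1
  subst h3
  exact ij (hr)

theorem d19_3 {p0 p1 p2 p3 : Q} (h0 : act 6 p0 = p1) (h1 : act 4 p1 = p2) (h2 : act 6 p2 = p3) : act 4 p3 = p0 := by
  have hr := R19 p0
  subst h0
  subst h1
  subst h2
  exact hr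

theorem d20_0 {p0 q1 q2 q3 q4 q5 q6 q7 : Q} (h1 : act 5 q1 = q2) (h2 : act 6 q2 = q3) (h3 : act 5 q3 = q4) (h4 : act 6 q4 = q5) (h5 : act 5 q5 = q6) (h6 : act 6 q6 = q7) (h7 : act 5 q7 = p0) : act 6 p0 = q1 := by
  have hr := R20 p0
  subst h7
  subst h6
  subst h5
  subst h4
  subst h3
  subst h2
  subst h1
  exact ij (ij (ij (ij (ij (ij (ij (hr)))))))

theorem d20_1 {p0 p1 q2 q3 q4 q5 q6 q7 : Q} (h0 : act 6 p0 = p1) (h2 : act 6 q2 = q3) (h3 : act 5 q3 = q4) (h4 : act 6 q4 = q5) (h5 : act 5 q5 = q6) (h6 : act 6 q6 = q7) (h7 : act 5 q7 = p0) : act 5 p1 = q2 := by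
  have hr := R20 p0
  subst h0
  subst h7
  subst h6
  subst h5
  subst h4
  subst h3
  subst h2
  exact ij (ij (ij (ij (ij (ij (hr))))))

theorem d20_2 {p0 p1 p2 q3 q4 q5 q6 q7 : Q} (h0 : act 6 p0 = p1) (h1 : act 5 p1 = p2) (h3 : act 5 q3 = q4) (h4 : act 6 q4 = q5) (h5 : act 5 q5 = q6) (h6 : act 6 q6 = q7) (h7 : act 5 q7 = p0) : act 6 p2 = q3 := by
  have hr := R20 p0
  subst h0
  subst h1
  subst h7
  subst h6
  subst h5
  subst h4
  subst h3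
  exact ij (ij (ij (ij (ij (hr)))))

theorem d20_6 {p0 p1 p2 p3 p4 p5 p6 q7 : Q} (h0 : act 6 p0 = p1) (h1 : act 5 p1 = p2) (h2 : act 6 p2 = p3) (h3 : act 5 p3 = p4) (h4 : act 6 p4 = p5) (h5 : act 5 p5 = p6) (h7 : act 5 q7 = p0) : act 6 p6 = q7 := by
  have hr := R20 p0
  subst h0
  subst h1
  subst h2
  subst h3
  subst h4
  subst h5
  subst h7
  exact ij (hr)

theorem d20_7 {p0 p1 p2 p3 p4 p5 p6 p7 : Q} (h0 : act 6 p0 = p1) (h1 : act 5 p1 = p2) (h2 : act 6 p2 = p3) (h3 : act 5 p3 = p4) (h4 : act 6 p4 = p5) (h5 : act 5 p5 = p6) (h6 : act 6 p6 = p7) : act 5 p7 = p0 := by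
  have hr := R20 p0
  subst h0
  subst h1
  subst h2
  subst h3
  subst h4
  subst h5
  subst h6
  exact hr

theorem d21_0 {p0 q1 q2 q3 q4 : Q} (h1 : act 6 q1 = q2) (h2 : act 5 q2 = q3) (h3 : act 6 q3 = q4) (h4 : act 4 q4 = p0) : act 5 p0 = q1 := by
  have hr := R21 p0
  subst h4
  subst h3
  subst h2
  subst h1
  exact ij (ij (ij (ij (hr))))

theorem d21_1 {p0 p1 q2 q3 q4 : Q} (h0 : act 5 p0 = p1) (h2 : act 5 q2 = q3) (h3 : act 6 q3 = q4) (h4 : act 4 q4 = p0) : act 6 p1 = q2 := by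
  have hr := R21 p0
  subst h0
  subst h4
  subst h3
  subst h2
  exact ij (ij (ij (hr)))

theorem d21_2 {p0 p1 p2 q3 q4 : Q} (h0 : act 5 p0 = p1) (h1 : act 6 p1 = p2) (h3 : act 6 q3 = q4) (h4 : act 4 q4 = p0) : act 5 p2 = q3 := by
  have hr := R21 p0
  subst h0
  subst h1
  subst h4
  subst h3
  exact ij (ij (hr))

theorem d21_3 {p0 p1 p2 p3 q4 : Q} (h0 : act 5 p0 = p1) (h1 : act 6 p1 = p2) (h2 : act 5 p2 = p3) (h4 : act 4 q4 = p0) : act 6 p3 = q4 := by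
  have hr := R21 p0
  subst h0
  subst h1
  subst h2
  subst h4
  exact ij (hr)

theorem d21_4 {p0 p1 p2 p3 p4 : Q} (h0 : act 5 p0 = p1) (h1 : act 6 p1 = p2) (h2 : act 5 p2 = p3) (h3 : act 6 p3 = p4) : act 4 p4 = p0 := by
  have hr := R21 p0
  subst h0
  subst h1
  subst h2
  subst h3
  exact hr

theorem d22_0 {p0 q1 q2 q3 q4 q5 q6 q7 q8 q9 : Q} (h1 : act 1 q1 = q2) (h2 : act 2 q2 = q3) (h3 : act 0 q3 = q4) (h4 : act 1 q4 = q5) (h5 : act 2 q5 = q6) (h6 : act 0 q6 = q7) (h7 : act 1 q7 = q8) (h8 : act 2 q8 = q9) (h9 : act 4 q9 = p0) : act 0 p0 = q1 := by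
  have hr := R22 p0
  subst h9
  subst h8
  subst h7
  subst h6
  subst h5
  subst h4
  subst h3
  subst h2
  subst h1
  exact ij (ij (ij (ij (ij (ij (ij (ij (ij (hr)))))))))

theorem d22_1 {p0 p1 q2 q3 q4 q5 q6 q7 q8 q9 : Q} (h0 : act 0 p0 = p1) (h2 : act 2 q2 = q3) (h3 : act 0 q3 = q4) (h4 : act 1 q4 = q5) (h5 : act 2 q5 = q6) (h6 : act 0 q6 = q7) (h7 : act 1 q7 = q8) (h8 : act 2 q8 = q9) (h9 : act 4 q9 = p0) : act 1 p1 = q2 := by
  have hr := R22 p0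
  subst h0
  subst h9
  subst h8
  subst h7
  subst h6
  subst h5
  subst h4
  subst h3
  subst h2
  exact ij (ij (ij (ij (ij (ij (ij (ij (hr))))))))

theorem d22_2 {p0 p1 p2 q3 q4 q5 q6 q7 q8 q9 : Q} (h0 : act 0 p0 = p1) (h1 : act 1 p1 = p2) (h3 : act 0 q3 = q4) (h4 : act 1 q4 = q5) (h5 : act 2 q5 = q6) (h6 : act 0 q6 = q7) (h7 : act 1 q7 = q8) (h8 : act 2 q8 = q9) (h9 : act 4 q9 = p0) : act 2 p2 = q3 := by
  have hr := R22 p0
  subst h0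
  subst h1
  subst h9
  subst h8
  subst h7
  subst h6
  subst h5
  subst h4
  subst h3
  exact ij (ij (ij (ij (ij (ij (ij (hr)))))))

theorem d22_3 {p0 p1 p2 p3 q4 q5 q6 q7 q8 q9 : Q} (h0 : act 0 p0 = p1) (h1 : act 1 p1 = p2) (h2 : act 2 p2 = p3) (h4 : act 1 q4 = q5) (h5 : act 2 q5 = q6) (h6 : act 0 q6 = q7) (h7 : act 1 q7 = q8) (h8 : act 2 q8 = q9) (h9 : act 4 q9 = p0) : act 0 p3 = q4 := by
  have hr := R22 p0
  subst h0
  subst h1
  subst h2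
  subst h9
  subst h8
  subst h7
  subst h6
  subst h5
  subst h4
  exact ij (ij (ij (ij (ij (ij (hr))))))

theorem d22_4 {p0 p1 p2 p3 p4 q5 q6 q7 q8 q9 : Q} (h0 : act 0 p0 = p1) (h1 : act 1 p1 = p2) (h2 : act 2 p2 = p3) (h3 : act 0 p3 = p4) (h5 : act 2 q5 = q6) (h6 : act 0 q6 = q7) (h7 : act 1 q7 = q8) (h8 : act 2 q8 = q9) (h9 : act 4 q9 = p0) : act 1 p4 = q5 := by
  have hr := R22 p0
  subst h0
  subst h1
  subst h2
  subst h3
  subst h9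
  subst h8
  subst h7
  subst h6
  subst h5
  exact ij (ij (ij (ij (ij (hr)))))

theorem d22_5 {p0 p1 p2 p3 p4 p5 q6 q7 q8 q9 : Q} (h0 : act 0 p0 = p1) (h1 : act 1 p1 = p2) (h2 : act 2 p2 = p3) (h3 : act 0 p3 = p4) (h4 : act 1 p4 = p5) (h6 : act 0 q6 = q7) (h7 : act 1 q7 = q8) (h8 : act 2 q8 = q9) (h9 : act 4 q9 = p0) : act 2 p5 = q6 := by
  have hr := R22 p0
  subst h0
  subst h1
  subst h2
  subst h3
  subst h4
  subst h9
  subst h8
  subst h7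
  subst h6
  exact ij (ij (ij (ij (hr))))

theorem d22_6 {p0 p1 p2 p3 p4 p5 p6 q7 q8 q9 : Q} (h0 : act 0 p0 = p1) (h1 : act 1 p1 = p2) (h2 : act 2 p2 = p3) (h3 : act 0 p3 = p4) (h4 : act 1 p4 = p5) (h5 : act 2 p5 = p6) (h7 : act 1 q7 = q8) (h8 : act 2 q8 = q9) (h9 : act 4 q9 = p0) : act 0 p6 = q7 := by
  have hr := R22 p0
  subst h0
  subst h1
  subst h2
  subst h3
  subst h4
  subst h5
  subst h9
  subst h8
  subst h7
  exact ij (ij (ij (hr)))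

theorem d22_7 {p0 p1 p2 p3 p4 p5 p6 p7 q8 q9 : Q} (h0 : act 0 p0 = p1) (h1 : act 1 p1 = p2) (h2 : act 2 p2 = p3) (h3 : act 0 p3 = p4) (h4 : act 1 p4 = p5) (h5 : act 2 p5 = p6) (h6 : act 0 p6 = p7) (h8 : act 2 q8 = q9) (h9 : act 4 q9 = p0) : act 1 p7 = q8 := by
  have hr := R22 p0
  subst h0
  subst h1
  subst h2
  subst h3
  subst h4
  subst h5
  subst h6
  subst h9
  subst h8
  exact ij (ij (hr))

theorem d22_8 {p0 p1 p2 p3 p4 p5 p6 p7 p8 q9 : Q} (h0 : act 0 p0 = p1) (h1 : act 1 p1 = p2) (h2 : act 2 p2 = p3) (h3 : act 0 p3 = p4) (h4 : act 1 p4 = p5) (h5 : act 2 p5 = p6) (h6 : act 0 p6 = p7) (h7 : act 1 p7 = p8) (h9 : act 4 q9 = p0) : act 2 p8 = q9 := by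
  have hr := R22 p0
  subst h0
  subst h1
  subst h2
  subst h3
  subst h4
  subst h5
  subst h6
  subst h7
  subst h9
  exact ij (hr)

theorem d22_9 {p0 p1 p2 p3 p4 p5 p6 p7 p8 p9 : Q} (h0 : act 0 p0 = p1) (h1 : act 1 p1 = p2) (h2 : act 2 p2 = p3) (h3 : act 0 p3 = p4) (h4 : act 1 p4 = p5) (h5 : act 2 p5 = p6) (h6 : act 0 p6 = p7) (h7 : act 1 p7 = p8) (h8 : act 2 p8 = p9) : act 4 p9 = p0 := by
  have hr := R22 p0
  subst h0
  subst h1
  subst h2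
  subst h3
  subst h4
  subst h5
  subst h6
  subst h7
  subst h8
  exact hr

theorem d23_0 {p0 q1 q2 q3 q4 q5 q6 q7 q8 q9 q10 : Q} (h1 : act 3 q1 = q2) (h2 : act 2 q2 = q3) (h3 : act 3 q3 = q4) (h4 : act 2 q4 = q5) (h5 : act 3 q5 = q6) (h6 : act 2 q6 = q7) (h7 : act 3 q7 = q8) (h8 : act 2 q8 = q9) (h9 : act 3 q9 = q10) (h10 : act 0 q10 = p0) : act 2 p0 = q1 := by
  have hr := R23 p0
  subst h10
  subst h9
  subst h8
  subst h7
  subst h6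
  subst h5
  subst h4
  subst h3
  subst h2
  subst h1
  exact ij (ij (ij (ij (ij (ij (ij (ij (ij (ij (hr))))))))))

theorem d23_1 {p0 p1 q2 q3 q4 q5 q6 q7 q8 q9 q10 : Q} (h0 : act 2 p0 = p1) (h2 : act 2 q2 = q3) (h3 : act 3 q3 = q4) (h4 : act 2 q4 = q5) (h5 : act 3 q5 = q6) (h6 : act 2 q6 = q7) (h7 : act 3 q7 = q8) (h8 : act 2 q8 = q9) (h9 : act 3 q9 = q10) (h10 : act 0 q10 = p0) : act 3 p1 = q2 := by
  have hr := R23 p0
  subst h0
  subst h10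
  subst h9
  subst h8
  subst h7
  subst h6
  subst h5
  subst h4
  subst h3
  subst h2
  exact ij (ij (ij (ij (ij (ij (ij (ij (ij (hr)))))))))

theorem d23_2 {p0 p1 p2 q3 q4 q5 q6 q7 q8 q9 q10 : Q} (h0 : act 2 p0 = p1) (h1 : act 3 p1 = p2) (h3 : act 3 q3 = q4) (h4 : act 2 q4 = q5) (h5 : act 3 q5 = q6) (h6 : act 2 q6 = q7) (h7 : act 3 q7 = q8) (h8 : act 2 q8 = q9) (h9 : act 3 q9 = q10) (h10 : act 0 q10 = p0) : act 2 p2 = q3 := by
  have hr := R23 p0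
  subst h0
  subst h1
  subst h10
  subst h9
  subst h8
  subst h7
  subst h6
  subst h5
  subst h4
  subst h3
  exact ij (ij (ij (ij (ij (ij (ij (ij (hr))))))))

theorem d23_3 {p0 p1 p2 p3 q4 q5 q6 q7 q8 q9 q10 : Q} (h0 : act 2 p0 = p1) (h1 : act 3 p1 = p2) (h2 : act 2 p2 = p3) (h4 : act 2 q4 = q5) (h5 : act 3 q5 = q6) (h6 : act 2 q6 = q7) (h7 : act 3 q7 = q8) (h8 : act 2 q8 = q9) (h9 : act 3 q9 = q10) (h10 : act 0 q10 = p0) : act 3 p3 = q4 := by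
  have hr := R23 p0
  subst h0
  subst h1
  subst h2
  subst h10
  subst h9
  subst h8
  subst h7
  subst h6
  subst h5
  subst h4
  exact ij (ij (ij (ij (ij (ij (ij (hr)))))))

theorem d23_4 {p0 p1 p2 p3 p4 q5 q6 q7 q8 q9 q10 : Q} (h0 : act 2 p0 = p1) (h1 : act 3 p1 = p2) (h2 : act 2 p2 = p3) (h3 : act 3 p3 = p4) (h5 : act 3 q5 = q6) (h6 : act 2 q6 = q7) (h7 : act 3 q7 = q8) (h8 : act 2 q8 = q9) (h9 : act 3 q9 = q10) (h10 : act 0 q10 = p0) : act 2 p4 = q5 := by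
  have hr := R23 p0
  subst h0
  subst h1
  subst h2
  subst h3
  subst h10
  subst h9
  subst h8
  subst h7
  subst h6
  subst h5
  exact ij (ij (ij (ij (ij (ij (hr))))))

theorem d23_5 {p0 p1 p2 p3 p4 p5 q6 q7 q8 q9 q10 : Q} (h0 : act 2 p0 = p1) (h1 : act 3 p1 = p2) (h2 : act 2 p2 = p3) (h3 : act 3 p3 = p4) (h4 : act 2 p4 = p5) (h6 : act 2 q6 = q7) (h7 : act 3 q7 = q8) (h8 : act 2 q8 = q9) (h9 : act 3 q9 = q10) (h10 : act 0 q10 = p0) : act 3 p5 = q6 := by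
  have hr := R23 p0
  subst h0
  subst h1
  subst h2
  subst h3
  subst h4
  subst h10
  subst h9
  subst h8
  subst h7
  subst h6
  exact ij (ij (ij (ij (ij (hr)))))

theorem d23_6 {p0 p1 p2 p3 p4 p5 p6 q7 q8 q9 q10 : Q} (h0 : act 2 p0 = p1) (h1 : act 3 p1 = p2) (h2 : act 2 p2 = p3) (h3 : act 3 p3 = p4) (h4 : act 2 p4 = p5) (h5 : act 3 p5 = p6) (h7 : act 3 q7 = q8) (h8 : act 2 q8 = q9) (h9 : act 3 q9 = q10) (h10 : act 0 q10 = p0) : act 2 p6 = q7 := by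
  have hr := R23 p0
  subst h0
  subst h1
  subst h2
  subst h3
  subst h4
  subst h5
  subst h10
  subst h9
  subst h8
  subst h7
  exact ij (ij (ij (ij (hr))))

theorem d23_7 {p0 p1 p2 p3 p4 p5 p6 p7 q8 q9 q10 : Q} (h0 : act 2 p0 = p1) (h1 : act 3 p1 = p2) (h2 : act 2 p2 = p3) (h3 : act 3 p3 = p4) (h4 : act 2 p4 = p5) (h5 : act 3 p5 = p6) (h6 : act 2 p6 = p7) (h8 : act 2 q8 = q9) (h9 : act 3 q9 = q10) (h10 : act 0 q10 = p0) : act 3 p7 = q8 := by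
  have hr := R23 p0
  subst h0
  subst h1
  subst h2
  subst h3
  subst h4
  subst h5
  subst h6
  subst h10
  subst h9
  subst h8
  exact ij (ij (ij (hr)))

theorem d23_8 {p0 p1 p2 p3 p4 p5 p6 p7 p8 q9 q10 : Q} (h0 : act 2 p0 = p1) (h1 : act 3 p1 = p2) (h2 : act 2 p2 = p3) (h3 : act 3 p3 = p4) (h4 : act 2 p4 = p5) (h5 : act 3 p5 = p6) (h6 : act 2 p6 = p7) (h7 : act 3 p7 = p8) (h9 : act 3 q9 = q10) (h10 : act 0 q10 = p0) : act 2 p8 = q9 := by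
  have hr := R23 p0
  subst h0
  subst h1
  subst h2
  subst h3
  subst h4
  subst h5
  subst h6
  subst h7
  subst h10
  subst h9
  exact ij (ij (hr))

theorem d23_9 {p0 p1 p2 p3 p4 p5 p6 p7 p8 p9 q10 : Q} (h0 : act 2 p0 = p1) (h1 : act 3 p1 = p2) (h2 : act 2 p2 = p3) (h3 : act 3 p3 = p4) (h4 : act 2 p4 = p5) (h5 : act 3 p5 = p6) (h6 : act 2 p6 = p7) (h7 : act 3 p7 = p8) (h8 : act 2 p8 = p9) (h10 : act 0 q10 = p0) : act 3 p9 = q10 := by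
  have hr := R23 p0
  subst h0
  subst h1
  subst h2
  subst h3
  subst h4
  subst h5
  subst h6
  subst h7
  subst h8
  subst h10
  exact ij (hr)

theorem d23_10 {p0 p1 p2 p3 p4 p5 p6 p7 p8 p9 p10 : Q} (h0 : act 2 p0 = p1) (h1 : act 3 p1 = p2) (h2 : act 2 p2 = p3) (h3 : act 3 p3 = p4) (h4 : act 2 p4 = p5) (h5 : act 3 p5 = p6) (h6 : act 2 p6 = p7) (h7 : act 3 p7 = p8) (h8 : act 2 p8 = p9) (h9 : act 3 p9 = p10) : act 0 p10 = p0 := by
  have hr := R23 p0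
  subst h0
  subst h1
  subst h2
  subst h3
  subst h4
  subst h5
  subst h6
  subst h7
  subst h8
  subst h9
  exact hr

theorem d24_0 {p0 q1 q2 q3 q4 q5 q6 q7 q8 q9 q10 q11 q12 q13 q14 q15 : Q} (h1 : act 5 q1 = q2) (h2 : act 3 q2 = q3) (h3 : act 2 q3 = q4) (h4 : act 6 q4 = q5) (h5 : act 5 q5 = q6) (h6 : act 3 q6 = q7) (h7 : act 2 q7 = q8) (h8 : act 6 q8 = q9) (h9 : act 5 q9 = q10) (h10 : act 3 q10 = q11) (h11 : act 2 q11 = q12) (h12 : act 6 q12 = q13) (h13 : act 5 q13 = q14) (h14 : act 3 q14 = q15) (h15 : act 2 q15 = p0) : act 6 p0 = q1 := by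
  have hr := R24 p0
  subst h15
  subst h14
  subst h13
  subst h12
  subst h11
  subst h10
  subst h9
  subst h8
  subst h7
  subst h6
  subst h5
  subst h4
  subst h3
  subst h2
  subst h1
  exact ij (ij (ij (ij (ij (ij (ij (ij (ij (ij (ij (ij (ij (ij (ij (hr)))))))))))))))

theorem d24_1 {p0 p1 q2 q3 q4 q5 q6 q7 q8 q9 q10 q11 q12 q13 q14 q15 : Q} (h0 : act 6 p0 = p1) (h2 : act 3 q2 = q3) (h3 : act 2 q3 = q4) (h4 : act 6 q4 = q5) (h5 : act 5 q5 = q6) (h6 : act 3 q6 = q7) (h7 : act 2 q7 = q8) (h8 : act 6 q8 = q9) (h9 : act 5 q9 = q10) (h10 : act 3 q10 = q11) (h11 : act 2 q11 = q12) (h12 : act 6 q12 = q13) (h13 : act 5 q13 = q14) (h14 : act 3 q14 = q15) (h15 : act 2 q15 = p0) : act 5 p1 = q2 := by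
  have hr := R24 p0
  subst h0
  subst h15
  subst h14
  subst h13
  subst h12
  subst h11
  subst h10
  subst h9
  subst h8
  subst h7
  subst h6
  subst h5
  subst h4
  subst h3
  subst h2
  exact ij (ij (ij (ij (ij (ij (ij (ij (ij (ij (ij (ij (ij (ij (hr))))))))))))))

theorem d24_2 {p0 p1 p2 q3 q4 q5 q6 q7 q8 q9 q10 q11 q12 q13 q14 q15 : Q} (h0 : act 6 p0 = p1) (h1 : act 5 p1 = p2) (h3 : act 2 q3 = q4) (h4 : act 6 q4 = q5) (h5 : act 5 q5 = q6) (h6 : act 3 q6 = q7) (h7 : act 2 q7 = q8) (h8 : act 6 q8 = q9) (h9 : act 5 q9 = q10) (h10 : act 3 q10 = q11) (h11 : act 2 q11 = q12) (h12 : act 6 q12 = q13) (h13 : act 5 q13 = q14) (h14 : act 3 q14 = q15) (h15 : act 2 q15 = p0) : act 3 p2 = q3 := by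
  have hr := R24 p0
  subst h0
  subst h1
  subst h15
  subst h14
  subst h13
  subst h12
  subst h11
  subst h10
  subst h9
  subst h8
  subst h7
  subst h6
  subst h5
  subst h4
  subst h3
  exact ij (ij (ij (ij (ij (ij (ij (ij (ij (ij (ij (ij (ij (hr)))))))))))))

theorem d24_3 {p0 p1 p2 p3 q4 q5 q6 q7 q8 q9 q10 q11 q12 q13 q14 q15 : Q} (h0 : act 6 p0 = p1) (h1 : act 5 p1 = p2) (h2 : act 3 p2 = p3) (h4 : act 6 q4 = q5) (h5 : act 5 q5 = q6) (h6 : act 3 q6 = q7) (h7 : act 2 q7 = q8) (h8 : act 6 q8 = q9) (h9 : act 5 q9 = q10) (h10 : act 3 q10 = q11) (h11 : act 2 q11 = q12) (h12 : act 6 q12 = q13) (h13 : act 5 q13 = q14) (h14 : act 3 q14 = q15) (h15 : act 2 q15 = p0) : act 2 p3 = q4 := by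
  have hr := R24 p0
  subst h0
  subst h1
  subst h2
  subst h15
  subst h14
  subst h13
  subst h12
  subst h11
  subst h10
  subst h9
  subst h8
  subst h7
  subst h6
  subst h5
  subst h4
  exact ij (ij (ij (ij (ij (ij (ij (ij (ij (ij (ij (ij (hr))))))))))))

theorem d24_4 {p0 p1 p2 p3 p4 q5 q6 q7 q8 q9 q10 q11 q12 q13 q14 q15 : Q} (h0 : act 6 p0 = p1) (h1 : act 5 p1 = p2) (h2 : act 3 p2 = p3) (h3 : act 2 p3 = p4) (h5 : act 5 q5 = q6) (h6 : act 3 q6 = q7) (h7 : act 2 q7 = q8) (h8 : act 6 q8 = q9) (h9 : act 5 q9 = q10) (h10 : act 3 q10 = q11) (h11 : act 2 q11 = q12) (h12 : act 6 q12 = q13) (h13 : act 5 q13 = q14) (h14 : act 3 q14 = q15) (h15 : act 2 q15 = p0) : act 6 p4 = q5 := by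
  have hr := R24 p0
  subst h0
  subst h1
  subst h2
  subst h3
  subst h15
  subst h14
  subst h13
  subst h12
  subst h11
  subst h10
  subst h9
  subst h8
  subst h7
  subst h6
  subst h5
  exact ij (ij (ij (ij (ij (ij (ij (ij (ij (ij (ij (hr)))))))))))

theorem d24_5 {p0 p1 p2 p3 p4 p5 q6 q7 q8 q9 q10 q11 q12 q13 q14 q15 : Q} (h0 : act 6 p0 = p1) (h1 : act 5 p1 = p2) (h2 : act 3 p2 = p3) (h3 : act 2 p3 = p4) (h4 : act 6 p4 = p5) (h6 : act 3 q6 = q7) (h7 : act 2 q7 = q8) (h8 : act 6 q8 = q9) (h9 : act 5 q9 = q10) (h10 : act 3 q10 = q11) (h11 : act 2 q11 = q12) (h12 : act 6 q12 = q13) (h13 : act 5 q13 = q14) (h14 : act 3 q14 = q15) (h15 : act 2 q15 = p0) : act 5 p5 = q6 := by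
  have hr := R24 p0
  subst h0
  subst h1
  subst h2
  subst h3
  subst h4
  subst h15
  subst h14
  subst h13
  subst h12
  subst h11
  subst h10
  subst h9
  subst h8
  subst h7
  subst h6
  exact ij (ij (ij (ij (ij (ij (ij (ij (ij (ij (hr))))))))))

theorem d24_6 {p0 p1 p2 p3 p4 p5 p6 q7 q8 q9 q10 q11 q12 q13 q14 q15 : Q} (h0 : act 6 p0 = p1) (h1 : act 5 p1 = p2) (h2 : act 3 p2 = p3) (h3 : act 2 p3 = p4) (h4 : act 6 p4 = p5) (h5 : act 5 p5 = p6) (h7 : act 2 q7 = q8) (h8 : act 6 q8 = q9) (h9 : act 5 q9 = q10) (h10 : act 3 q10 = q11) (h11 : act 2 q11 = q12) (h12 : act 6 q12 = q13) (h13 : act 5 q13 = q14) (h14 : act 3 q14 = q15) (h15 : act 2 q15 = p0) : act 3 p6 = q7 := by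
  have hr := R24 p0
  subst h0
  subst h1
  subst h2
  subst h3
  subst h4
  subst h5
  subst h15
  subst h14
  subst h13
  subst h12
  subst h11
  subst h10
  subst h9
  subst h8
  subst h7
  exact ij (ij (ij (ij (ij (ij (ij (ij (ij (hr)))))))))

theorem d24_7 {p0 p1 p2 p3 p4 p5 p6 p7 q8 q9 q10 q11 q12 q13 q14 q15 : Q} (h0 : act 6 p0 = p1) (h1 : act 5 p1 = p2) (h2 : act 3 p2 = p3) (h3 : act 2 p3 = p4) (h4 : act 6 p4 = p5) (h5 : act 5 p5 = p6) (h6 : act 3 p6 = p7) (h8 : act 6 q8 = q9) (h9 : act 5 q9 = q10) (h10 : act 3 q10 = q11) (h11 : act 2 q11 = q12) (h12 : act 6 q12 = q13) (h13 : act 5 q13 = q14) (h14 : act 3 q14 = q15) (h15 : act 2 q15 = p0) : act 2 p7 = q8 := by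
  have hr := R24 p0
  subst h0
  subst h1
  subst h2
  subst h3
  subst h4
  subst h5
  subst h6
  subst h15
  subst h14
  subst h13
  subst h12
  subst h11
  subst h10
  subst h9
  subst h8
  exact ij (ij (ij (ij (ij (ij (ij (ij (hr))))))))

theorem d24_8 {p0 p1 p2 p3 p4 p5 p6 p7 p8 q9 q10 q11 q12 q13 q14 q15 : Q} (h0 : act 6 p0 = p1) (h1 : act 5 p1 = p2) (h2 : act 3 p2 = p3) (h3 : act 2 p3 = p4) (h4 : act 6 p4 = p5) (h5 : act 5 p5 = p6) (h6 : act 3 p6 = p7) (h7 : act 2 p7 = p8) (h9 : act 5 q9 = q10) (h10 : act 3 q10 = q11) (h11 : act 2 q11 = q12) (h12 : act 6 q12 = q13) (h13 : act 5 q13 = q14) (h14 : act 3 q14 = q15) (h15 : act 2 q15 = p0) : act 6 p8 = q9 := by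
  have hr := R24 p0
  subst h0
  subst h1
  subst h2
  subst h3
  subst h4
  subst h5
  subst h6
  subst h7
  subst h15
  subst h14
  subst h13
  subst h12
  subst h11
  subst h10
  subst h9
  exact ij (ij (ij (ij (ij (ij (ij (hr)))))))

theorem d24_9 {p0 p1 p2 p3 p4 p5 p6 p7 p8 p9 q10 q11 q12 q13 q14 q15 : Q} (h0 : act 6 p0 = p1) (h1 : act 5 p1 = p2) (h2 : act 3 p2 = p3) (h3 : act 2 p3 = p4) (h4 : act 6 p4 = p5) (h5 : act 5 p5 = p6) (h6 : act 3 p6 = p7) (h7 : act 2 p7 = p8) (h8 : act 6 p8 = p9) (h10 : act 3 q10 = q11) (h11 : act 2 q11 = q12) (h12 : act 6 q12 = q13) (h13 : act 5 q13 = q14) (h14 : act 3 q14 = q15) (h15 : act 2 q15 = p0) : act 5 p9 = q10 := by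
  have hr := R24 p0
  subst h0
  subst h1
  subst h2
  subst h3
  subst h4
  subst h5
  subst h6
  subst h7
  subst h8
  subst h15
  subst h14
  subst h13
  subst h12
  subst h11
  subst h10
  exact ij (ij (ij (ij (ij (ij (hr))))))

theorem d24_10 {p0 p1 p2 p3 p4 p5 p6 p7 p8 p9 p10 q11 q12 q13 q14 q15 : Q} (h0 : act 6 p0 = p1) (h1 : act 5 p1 = p2) (h2 : act 3 p2 = p3) (h3 : act 2 p3 = p4) (h4 : act 6 p4 = p5) (h5 : act 5 p5 = p6) (h6 : act 3 p6 = p7) (h7 : act 2 p7 = p8) (h8 : act 6 p8 = p9) (h9 : act 5 p9 = p10) (h11 : act 2 q11 = q12) (h12 : act 6 q12 = q13) (h13 : act 5 q13 = q14) (h14 : act 3 q14 = q15) (h15 : act 2 q15 = p0) : act 3 p10 = q11 := by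
  have hr := R24 p0
  subst h0
  subst h1
  subst h2
  subst h3
  subst h4
  subst h5
  subst h6
  subst h7
  subst h8
  subst h9
  subst h15
  subst h14
  subst h13
  subst h12
  subst h11
  exact ij (ij (ij (ij (ij (hr)))))

theorem d24_11 {p0 p1 p2 p3 p4 p5 p6 p7 p8 p9 p10 p11 q12 q13 q14 q15 : Q} (h0 : act 6 p0 = p1) (h1 : act 5 p1 = p2) (h2 : act 3 p2 = p3) (h3 : act 2 p3 = p4) (h4 : act 6 p4 = p5) (h5 : act 5 p5 = p6) (h6 : act 3 p6 = p7) (h7 : act 2 p7 = p8) (h8 : act 6 p8 = p9) (h9 : act 5 p9 = p10) (h10 : act 3 p10 = p11) (h12 : act 6 q12 = q13) (h13 : act 5 q13 = q14) (h14 : act 3 q14 = q15) (h15 : act 2 q15 = p0) : act 2 p11 = q12 := by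
  have hr := R24 p0
  subst h0
  subst h1
  subst h2
  subst h3
  subst h4
  subst h5
  subst h6
  subst h7
  subst h8
  subst h9
  subst h10
  subst h15
  subst h14
  subst h13
  subst h12
  exact ij (ij (ij (ij (hr))))

theorem d24_12 {p0 p1 p2 p3 p4 p5 p6 p7 p8 p9 p10 p11 p12 q13 q14 q15 : Q} (h0 : act 6 p0 = p1) (h1 : act 5 p1 = p2) (h2 : act 3 p2 = p3) (h3 : act 2 p3 = p4) (h4 : act 6 p4 = p5) (h5 : act 5 p5 = p6) (h6 : act 3 p6 = p7) (h7 : act 2 p7 = p8) (h8 : act 6 p8 = p9) (h9 : act 5 p9 = p10) (h10 : act 3 p10 = p11) (h11 : act 2 p11 = p12) (h13 : act 5 q13 = q14) (h14 : act 3 q14 = q15) (h15 : act 2 q15 = p0) : act 6 p12 = q13 := by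
  have hr := R24 p0
  subst h0
  subst h1
  subst h2
  subst h3
  subst h4
  subst h5
  subst h6
  subst h7
  subst h8
  subst h9
  subst h10
  subst h11
  subst h15
  subst h14
  subst h13
  exact ij (ij (ij (hr)))

theorem d24_13 {p0 p1 p2 p3 p4 p5 p6 p7 p8 p9 p10 p11 p12 p13 q14 q15 : Q} (h0 : act 6 p0 = p1) (h1 : act 5 p1 = p2) (h2 : act 3 p2 = p3) (h3 : act 2 p3 = p4) (h4 : act 6 p4 = p5) (h5 : act 5 p5 = p6) (h6 : act 3 p6 = p7) (h7 : act 2 p7 = p8) (h8 : act 6 p8 = p9) (h9 : act 5 p9 = p10) (h10 : act 3 p10 = p11) (h11 : act 2 p11 = p12) (h12 : act 6 p12 = p13) (h14 : act 3 q14 = q15) (h15 : act 2 q15 = p0) : act 5 p13 = q14 := by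
  have hr := R24 p0
  subst h0
  subst h1
  subst h2
  subst h3
  subst h4
  subst h5
  subst h6
  subst h7
  subst h8
  subst h9
  subst h10
  subst h11
  subst h12
  subst h15
  subst h14
  exact ij (ij (hr))

theorem d24_14 {p0 p1 p2 p3 p4 p5 p6 p7 p8 p9 p10 p11 p12 p13 p14 q15 : Q} (h0 : act 6 p0 = p1) (h1 : act 5 p1 = p2) (h2 : act 3 p2 = p3) (h3 : act 2 p3 = p4) (h4 : act 6 p4 = p5) (h5 : act 5 p5 = p6) (h6 : act 3 p6 = p7) (h7 : act 2 p7 = p8) (h8 : act 6 p8 = p9) (h9 : act 5 p9 = p10) (h10 : act 3 p10 = p11) (h11 : act 2 p11 = p12) (h12 : act 6 p12 = p13) (h13 : act 5 p13 = p14) (h15 : act 2 q15 = p0) : act 3 p14 = q15 := by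
  have hr := R24 p0
  subst h0
  subst h1
  subst h2
  subst h3
  subst h4
  subst h5
  subst h6
  subst h7
  subst h8
  subst h9
  subst h10
  subst h11
  subst h12
  subst h13
  subst h15
  exact ij (hr)

theorem d24_15 {p0 p1 p2 p3 p4 p5 p6 p7 p8 p9 p10 p11 p12 p13 p14 p15 : Q} (h0 : act 6 p0 = p1) (h1 : act 5 p1 = p2) (h2 : act 3 p2 = p3) (h3 : act 2 p3 = p4) (h4 : act 6 p4 = p5) (h5 : act 5 p5 = p6) (h6 : act 3 p6 = p7) (h7 : act 2 p7 = p8) (h8 : act 6 p8 = p9) (h9 : act 5 p9 = p10) (h10 : act 3 p10 = p11) (h11 : act 2 p11 = p12) (h12 : act 6 p12 = p13) (h13 : act 5 p13 = p14) (h14 : act 3 p14 = p15) : act 2 p15 = p0 := by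
  have hr := R24 p0
  subst h0
  subst h1
  subst h2
  subst h3
  subst h4
  subst h5
  subst h6
  subst h7
  subst h8
  subst h9
  subst h10
  subst h11
  subst h12
  subst h13
  subst h14
  exact hr

theorem d25_0 {p0 : Q} (hr : act 0 p0 = p0) : act 0 p0 = p0 := by
  exact hr

theorem d26_0 {p0 : Q} (hr : act 2 p0 = p0) : act 2 p0 = p0 := by
  exact hr

theorem d27_0 {p0 : Q} (hr : act 3 p0 = p0) : act 3 p0 = p0 := by
  exact hr

theorem d28_0 {p0 : Q} (hr : act 4 p0 = p0) : act 4 p0 = p0 := by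
  exact hr

theorem d29_0 {p0 : Q} (hr : act 5 p0 = p0) : act 5 p0 = p0 := by
  exact hr

theorem d30_1 {p0 p1 q2 q3 : Q} (hr : act 0 (act 1 (act 0 (act 1 p0))) = p0) (h0 : act 1 p0 = p1) (h2 : act 1 q2 = q3) (h3 : act 0 q3 = p0) : act 0 p1 = q2 := by
  subst h0
  subst h3
  subst h2
  exact ij (ij (hr))

theorem d31_25 {p0 p1 p2 p3 p4 p5 p6 p7 p8 p9 p10 p11 p12 p13 p14 p15 p16 p17 p18 p19 p20 p21 p22 p23 p24 p25 q26 q27 : Q} (hr : act 1 (act 2 (act 3 (act 4 (act 1 (act 2 (act 3 (act 4 (act 1 (act 2 (act 3 (act 4 (act 1 (act 2 (act 3 (act 4 (act 1 (act 2 (act 3 (act 4 (act 1 (act 2 (act 3 (act 4 (act 1 (act 2 (act 3 (act 4 p0))))))))))))))))))))))))))) = p0) (h0 : act 4 p0 = p1) (h1 : act 3 p1 = p2) (h2 : act 2 p2 = p3) (h3 : act 1 p3 = p4) (h4 : act 4 p4 = p5) (h5 : act 3 p5 = p6) (h6 : act 2 p6 = p7) (h7 : act 1 p7 = p8) (h8 : act 4 p8 = p9) (h9 : act 3 p9 = p10) (h10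 : act 2 p10 = p11) (h11 : act 1 p11 = p12) (h12 : act 4 p12 = p13) (h13 : act 3 p13 = p14) (h14 : act 2 p14 = p15) (h15 : act 1 p15 = p16) (h16 : act 4 p16 = p17) (h17 : act 3 p17 = p18) (h18 : act 2 p18 = p19) (h19 : act 1 p19 = p20) (h20 : act 4 p20 = p21) (h21 : act 3 p21 = p22) (h22 : act 2 p22 = p23) (h23 : act 1 p23 = p24) (h24 : act 4 p24 = p25) (h26 : act 2 q26 = q27) (h27 : act 1 q27 = p0) : act 3 p25 = q26 := by
  subst h0
  subst h1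
  subst h2
  subst h3
  subst h4
  subst h5
  subst h6
  subst h7
  subst h8
  subst h9
  subst h10
  subst h11
  subst h12
  subst h13
  subst h14
  subst h15
  subst h16
  subst h17
  subst h18
  subst h19
  subst h20
  subst h21
  subst h22
  subst h23
  subst h24
  subst h27
  subst h26
  exact ij (ij (hr))


end Cfsg.Agent.Helper17.HeTC
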